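import Cfsg.Statements.S0811
import Mathlib
import Cfsg.Agent.Lib.PSL2Max.Fin

set_option autoImplicit false
open Cfsg

namespace Cfsg.Agent.S0811

open H98 H29 Matrix MatrixGroups MulAction

/-- For q ∉ {2, 7, 9}, PSL_2(q) has a maximal subgroup isomorphic to the dihedral group of order 2(q + 1)/d, d = gcd(2, q − 1). -/
theorem result {F : Type*} [Field F] [Fintype F] {q : ℕ} (hF : Fintype.card F = q) (hq : q ∉ ({2, 7, 9} : Finset ℕ)) : ∃ H : Subgroup (Matrix.ProjectiveSpecialLinearGroup (Fin 2) F), IsCoatom H ∧ Nonempty (H ≃* DihedralGroup ((q + 1) / Nat.gcd 2 (q - 1))) := by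
  obtain ⟨p, _, _, j, hj, hFq⟩ := exists_card_eq_pow F
  obtain rfl : q = p ^ j := by rw [← hF, ← Nat.card_eq_fintype_card, hFq]
  have := NeZero.mk hj
  have h1 : 1 < p ^ j := Nat.one_lt_pow hj (Fact.out : p.Prime).one_lt
  simp only [Finset.mem_insert, Finset.mem_singleton, not_or] at hq
  obtain ⟨x, y, t, h2, h3⟩ := exists_tor_nonsplit (K := AlgebraicClosure F) (p := p) hj
  obtain ⟨u, h4, h5⟩ := h3.exists_PS hj (Or.inr h2)
  rw [h2] at h4
  have h6 : (p ^ j + 1) / Nat.gcd 2 (p ^ j - 1) = orderOf u := by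
    rw [← h4, Nat.mul_div_cancel_left _ (Nat.gcd_pos_of_pos_left _ two_pos)]
  have h7 := Nat.mul_le_mul_right (orderOf u) (Nat.gcd_le_left (p ^ j - 1) two_pos)
  rw [h6]
  refine exists_coatom hFq ?_ (h5.dihedral (by rintro rfl; rw [orderOf_one] at h7 h4; omega))
  by_cases h8 : p ^ j = 3
  · have hc := card_PS (fld (AlgebraicClosure F) p j)
    rw [card_fld hj, h8] at hc
    rw [h8] at h4
    norm_num at hc h4
    exact covBy_of_card_prime inf_le_left Nat.prime_three (by rw [h5.card]; omega)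
  refine h5.covBy_PS hj (Tor.not_dvd hj (Or.inr h4)) ?_
  rcases Nat.even_or_odd (p ^ j) with he | ho
  · rw [gcd_two_of_even he (by omega)] at h4
    exact Or.inl ⟨(Fact.out : p.Prime).even_iff.1 ((Nat.even_pow' hj).1 he), by omega, by omega⟩
  · rw [gcd_two_of_odd ho] at h4
    obtain ⟨m, hm⟩ := ho
    exact Or.inr (Or.inr ⟨h4, by omega, by omega, by omega⟩)

end Cfsg.Agent.S0811
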