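import Cfsg.Statements.S3287
import Mathlib
import Cfsg.Agent.S0483
import Cfsg.Agent.S0811
import Cfsg.Agent.S0812
import Cfsg.Agent.S0253
import Cfsg.Agent.S0255
import Cfsg.Agent.Lib.GW.EFacts
import Cfsg.Agent.Lib.GWCor.BSW2
import Cfsg.Agent.Lib.Comp.FStar
import Cfsg.Agent.Lib.InvChar.AbSylow

set_option autoImplicit false
open Cfsg

namespace Cfsg.Agent.S3287

set_option linter.style.haveILetI false

theorem coatom_of_dih {G : Type*} [Group G] [Finite G] [IsSimpleGroup G]
    (hZ : Subgroup.center G = ⊥)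
    (hconj : ∀ u v : G, orderOf u = 2 → orderOf v = 2 → ∃ g, g * u * g⁻¹ = v)
    {H : Subgroup G} (hH : IsCoatom H) {k : ℕ} (hk : k ≠ 0) (e : H ≃* DihedralGroup (2 * k))
    {t : G} (ht : orderOf t = 2) : IsCoatom (Subgroup.centralizer ({t} : Set G)) := by
  obtain ⟨a, b, h⟩ := H73.exists_dihData (by omega) e
  have hz : orderOf (a ^ k) = 2 := by
    rw [orderOf_pow' _ hk, h.ord, Nat.gcd_eq_right (Dvd.intro_left 2 rfl), Nat.mul_div_cancel _ (by omega)]
  have hzz : (a ^ k)⁻¹ = a ^ k := by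
    rw [inv_eq_iff_mul_eq_one, ← pow_two, ← hz, pow_orderOf_eq_one]
  have hle : H ≤ Subgroup.centralizer ({a ^ k} : Set G) := by
    intro g hg
    rw [Subgroup.mem_centralizer_singleton_iff]
    have hb : b * a ^ k = a ^ k * b := by
      have := h.conj_zpow k
      rw [zpow_natCast, hzz, mul_inv_eq_iff_eq_mul] at this
      exact this
    obtain ⟨i, rfl | rfl⟩ := (h.mem g).1 hg
    · exact ((Commute.refl a).zpow_left i).pow_right k
    · rw [mul_assoc, hb, ← mul_assoc, ← mul_assoc, (((Commute.refl a).zpow_left i).pow_right k).eq]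
  have hne : Subgroup.centralizer ({a ^ k} : Set G) ≠ ⊤ := by
    intro htop
    have : a ^ k ∈ Subgroup.center G := by
      rw [Subgroup.mem_center_iff]
      intro g
      exact Subgroup.mem_centralizer_singleton_iff.mp (htop ▸ Subgroup.mem_top g)
    rw [hZ, Subgroup.mem_bot] at this
    rw [this, orderOf_one] at hz
    omega
  have heq : Subgroup.centralizer ({a ^ k} : Set G) = H := by
    by_contra hne2
    exact hne (hH.2 _ (lt_of_le_of_ne hle (Ne.symm hne2)))
  obtain ⟨g, hg⟩ := hconj _ _ hz ht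
  rw [← hg, H73.centralizer_conj, heq]
  exact (OrderIso.isCoatom_iff (MulAut.conj g).mapSubgroup H).mpr hH

/-- Let G be a finite simple group whose Sylow 2-subgroups are dihedral, and suppose the centralizer of some involution of G is properly contained in a subgroup whose generalized Fitting subgroup equals its Fitting subgroup (a subgroup without components). Then G is isomorphic to the alternating group of degree 5 or 7, to PSL(3, 2), or to PSL(2, 9). -/
theorem result {G : Type*} [Group G] [Finite G] [IsSimpleGroup G] (S : Sylow 2 G) (m : ℕ) (eS : ↥(S : Subgroup G) ≃* DihedralGroup m)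
    (t : G) (ht : orderOf t = 2) (K : Subgroup G) (hlt : Subgroup.centralizer ({t} : Set G) < K)
    (hK : Cfsg.generalizedFittingSubgroup ↥K = Cfsg.fittingSubgroup ↥K) :
    Nonempty (G ≃* ↥(alternatingGroup (Fin 5))) ∨ Nonempty (G ≃* ↥(alternatingGroup (Fin 7))) ∨
      (∃ (F : Type) (_ : Field F) (_ : Fintype F), Fintype.card F = 2 ∧ Nonempty (G ≃* Matrix.ProjectiveSpecialLinearGroup (Fin 3) F)) ∨
      (∃ (F : Type) (_ : Field F) (_ : Fintype F), Fintype.card F = 9 ∧ Nonempty (G ≃* Matrix.ProjectiveSpecialLinearGroup (Fin 2) F)) := by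
  classical
  have hna : ¬ IsMulCommutative G := by
    intro hc
    apply hlt.ne
    refine le_antisymm hlt.le fun g _ => ?_
    exact Subgroup.mem_centralizer_singleton_iff.mpr (hc.is_comm.comm g t)
  have hZ := H72.center_eq_bot_of_simple hna
  have h2 : 2 ∣ Nat.card G := ht ▸ orderOf_dvd_natCard t
  have hO : oddCore G = ⊥ := H72.pPrimeCore_eq_bot_of_simple Nat.prime_two h2
  have hcomm : commutator G = ⊤ := by
    rcases (inferInstance : (commutator G).Normal).eq_bot_or_eq_top with h | h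
    · exact absurd ((commutator_eq_bot_iff G).mp h) hna
    · exact h
  haveI : Group.IsPerfect G := ⟨hcomm⟩
  have hKtop : K ≠ ⊤ := by
    rintro rfl
    have hF : Cfsg.fittingSubgroup (⊤ : Subgroup G) ≠ ⊥ := by
      rw [← hK]
      haveI : Nontrivial (⊤ : Subgroup G) := Subgroup.topEquiv.symm.injective.nontrivial
      exact H23.fStar_ne_bot
    haveI : IsSimpleGroup (⊤ : Subgroup G) := Subgroup.topEquiv.isSimpleGroup
    rcases (inferInstance : (Cfsg.fittingSubgroup (⊤ : Subgroup G)).Normal).eq_bot_or_eq_top with h | h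
    · exact hF h
    · haveI : Group.IsNilpotent (⊤ : Subgroup G) := H1.fitting_eq_top_iff.mp h
      haveI : Group.IsNilpotent G := Group.nilpotent_of_mulEquiv Subgroup.topEquiv
      have h1 : Group.IsSolvable G := inferInstance
      exact hna (IsSimpleGroup.comm_iff_isSolvable.mpr h1 |> fun h => ⟨⟨h⟩⟩)
  have hnc : ¬ IsCoatom (Subgroup.centralizer ({t} : Set G)) := fun h => hKtop (h.2 K hlt)
  have hD2 := H29.D2.of_sylow_equiv S eS
  have hconj : ∀ u v : G, orderOf u = 2 → orderOf v = 2 → ∃ g, g * u * g⁻¹ = v := fun u v hu hv =>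
    H73.GW.isConj_of_no_index_two (fun _ hR => hD2.cases' hR)
      (fun N _ => H29.index_ne_two_of_perfect hcomm N) hu hv
  obtain ⟨a, b, hab2, hab⟩ := hD2.sylow_of_perfect hO S
  have hGW := Cfsg.Agent.S0483.result S (orderOf a) hab2 (hab.nonempty_mulEquiv (by omega))
  have e0 : G ≃* G ⧸ oddCore G :=
    (QuotientGroup.quotientBot.symm).trans (QuotientGroup.quotientMulEquivOfEq hO.symm)
  rcases hGW with ⟨F, _, _, hodd, h3, ⟨e⟩⟩ | ⟨⟨e⟩⟩
  swap
  · exact Or.inr (Or.inl ⟨e0.trans e⟩)
  have e1 := e0.trans e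
  by_cases h5 : Fintype.card F = 5
  · obtain ⟨f⟩ := Cfsg.Agent.S0253.result h5
    exact Or.inl ⟨e1.trans f⟩
  by_cases h7 : Fintype.card F = 7
  · obtain ⟨f⟩ := Cfsg.Agent.S0255.result (K := ZMod 2) h7 (ZMod.card 2)
    exact Or.inr (Or.inr (Or.inl ⟨ZMod 2, inferInstance, inferInstance, ZMod.card 2, ⟨e1.trans f⟩⟩))
  by_cases h9 : Fintype.card F = 9
  · exact Or.inr (Or.inr (Or.inr ⟨F, inferInstance, inferInstance, h9, ⟨e1⟩⟩))
  exfalso
  apply hnc
  obtain ⟨j, hj⟩ := hodd
  have hgcd : Nat.gcd 2 (Fintype.card F - 1) = 2 := Nat.gcd_eq_left ⟨j, by omega⟩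
  rcases Nat.even_or_odd' j with ⟨k, hk | hk⟩
  · obtain ⟨H, hH, ⟨f⟩⟩ := Cfsg.Agent.S0812.result (F := F) rfl (by simp; omega)
    rw [hgcd, show (Fintype.card F - 1) / 2 = 2 * k by omega] at f
    exact coatom_of_dih hZ hconj ((OrderIso.isCoatom_iff e1.symm.mapSubgroup H).mpr hH)
      (k := k) (by omega) ((e1.symm.subgroupMap H).symm.trans f) ht
  · obtain ⟨H, hH, ⟨f⟩⟩ := Cfsg.Agent.S0811.result (F := F) rfl (by simp; omega)
    rw [hgcd, show (Fintype.card F + 1) / 2 = 2 * (k + 1) by omega] at f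
    exact coatom_of_dih hZ hconj ((OrderIso.isCoatom_iff e1.symm.mapSubgroup H).mpr hH)
      (k := k + 1) (by omega) ((e1.symm.subgroupMap H).symm.trans f) ht

end Cfsg.Agent.S3287
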