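import Cfsg.Statements.S1645
import Mathlib
import Cfsg.Agent.Lib.Alt27.Main
import Cfsg.Agent.Lib.Inv73.ZStar

set_option autoImplicit false
open Cfsg

namespace Cfsg.Agent.S1645



/-- If some involution of a finite simple group has centraliser a non-split double cover of the alternating group of degree n ≥ 5, then n is 8 or 11 (the McLaughlin and Lyons cases). -/
theorem result {G : Type*} [Group G] [Finite G] [IsSimpleGroup G] (n : ℕ) (hn : 5 ≤ n) (z : G) (hz : orderOf z = 2) (hcov : Cfsg.IsNonsplitDoubleCover (Subgroup.centralizer ({z} : Set G)) (alternatingGroup (Fin n))) : n = 8 ∨ n = 11 := by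
  by_contra! k
  have e := H73.centralizer_sup_oddCore_eq_top' hz fun g c =>
    H27.AD.isolated (by omega) k.1 k.2 hz hcov g c.symm
  rw [show oddCore G = ⊥ from (inferInstance : (pPrimeCore 2 G).Normal).eq_bot_or_eq_top.resolve_right
    fun h => H1.not_dvd_card_pPrimeCore (p := 2) (G := G) (by
      rw [h, Subgroup.card_top, ← hz]; exact orderOf_dvd_natCard z), sup_bot_eq] at e
  have z2 := (H41.normal_zpowers_of_mem_center (Subgroup.mem_center_iff.2 fun g =>
    H95.mem_cent_iff.1 (e.ge (Subgroup.mem_top g)))).eq_bot_or_eq_top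
  have : Nontrivial (Fin n) := Fin.nontrivial_iff_two_le.2 (by omega)
  have c := H27.Cv.card_cover hcov
  rw [Subgroup.zpowers_eq_bot] at z2
  rw [e, ← z2.resolve_left (H95.ne_one_of_orderOf_eq_two hz), Nat.card_zpowers, hz] at c
  exact absurd ((Nat.self_le_factorial n).trans c.ge) (by omega)

end Cfsg.Agent.S1645
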