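import Mathlib
import Cfsg.Agent.Base
import Cfsg.Agent.Lib.SigGen.Gen
import Cfsg.Agent.Lib.Sig.EA
import Cfsg.Agent.Lib.PComp.Automizer
import Cfsg.Statements.S1299

set_option autoImplicit false
open Cfsg

namespace Cfsg.Agent.S1299

open H45 H69 H79.SG Subgroup

theorem delta_le_cent {G : Type*} [Group G] (p : ℕ) (B : Subgroup G) : signalizerDelta p B ≤ 𝐂(B) := by
  intro x hx
  rw [mem_centralizer_iff_commute]
  intro b hb
  by_cases h1 : b = 1
  · simp [h1]
  · have := H44.coreOf_le _ _ (H44.signalizerDelta_le hb h1 hx)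
    exact (Subgroup.mem_centralizer_iff.1 this) b rfl

/-- Let G be finite and k-balanced for the prime p (k ≥ 1), A an elementary abelian p-subgroup of order at least p^(k+2) such that O_{p'}(C_G(a)) is solvable for every non-identity a ∈ A. For a ∈ A put θ a = the subgroup generated by the Δ_G(D) ∩ C_G(a) over the subgroups D ≤ A of order p^k. Then θ is an A-signalizer functor. -/
theorem result {G : Type*} [Group G] [Finite G] (p k : ℕ) [Fact p.Prime] (hk : 1 ≤ k) (hbal : Cfsg.IsKBalanced p k G) (A : Subgroup G) (hA : Cfsg.IsElementaryAbelian p A) (hAk : p ^ (k + 2) ≤ Nat.card ↥A) (hsolv : ∀ a ∈ A, a ≠ 1 → Group.IsSolvable ↥(Cfsg.centralizerPPrimeCore p a)) : Cfsg.IsSignalizerFunctor p A (fun a => ⨆ D : {D : Subgroup G // D ≤ A ∧ Nat.card ↥D = p ^ k}, Cfsg.signalizerDelta p (D : Subgroup G) ⊓ Subgroup.centralizer {a}) := by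
  have hp : p.Prime := Fact.out
  set θ : G → Subgroup G := fun a => ⨆ D : {D : Subgroup G // D ≤ A ∧ Nat.card ↥D = p ^ k},
    Cfsg.signalizerDelta p (D : Subgroup G) ⊓ Subgroup.centralizer {a} with hθ
  have hb : ∀ B, B ≤ A → p ^ k ≤ Nat.card B → ∀ b ∈ A, b ≠ 1 →
      signalizerDelta p B ⊓ Subgroup.centralizer {b} ≤ H44.coreOf p (Subgroup.centralizer {b}) := by
    intro B hB hc b hbA hb1
    obtain ⟨B₀, h0, hc0⟩ := H43.ea_exists_card_eq (H43.ea_of_le hA hB) hc
    refine (inf_le_inf_right _ (H44.signalizerDelta_anti h0)).trans ?_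
    exact hbal B₀ (H43.ea_of_le hA (h0.trans hB)) hc0 b (H43.ea_orderOf hA hbA hb1)
      fun a ha => H43.ea_comm hA (hB (h0 ha)) hbA
  have hΔ : ∀ B F, B ≤ A → p ^ k ≤ Nat.card B → F ≤ A →
      signalizerDelta p B ⊓ 𝐂(F) ≤ signalizerDelta p F := by
    intro B F hB hc hF
    rw [H44.le_signalizerDelta_iff]
    intro f hf h1
    exact (inf_le_inf_left _ (cent_le_cent1 hf)).trans (hb B hB hc f (hF hf) h1)
  have hθO : ∀ a ∈ A, a ≠ 1 → θ a ≤ H44.coreOf p (Subgroup.centralizer {a}) := fun a ha h1 =>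
    iSup_le fun D => hb D.1 D.2.1 D.2.2.ge a ha h1
  have hAΔ : ∀ B, B ≤ A → A ≤ 𝐍(signalizerDelta p B) := fun B hB =>
    (H43.ea_le_centralizer hA hB).trans (H44.centralizer_le_normalizer_signalizerDelta B)
  have hAθ : ∀ a ∈ A, A ≤ 𝐍(θ a) := fun a ha => le_norm_iSup fun D =>
    le_normalizer_inf (hAΔ _ D.2.1) (H43.ea_le_normalizer_centralizer_singleton hA ha)
  have hnd : ∀ a ∈ A, a ≠ 1 → ∀ Z, Z ≤ θ a → ¬ p ∣ Nat.card Z := fun a ha h1 Z hZ =>
    (Nat.Prime.coprime_iff_not_dvd hp).1 (H44.coprime_of_le_coreOf (hZ.trans (hθO a ha h1))).symm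
  have hAne : A ≠ ⊥ := H43.ne_bot_of_pow_le (by omega) hAk
  have hAab : IsMulCommutative A := abelian_iff_le_centralizer.2 (H43.ea_le_centralizer hA le_rfl)
  refine ⟨fun a ha h1 => (hθO a ha h1).trans (H44.coreOf_le _ _), fun a ha h1 => hnd a ha h1 _ le_rfl,
    fun a ha h1 b hb x hx => conj_mem_of_mem_normalizer (hAθ a ha hb) hx, fun a ha h1 b hbA hb1 => ?_⟩
  have hF1 : ∀ F, H43.Hyp p A F → p ^ (k + 1) ≤ Nat.card F := fun F hF => hF.pow_le hAk
  have hpk : p ^ k ≤ p ^ (k + 1) := Nat.pow_le_pow_right hp.pos (by omega)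
  have hFF : ∀ F F', H43.Hyp p A F → H43.Hyp p A F' → p ^ k ≤ Nat.card (F ⊓ F' : Subgroup G) := by
    intro F F' hF hF'
    rcases H43.Hyp.inf hA hF hF'.le with h | h
    · rw [inf_eq_right.2 h]; exact hpk.trans (hF1 _ hF')
    · exact h.pow_le (hF1 _ hF')
  have main := bal_aux (ι := {F : Subgroup G // H43.Hyp p A F}) _ (A := A) (X := θ a) (fun i => i.1)
    (fun i => signalizerDelta p i.1 ⊓ θ a) (fun i j => i.1 ⊓ j.1)
    (fun i j => signalizerDelta p (i.1 ⊓ j.1) ⊓ θ a) rfl hAab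
    (solvableS (hsolv a ha h1) (hθO a ha h1)) (hAθ a ha) (H43.ea_coprime hA (hnd a ha h1 _ le_rfl))
    (fun i => i.2.le) ?_ (fun i => inf_le_left.trans (delta_le_cent p _)) (fun i j => inf_le_left)
    (fun i j => inf_le_inf_right _ (H44.signalizerDelta_anti inf_le_right))
    (fun i j => le_inf inf_le_right (inf_le_left.trans (delta_le_cent p _)))
    (fun i j => le_normalizer_inf (inf_le_right.trans (H44.centralizer_le_normalizer_signalizerDelta _))
      (inf_le_left.trans le_normalizer))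
    (fun i j => le_normalizer_inf (hAΔ _ (inf_le_left.trans i.2.le)) (hAθ a ha))
    (fun i j => le_inf ((inf_le_inf_right _ inf_le_left).trans
      (hΔ _ _ (inf_le_left.trans i.2.le) (hFF _ _ i.2 j.2) i.2.le)) (inf_le_left.trans inf_le_right)) ?_
  · refine H43.le_of_forall_hyp hA hAne
      (le_normalizer_inf (hAθ a ha) (H43.ea_le_normalizer_centralizer_singleton hA hbA))
      (hnd a ha h1 _ inf_le_left) fun F hF => ?_
    obtain ⟨B₀, h0, hc0⟩ := H43.ea_exists_card_eq (H43.ea_of_le hA hF.le) (hpk.trans (hF1 F hF))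
    refine le_iSup_of_le ⟨B₀, h0.trans hF.le, hc0⟩ (le_inf ?_ (inf_le_left.trans inf_le_right))
    exact ((inf_le_inf_right _ inf_le_left).trans ((main ⟨F, hF⟩).trans inf_le_left)).trans
      (H44.signalizerDelta_anti h0)
  · intro A₀ h0
    rcases (Nat.dvd_prime hp).1 (H43.ea_relIndex_dvd_of_cocyclic hA h0.1 h0.2) with h | h
    · obtain ⟨F, hF⟩ := H43.exists_hyp hA hAne
      exact ⟨⟨F, hF⟩, hF.le.trans (Subgroup.relIndex_eq_one.1 h)⟩
    · exact ⟨⟨A₀, h0.1, h⟩, le_rfl⟩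
  · refine iSup_le fun D => ?_
    have hle : signalizerDelta p D.1 ⊓ Subgroup.centralizer {a} ≤ θ a :=
      le_iSup (fun D : {D : Subgroup G // D ≤ A ∧ Nat.card ↥D = p ^ k} =>
        Cfsg.signalizerDelta p (D : Subgroup G) ⊓ Subgroup.centralizer {a}) D
    refine H43.le_of_forall_hyp hA hAne
      (le_normalizer_inf (hAΔ _ D.2.1) (H43.ea_le_normalizer_centralizer_singleton hA ha))
      (hnd a ha h1 _ hle) fun F hF => ?_
    exact le_iSup_of_le ⟨F, hF⟩ (le_inf ((inf_le_inf_right _ inf_le_left).trans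
      (hΔ _ _ D.2.1 D.2.2.ge hF.le)) (inf_le_left.trans hle))

end Cfsg.Agent.S1299
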