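import Cfsg.Statements.S0201
import Cfsg.Agent.Lib.ZStar.BS
import Cfsg.Agent.S0218

set_option autoImplicit false
open Cfsg

namespace Cfsg.Agent.S0201

/-- Brauer–Suzuki Theorem: if a Sylow 2-subgroup of a finite group is generalized quaternion (of order at least 8) and the group has no nontrivial normal subgroup of odd order, then its centre has order 2. -/
theorem result {G : Type*} [Group G] [Finite G] (S : Sylow 2 G) (n : ℕ) (e : (S : Subgroup G) ≃* QuaternionGroup (2 ^ (n + 1))) (hO : ∀ N : Subgroup G, N.Normal → Odd (Nat.card N) → N = ⊥) : Nat.card (Subgroup.center G) = 2 := by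
  obtain ⟨a, b, ha, hb, hba, hnot, hmem⟩ :=
    H41.exists_gens_of_quaternion (m := 2 ^ (n + 1)) (by positivity) e
  have huniq : ∀ u ∈ S, ∀ v ∈ S, orderOf u = 2 → orderOf v = 2 → u = v := by
    intro u hu v hv h1 h2
    haveI := (Nat.card_eq_one_iff_unique.1 (Cfsg.Agent.S0218.result n)).1
    have h3 : ∀ w (hw : w ∈ (S : Subgroup G)), orderOf w = 2 → orderOf (e ⟨w, hw⟩) = 2 :=
      fun w hw h => by rw [MulEquiv.orderOf_eq, ← Subgroup.orderOf_coe]; exact h
    have h4 := Subsingleton.elim (⟨_, h3 u hu h1⟩ : {x : QuaternionGroup (2 ^ (n + 1)) //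
      orderOf x = 2}) ⟨_, h3 v hv h2⟩
    exact congrArg Subtype.val (e.injective (congrArg Subtype.val h4))
  have hR := H41.rankOne_of_sylow S fun u hu v hv h1 h2 _ => huniq u hu v hv h1 h2
  have ha' : orderOf a = 2 ^ (n + 1 + 1) := by rw [ha, ← pow_succ']
  have hz := H41.orderOf_two_of_mul_self (H41.half_pow_mul_self ha').2
    (H41.half_pow_mul_self ha').1
  have hc := hR.mem_center (H41.core_eq_bot_of_odd_normal hO) hz
  suffices h0 : Subgroup.center G = Subgroup.zpowers (a ^ 2 ^ (n + 1)) by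
    rw [h0, Nat.card_zpowers, hz]
  refine le_antisymm (fun y hy => ?_) (Subgroup.zpowers_le.2 hc)
  have h1 : Subgroup.zpowers (H35.pReg 2 y) = ⊥ := by
    refine hO _ ⟨fun w hw g => ?_⟩ ?_
    · have h1 := (Subgroup.zpowers_le.2 (H35.pReg_mem 2 hy)) hw
      rwa [Subgroup.mem_center_iff.1 h1 g, mul_inv_cancel_right]
    · rw [Nat.card_zpowers, ← Nat.not_even_iff_odd, even_iff_two_dvd]
      exact H35.not_dvd_orderOf_pReg 2 y
  rw [Subgroup.zpowers_eq_bot, H35.pReg_eq_one_iff] at h1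
  obtain ⟨g, hg⟩ := h1.exists_conj_mem S
  rw [Subgroup.mem_center_iff.1 hy g, mul_inv_cancel_right] at hg
  refine (hR.uniqInv_of_central hz hc).mem_of_mul_self (m := 0) hz ?_
  obtain ⟨i, rfl | rfl⟩ := (hmem y).1 hg
  · have h2 : b * a ^ i * b⁻¹ = (a ^ i)⁻¹ := by rw [← conj_zpow, hba, inv_zpow]
    rwa [Subgroup.mem_center_iff.1 hy b, mul_inv_cancel_right, eq_inv_iff_mul_eq_one] at h2
  · exfalso
    have h2 := Subgroup.mem_center_iff.1 hy a
    have h3 : a * a = 1 := by
      have h4 : b * a * b⁻¹ = a := by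
        calc b * a * b⁻¹ = (a ^ i)⁻¹ * (a ^ i * b * a) * b⁻¹ := by group
          _ = a := by rw [← h2]; group
      rw [← eq_inv_iff_mul_eq_one, ← hba, h4]
    have h5 := Nat.le_of_dvd two_pos (orderOf_dvd_of_pow_eq_one (sq a ▸ h3))
    rw [ha] at h5
    have : 1 < 2 ^ (n + 1) := Nat.one_lt_two_pow n.succ_ne_zero
    omega

end Cfsg.Agent.S0201
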