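import Cfsg.Statements.S2508
import Cfsg.Agent.Lib.SL2.Invol
import Cfsg.Agent.Lib.SL2Elt.Order
import Cfsg.Agent.Lib.GL.Basic

set_option autoImplicit false
open Cfsg

namespace Cfsg.Agent.S2508

open Matrix H64.SL2
open scoped MatrixGroups

section
variable {F : Type*} [Field F]

theorem card_centralizer_unip [Finite F] (h2 : (2 : F) ≠ 0) {g : SL(2, F)}
    (hg : g ∉ Subgroup.center SL(2, F)) (ht : tr g ^ 2 = 4) :
    Nat.card (Subgroup.centralizer ({g} : Set SL(2, F))) = 2 * Nat.card F := by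
  rw [← range_normOneHom hg, ← Nat.card_congr (MonoidHom.ofInjective (normOneHom_injective hg)).toEquiv]
  obtain ⟨e, he, hte⟩ : ∃ e : F, e ^ 2 = 1 ∧ tr g = 2 * e :=
    ⟨tr g / 2, by field_simp; linear_combination ht, by field_simp⟩
  rw [hte]
  have h1 : Nat.card ({1, -1} : Set F) = 2 := by
    rw [Nat.card_coe_set_eq, Set.ncard_pair fun h => h2 (by linear_combination h)]
  rw [← h1, ← Nat.card_prod]
  refine Nat.card_congr (Equiv.ofBijective (fun z => (⟨z.1.1.re + e * z.1.1.im, ?_⟩, z.1.1.im))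
    ⟨fun a b h => ?_, ?_⟩)
  · have := mem_normOne.1 z.2
    rw [Set.mem_insert_iff, Set.mem_singleton_iff, ← mul_self_eq_one_iff]
    linear_combination this + z.1.1.im ^ 2 * he
  · simp only [Prod.mk.injEq, Subtype.mk.injEq] at h
    refine Subtype.ext (Units.ext (QuadraticAlgebra.ext ?_ h.2))
    linear_combination h.1 - e * h.2
  · rintro ⟨⟨s, hs⟩, y⟩
    have hs' : s ^ 2 = 1 := by rcases hs with rfl | rfl <;> simp
    have hn : QuadraticAlgebra.norm (⟨s - e * y, y⟩ : QuadraticAlgebra F (-1) (2 * e)) = 1 := by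
      rw [QuadraticAlgebra.norm_def]
      linear_combination hs' - y ^ 2 * he
    have hu : IsUnit (⟨s - e * y, y⟩ : QuadraticAlgebra F (-1) (2 * e)) :=
      QuadraticAlgebra.isUnit_iff_norm_isUnit.2 (by rw [hn]; exact isUnit_one)
    refine ⟨⟨hu.unit, Units.ext hn⟩, Prod.ext (Subtype.ext ?_) rfl⟩
    change s - e * y + e * y = s
    ring

theorem index_proj (h2 : (2 : F) ≠ 0) {g : SL(2, F)} (ht : tr g ≠ 0) :
    (Subgroup.centralizer ({proj g} : Set PSL(2, F))).index =
      (Subgroup.centralizer ({g} : Set SL(2, F))).index := by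
  rw [← Subgroup.index_comap_of_surjective _ proj_surjective]
  congr 1
  ext h
  rw [Subgroup.mem_comap, Subgroup.mem_centralizer_singleton_iff,
    Subgroup.mem_centralizer_singleton_iff, ← map_mul, ← map_mul, proj_eq_iff]
  refine or_iff_left fun e => ht ?_
  have h1 : h * g * h⁻¹ = -g := by rw [e]; simp
  have h3 := tr_conj g h
  rw [h1, tr_neg] at h3
  exact (mul_eq_zero.1 (by linear_combination -h3 : 2 * tr g = 0)).resolve_left h2

theorem classify [Finite F] (h2 : (2 : F) ≠ 0) (g : SL(2, F)) :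
    let q := Nat.card F
    let i := (Subgroup.centralizer ({proj g} : Set PSL(2, F))).index
    (g ∈ Subgroup.center SL(2, F) ∧ i = 1) ∨
    (g ∉ Subgroup.center SL(2, F) ∧ tr g ^ 2 = 4 ∧ i = (q ^ 2 - 1) / 2) ∨
    (tr g = 0 ∧ (q % 4 = 1 → i = q * (q + 1) / 2) ∧ (q % 4 = 3 → i = q * (q - 1) / 2)) ∨
    (tr g ≠ 0 ∧ tr g ^ 2 ≠ 4 ∧ Split g ∧ i = q * (q + 1)) ∨
    (tr g ≠ 0 ∧ ¬ Split g ∧ i = q * (q - 1)) := by
  intro q i
  have hq : 2 ≤ q := Finite.one_lt_card
  obtain ⟨r, hr⟩ := Nat.exists_eq_add_of_le' (le_trans one_le_two hq)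
  have hr1 : q - 1 = r := by omega
  have hr0 : 0 < r := by omega
  by_cases hc : g ∈ Subgroup.center SL(2, F)
  · refine Or.inl ⟨hc, ?_⟩
    simp only [i, proj_eq_one_iff.2 hc, Subgroup.index_eq_one, eq_top_iff]
    intro x _
    rw [Subgroup.mem_centralizer_singleton_iff, mul_one, one_mul]
  by_cases h0 : tr g = 0
  · obtain ⟨c, hc⟩ := H29.exists_conj_matJ h2 (g := g) (by rw [← tr_eq_trace, h0])
    have h1 : Nat.card (Subgroup.centralizer ({proj g} : Set PSL(2, F))) = Nat.card (H29.rotSL F) := by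
      rw [← H29.card_centralizer_matJ h2, ← hc, map_mul, map_mul, map_inv]
      exact Nat.card_congr (centralizerConjEquiv _ _).symm.toEquiv
    have h3 := (Subgroup.centralizer ({proj g} : Set PSL(2, F))).index_mul_card
    have h4 := H10.card_PSL_two (F := F)
    refine Or.inr (Or.inr (Or.inl ⟨h0, fun h => ?_, fun h => ?_⟩))
    · rw [h1, H29.card_rotSL_of_one h] at h3
      rw [Nat.gcd_eq_left (by omega), ← h3] at h4
      change 2 * (i * (q - 1)) = q * (q - 1) * (q + 1) at h4
      rw [hr1] at h4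
      have : 2 * i = q * (q + 1) := Nat.eq_of_mul_eq_mul_right hr0 (by linarith)
      omega
    · rw [h1, H29.card_rotSL_of_three h] at h3
      rw [Nat.gcd_eq_left (by omega), ← h3] at h4
      change 2 * (i * (q + 1)) = q * (q - 1) * (q + 1) at h4
      have : 2 * i = q * (q - 1) := Nat.eq_of_mul_eq_mul_right (Nat.succ_pos q) (by linarith)
      omega
  have h3 := (Subgroup.centralizer ({g} : Set SL(2, F))).index_mul_card
  rw [← index_proj h2 h0, H10.card_SL_two] at h3
  change i * _ = q * (q - 1) * (q + 1) at h3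
  by_cases h4 : tr g ^ 2 = 4
  · refine Or.inr (Or.inl ⟨hc, h4, ?_⟩)
    rw [card_centralizer_unip h2 hc h4, hr1] at h3
    have h5 : q ^ 2 - 1 = r * (q + 1) := by rw [hr]; apply Nat.sub_eq_of_eq_add; ring
    have : 2 * i = r * (q + 1) := Nat.eq_of_mul_eq_mul_right (show 0 < q by omega) (by linarith)
    omega
  by_cases hs : Split g
  · refine Or.inr (Or.inr (Or.inr (Or.inl ⟨h0, h4, hs, ?_⟩)))
    rw [card_centralizer_of_split h4 hs] at h3
    change i * (q - 1) = _ at h3
    rw [hr1] at h3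
    exact Nat.eq_of_mul_eq_mul_right hr0 (by linarith)
  · refine Or.inr (Or.inr (Or.inr (Or.inr ⟨h0, hs, ?_⟩)))
    rw [card_centralizer_of_not_split hs] at h3
    exact Nat.eq_of_mul_eq_mul_right (Nat.succ_pos q) h3

theorem generic [Finite F] {g : SL(2, F)} (h4 : 4 < orderOf g)
    (hc : Nat.Coprime (orderOf g) (Nat.card F)) : tr g ≠ 0 ∧ tr g ^ 2 ≠ 4 := by
  constructor
  · intro h
    have : g ^ 4 = 1 := by
      rw [show g ^ 4 = (g * g) * (g * g) by simp only [pow_succ, pow_zero, one_mul, mul_assoc],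
        mul_self_eq_neg_one_of_tr h]; simp
    exact absurd (Nat.le_of_dvd (by norm_num) (orderOf_dvd_of_pow_eq_one this)) (by omega)
  · intro h
    obtain ⟨p, hp⟩ := CharP.exists F
    have := Fintype.ofFinite F
    have : Fact p.Prime := ⟨CharP.char_is_prime F p⟩
    have h1 := orderOf_dvd_of_pow_eq_one (pow_two_mul_char_eq_one p h)
    have h2 : Nat.Coprime (orderOf g) p :=
      hc.coprime_dvd_right (Nat.card_eq_fintype_card (α := F) ▸ char_dvd_card p)
    exact absurd (Nat.le_of_dvd (by norm_num) (h2.dvd_of_dvd_mul_right h1)) (by omega)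

theorem range_eq [Finite F] (h2 : (2 : F) ≠ 0) (h7 : 7 ≤ Nat.card F) (j : ℕ)
    (hj : (Nat.card F % 4 = 1 ∧ j = Nat.card F * (Nat.card F + 1) / 2) ∨
      (Nat.card F % 4 = 3 ∧ j = Nat.card F * (Nat.card F - 1) / 2)) :
    Set.range (fun g : PSL(2, F) => (Subgroup.centralizer ({g} : Set PSL(2, F))).index) =
      {1, (Nat.card F ^ 2 - 1) / 2, j, Nat.card F * (Nat.card F - 1),
        Nat.card F * (Nat.card F + 1)} := by
  have h4 : (4 : F) ≠ 0 := by rw [show (4 : F) = 2 * 2 by norm_num]; exact mul_ne_zero h2 h2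
  ext i
  simp only [Set.mem_range, Set.mem_insert_iff, Set.mem_singleton_iff]
  constructor
  · rintro ⟨x, rfl⟩
    obtain ⟨g, rfl⟩ := proj_surjective x
    rcases classify h2 g with h | h | h | h | h
    · exact Or.inl h.2
    · exact Or.inr (Or.inl h.2.2)
    · refine Or.inr (Or.inr (Or.inl ?_))
      rcases hj with ⟨h1, rfl⟩ | ⟨h1, rfl⟩
      exacts [h.2.1 h1, h.2.2 h1]
    · exact Or.inr (Or.inr (Or.inr (Or.inr h.2.2.2)))
    · exact Or.inr (Or.inr (Or.inr (Or.inl h.2.2)))
  · rintro (rfl | rfl | rfl | rfl | rfl)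
    · refine ⟨1, ?_⟩
      simp only [Subgroup.index_eq_one, eq_top_iff]
      intro x _
      rw [Subgroup.mem_centralizer_singleton_iff, mul_one, one_mul]
    · have ht : tr (H64.SL2.comp (2 : F)) ^ 2 = 4 := by rw [tr_comp]; norm_num
      refine ⟨proj (H64.SL2.comp 2), ?_⟩
      rcases classify h2 (H64.SL2.comp (2 : F)) with h | h | h | h | h
      · have := (mem_center_iff_entries.1 h.1).1
        simp [H64.SL2.comp, mk_01] at this
      · exact h.2.2
      · exact absurd (by rw [← h.1, tr_comp]) h2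
      · exact absurd ht h.2.1
      · exact absurd ht (tr_sq_ne_four_of_not_split h.2.1)
    · refine ⟨proj (H64.SL2.comp 0), ?_⟩
      have ht : tr (H64.SL2.comp (0 : F)) ^ 2 ≠ 4 := by rw [tr_comp]; simpa using h4.symm
      rcases classify h2 (H64.SL2.comp (0 : F)) with h | h | h | h | h
      · exact absurd h.1 (not_mem_center_of_tr ht)
      · exact absurd h.2.1 ht
      · rcases hj with ⟨h1, h3⟩ | ⟨h1, h3⟩
        exacts [(h.2.1 h1).trans h3.symm, (h.2.2 h1).trans h3.symm]
      · exact absurd (tr_comp 0) h.1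
      · exact absurd (tr_comp 0) h.1
    · obtain ⟨g, hg⟩ := exists_orderOf_eq_card_add_one (F := F)
      obtain ⟨h0, ht⟩ := generic (g := g) (by omega) (by rw [hg]; simp)
      refine ⟨proj g, ?_⟩
      rcases classify h2 g with h | h | h | h | h
      · exact absurd h.1 (not_mem_center_of_tr ht)
      · exact absurd h.2.1 ht
      · exact absurd h.1 h0
      · have := Nat.le_of_dvd (by omega) (orderOf_dvd_of_pow_eq_one (pow_eq_one_of_split ht h.2.2.1))
        omega
      · exact h.2.2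
    · obtain ⟨g, hg⟩ := exists_orderOf_eq_card_sub_one (F := F)
      obtain ⟨h0, ht⟩ := generic (g := g) (by omega) (by
        rw [hg]; exact (Nat.coprime_self_sub_left (by omega)).2 (by simp))
      refine ⟨proj g, ?_⟩
      rcases classify h2 g with h | h | h | h | h
      · exact absurd h.1 (not_mem_center_of_tr ht)
      · exact absurd h.2.1 ht
      · exact absurd h.1 h0
      · exact h.2.2.2
      · have h5 := orderOf_dvd_of_pow_eq_one (pow_eq_one_of_not_split h.2.1)
        rw [hg, show Nat.card F + 1 = (Nat.card F - 1) + 2 by omega, Nat.dvd_add_self_left] at h5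
        have := Nat.le_of_dvd (by omega) h5
        omega
end


/-- Let F be a finite field with q elements, q odd and q ≥ 7. If q ≡ 1 (mod 4) the conjugacy class sizes of PSL(2,F) are exactly 1, (q² − 1)/2, q(q + 1)/2, q(q − 1) and q(q + 1); if q ≡ 3 (mod 4) they are exactly 1, (q² − 1)/2, q(q − 1)/2, q(q + 1) and q(q − 1). -/
theorem result {F : Type*} [Field F] [Fintype F]
    (hodd : ¬ 2 ∣ Fintype.card F) (h7 : 7 ≤ Fintype.card F) :
    (Fintype.card F % 4 = 1 →
      Set.range (fun g : (Matrix.ProjectiveSpecialLinearGroup (Fin 2) F) => (Subgroup.centralizer ({g} : Set (Matrix.ProjectiveSpecialLinearGroup (Fin 2) F))).index) =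
        {1, (Fintype.card F ^ 2 - 1) / 2, Fintype.card F * (Fintype.card F + 1) / 2,
          Fintype.card F * (Fintype.card F - 1), Fintype.card F * (Fintype.card F + 1)}) ∧
    (Fintype.card F % 4 = 3 →
      Set.range (fun g : (Matrix.ProjectiveSpecialLinearGroup (Fin 2) F) => (Subgroup.centralizer ({g} : Set (Matrix.ProjectiveSpecialLinearGroup (Fin 2) F))).index) =
        {1, (Fintype.card F ^ 2 - 1) / 2, Fintype.card F * (Fintype.card F - 1) / 2,
          Fintype.card F * (Fintype.card F + 1), Fintype.card F * (Fintype.card F - 1)}) := by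
  have h2 : (2 : F) ≠ 0 := two_ne_zero_of_odd (Nat.odd_iff.2 (by omega))
  rw [← Nat.card_eq_fintype_card] at h7 ⊢
  refine ⟨fun h => range_eq h2 h7 _ (Or.inl ⟨h, rfl⟩), fun h => ?_⟩
  rw [range_eq h2 h7 _ (Or.inr ⟨h, rfl⟩), Set.pair_comm]

end Cfsg.Agent.S2508
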