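import Cfsg.Statements.S3280
import Mathlib
import Cfsg.Agent.S0483
import Cfsg.Agent.S3331
import Cfsg.Agent.S3278
import Cfsg.Agent.S0201
import Cfsg.Agent.S2508
import Cfsg.Agent.S0253
import Cfsg.Agent.S0254
import Cfsg.Agent.Lib.GWCor.BSW2
import Cfsg.Agent.Lib.InvChar.AbSylow
import Cfsg.Agent.Lib.PGroup.MaxClass2
import Cfsg.Agent.Lib.FGS83.MaxClass2
import Cfsg.Agent.Lib.GL.Basic

set_option autoImplicit false
open Cfsg

namespace Cfsg.Agent.S3280

set_option linter.style.haveILetI false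

open Subgroup in
/-- No group without a subgroup of index 2 has a semidihedral Sylow 2-subgroup containing a
self-centralizing element of order 4. -/
theorem not_semi {G : Type*} [Group G] [Finite G] (hG : ∀ N : Subgroup G, N.Normal → N.index ≠ 2)
    (S : Sylow 2 G) {w : G} (hw : orderOf w = 4) (hC : Nat.card (centralizer ({w} : Set G)) ≤ 4)
    {a b : G} {m : ℕ} (hm : 2 ≤ m) (ha : orderOf a = 2 ^ (m + 1)) (hbb : b * b = 1)
    (hba : b * a * b⁻¹ = a⁻¹ * a ^ 2 ^ m) (hb : b ∉ zpowers a)
    (hS : ∀ g, g ∈ (S : Subgroup G) ↔ ∃ i : ℤ, g = a ^ i ∨ g = a ^ i * b)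
    (hcard : Nat.card (S : Subgroup G) = 2 * 2 ^ (m + 1)) : False := by
  set z := a ^ 2 ^ m with hz
  have hzz : z * z = 1 := H5.half_mul_self ha
  have hz1 : z ≠ 1 := H5.half_ne_one ha
  have hza : Commute a z := (Commute.refl a).pow_right _
  have hb2 : b * (a * a) * b⁻¹ = (a * a)⁻¹ := by
    calc b * (a * a) * b⁻¹ = (b * a * b⁻¹) * (b * a * b⁻¹) := by group
      _ = a⁻¹ * (z * a⁻¹) * z := by rw [hba]; group
      _ = a⁻¹ * (a⁻¹ * z) * z := by rw [hza.inv_left.eq]
      _ = (a * a)⁻¹ * (z * z) := by group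
      _ = _ := by rw [hzz, mul_one]
  have hb2z : ∀ i : ℤ, b * (a * a) ^ i = (a * a) ^ (-i) * b := fun i => by
    have : b * (a * a) ^ i * b⁻¹ = (a * a) ^ (-i) := by
      rw [← conj_zpow, hb2, inv_zpow']
    rw [← this]; group
  have hbinv : b⁻¹ = b := inv_eq_of_mul_eq_one_right hbb
  let M : Subgroup G :=
    { carrier := {g | ∃ i : ℤ, g = (a * a) ^ i ∨ g = (a * a) ^ i * b}
      one_mem' := ⟨0, Or.inl (by simp)⟩
      mul_mem' := by
        rintro _ _ ⟨i, rfl | rfl⟩ ⟨j, rfl | rfl⟩
        · exact ⟨i + j, Or.inl (by rw [zpow_add])⟩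
        · exact ⟨i + j, Or.inr (by rw [zpow_add, mul_assoc])⟩
        · exact ⟨i + -j, Or.inr (by rw [zpow_add, mul_assoc, hb2z, mul_assoc])⟩
        · refine ⟨i + -j, Or.inl ?_⟩
          rw [zpow_add, mul_assoc, ← mul_assoc b, hb2z, mul_assoc, hbb, mul_one]
      inv_mem' := by
        rintro _ ⟨i, rfl | rfl⟩
        · exact ⟨-i, Or.inl (by rw [zpow_neg])⟩
        · refine ⟨i, Or.inr ?_⟩
          rw [mul_inv_rev, hbinv, ← zpow_neg, hb2z, neg_neg] }
  have haa : orderOf (a * a) = 2 ^ m := by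
    rw [← pow_two, orderOf_pow' _ two_ne_zero, ha, pow_succ, Nat.gcd_mul_left_left]
    simp
  have hD : H73.DihData M (2 ^ m) (a * a) b :=
    ⟨haa, hbb, hb2, fun h => hb ((zpowers_le.mpr (mul_mem (mem_zpowers a) (mem_zpowers a))) h),
      fun _ => Iff.rfl⟩
  have hsq : ∀ i : ℤ, (a * a) ^ i = a ^ (2 * i) := fun i => by rw [zpow_mul, zpow_two]
  have hMS : M ≤ S := by
    rintro _ ⟨i, rfl | rfl⟩
    · exact (hS _).2 ⟨2 * i, Or.inl (hsq i)⟩
    · exact (hS _).2 ⟨2 * i, Or.inr (by rw [hsq])⟩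
  have hidx : M.relIndex S = 2 := by
    have h1 := (M.subgroupOf S).card_mul_index
    rw [Nat.card_congr (subgroupOfEquivOfLe hMS).toEquiv, hD.card, hcard, pow_succ] at h1
    have : 0 < 2 ^ m := by positivity
    change _ * M.relIndex S = _ at h1
    nlinarith
  have hinv : ∀ g ∈ (S : Subgroup G), g * g = 1 → g ∈ M := by
    intro g hg hgg
    obtain ⟨i, rfl | rfl⟩ := (hS g).1 hg
    · rcases H5.eq_one_or_half ha (zpow_mem (mem_zpowers a) i) hgg with h | h <;> rw [h]
      · exact one_mem M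
      · refine ⟨2 ^ (m - 1), Or.inl ?_⟩
        rw [hsq, ← pow_succ', show m - 1 + 1 = m by omega, ← zpow_natCast]
        simp
    · rcases Int.even_or_odd' i with ⟨j, rfl | rfl⟩
      · exact ⟨j, Or.inr (by rw [hsq])⟩
      · exfalso
        apply hz1
        have h1 : a ^ (2 * j + 1) * b * (a ^ (2 * j + 1) * b) =
            a ^ (2 * j + 1) * (b * a * b⁻¹) ^ (2 * j + 1) * (b * b) := by
          rw [conj_zpow]; group
        rw [h1, hba, hbb, mul_one, hza.inv_left.mul_zpow, ← mul_assoc, inv_zpow, mul_inv_cancel,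
          one_mul, zpow_add, zpow_mul, zpow_one, zpow_two, hzz, one_zpow, one_mul] at hgg
        exact hgg
  obtain ⟨N, hN, hN2, -⟩ := H73.exists_index_two_of_transfer (S : Subgroup G) M
    (H73.odd_index_sylow S) hidx w (n := 2) (by rw [hw]; norm_num) (fun g hg => by
      have ho : orderOf (g * w * g⁻¹) = 4 := by rw [← hw]; exact (MulAut.conj g).orderOf_eq w
      have hmem : g * w * g⁻¹ ∈ zpowers (a * a) := by
        by_contra hn
        have := hD.orderOf_of_notMem hg hn
        omega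
      have hac : a ∈ centralizer ({g * w * g⁻¹} : Set G) := by
        obtain ⟨i, hi⟩ := mem_zpowers_iff.mp hmem
        rw [mem_centralizer_singleton_iff, ← hi, hsq]
        exact ((Commute.refl a).zpow_right _).eq
      have h1 := orderOf_dvd_natCard _ hac
      have h2 : Nat.card (centralizer ({g * w * g⁻¹} : Set G)) ≤ 4 := by
        rw [← H73.card_centralizer_eq_of_isConj (isConj_iff.mpr ⟨g, rfl⟩)]; exact hC
      have h3 := (Nat.le_of_dvd Nat.card_pos h1).trans h2
      rw [ha] at h3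
      have : 2 ^ 3 ≤ 2 ^ (m + 1) := Nat.pow_le_pow_right (by norm_num) (by omega)
      omega)
    (fun g i hi1 _ hg _ => hinv _ hg (by
      have h4 : w ^ 2 ^ i * w ^ 2 ^ i = 1 := by
        rw [← pow_add, ← two_mul, ← pow_succ', ← orderOf_dvd_iff_pow_eq_one, hw]
        exact (pow_dvd_pow 2 (show 2 ≤ i + 1 by omega))
      calc g * w ^ 2 ^ i * g⁻¹ * (g * w ^ 2 ^ i * g⁻¹) = g * (w ^ 2 ^ i * w ^ 2 ^ i) * g⁻¹ := by group
        _ = 1 := by rw [h4]; group))
  exact hG N hN hN2

theorem psl_four {F : Type*} [Field F] [Fintype F] (hodd : Odd (Fintype.card F))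
    (h7 : 7 ≤ Fintype.card F) (w : Matrix.ProjectiveSpecialLinearGroup (Fin 2) F)
    (hw : Nat.card (Subgroup.centralizer ({w} : Set _)) = 4) :
    Fintype.card F = 7 ∨ Fintype.card F = 9 := by
  have hc := H10.card_PSL_two (F := F)
  have hcs := Cfsg.Agent.S2508.result (F := F) (by rw [← even_iff_two_dvd, Nat.not_even_iff_odd]; exact hodd) h7
  have hi := (Subgroup.centralizer ({w} : Set _)).card_mul_index
  rw [hw] at hi
  rw [Nat.card_eq_fintype_card (α := F), ← hi] at hc
  obtain ⟨j, hj⟩ := hodd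
  obtain ⟨I, hI⟩ : ∃ I, I = (Subgroup.centralizer ({w} : Set _)).index := ⟨_, rfl⟩
  rw [← hI] at hc
  have hgcd : Nat.gcd 2 (Fintype.card F - 1) = 2 := Nat.gcd_eq_left ⟨j, by omega⟩
  rw [hgcd] at hc
  generalize Fintype.card F = q at *
  subst hj
  have e1 : (2 * j + 1) ^ 2 - 1 = 2 * (2 * j * (j + 1)) := by
    rw [Nat.sub_eq_iff_eq_add (Nat.one_le_pow _ _ (by omega))]; ring
  have e2 : (2 * j + 1) * (2 * j + 1 + 1) = 2 * ((2 * j + 1) * (j + 1)) := by ring
  have e3 : (2 * j + 1) * (2 * j + 1 - 1) = 2 * ((2 * j + 1) * j) := by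
    rw [Nat.add_sub_cancel]; ring
  rw [e3, show 2 * j + 1 + 1 = 2 * (j + 1) by ring] at hc
  rw [e1, e2, e3, Nat.mul_div_cancel_left _ two_pos, Nat.mul_div_cancel_left _ two_pos,
    Nat.mul_div_cancel_left _ two_pos] at hcs
  have hj3 : 3 ≤ j := by omega
  have hcases : I = 1 ∨ I = 2 * j * (j + 1) ∨ I = (2 * j + 1) * (j + 1) ∨ I = (2 * j + 1) * j ∨
      I = 2 * ((2 * j + 1) * j) ∨ I = 2 * ((2 * j + 1) * (j + 1)) := by
    rcases Nat.even_or_odd' j with ⟨k, hk | hk⟩
    · have h := hcs.1 (by omega)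
      have hm : I ∈ Set.range (fun g : Matrix.ProjectiveSpecialLinearGroup (Fin 2) F =>
        (Subgroup.centralizer ({g} : Set _)).index) := ⟨w, hI.symm⟩
      rw [h] at hm
      simp only [Set.mem_insert_iff, Set.mem_singleton_iff] at hm
      tauto
    · have h := hcs.2 (by omega)
      have hm : I ∈ Set.range (fun g : Matrix.ProjectiveSpecialLinearGroup (Fin 2) F =>
        (Subgroup.centralizer ({g} : Set _)).index) := ⟨w, hI.symm⟩
      rw [h] at hm
      simp only [Set.mem_insert_iff, Set.mem_singleton_iff] at hm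
      tauto
  clear hcs hI
  have hp : 0 < (2 * j + 1) * (j + 1) := by positivity
  have hp' : 0 < (2 * j + 1) * j := by positivity
  have hp'' : 0 < j * (j + 1) := by positivity
  rcases hcases with h | h | h | h | h | h <;> subst h
  · exfalso; nlinarith
  · exfalso
    have : (j * (j + 1)) * 16 = (j * (j + 1)) * (4 * (2 * j + 1)) := by linarith
    have := Nat.eq_of_mul_eq_mul_left hp'' this
    omega
  · exfalso
    have : ((2 * j + 1) * (j + 1)) * 8 = ((2 * j + 1) * (j + 1)) * (4 * j) := by linarith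
    have := Nat.eq_of_mul_eq_mul_left hp this
    omega
  · exfalso
    have : ((2 * j + 1) * j) * 8 = ((2 * j + 1) * j) * (4 * (j + 1)) := by linarith
    have := Nat.eq_of_mul_eq_mul_left hp' this
    omega
  · have : ((2 * j + 1) * j) * 16 = ((2 * j + 1) * j) * (4 * (j + 1)) := by linarith
    have := Nat.eq_of_mul_eq_mul_left hp' this
    omega
  · have : ((2 * j + 1) * (j + 1)) * 16 = ((2 * j + 1) * (j + 1)) * (4 * j) := by linarith
    have := Nat.eq_of_mul_eq_mul_left hp this
    omega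

/-- A non-cyclic finite simple group containing an element whose centralizer has order at most 4 is isomorphic to the alternating group of degree 5, 6 or 7, or to PSL(2, 7). -/
theorem result {G : Type*} [Group G] [Finite G] [IsSimpleGroup G] (hG : ¬ IsCyclic G)
    (w : G) (hw : Nat.card ↥(Subgroup.centralizer ({w} : Set G)) ≤ 4) :
    Nonempty (G ≃* ↥(alternatingGroup (Fin 5))) ∨ Nonempty (G ≃* ↥(alternatingGroup (Fin 6))) ∨
      Nonempty (G ≃* ↥(alternatingGroup (Fin 7))) ∨
      (∃ (F : Type) (_ : Field F) (_ : Fintype F), Fintype.card F = 7 ∧ Nonempty (G ≃* Matrix.ProjectiveSpecialLinearGroup (Fin 2) F)) := by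
  classical
  have hna : ¬ IsMulCommutative G := fun hc => hG (by
    letI : CommGroup G := { (inferInstance : Group G) with mul_comm := hc.is_comm.comm }
    exact IsSimpleGroup.isCyclic)
  have hZ := H72.center_eq_bot_of_simple hna
  have hns : ¬ Group.IsSolvable G := fun h1 =>
    hna (IsSimpleGroup.comm_iff_isSolvable.mpr h1 |> fun h => ⟨⟨h⟩⟩)
  have hnp : ¬ IsPGroup 2 G := fun h => by
    haveI := h.isNilpotent
    exact hns inferInstance
  have hcomm : commutator G = ⊤ := by
    rcases (inferInstance : (commutator G).Normal).eq_bot_or_eq_top with h | h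
    · exact absurd ((commutator_eq_bot_iff G).mp h) hna
    · exact h
  have hG2 : ∀ N : Subgroup G, N.Normal → N.index ≠ 2 :=
    fun N _ => H29.index_ne_two_of_perfect hcomm N
  set C := Subgroup.centralizer ({w} : Set G) with hCdef
  have hwC : w ∈ C := Subgroup.mem_centralizer_singleton_iff.mpr rfl
  have hdvd : orderOf w ∣ Nat.card C := Subgroup.orderOf_dvd_natCard C hwC
  have hCpos : 0 < Nat.card C := Nat.card_pos
  have hle : orderOf w ≤ 4 := (Nat.le_of_dvd hCpos hdvd).trans hw
  have hpos : 0 < orderOf w := orderOf_pos w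
  have hcyc : ∀ S : Sylow 2 G, 2 ∣ Nat.card G → ¬ IsCyclic S := fun S h2 hS =>
    hnp (H29.isPGroup_of_isCyclic_sylow (H72.pPrimeCore_eq_bot_of_simple Nat.prime_two h2) S hS)
  have hCeq : Nat.card C = orderOf w → C = Subgroup.zpowers w := fun h =>
    (Subgroup.eq_of_le_of_card_ge (Subgroup.zpowers_le.mpr hwC) (by rw [h, Nat.card_zpowers])).symm
  obtain h1 | h2 | h3 | h4 : orderOf w = 1 ∨ orderOf w = 2 ∨ orderOf w = 3 ∨ orderOf w = 4 := by omega
  · exfalso
    have hw1 : w = 1 := orderOf_eq_one_iff.mp h1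
    have : C = ⊤ := by
      rw [eq_top_iff]; intro g _
      rw [hCdef, Subgroup.mem_centralizer_singleton_iff, hw1]; simp
    rw [this, Subgroup.card_top] at hw hCpos
    obtain h | h | h | h : Nat.card G = 1 ∨ Nat.card G = 2 ∨ Nat.card G = 3 ∨ Nat.card G = 4 := by
      omega
    · exact hnp (IsPGroup.of_card (n := 0) h)
    · exact hnp (IsPGroup.of_card (n := 1) h)
    · haveI : Fact (Nat.Prime 3) := ⟨Nat.prime_three⟩
      exact hG (isCyclic_of_prime_card h)
    · exact hnp (IsPGroup.of_card (n := 2) h)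
  · have h2G : 2 ∣ Nat.card G := h2 ▸ orderOf_dvd_natCard w
    rw [h2] at hdvd
    have hC24 : Nat.card C = 2 ∨ Nat.card C = 4 := by omega
    by_cases hK : IsCyclic C
    · exfalso
      have hCp : IsPGroup 2 C := by
        rcases hC24 with h | h
        · exact IsPGroup.of_card (n := 1) h
        · exact IsPGroup.of_card (n := 2) h
      obtain ⟨S, hS⟩ := H73.exists_sylow_eq_of_normalizer_le hCp (fun n hn _ => by
        have hm : n * w * n⁻¹ ∈ C := (Subgroup.mem_normalizer_iff.mp hn w).mp hwC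
        have ho : orderOf (n * w * n⁻¹) = 2 := by rw [← h2]; exact (MulAut.conj n).orderOf_eq w
        have hww : ∀ x : G, orderOf x = 2 → x * x = 1 ∧ x ≠ 1 := fun x hx =>
          ⟨by rw [← pow_two, ← hx, pow_orderOf_eq_one], by rintro rfl; simp at hx⟩
        have heq : n * w * n⁻¹ = w := by
          by_contra hne
          exact H5.not_isCyclic_of_two_invol hwC hm (hww _ h2).2 (hww _ ho).2 hne (hww _ h2).1
            (hww _ ho).1 hK
        exact H73.mem_centralizer_singleton_iff_conj.mpr heq)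
      exact hcyc S h2G (hS ▸ hK)
    · have h4 : Nat.card C = 4 := by
        rcases hC24 with h | h
        · exact absurd (isCyclic_of_prime_card h) hK
        · exact h
      have hK4 : IsKleinFour C := by
        refine ⟨h4, ?_⟩
        have := (not_isCyclic_iff_exponent_eq_prime Nat.prime_two (by rw [h4]; rfl)).mp hK
        exact this
      exact Or.inl (Cfsg.Agent.S3278.result w h2 C le_rfl hK4
        (by rw [Subgroup.relIndex_self]; norm_num) (by rw [Subgroup.subgroupOf_self]; infer_instance))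
  · rw [h3] at hdvd
    have hC3 : Nat.card C = 3 := by omega
    have hCz := hCeq (by rw [hC3, h3])
    have hX : Subgroup.centralizer ((Subgroup.zpowers w : Subgroup G) : Set G) = Subgroup.zpowers w := by
      rw [← hCz]
      conv_lhs => rw [hCz]
      rw [Subgroup.zpowers_eq_closure, Subgroup.centralizer_closure]
    have h3G : 3 ∣ Nat.card G := h3 ▸ orderOf_dvd_natCard w
    rcases Cfsg.Agent.S3331.result (Subgroup.zpowers w) (by rw [Nat.card_zpowers, h3]) hX with
      ⟨N, hN, hnil, hcop, hq⟩ | ⟨N, hN, hab, -, ⟨e⟩⟩ | ⟨⟨e⟩⟩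
    · exfalso
      rcases hN.eq_bot_or_eq_top with rfl | rfl
      · rcases hq with hq | ⟨⟨e⟩⟩
        · haveI : Fact (Nat.Prime 3) := ⟨Nat.prime_three⟩
          rw [Nat.card_congr QuotientGroup.quotientBot.toEquiv] at hq
          exact hG (isCyclic_of_prime_card hq)
        · have e1 := QuotientGroup.quotientBot.symm.trans e
          have hs : (Equiv.Perm.sign.comp e1.toMonoidHom).ker.index = 2 :=
            H73.index_ker_eq_two _ (x := e1.symm (Equiv.swap 0 1)) (by simp)
          exact hG2 _ inferInstance hs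
      · rw [Subgroup.card_top] at hcop
        have := Nat.Coprime.eq_one_of_dvd hcop.symm h3G
        omega
    · rcases hN.eq_bot_or_eq_top with rfl | rfl
      · exact Or.inl ⟨QuotientGroup.quotientBot.symm.trans e⟩
      · exact absurd ⟨⟨fun a b => congrArg Subtype.val
          (hab.is_comm.comm ⟨a, Subgroup.mem_top a⟩ ⟨b, Subgroup.mem_top b⟩)⟩⟩ hna
    · haveI : Fact (Nat.Prime 7) := ⟨by norm_num⟩
      exact Or.inr (Or.inr (Or.inr ⟨ZMod 7, inferInstance, inferInstance, ZMod.card 7, ⟨e⟩⟩))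
  · rw [h4] at hdvd
    have hC4 : Nat.card C = 4 := by omega
    have h2G : 2 ∣ Nat.card G := (show 2 ∣ 4 by norm_num).trans (h4 ▸ orderOf_dvd_natCard w)
    have hO : oddCore G = ⊥ := H72.pPrimeCore_eq_bot_of_simple Nat.prime_two h2G
    have hwp : IsPGroup 2 (Subgroup.zpowers w) :=
      IsPGroup.of_card (n := 2) (by rw [Nat.card_zpowers, h4]; rfl)
    obtain ⟨S, hS⟩ := hwp.exists_le_sylow
    have hwS : w ∈ (S : Subgroup G) := hS (Subgroup.mem_zpowers w)
    obtain ⟨n, hn⟩ := IsPGroup.iff_card.1 S.isPGroup'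
    have hw4 : orderOf (⟨w, hwS⟩ : (S : Subgroup G)) = 4 := by
      rw [← Subgroup.orderOf_coe]; exact h4
    have hd4 : 2 ^ 2 ∣ 2 ^ n := by
      have := orderOf_dvd_natCard (⟨w, hwS⟩ : (S : Subgroup G))
      rwa [hw4, hn] at this
    obtain ⟨k, rfl⟩ : ∃ k, n = k + 3 := by
      refine ⟨n - 3, ?_⟩
      have : 2 ≤ n := (Nat.pow_dvd_pow_iff_le_right one_lt_two).1 hd4
      have : n ≠ 2 := by
        rintro rfl
        exact hcyc S h2G (isCyclic_of_orderOf_eq_card _ (by rw [hw4, hn]; rfl))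
      omega
    have hCS : Nat.card (Subgroup.centralizer ({⟨w, hwS⟩} : Set (S : Subgroup G))) ≤ 2 ^ 2 := by
      refine le_trans (Nat.card_le_card_of_injective
        (fun x : Subgroup.centralizer ({⟨w, hwS⟩} : Set (S : Subgroup G)) =>
          (⟨((x : (S : Subgroup G)) : G), Subgroup.mem_centralizer_singleton_iff.mpr
            (congrArg Subtype.val (Subgroup.mem_centralizer_singleton_iff.mp x.2))⟩ : C)) ?_) hw
      intro x y h
      exact Subtype.ext (Subtype.ext (congrArg (fun t : C => (t : G)) h))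
    have hc := H5.nilpotencyClass_eq_of_card_centralizer_le (k + 1) (S : Subgroup G) hn _ hCS
    haveI := S.isPGroup'.isNilpotent
    obtain ⟨hi4, hsq⟩ := H5.index_commutator_of_maxClass hn hc
    obtain ⟨a, b, m, hm, ha, hi, hb, h⟩ := H5.exists_gens_of_index_four S.isPGroup' hi4
      (fun x => by simpa [pow_two] using hsq x) (H5.commutator_ne_bot_of_class (by omega))
    rcases h with h | h | h
    · obtain ⟨e⟩ := H41.nonempty_mulEquiv_dihedral (m := 2 ^ (m + 1)) (by positivity)
        ha h.1 h.2 hb (H83.mem_top_iff_of_index_two hi hb)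
      haveI : Group.IsPerfect G := ⟨hcomm⟩
      have hGW := Cfsg.Agent.S0483.result S (2 ^ (m + 1))
        (by have := Nat.one_lt_two_pow (n := m + 1) (by omega); omega)
        ⟨Subgroup.topEquiv.symm.trans e⟩
      have e0 : G ≃* G ⧸ oddCore G :=
        (QuotientGroup.quotientBot.symm).trans (QuotientGroup.quotientMulEquivOfEq hO.symm)
      rcases hGW with ⟨F, _, _, hodd, h3, ⟨e⟩⟩ | ⟨⟨e⟩⟩
      swap
      · exact Or.inr (Or.inr (Or.inl ⟨e0.trans e⟩))
      have e1 := e0.trans e
      by_cases h5 : Fintype.card F = 5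
      · obtain ⟨f⟩ := Cfsg.Agent.S0253.result h5
        exact Or.inl ⟨e1.trans f⟩
      have h7 : 7 ≤ Fintype.card F := by obtain ⟨j, hj⟩ := hodd; omega
      have hc4 : Nat.card (Subgroup.centralizer ({e1 w} : Set _)) = 4 := by
        rw [← hC4]
        exact (H29.card_centralizer_equiv e1 w).symm
      rcases psl_four hodd h7 _ hc4 with h | h
      · exact Or.inr (Or.inr (Or.inr ⟨F, inferInstance, inferInstance, h, ⟨e1⟩⟩))
      · obtain ⟨f⟩ := Cfsg.Agent.S0254.result h
        exact Or.inr (Or.inl ⟨e1.trans f⟩)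
    · exfalso
      obtain ⟨j, rfl⟩ : ∃ j, m = j + 1 := ⟨m - 1, by omega⟩
      obtain ⟨e⟩ := H41.nonempty_mulEquiv_quaternion (m := 2 ^ (j + 1)) (by positivity)
        (by rw [ha, pow_succ, mul_comm]) h.1 h.2 hb (H83.mem_top_iff_of_index_two hi hb)
      have hz := Cfsg.Agent.S0201.result S j (Subgroup.topEquiv.symm.trans e) (fun N hN ho => by
        rcases hN.eq_bot_or_eq_top with h | rfl
        · exact h
        · rw [Subgroup.card_top] at ho
          exact absurd h2G ho.not_two_dvd_nat)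
      rw [hZ, Subgroup.card_bot] at hz
      omega
    · exfalso
      refine not_semi hG2 S h4 hw (a := a) (b := b) h.1 (by rw [Subgroup.orderOf_coe, ha])
        (congrArg Subtype.val h.2.1) (congrArg Subtype.val h.2.2) (fun hb' => hb ?_) (fun g => ?_) ?_
      · obtain ⟨i, hi⟩ := Subgroup.mem_zpowers_iff.mp hb'
        exact ⟨i, Subtype.ext hi⟩
      · constructor
        · intro hg
          obtain ⟨i, h | h⟩ := (H83.mem_top_iff_of_index_two hi hb ⟨g, hg⟩).1 (Subgroup.mem_top _)
          · exact ⟨i, Or.inl (congrArg Subtype.val h)⟩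
          · exact ⟨i, Or.inr (congrArg Subtype.val h)⟩
        · rintro ⟨i, rfl | rfl⟩
          · exact Subgroup.zpow_mem _ a.2 i
          · exact Subgroup.mul_mem _ (Subgroup.zpow_mem _ a.2 i) b.2
      · rw [← (Subgroup.zpowers a).card_mul_index, hi, Nat.card_zpowers, ha, mul_comm]

end Cfsg.Agent.S3280
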