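import Mathlib
import Cfsg.Agent.S2116
import Cfsg.Agent.S0254
import Cfsg.Agent.Lib.GL.Simple
import Cfsg.Statements.S2118

set_option autoImplicit false
open Cfsg

namespace Cfsg.Agent.S2118

/-- For the field with 9 elements, the special linear group SL₂ has Schur multiplier cyclic of order 3 (here the Schur multiplier is described through stem extensions, as in the definitions). -/
theorem result {F : Type*} [Field F] [Fintype F] (hF : Fintype.card F = 9) : Cfsg.HasCyclicSchurMultiplier (Matrix.SpecialLinearGroup (Fin 2) F) 3 := by
  have h := H60.hasSchur_of_mulEquiv (Cfsg.Agent.S0254.result hF).some.symm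
    (Cfsg.Agent.S2116.result 6 (Or.inl rfl))
  refine H72.AC.hasCyclic_of_cover h (QuotientGroup.mk'_surjective (Subgroup.center _))
    (QuotientGroup.ker_mk' _).le (H10.commutator_SL_fin_eq_top 2 fun _ => by
      rw [Nat.card_eq_fintype_card, hF]; norm_num) Nat.prime_three.squarefree ?_
  rw [QuotientGroup.ker_mk', H10.card_center_SL, Nat.card_eq_fintype_card (α := F), hF]
  simp

end Cfsg.Agent.S2118
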