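import Cfsg.Statements.S5914
import Mathlib
import Cfsg.Agent.Lib.Core.MinNormal

set_option autoImplicit false
open Cfsg

namespace Cfsg.Agent.S5914

/-- Splitting off the first coordinate of a power, as a homomorphism. -/
def splitHom (S : Type*) [Group S] (k : ℕ) : (Fin (k + 1) → S) →* S × (Fin k → S) where
  toFun x := (x 0, fun i => x i.succ)
  map_one' := rfl
  map_mul' _ _ := rfl

theorem splitHom_bijective (S : Type*) [Group S] (k : ℕ) : Function.Bijective (splitHom S k) := by
  constructor
  · intro x y h
    funext i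
    refine Fin.cases ?_ (fun j => ?_) i
    · exact congrArg Prod.fst h
    · exact congrFun (congrArg Prod.snd h) j
  · rintro ⟨a, x⟩
    exact ⟨Fin.cons a x, rfl⟩

theorem join_power {G : Type*} [Group G] {S : Type*} [Group S] (T : Finset (Subgroup G))
    (hT : ∀ M ∈ T, H3.IsMinNormal M ∧ Nonempty (S ≃* M)) :
    (T.sup id).Normal ∧ ∃ (k : ℕ) (φ : (Fin k → S) →* G), Function.Injective φ ∧ φ.range = T.sup id := by
  classical
  induction T using Finset.induction_on with
  | empty =>
    refine ⟨by rw [Finset.sup_empty]; infer_instance, 0, 1, fun x y _ => Subsingleton.elim _ _, ?_⟩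
    simp
  | insert M T hM ih =>
    obtain ⟨hn, k, φ, hφ, hr⟩ := ih (fun M hM => hT M (Finset.mem_insert_of_mem hM))
    obtain ⟨hmin, ⟨e⟩⟩ := hT M (Finset.mem_insert_self _ _)
    have := hmin.normal
    rw [Finset.sup_insert, id]
    refine ⟨inferInstance, ?_⟩
    rcases hmin.inf_eq_bot_or_le (T.sup id) with h | h
    · let ψ : S →* G := M.subtype.comp e.toMonoidHom
      have hψ : Function.Injective ψ := M.subtype_injective.comp e.injective
      have hψr : ψ.range = M := by
        rw [MonoidHom.range_comp, MonoidHom.range_eq_top.2 e.surjective, ← MonoidHom.range_eq_map,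
          Subgroup.range_subtype]
      have hc : ∀ a x, Commute (ψ a) (φ x) := fun a x =>
        Subgroup.commute_of_normal_of_disjoint M (T.sup id) inferInstance hn (disjoint_iff.2 h) _ _
          (e a).2 (hr ▸ ⟨x, rfl⟩)
      refine ⟨k + 1, (ψ.noncommCoprod φ hc).comp (splitHom S k), ?_, ?_⟩
      · rw [MonoidHom.coe_comp]
        refine Function.Injective.comp ?_ (splitHom_bijective S k).1
        rw [MonoidHom.noncommCoprod_injective]
        exact ⟨hψ, hφ, by rw [hψr, hr]; exact disjoint_iff.2 h⟩
      · rw [MonoidHom.range_comp, MonoidHom.range_eq_top.2 (splitHom_bijective S k).2,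
          ← MonoidHom.range_eq_map, MonoidHom.noncommCoprod_range, hψr, hr]
    · exact ⟨k, φ, hφ, by rw [hr, sup_eq_right.2 h]⟩

theorem isMinNormal_map {G : Type*} [Group G] {N : Subgroup G} (hN : H3.IsMinNormal N) (α : G ≃* G) :
    H3.IsMinNormal (N.map α.toMonoidHom) := by
  have := hN.normal
  refine ⟨Subgroup.Normal.map inferInstance _ α.surjective, ?_, fun K hK hle => ?_⟩
  · rw [Ne, Subgroup.map_eq_bot_iff_of_injective _ α.injective]; exact hN.ne_bot
  · rcases hN.eq_bot_or_eq (K.comap α.toMonoidHom) inferInstance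
      (by rw [← Subgroup.comap_map_eq_self_of_injective (f := α.toMonoidHom) α.injective N]
          exact Subgroup.comap_mono hle) with h | h
    · left
      rw [← Subgroup.map_comap_eq_self_of_surjective (f := α.toMonoidHom) α.surjective K, h, Subgroup.map_bot]
    · right
      rw [← h, Subgroup.map_comap_eq_self_of_surjective (f := α.toMonoidHom) α.surjective K]

theorem power_charSimple {S : Type*} [Group S] [IsSimpleGroup S] {n : ℕ} (H : Subgroup (Fin n → S))
    (hH : H.Characteristic) : H = ⊥ ∨ H = ⊤ := by
  classical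
  by_cases hb : H = ⊥
  · exact Or.inl hb
  right
  obtain ⟨⟨x, hx⟩, hx1⟩ := Subgroup.ne_bot_iff_exists_ne_one.1 hb
  obtain ⟨i, hi⟩ : ∃ i, x i ≠ 1 := by
    by_contra h
    push Not at h
    exact hx1 (Subtype.ext (funext h))
  have hchar : ∀ (α : (Fin n → S) ≃* (Fin n → S)), ∀ y ∈ H, α y ∈ H := fun α y hy =>
    Subgroup.characteristic_iff_le_comap.1 hH α hy
  obtain ⟨j, s, hs, hjs⟩ : ∃ (j : Fin n) (s : S), s ≠ 1 ∧ (Pi.mulSingle j s : Fin n → S) ∈ H := by
    by_cases hc : ∃ g : S, g * x i * g⁻¹ * (x i)⁻¹ ≠ 1
    · obtain ⟨g, hg⟩ := hc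
      refine ⟨i, _, hg, ?_⟩
      have h1 : (Pi.mulSingle i g : Fin n → S) * x * (Pi.mulSingle i g : Fin n → S)⁻¹ * x⁻¹ ∈ H :=
        H.mul_mem (Subgroup.Normal.conj_mem inferInstance x hx _) (H.inv_mem hx)
      convert h1
      funext j
      by_cases hj : j = i
      · subst hj; simp
      · simp [Pi.mulSingle_eq_of_ne hj]
    · push Not at hc
      have hcen : Subgroup.center S = ⊤ := by
        refine (inferInstance : (Subgroup.center S).Normal).eq_bot_or_eq_top.resolve_left (fun h => hi ?_)
        rw [← Subgroup.mem_bot, ← h, Subgroup.mem_center_iff]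
        intro g
        calc g * x i = (g * x i * g⁻¹ * (x i)⁻¹) * (x i * g) := by group
          _ = x i * g := by rw [hc, one_mul]
      have hcomm : ∀ a b : S, a * b = b * a := fun a b =>
        Subgroup.mem_center_iff.1 (hcen ▸ Subgroup.mem_top b : b ∈ Subgroup.center S) a
      by_cases hj : ∃ j, j ≠ i
      · obtain ⟨j, hj⟩ := hj
        let α : (Fin n → S) ≃* (Fin n → S) :=
          { toFun := fun y => y * Pi.mulSingle j (y i)
            invFun := fun y => y * Pi.mulSingle j (y i)⁻¹
            left_inv := fun y => by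
              simp [Pi.mulSingle_eq_of_ne hj.symm, mul_assoc, ← Pi.mulSingle_mul]
            right_inv := fun y => by
              simp [Pi.mulSingle_eq_of_ne hj.symm, mul_assoc, ← Pi.mulSingle_mul]
            map_mul' := fun y z => by
              funext l
              simp only [Pi.mul_apply, Pi.mulSingle_mul, mul_assoc]
              congr 1
              rw [← mul_assoc, hcomm (z l), mul_assoc] }
        refine ⟨j, x i, hi, ?_⟩
        have h1 := H.mul_mem (H.inv_mem hx) (hchar α x hx)
        simpa [α] using h1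
      · push Not at hj
        refine ⟨i, x i, hi, ?_⟩
        convert hx
        funext l
        rw [hj l]; simp
  have h1 : H.comap (MonoidHom.mulSingle (fun _ : Fin n => S) j) = ⊤ := by
    refine (inferInstance : (H.comap (MonoidHom.mulSingle (fun _ : Fin n => S) j)).Normal).eq_bot_or_eq_top.resolve_left
      (fun h => hs ?_)
    rw [← Subgroup.mem_bot, ← h]; exact hjs
  have h2 : ∀ (l : Fin n) (t : S), (Pi.mulSingle l t : Fin n → S) ∈ H := by
    intro l t
    have h3 : (Pi.mulSingle j t : Fin n → S) ∈ H := (h1 ▸ Subgroup.mem_top t :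
      t ∈ H.comap (MonoidHom.mulSingle (fun _ : Fin n => S) j))
    convert hchar (MulEquiv.arrowCongr (Equiv.swap j l) (MulEquiv.refl S)) _ h3
    funext m
    by_cases hm : m = l
    · subst hm; simp
    · have : Equiv.swap j l m ≠ j := by
        intro h
        rw [Equiv.swap_apply_eq_iff, Equiv.swap_apply_left] at h
        exact hm h
      simp [Pi.mulSingle_eq_of_ne hm, Pi.mulSingle_eq_of_ne this]
  rw [eq_top_iff]
  intro y _
  have hy : y ∈ Subgroup.pi Set.univ (fun i => H.comap (MonoidHom.mulSingle (fun _ : Fin n => S) i)) :=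
    fun l _ => h2 l _
  exact (Subgroup.pi_le_iff.2 (fun i => Subgroup.map_comap_le _ _)) hy

/-- A non-trivial finite group G is characteristically simple (its only characteristic subgroups are 1 and G) if and only if G is isomorphic to a direct power S^n (n ≥ 1) of some simple group S (possibly cyclic of prime order). -/
theorem result {G : Type*} [Group G] [Finite G] [Nontrivial G] :
    (∀ H : Subgroup G, H.Characteristic → H = ⊥ ∨ H = ⊤) ↔
    ∃ (S : Type) (_ : Group S) (_ : IsSimpleGroup S) (n : ℕ), 1 ≤ n ∧ Nonempty (G ≃* (Fin n → S)) := by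
  classical
  constructor
  · intro hG
    obtain ⟨N, hN⟩ := H3.exists_isMinNormal G
    have hfin : (Set.range (fun α : G ≃* G => N.map α.toMonoidHom)).Finite := Set.toFinite _
    have hmem : ∀ M, M ∈ hfin.toFinset ↔ ∃ α : G ≃* G, N.map α.toMonoidHom = M := fun M => by
      rw [Set.Finite.mem_toFinset]; rfl
    have htop : hfin.toFinset.sup id = ⊤ := by
      refine (hG _ ?_).resolve_left (fun h => hN.ne_bot ?_)
      · rw [Subgroup.characteristic_iff_map_le]
        intro β
        rw [Subgroup.map_le_iff_le_comap, Finset.sup_le_iff]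
        intro M hM
        obtain ⟨α, rfl⟩ := (hmem M).1 hM
        rw [← Subgroup.map_le_iff_le_comap, id, Subgroup.map_map]
        exact Finset.le_sup (f := id) ((hmem _).2 ⟨α.trans β, rfl⟩)
      · rw [eq_bot_iff, ← h]
        exact Finset.le_sup (f := id) ((hmem _).2 ⟨MulEquiv.refl G, Subgroup.map_id N⟩)
    have hsimple : IsSimpleGroup N := by
      have := hN.nontrivial
      refine ⟨fun K hK => ?_⟩
      have hn : (K.map N.subtype).Normal := by
        rw [← Subgroup.normalizer_eq_top_iff, eq_top_iff, ← htop, Finset.sup_le_iff]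
        intro M hM
        obtain ⟨α, rfl⟩ := (hmem M).1 hM
        by_cases he : N.map α.toMonoidHom = N
        · rw [id, he]
          have h1 := Subgroup.le_normalizer_map (H := K) N.subtype
          rwa [Subgroup.normalizer_eq_top_iff.2 hK, ← MonoidHom.range_eq_map, Subgroup.range_subtype] at h1
        · exact ((isMinNormal_map hN α).le_centralizer_of_ne hN he).trans
            ((Subgroup.centralizer_le (Subgroup.map_subtype_le K)).trans (Subgroup.centralizer_le_normalizer _))
      rcases hN.eq_bot_or_eq _ hn (Subgroup.map_subtype_le K) with h | h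
      · left; exact (Subgroup.map_eq_bot_iff_of_injective _ N.subtype_injective).1 h
      · right
        apply Subgroup.map_injective N.subtype_injective
        rw [h, ← MonoidHom.range_eq_map, Subgroup.range_subtype]
    let e : Shrink.{0} N ≃* N := Shrink.mulEquiv
    obtain ⟨-, k, φ, hφ, hr⟩ := join_power (S := Shrink.{0} N) hfin.toFinset (fun M hM => by
      obtain ⟨α, rfl⟩ := (hmem M).1 hM
      exact ⟨isMinNormal_map hN α, ⟨e.trans (α.subgroupMap N)⟩⟩)
    rw [htop, MonoidHom.range_eq_top] at hr
    refine ⟨Shrink.{0} N, inferInstance, e.isSimpleGroup, k, ?_, ⟨(MulEquiv.ofBijective φ ⟨hφ, hr⟩).symm⟩⟩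
    rcases Nat.eq_zero_or_pos k with rfl | h
    · exact absurd (hr.subsingleton) (not_subsingleton G)
    · exact h
  · rintro ⟨S, _, _, n, -, ⟨e⟩⟩ H hH
    have h1 : (H.map e.toMonoidHom).Characteristic := by
      rw [Subgroup.characteristic_iff_map_le]
      rintro β _ ⟨_, ⟨h, hh, rfl⟩, rfl⟩
      exact ⟨_, Subgroup.characteristic_iff_le_comap.1 hH ((e.trans β).trans e.symm) hh, by simp⟩
    rcases power_charSimple _ h1 with h | h
    · left; exact (Subgroup.map_eq_bot_iff_of_injective _ e.injective).1 h
    · right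
      apply Subgroup.map_injective (f := e.toMonoidHom) e.injective
      rw [h, Subgroup.map_top_of_surjective _ e.surjective]

end Cfsg.Agent.S5914
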