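import Mathlib
import Cfsg.Statements.S0256
import Cfsg.Agent.Lib.GL.AltIso2
-- import your own Cfsg.Agent.* helpers here

set_option autoImplicit false
open Cfsg

namespace Cfsg.Agent.S0256

/-- Conwell's eight heptads of alternating forms, permuted by `SL₄(2)`. -/
def blk : Fin 8 → Fin 7 → Matrix (Fin 4) (Fin 4) (ZMod 2) :=
  ![![!![0, 0, 0, 1; 0, 0, 1, 0; 0, 1, 0, 0; 1, 0, 0, 0],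
      !![0, 0, 1, 0; 0, 0, 1, 1; 1, 1, 0, 0; 0, 1, 0, 0],
      !![0, 0, 1, 1; 0, 0, 0, 1; 1, 0, 0, 1; 1, 1, 1, 0],
      !![0, 1, 0, 0; 1, 0, 1, 1; 0, 1, 0, 1; 0, 1, 1, 0],
      !![0, 1, 0, 1; 1, 0, 0, 0; 0, 0, 0, 1; 1, 0, 1, 0],
      !![0, 1, 1, 0; 1, 0, 1, 0; 1, 1, 0, 1; 0, 0, 1, 0],
      !![0, 1, 1, 1; 1, 0, 0, 1; 1, 0, 0, 0; 1, 1, 0, 0]],
    ![!![0, 0, 0, 1; 0, 0, 1, 1; 0, 1, 0, 0; 1, 1, 0, 0],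
      !![0, 0, 1, 0; 0, 0, 0, 1; 1, 0, 0, 1; 0, 1, 1, 0],
      !![0, 0, 1, 1; 0, 0, 1, 0; 1, 1, 0, 0; 1, 0, 0, 0],
      !![0, 1, 0, 0; 1, 0, 1, 0; 0, 1, 0, 1; 0, 0, 1, 0],
      !![0, 1, 0, 1; 1, 0, 0, 0; 0, 0, 0, 1; 1, 0, 1, 0],
      !![0, 1, 1, 0; 1, 0, 0, 1; 1, 0, 0, 0; 0, 1, 0, 0],
      !![0, 1, 1, 1; 1, 0, 1, 1; 1, 1, 0, 1; 1, 1, 1, 0]],
    ![!![0, 0, 0, 1; 0, 0, 1, 1; 0, 1, 0, 1; 1, 1, 1, 0],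
      !![0, 0, 1, 0; 0, 0, 0, 1; 1, 0, 0, 1; 0, 1, 1, 0],
      !![0, 0, 1, 1; 0, 0, 1, 0; 1, 1, 0, 1; 1, 0, 1, 0],
      !![0, 1, 0, 0; 1, 0, 0, 0; 0, 0, 0, 1; 0, 0, 1, 0],
      !![0, 1, 0, 1; 1, 0, 1, 0; 0, 1, 0, 0; 1, 0, 0, 0],
      !![0, 1, 1, 0; 1, 0, 1, 1; 1, 1, 0, 0; 0, 1, 0, 0],
      !![0, 1, 1, 1; 1, 0, 0, 1; 1, 0, 0, 0; 1, 1, 0, 0]],
    ![!![0, 0, 0, 1; 0, 0, 1, 0; 0, 1, 0, 0; 1, 0, 0, 0],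
      !![0, 0, 1, 0; 0, 0, 1, 1; 1, 1, 0, 1; 0, 1, 1, 0],
      !![0, 0, 1, 1; 0, 0, 0, 1; 1, 0, 0, 0; 1, 1, 0, 0],
      !![0, 1, 0, 0; 1, 0, 1, 0; 0, 1, 0, 1; 0, 0, 1, 0],
      !![0, 1, 0, 1; 1, 0, 0, 1; 0, 0, 0, 1; 1, 1, 1, 0],
      !![0, 1, 1, 0; 1, 0, 1, 1; 1, 1, 0, 0; 0, 1, 0, 0],
      !![0, 1, 1, 1; 1, 0, 0, 0; 1, 0, 0, 1; 1, 0, 1, 0]],
    ![!![0, 0, 0, 1; 0, 0, 1, 1; 0, 1, 0, 0; 1, 1, 0, 0],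
      !![0, 0, 1, 0; 0, 0, 0, 1; 1, 0, 0, 0; 0, 1, 0, 0],
      !![0, 0, 1, 1; 0, 0, 1, 0; 1, 1, 0, 1; 1, 0, 1, 0],
      !![0, 1, 0, 0; 1, 0, 1, 1; 0, 1, 0, 1; 0, 1, 1, 0],
      !![0, 1, 0, 1; 1, 0, 0, 1; 0, 0, 0, 1; 1, 1, 1, 0],
      !![0, 1, 1, 0; 1, 0, 0, 0; 1, 0, 0, 1; 0, 0, 1, 0],
      !![0, 1, 1, 1; 1, 0, 1, 0; 1, 1, 0, 0; 1, 0, 0, 0]],
    ![!![0, 0, 0, 1; 0, 0, 1, 0; 0, 1, 0, 1; 1, 0, 1, 0],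
      !![0, 0, 1, 0; 0, 0, 1, 1; 1, 1, 0, 0; 0, 1, 0, 0],
      !![0, 0, 1, 1; 0, 0, 0, 1; 1, 0, 0, 0; 1, 1, 0, 0],
      !![0, 1, 0, 0; 1, 0, 0, 1; 0, 0, 0, 1; 0, 1, 1, 0],
      !![0, 1, 0, 1; 1, 0, 1, 0; 0, 1, 0, 0; 1, 0, 0, 0],
      !![0, 1, 1, 0; 1, 0, 0, 0; 1, 0, 0, 1; 0, 0, 1, 0],
      !![0, 1, 1, 1; 1, 0, 1, 1; 1, 1, 0, 1; 1, 1, 1, 0]],
    ![!![0, 0, 0, 1; 0, 0, 1, 1; 0, 1, 0, 1; 1, 1, 1, 0],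
      !![0, 0, 1, 0; 0, 0, 0, 1; 1, 0, 0, 0; 0, 1, 0, 0],
      !![0, 0, 1, 1; 0, 0, 1, 0; 1, 1, 0, 0; 1, 0, 0, 0],
      !![0, 1, 0, 0; 1, 0, 0, 1; 0, 0, 0, 1; 0, 1, 1, 0],
      !![0, 1, 0, 1; 1, 0, 1, 1; 0, 1, 0, 0; 1, 1, 0, 0],
      !![0, 1, 1, 0; 1, 0, 1, 0; 1, 1, 0, 1; 0, 0, 1, 0],
      !![0, 1, 1, 1; 1, 0, 0, 0; 1, 0, 0, 1; 1, 0, 1, 0]],
    ![!![0, 0, 0, 1; 0, 0, 1, 0; 0, 1, 0, 1; 1, 0, 1, 0],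
      !![0, 0, 1, 0; 0, 0, 1, 1; 1, 1, 0, 1; 0, 1, 1, 0],
      !![0, 0, 1, 1; 0, 0, 0, 1; 1, 0, 0, 1; 1, 1, 1, 0],
      !![0, 1, 0, 0; 1, 0, 0, 0; 0, 0, 0, 1; 0, 0, 1, 0],
      !![0, 1, 0, 1; 1, 0, 1, 1; 0, 1, 0, 0; 1, 1, 0, 0],
      !![0, 1, 1, 0; 1, 0, 0, 1; 1, 0, 0, 0; 0, 1, 0, 0],
      !![0, 1, 1, 1; 1, 0, 1, 0; 1, 1, 0, 0; 1, 0, 0, 0]]]

theorem blk_inj : ∀ i, Function.Injective (blk i) := by decide +kernel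

theorem blk_sep : ∀ i j, (∀ a, ∃ b, blk i a = blk j b) → i = j := by decide +kernel

theorem blk_perm : ∀ (k l : Fin 4) (_ : k ≠ l) (c : ZMod 2) i, ∃ j, ∀ a, ∃ b,
    H10.tform k l c (blk i a) = blk j b := by
  decide +kernel

theorem blk_ne : ¬ ∀ a, ∃ b, H10.tform 0 1 (1 : ZMod 2) (blk 0 a) = blk 0 b := by
  decide +kernel

/-- PSL_4(2) is isomorphic to A_8. -/
theorem result {F : Type*} [Field F] [Fintype F] (hF : Fintype.card F = 2) : Nonempty (Matrix.ProjectiveSpecialLinearGroup (Fin 4) F ≃* alternatingGroup (Fin 8)) := by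
  have hq : Nat.card F = 2 := by rw [Nat.card_eq_fintype_card, hF]
  obtain ⟨e⟩ := H10.nonempty_ringEquiv_zmod 2 hq
  have h5 : Nat.card (ZMod 2) = 2 := Nat.card_zmod 2
  obtain ⟨f⟩ := H10.nonempty_PSL_equiv_alternating_of_blocks blk blk_inj blk_sep blk_perm
    zero_ne_one blk_ne
    (H10.commutator_SL_fin_eq_top 4 (fun h => by omega)) (by
      have h1 := H10.card_PSL_fin (F := ZMod 2) 4 (by norm_num)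
      have h2 := H10.card_alternatingGroup_fin 8 (by norm_num)
      rw [h5] at h1
      rw [show Nat.gcd 4 (2 - 1) = 1 by norm_num,
        show ∏ i : Fin 4, (2 ^ 4 - 2 ^ (i : ℕ)) = 20160 by decide] at h1
      rw [show Nat.factorial 8 = 40320 from rfl] at h2
      omega)
  exact ⟨(H10.pslCongr e).trans f⟩

end Cfsg.Agent.S0256
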