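import Cfsg.Statements.S3109
import Mathlib
import Cfsg.Agent.Lib.CompW.Key2
import Cfsg.Agent.Lib.CompW.KeyFT
import Cfsg.Agent.Lib.CompW.KeySE
import Cfsg.Agent.Lib.CompW.Scn

set_option autoImplicit false
open Cfsg

namespace Cfsg.Agent.S3109

/-- Let G be a non-abelian finite simple group in which every 2-local subgroup is 2-constrained, and suppose some Sylow 2-subgroup S of G has a self-centralizing abelian normal subgroup A (C_S(A) = A) of 2-rank at least 3. Then the centralizer of every involution of G has no nontrivial normal subgroup of odd order. -/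
theorem result {G : Type*} [Group G] [Finite G] [IsSimpleGroup G] (hG : ¬ IsMulCommutative G)
    (h2c : ∀ T : Subgroup G, IsPGroup 2 T → T ≠ ⊥ → Cfsg.IsPConstrained 2 ↥(Subgroup.normalizer (T : Set G)))
    (S : Sylow 2 G) (A : Subgroup ↥(S : Subgroup G)) (hAn : A.Normal) (hAab : IsMulCommutative ↥A)
    (hAC : Subgroup.centralizer (A : Set ↥(S : Subgroup G)) = A) (hA3 : ¬ Cfsg.PRankLE 2 2 ↥A) :
    ∀ t : G, orderOf t = 2 → Cfsg.centralizerPPrimeCore 2 t = ⊥ := by

  intro t ht
  have h := H3.CW.core_le_of_constrained (H3.CW.sft2 G) (H3.CW.seCore G)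
    (fun t _ => (H3.CW.ft G).coreOf _) (fun t ht => H3.CW.pLayerOf_centralizer_of_locals h2c ht)
    (H68.sylowIn_top S) (H3.CW.conn_of_normal_abelian S.isPGroup' A hAn hAab hA3) ht
  rcases (inferInstance : (Cfsg.pPrimeCore 2 G).Normal).eq_bot_or_eq_top with h1 | h1
  · rwa [h1, le_bot_iff] at h
  · exfalso
    have h2 := H44.coprime_card_pPrimeCore 2 G
    rw [h1, Subgroup.card_top] at h2
    have h3 := orderOf_dvd_natCard t
    rw [ht] at h3
    exact Nat.prime_two.coprime_iff_not_dvd.1 h2.symm h3

end Cfsg.Agent.S3109
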