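import Cfsg.Statements.S3198
import Cfsg.Agent.Lib.TE.L34b
import Cfsg.Agent.Lib.AutCl.PSLOut

set_option autoImplicit false
open Cfsg

namespace Cfsg.Agent.S3198

open Subgroup H69 H45 Gold H55.Two
open scoped MatrixGroups

universe u

theorem aut_sq {F : Type*} [Field F] [Fintype F] (hF : Fintype.card F = 4) (β : MulAut PSL(3, F)) :
    β * β ∈ (H67.pslInn (Fin 3) F).range := by
  obtain ⟨α, hα⟩ := exists_F4 hF
  haveI := H67.normal_range_pslInn (ι := Fin 3) (F := F) (by simp)
  obtain ⟨d, hd, ⟨σ, ε⟩, rfl⟩ := H67.psl_aut_outer (by simp) β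
  have h1 : σ * σ = 1 := RingEquiv.ext fun s => by
    induction s using hα.ind with
    | h1 => simp
    | h3 s t hs ht => rw [map_add, map_add, hs, ht]
    | h2 =>
      have h2 := congrArg σ hα.sq
      rw [map_mul, map_add, map_one] at h2
      have h3 := hα.two
      change σ (σ α) = α
      rcases hα.all (σ α) with e | e | e | e
      · simp [e] at h2
      · rw [e, h3] at h2; simp at h2
      · rw [e, e]
      · rw [e, map_add, e, map_one, add_assoc, h3, add_zero]
  have h0 : ∀ ε : Multiplicative (ZMod 2), ε * ε = 1 := by decide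
  have h2 : H67.pslOuter (Fin 3) F (σ, ε) * H67.pslOuter (Fin 3) F (σ, ε) = 1 := by
    rw [← map_mul, show (σ, ε) * (σ, ε) = 1 from Prod.ext h1 (h0 ε), map_one]
  have := mul_mem hd (Normal.conj_mem inferInstance d hd (H67.pslOuter (Fin 3) F (σ, ε)))
  rw [inv_eq_of_mul_eq_one_right h2] at this
  simpa only [mul_assoc] using this

variable {G : Type u} [Group G] [Finite G] {F : Type*} [Field F] [Fintype F]

theorem simple_case (hF : Fintype.card F = 4) (hO : pPrimeCore 2 G = ⊥) {X : Subgroup G} [X.Normal]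
    (hX : ¬ 2 ∣ X.index) (e : X ≃* PSL(3, F)) (hZ : center X = ⊥) :
    ∃ f : G →* GL (Fin 3) F ⧸ center (GL (Fin 3) F), Function.Injective f := by
  let φ : G →* MulAut PSL(3, F) := (MulAut.congr e).toMonoidHom.comp MulAut.conjNormal
  have h1 : Function.Injective φ := (MulAut.congr e).injective.comp ((MonoidHom.ker_eq_bot_iff _).1
    (eq_bot_iff.2 (hO ▸ H1.le_pPrimeCore_of_not_dvd fun hd => ?_)))
  · have h2 : ∀ g, φ g ∈ (H67.pslInn (Fin 3) F).range := fun g => by
      obtain ⟨j, hj⟩ := Nat.not_even_iff_odd.1 (mt Even.two_dvd hX)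
      obtain ⟨s, hs⟩ := QuotientGroup.mk_surjective (e ⟨_, X.pow_index_mem g⟩)
      have h3 : φ (g ^ X.index) ∈ (H67.pslInn (Fin 3) F).range := ⟨_, (H67.pslInn_toGL s).trans (by
        ext y
        obtain ⟨y, rfl⟩ := e.surjective y
        simp only [hs, MulAut.conj_apply, ← map_mul, ← map_inv]
        change _ = e (MulAut.conjNormal (g ^ X.index) (e.symm (e y)))
        rw [e.symm_apply_apply]
        rfl)⟩
      have := mul_mem (inv_mem (pow_mem (aut_sq hF (φ g)) j)) h3
      rwa [hj, map_pow, pow_succ, pow_mul, pow_two, inv_mul_cancel_left] at this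
    let ψ := (QuotientGroup.quotientMulEquivOfEq (H67.ker_pslInn (ι := Fin 3) (F := F)
      (by simp)).symm).trans (QuotientGroup.quotientKerEquivRange _)
    exact ⟨ψ.symm.toMonoidHom.comp (φ.codRestrict _ h2),
      ψ.symm.injective.comp ((φ.injective_codRestrict _ h2).2 h1)⟩
  · obtain ⟨⟨t, ht⟩, h2⟩ := exists_prime_orderOf_dvd_card' 2 hd
    rw [← orderOf_coe] at h2
    obtain ⟨j, hj⟩ := Nat.not_even_iff_odd.1 (mt Even.two_dvd hX)
    have h3 := X.pow_index_mem t
    rw [hj, pow_succ, pow_mul, pow_two, H9.mul_self_of_orderOf_two h2, one_pow, one_mul] at h3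
    have : (⟨t, h3⟩ : X) ∈ center X := mem_center_iff.2 fun y => Subtype.ext (by
      have := congrArg Subtype.val (DFunLike.congr_fun (MonoidHom.mem_ker.1 ht) y)
      exact (mul_inv_eq_iff_eq_mul.1 this).symm)
    rw [hZ, mem_bot] at this
    exact H9.ne_one_of_orderOf_two h2 (congrArg Subtype.val this)

theorem Dc_eq {A B : Subgroup G} (h : T2 A B) (h4 : Nat.card (A ⊓ B : Subgroup G) = 4) :
    Dc A = ⊥ := eq_bot_iff.2 fun d hd => by
  obtain ⟨z, hz, z', hz', h1, h2, h3⟩ := h.exists_notDc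
  rcases c3_four (ea_of_sq fun a (ha : a ∈ A ⊓ B) => h.sqA a ha.1) h4 hz hz' (h.Dc_le hd)
    (fun e => h1 (e ▸ one_mem _)) (fun e => h2 (e ▸ one_mem _))
    (fun e => h3 (by rw [e, h.sqA z hz.1]; exact one_mem _)) with e | e | e | e
  exacts [e, (h1 (e ▸ hd)).elim, (h2 (e ▸ hd)).elim, (h3 (e ▸ hd)).elim]

theorem main (hF : Fintype.card F = 4) (hO : pPrimeCore 2 G = ⊥) {A B : Subgroup G} (h : L34 A B) :
    ∃ f : G →* GL (Fin 3) F ⧸ center (GL (Fin 3) F), Function.Injective f := by
  rcases h.cases h.syl with c | c | c | c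
  · haveI := h.normal hO c
    exact h.affine hF hO
  · haveI := h.symm.normal hO c
    exact h.symm.affine hF hO
  swap
  · have := h.idx
    rw [c.1, h.cZ, h.cB] at this
    omega
  have hX := le_Res2 h.pS
  have t := c.res hX
  have c4 : Nat.card (A.subgroupOf (Res2 G) ⊓ B.subgroupOf (Res2 G) : Subgroup _) = 4 := by
    rw [← h.cZ, ← H69.card_subgroupOf ((inf_le_left.trans le_sup_left).trans hX)]
    rfl
  have hO' : pPrimeCore 2 (Res2 G) = ⊥ := by
    have : Od (Res2 G) = ⊥ :=
      eq_bot_iff.2 (hO ▸ Od_top (G := G) ▸ Od_le_Od le_top le_normalizer_of_normal)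
    exact (map_eq_bot_iff_of_injective _ (subtype_injective _)).1 this
  obtain ⟨K, L, -, h2, h3, h4, -, h5, F', _, _, h6, h7⟩ := t.main hO' fun N hN c' =>
    Res2_top h.syl (f := MonoidHom.id _) Function.surjective_id N hN (by
      rwa [Subgroup.map_id, subgroupOf_sup (le_sup_left.trans hX) (le_sup_right.trans hX)])
  rw [Dc_eq t c4, bot_inf_eq] at h3 h5
  have hK : K = ⊥ := eq_bot_iff.2 (hO' ▸ H1.le_pPrimeCore_of_not_dvd (by
    simpa using h3.not_dvd_relIndex))
  obtain rfl : L = ⊤ := by simpa [hK] using h2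
  have hZ : center (Res2 G) = ⊥ := eq_bot_iff.2 fun z hz =>
    h5 ⟨mem_top _, fun y _ => mem_center_iff.1 hz y⟩
  have hZ' : center (⊤ : Subgroup (Res2 G)) = ⊥ := eq_bot_iff.2 fun z hz =>
    Subtype.ext (h5 ⟨mem_top _, fun y _ => congrArg Subtype.val (mem_center_iff.1 hz ⟨y, mem_top y⟩)⟩)
  let e := ((QuotientGroup.quotientMulEquivOfEq hZ').trans QuotientGroup.quotientBot).trans topEquiv
  have cB : Nat.card (B.subgroupOf (Res2 G)) = 16 := by
    rw [H69.card_subgroupOf (le_sup_right.trans hX), h.cB]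
  rw [c4, cB] at h6
  haveI : IsSimpleGroup (Res2 G) := by
    rcases h7 with ⟨⟨f⟩⟩ | ⟨⟨f⟩⟩
    · haveI := H10.isSimpleGroup_PSL_fin (F := F') 3 (by omega) (by omega)
      exact (e.symm.trans f).isSimpleGroup
    · haveI := Cfsg.Agent.S0270.result (F := F') 2 le_rfl (by omega)
      exact (e.symm.trans f).isSimpleGroup
  obtain ⟨K', _, _, k1, ⟨f⟩⟩ :=
    N3.psl ⟨t.nice, fun t' => Dc_eq t' ((t.card_pair t').2.trans c4)⟩ t
  rw [c4, cB] at k1
  exact simple_case hF hO
    (fun hd => h.syl.not_dvd_relIndex (by simpa using hd.trans (index_dvd_of_le hX)))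
    (f.trans (H10.pslCongr (FiniteField.ringEquivOfCardEq (by omega)))) hZ

set_option maxHeartbeats 200000 in

/-- If G is a finite group whose Sylow 2-subgroups are isomorphic to those of PSL(3, 4), then G modulo its largest normal subgroup of odd order is isomorphic to a subgroup of PGL(3, 4) (the general linear group of dimension 3 over the field with 4 elements modulo its centre). -/
theorem result {G : Type*} [Group G] [Finite G]
    {F : Type*} [Field F] [Fintype F] (hF : Fintype.card F = 4) (S : Sylow 2 G)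
    (P : Sylow 2 (Matrix.ProjectiveSpecialLinearGroup (Fin 3) F))
    (hS : Nonempty (↥(S : Subgroup G) ≃* ↥(P : Subgroup (Matrix.ProjectiveSpecialLinearGroup (Fin 3) F)))) :
    ∃ f : G ⧸ Cfsg.oddCore G →* GL (Fin 3) F ⧸ Subgroup.center (GL (Fin 3) F), Function.Injective f := by
  obtain ⟨e⟩ := hS
  have : CharP F 2 := charP_of_card_eq_prime_pow (f := 2) hF
  obtain ⟨π, h, hc⟩ := tm_psl P
  set f := QuotientGroup.mk' (pPrimeCore 2 G)
  have h1 := (isSylowIn_top S).map f
  rw [map_top_of_surjective f (QuotientGroup.mk'_surjective _)] at h1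
  have hi : Function.Injective (f.subgroupMap S) := (injective_iff_map_eq_one _).2 fun x hx => by
    have h4 : (x : G) ∈ (S : Subgroup G) ⊓ pPrimeCore 2 G :=
      ⟨x.2, (QuotientGroup.eq_one_iff _).1 (congrArg Subtype.val hx)⟩
    rw [H1.inf_pPrimeCore_eq_bot S.isPGroup'] at h4
    exact Subtype.ext h4
  let e' := (MulEquiv.ofBijective _ ⟨hi, f.subgroupMap_surjective S⟩).symm.trans e
  obtain ⟨A, B, t, h2, h3, h4⟩ := (h.comp e').te
  rw [← Nat.card_congr e'.toEquiv] at hc
  rw [Nat.card_eq_fintype_card (α := F), hF, ← h2] at h3 h4 hc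
  have i1 := t.idx
  have i2 := H3.relIndex_mul_card (le_sup_left : A ≤ A ⊔ B)
  have i3 := H3.relIndex_mul_card (le_sup_right : B ≤ A ⊔ B)
  rw [h3] at i1 i2
  rw [h4] at i3
  have c1 : Nat.card A = 16 := by omega
  have c2 : Nat.card B = 16 := by omega
  have c3 : Nat.card (A ⊓ B : Subgroup _) = 4 := by omega
  exact main hF H1.pPrimeCore_quotient_pPrimeCore ⟨t, h2 ▸ h1, c1, c2, c3⟩

end Cfsg.Agent.S3198
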