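import Cfsg.Statements.S3103
import Mathlib
import Cfsg.Agent.Lib.TwoGrp.Sec4A8

set_option autoImplicit false
open Cfsg

namespace Cfsg.Agent.S3103

/-- Let X be a finite 2-constrained group with no nontrivial normal subgroup of odd order such that O₂(X) has sectional 2-rank at most 4. Then X/O₂(X) is isomorphic to a subgroup of the alternating group of degree 8. -/
theorem result {X : Type*} [Group X] [Finite X] (hc : Cfsg.IsPConstrained 2 X) (hO : Cfsg.oddCore X = ⊥)
    (h4 : Cfsg.SectionalPRankLE 2 4 ↥(Cfsg.pCore 2 X)) :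
    ∃ f : X ⧸ Cfsg.pCore 2 X →* ↥(alternatingGroup (Fin 8)), Function.Injective f := by
  haveI : Fact (Nat.Prime 2) := ⟨Nat.prime_two⟩
  obtain ⟨f, hf⟩ := H13.TG.exists_hom_A8 (H13.TG.centralizer_pCore_le hc (H13.TG.pPrimeCore_two_eq_bot hO))
    (H83.sr_of_sectional h4)
  refine ⟨QuotientGroup.lift _ f fun x hx => hf.ge hx, (injective_iff_map_eq_one _).2 fun x hx => ?_⟩
  obtain ⟨x, rfl⟩ := QuotientGroup.mk_surjective x
  exact (QuotientGroup.eq_one_iff x).2 (hf.le hx)

end Cfsg.Agent.S3103
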