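import Mathlib
import Cfsg.Statements.S3104
import Cfsg.Agent.Lib.FGS83.R4H
import Cfsg.Agent.S0255
import Cfsg.Agent.S0495
import Cfsg.Agent.S3103

set_option autoImplicit false
open Cfsg

namespace Cfsg.Agent.S3104


/-- Let X be a finite nonsolvable 2-constrained group with no nontrivial normal subgroup of odd order such that O₂(X) has sectional 2-rank at most 4, and write Q for X/O₂(X). Then Q is isomorphic to the projective special linear group of dimension 3 over the field with 2 elements, to an alternating group of degree n with 5 ≤ n ≤ 8, to a symmetric group of degree n with 5 ≤ n ≤ 7, or else O₃(Q) has order 3 and Q/O₃(Q) is isomorphic to the alternating or the symmetric group of degree 5 (so Q is the direct product of a group of order 3 with the alternating group of degree 5, or an extension of that direct product by a group of order 2). If moreover X itself has sectional 2-rank at most 4, then Q is not isomorphic to the symmetric group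 of degree 6 or 7 nor to the alternating group of degree 8. -/
theorem result {X : Type*} [Group X] [Finite X] (hns : ¬ Group.IsSolvable X) (hc : Cfsg.IsPConstrained 2 X) (hO : Cfsg.oddCore X = ⊥)
    (h4 : Cfsg.SectionalPRankLE 2 4 ↥(Cfsg.pCore 2 X)) :
    ((∃ (F : Type) (_ : Field F) (_ : Fintype F), Fintype.card F = 2 ∧
          Nonempty (X ⧸ Cfsg.pCore 2 X ≃* Matrix.ProjectiveSpecialLinearGroup (Fin 3) F)) ∨
        (∃ n : ℕ, 5 ≤ n ∧ n ≤ 8 ∧ Nonempty (X ⧸ Cfsg.pCore 2 X ≃* ↥(alternatingGroup (Fin n)))) ∨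
        (∃ n : ℕ, 5 ≤ n ∧ n ≤ 7 ∧ Nonempty (X ⧸ Cfsg.pCore 2 X ≃* Equiv.Perm (Fin n))) ∨
        (Nat.card ↥(Cfsg.pCore 3 (X ⧸ Cfsg.pCore 2 X)) = 3 ∧
          (Nonempty ((X ⧸ Cfsg.pCore 2 X) ⧸ Cfsg.pCore 3 (X ⧸ Cfsg.pCore 2 X) ≃* ↥(alternatingGroup (Fin 5))) ∨
            Nonempty ((X ⧸ Cfsg.pCore 2 X) ⧸ Cfsg.pCore 3 (X ⧸ Cfsg.pCore 2 X) ≃* Equiv.Perm (Fin 5))))) ∧
      (Cfsg.SectionalPRankLE 2 4 X →
        ¬ (Nonempty (X ⧸ Cfsg.pCore 2 X ≃* Equiv.Perm (Fin 6)) ∨ Nonempty (X ⧸ Cfsg.pCore 2 X ≃* Equiv.Perm (Fin 7)) ∨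
            Nonempty (X ⧸ Cfsg.pCore 2 X ≃* ↥(alternatingGroup (Fin 8))))) := by
  haveI : Fact (Nat.Prime 2) := ⟨Nat.prime_two⟩
  obtain ⟨f, hf⟩ := Cfsg.Agent.S3103.result hc hO h4
  have hns' : ¬ Group.IsSolvable (X ⧸ Cfsg.pCore 2 X) := fun h => by
    haveI := (H1.isPGroup_pCore (p := 2) (G := X)).isNilpotent
    exact hns (solvable_of_ker_le_range (Cfsg.pCore 2 X).subtype (QuotientGroup.mk' (Cfsg.pCore 2 X)) (by simp))
  refine ⟨?_, fun h4' h => ?_⟩
  · by_cases hsol : ∀ K : Subgroup (X ⧸ Cfsg.pCore 2 X), K.Normal → Group.IsSolvable K → K = ⊥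
    · haveI : Nontrivial (X ⧸ Cfsg.pCore 2 X) := by
        by_contra hn
        rw [not_nontrivial_iff_subsingleton] at hn
        exact hns' inferInstance
      rcases H81.A8.classify f hf hsol with h | h | h | ⟨h, h'⟩
      · exact Or.inr (Or.inl h)
      · exact Or.inr (Or.inr (Or.inl ⟨5, le_rfl, by norm_num, h⟩))
      · exact Or.inr (Or.inr (Or.inl ⟨6, by norm_num, by norm_num, h⟩))
      · haveI : Fact (Nat.Prime 7) := ⟨by norm_num⟩
        obtain ⟨e3⟩ := Cfsg.Agent.S0495.result h' (F := ZMod 7) (by simp)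
        obtain ⟨e4⟩ := Cfsg.Agent.S0255.result (F := ZMod 7) (K := ZMod 2) (by simp) (by simp)
        exact Or.inl ⟨ZMod 2, inferInstance, inferInstance, by simp, ⟨e3.trans e4⟩⟩
    · push Not at hsol
      obtain ⟨K, hK, hs, hne⟩ := hsol
      exact Or.inr (Or.inr (Or.inr (H83.R4.z3_case f hf hns' H1.pCore_quotient_pCore hne hs)))
  · have key := fun ι hι => H83.R4.no_s6' H1.isPGroup_pCore
      (H13.TG.centralizer_pCore_le hc (H13.TG.pPrimeCore_two_eq_bot hO)) (H83.sr_of_sectional h4') ι hι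
    rcases h with ⟨⟨e⟩⟩ | ⟨⟨e⟩⟩ | ⟨⟨e⟩⟩
    · exact key e.symm.toMonoidHom e.symm.injective
    · exact key (e.symm.toMonoidHom.comp (Equiv.Perm.viaEmbeddingHom Fin.castSuccEmb))
        (e.symm.injective.comp (Equiv.Perm.viaEmbeddingHom_injective _))
    · obtain ⟨g, hg⟩ := H83.R4.exists_s6_a8
      exact key (e.symm.toMonoidHom.comp g) (e.symm.injective.comp hg)

end Cfsg.Agent.S3104
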