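import Cfsg.Statements.S3099
import Mathlib
import Cfsg.Agent.Lib.GWCor.Quat

set_option autoImplicit false
open Cfsg

namespace Cfsg.Agent.S3099

/-- Let X be a finite perfect group of 2-rank exactly 1 (X has even order and contains no Klein four-group). Then X modulo its largest normal subgroup of odd order is isomorphic to the special linear group of dimension 2 over a field with q elements for some odd q > 3, or is a non-split double cover of the alternating group of degree 7. -/
theorem result {X : Type*} [Group X] [Finite X] (hP : Group.IsPerfect X) (h1 : Cfsg.PRankLE 2 1 X) (h2 : Even (Nat.card X)) :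
    (∃ (F : Type) (_ : Field F) (_ : Fintype F), Odd (Fintype.card F) ∧ 3 < Fintype.card F ∧
        Nonempty (X ⧸ Cfsg.oddCore X ≃* Matrix.SpecialLinearGroup (Fin 2) F)) ∨
      Cfsg.IsNonsplitDoubleCover (X ⧸ Cfsg.oddCore X) ↥(alternatingGroup (Fin 7)) := by
  have hr : H41.RankOne X := H41.rankOne_of_no_klein fun E hE => by
    have := h1 E IsKleinFour.isMulCommutative fun a ha => congrArg Subtype.val
      (show (⟨a, ha⟩ : E) ^ 2 = 1 from IsKleinFour.exponent_two (G := E) ▸ Monoid.pow_exponent_eq_one _)
    rw [hE.card_four] at this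
    omega
  have ho := H1.odd_card_oddCore (G := X)
  have he : Even (Nat.card (X ⧸ oddCore X)) := by
    rw [Subgroup.card_eq_card_quotient_mul_card_subgroup (oddCore X), Nat.even_mul] at h2
    exact h2.resolve_right (Nat.not_even_iff_odd.2 ho)
  have hO : pPrimeCore 2 (X ⧸ oddCore X) = ⊥ := H1.pPrimeCore_quotient_pPrimeCore
  obtain ⟨z, Q, _, _, f, h⟩ := H29.exists_cov' (hr.quotient (oddCore X)
    (Nat.two_dvd_ne_zero.2 (Nat.odd_iff.1 ho))) hO he
  have hp : Group.IsPerfect (X ⧸ oddCore X) := inferInstance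
  have : Group.IsPerfect Q := Group.IsPerfect.ofSurjective h.surj
  have : Nontrivial (X ⧸ oddCore X) := ⟨⟨z, 1, h.ne⟩⟩
  have : Nontrivial Q := not_subsingleton_iff_nontrivial.1 fun _ =>
    Group.IsPerfect.not_isSolvable (X ⧸ oddCore X) (h.isSolvable_iff.2 inferInstance)
  have hL := h.d2.isL (h.core hO)
  have := H29.isSimpleGroup_of_isL hL
  have hc := h.center_eq H29.center_eq_bot_of_simple
  rcases hL with ⟨F, _, _, h3, h4, ⟨e⟩⟩ | ⟨⟨e⟩⟩
  · exact Or.inl ⟨F, inferInstance, inferInstance, h3, h4,
      h.sl (by rwa [Nat.card_eq_fintype_card]) e⟩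
  refine Or.inr ⟨by rw [hc, Nat.card_zpowers, h.ord], ⟨((QuotientGroup.quotientMulEquivOfEq
    (hc.trans h.ker_eq.symm)).trans (QuotientGroup.quotientKerEquivOfSurjective f h.surj)).trans e⟩,
    fun L hL => ?_⟩
  exact H29.index_ne_two_of_perfect hp.commutator_eq_top L
    (by rw [hL.index_eq_card, hc, Nat.card_zpowers, h.ord])

end Cfsg.Agent.S3099
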