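import Cfsg.Statements.S2043
import Cfsg.Agent.Lib.Schur.Perf
import Cfsg.Agent.Lib.Schur.MulCo0x2
import Cfsg.Agent.Lib.Schur.MulCo0x3
import Cfsg.Agent.Lib.Schur.MulCo0x5
import Cfsg.Agent.Lib.Schur.MulCo0x7

set_option autoImplicit false
open Cfsg

namespace Cfsg.Agent.S2043

/-- The Schur multiplier of the Conway group Co₁ (the automorphism group of the rank-24 lattice modulo its centre) is cyclic of order 2; here the Schur multiplier is described through stem extensions, as in the definitions: surjective homomorphisms onto the group from a finite group, whose kernel is central in that finite group and contained in that finite group's commutator subgroup. -/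
theorem result : Cfsg.HasCyclicSchurMultiplier Cfsg.Spor.Co1 2 :=
  H60.hasCyclic_of_univ H60.stem_Co0 H60.perfect_Co0
    (H60.hasSchur_of_mulEquiv Subgroup.topEquiv
      (H60.hasCyclic_of_bounds (Subgroup.card_top.trans H16.card_Co0) (ps := [2, 3, 5, 7]) (by decide +kernel) 1
        (H60.forall_mem_four (.zero H60.Co0.d2_exp) (.zero H60.Co0.d3_exp) (.zero H60.Co0.d5_exp)
          (.zero H60.Co0.d7_exp)) H60.lowB_one))
    Nat.prime_two (by rw [QuotientGroup.ker_mk', H16.card_center])

end Cfsg.Agent.S2043
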