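import Cfsg.Statements.S2048
import Mathlib
import Cfsg.Agent.Lib.SuzSp.Mult
import Cfsg.Agent.Lib.SuzSp.Co0

set_option autoImplicit false
open Cfsg

open H40.Suz
namespace Cfsg.Agent.S2048

/-- The Schur multiplier of the Suzuki sporadic group (the finitely presented group of the definitions) is cyclic of order 6; here the Schur multiplier is described through stem extensions, as in the definitions: surjective homomorphisms onto the group from a finite group, whose kernel is central in that finite group and contained in that finite group's commutator subgroup. -/
theorem result : Cfsg.HasCyclicSchurMultiplier Cfsg.Spor.Suz 6 := by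

  have := finite
  obtain ⟨ξ, hs, hk⟩ := exists_cover
  exact H60.hasCyclic_of_bounds card (ps := [2, 3, 5]) (by decide +kernel) 6
    (H60.forall_mem_three (.pos 1 (by decide) d2_exp d2_gen) (.pos 1 (by decide) d3_exp d3_gen) (.zero d5_exp))
    (H60.lowB_of_elt ξ hs (hk ▸ N6_le) (hk ▸ z6_mem_N6) z6_mem_commutator
      ((Subgroup.orderOf_mk _ _).trans orderOf_z6))

end Cfsg.Agent.S2048
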