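import Cfsg.Statements.S2177
import Mathlib
import Cfsg.Agent.Lib.Chev.InvolTab
import Cfsg.Agent.Lib.Chev.InvolLen

set_option autoImplicit false
open Cfsg

namespace Cfsg.Agent.S2177

theorem compat : H9.Compat H38.rsG2 H38.tabG2 :=
  ⟨by decide, fun _ _ => rfl, fun _ => rfl, fun _ _ => rfl⟩

/-- representatives -/
def reps : List (List ℕ) := [[11], [9]]

/-- the classification -/
def steps : List H9.Step :=
   [.br [] [] [] [] [] [0, 1],
    .br [11] [] [11] [] [11] [0],
    .tr [11, 7] [7, 11] [] [(3, [9, 5]), (5, [9, 6])] [9, 6],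
    .br [9] [] [9] [] [9] [1],
    .red [9, 6] [9] [8, 4]]

theorem run : H9.runB Lie.chevG2 H38.tabG2 ([] :: reps) steps = true := by decide +kernel

/-- fixed vectors -/
def ker0 : List (ℕ × List ℕ) :=
  [(0, [0]), (6, [6]), (8, [8]), (9, [9]), (10, [10]), (11, [11]), (12, [12]), (13, [13])]

/-- commutators -/
def im0 : List ((ℕ × List ℕ) × List ℕ) :=
  [((13, [13]), [1]), ((8, [8]), [3]), ((10, [10]), [4]), ((11, [11]), [5]), ((12, [12]), [7]), ((0, [0]), [1,
  2])]

theorem rank0 {F : Type*} [Field F] (h : (2 : F) = 0) :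
    (H9.wM Lie.chevG2 F [11] - 1).rank = 6 := by
  have h1 := H9.rank_le H37.tabG2 h (L := [11]) (K := ker0) (by decide +kernel)
  have h2 := H9.le_rank H37.tabG2 h (L := [11]) (I := im0) (by decide +kernel)
  change _ + 8 ≤ 14 at h1
  change 6 ≤ _ at h2
  omega

/-- fixed vectors -/
def ker1 : List (ℕ × List ℕ) :=
  [(1, [1]), (7, [7]), (8, [8]), (11, [11]), (12, [12]), (13, [13]), (9, [5, 9]), (10, [6, 10])]

/-- commutators -/
def im1 : List ((ℕ × List ℕ) × List ℕ) :=
  [((11, [11]), [0]), ((12, [12]), [5]), ((13, [13]), [6]), ((1, [1]), [0, 4]), ((9, [5, 9]), [2, 5]), ((10,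
  [6, 10]), [3, 6])]

theorem rank1 {F : Type*} [Field F] (h : (2 : F) = 0) :
    (H9.wM Lie.chevG2 F [9] - 1).rank = 6 := by
  have h1 := H9.rank_le H37.tabG2 h (L := [9]) (K := ker1) (by decide +kernel)
  have h2 := H9.le_rank H37.tabG2 h (L := [9]) (I := im1) (by decide +kernel)
  change _ + 8 ≤ 14 at h1
  change 6 ≤ _ at h2
  omega

theorem sep {F : Type*} [Field F] {E : H38.Elts H38.rsG2.toRS F (GL Lie.chevG2.Idx F)}
    (hE : H38.IsMat H38.rsG2 E) (h : H9.Two hE.grp)
    (e : IsConj (compat.y hE [11]) (compat.y hE [9])) : H38.tabG2.len 11 = H38.tabG2.len 9 := by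
  have key : ∀ r : Fin Lie.chevG2.nroots, (H38.allLt Lie.chevG2.nroots fun k =>
      H9.commB Lie.chevG2 r k || (H38.allLt 2 fun j => decide (H38.tabG2.rt Lie.chevG2 k j ≤ 0))) = true →
      ∀ k, H38.rsG2.Pos k → ∀ a, Commute (hE.grp.x r 1) (hE.grp.x k a) := by
    intro r hr k hk a
    have := (H38.allLt_iff _ _).1 hr k k.2
    rw [Bool.or_eq_true, H38.allLt_iff] at this
    refine H9.Compat.commB_spec hE h.two (this.resolve_right fun h1 => H38.rsG2.rt_ne_zero k ?_) 1 a
    exact funext fun j => le_antisymm (of_decide_eq_true (h1 j j.2)) ((H38.rsG2.pos_iff k).1 hk j)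
  simp only [H9.Compat.y, List.map_cons, List.map_nil, H9.Y_cons, H9.Y_nil, mul_one] at e
  have := H9.len_eq_of_isConj' h.faith h.top ((H38.rsG2.pos_iff _).2 (by decide +kernel))
    (key _ (by decide +kernel)) e
  rwa [compat.len, compat.len, compat.φ_val (by decide), compat.φ_val (by decide)] at this

/-- Conjugacy classes of involutions in the Chevalley group of type G₂ over a finite field F of characteristic two with at least four elements (the matrix group generated by the root elements x_r(t)). In this problem's root numbering for type G₂ (the Chevalley data module; p₁ = a short, p₂ = b long; roots indexed by coefficient vectors in increasing order) let 11 be the highest root 3a + 2b (long) and 9 the short root 2a + b; consider x_{3a+2b}(1) and x_{2a+b}(1). Then: each invertible matrix equal to one of these two products lies in the group and has order 2; every element of order 2 of the group is conjugate in the group to one of them; and no two of them are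 conjugate in the group (so, the two matrices being distinct, the group has exactly two conjugacy classes of involutions). -/
theorem result {F : Type*} [Field F] [Fintype F] [CharP F 2] (hF : 4 ≤ Fintype.card F) :
    (∀ y : GL Cfsg.Lie.chevG2.Idx F, ((y : GL Cfsg.Lie.chevG2.Idx F) : Matrix Cfsg.Lie.chevG2.Idx Cfsg.Lie.chevG2.Idx F) ∈ [Cfsg.Lie.chevG2.x F 11 1, Cfsg.Lie.chevG2.x F 9 1] → y ∈ Cfsg.Lie.chevG2.group F ∧ orderOf y = 2) ∧
    (∀ g ∈ Cfsg.Lie.chevG2.group F, orderOf g = 2 → ∃ y ∈ Cfsg.Lie.chevG2.group F, ((y : GL Cfsg.Lie.chevG2.Idx F) : Matrix Cfsg.Lie.chevG2.Idx Cfsg.Lie.chevG2.Idx F) ∈ [Cfsg.Lie.chevG2.x F 11 1, Cfsg.Lie.chevG2.x F 9 1] ∧ ∃ h ∈ Cfsg.Lie.chevG2.group F, h * g * h⁻¹ = y) ∧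
    (∀ y₁ ∈ Cfsg.Lie.chevG2.group F, ∀ y₂ ∈ Cfsg.Lie.chevG2.group F, ((y₁ : GL Cfsg.Lie.chevG2.Idx F) : Matrix Cfsg.Lie.chevG2.Idx Cfsg.Lie.chevG2.Idx F) ∈ [Cfsg.Lie.chevG2.x F 11 1, Cfsg.Lie.chevG2.x F 9 1] → ((y₂ : GL Cfsg.Lie.chevG2.Idx F) : Matrix Cfsg.Lie.chevG2.Idx Cfsg.Lie.chevG2.Idx F) ∈ [Cfsg.Lie.chevG2.x F 11 1, Cfsg.Lie.chevG2.x F 9 1] →
      (∃ h ∈ Cfsg.Lie.chevG2.group F, h * y₁ * h⁻¹ = y₂) → ((y₁ : GL Cfsg.Lie.chevG2.Idx F) : Matrix Cfsg.Lie.chevG2.Idx Cfsg.Lie.chevG2.Idx F) = ((y₂ : GL Cfsg.Lie.chevG2.Idx F) : Matrix Cfsg.Lie.chevG2.Idx Cfsg.Lie.chevG2.Idx F)) := by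
  have h2 : (2 : F) = 0 := CharTwo.two_eq_zero
  obtain ⟨E, hE⟩ := (H38.matFacts (D := Lie.chevG2) (by simp) F).exists_isMat H38.rsG2
  have h := compat.two_of_comm hE h2 (by decide +kernel)
  have h1 : ∀ L ∈ reps, H9.ltB Lie.chevG2 L = true := by decide +kernel
  have h3 : ∀ L ∈ reps, H9.orthB Lie.chevG2 H38.tabG2 L = true := by decide +kernel
  have h4 : ∀ L ∈ reps, orderOf (compat.y hE L) = 2 := by
    intro L hL
    refine compat.orderOf_y hE h (h1 L hL) (h3 L hL) ?_
    simp only [reps, List.mem_cons, List.not_mem_nil, or_false] at hL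
    rcases hL with rfl | rfl <;> simp only [rank0 h2, rank1 h2] <;> omega
  have h5 : ∀ L ∈ reps, ∀ M ∈ reps, IsConj (compat.y hE L) (compat.y hE M) → L = M := by
    intro L hL M hM e
    simp only [reps, List.mem_cons, List.not_mem_nil, or_false] at hL hM
    rcases hL with rfl | rfl <;> rcases hM with rfl | rfl
    · rfl
    · exact absurd (sep hE h e) (by decide +kernel)
    · exact absurd (sep hE h e.symm) (by decide +kernel)
    · rfl
  have h6 := fun g => compat.classify hE H37.tabG2 h (g := g) run (by decide)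
  exact compat.final hE (by simp [reps, H9.wM, H9.one1, Lie.ChevalleyDatum.wordMat]) h1 h4 h6 h5

end Cfsg.Agent.S2177
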