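import Cfsg.Statements.S2180
import Cfsg.Agent.Lib.Chev.CentMat

set_option autoImplicit false
open Cfsg

namespace Cfsg.Agent.S2180

open H38 Cfsg.Lie

/-- Centralizers of involutions in the Chevalley group G of type G₂ over a finite field F of characteristic two with at least four elements (this problem's root numbering for type G₂, from the Chevalley data module: a = p₁ short with index 7, b = p₂ long with index 6, −a = 4, −b = 5, 2a + b = 9, 3a + b = 10, 3a + 2b = 11; U generated by the positive root subgroups). For an element z of G with matrix x_{3a+2b}(1): the centralizer of z in G is generated by U and X_{−a}. For an element t of G with matrix x_{2a+b}(1): the centralizer of t in G is generated by X_{2a+b}, X_{3a+b}, X_{3a+2b}, X_b and X_{−b}. -/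
theorem result {F : Type*} [Field F] [Fintype F] [CharP F 2] (hF : 4 ≤ Fintype.card F) (z t : GL Cfsg.Lie.chevG2.Idx F) (hz : (z : Matrix Cfsg.Lie.chevG2.Idx Cfsg.Lie.chevG2.Idx F) = Cfsg.Lie.chevG2.x F 11 1) (ht : (t : Matrix Cfsg.Lie.chevG2.Idx Cfsg.Lie.chevG2.Idx F) = Cfsg.Lie.chevG2.x F 9 1) :
    Cfsg.Lie.chevG2.group F ⊓ Subgroup.centralizer {z} = Cfsg.Lie.chevG2.posUnipotent F ⊔ Cfsg.Lie.chevG2.rootSubgroup F 4 ∧
    Cfsg.Lie.chevG2.group F ⊓ Subgroup.centralizer {t} = Cfsg.Lie.chevG2.rootSubgroup F 9 ⊔ Cfsg.Lie.chevG2.rootSubgroup F 10 ⊔ Cfsg.Lie.chevG2.rootSubgroup F 11 ⊔ Cfsg.Lie.chevG2.rootSubgroup F 6 ⊔ Cfsg.Lie.chevG2.rootSubgroup F 5 := by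
  obtain ⟨R, E, hE⟩ := exists_isMat (D := chevG2) (by simp) F
  constructor
  · rw [hE.centralizer_eq 2 (c := ⟨11, 11, 4, [11], [], [0], 1, 0, List.replicate 2 (1, 0),
      fun r => decide (chevG2.IsPosRoot r) || [4].contains r, []⟩) (by decide +kernel)
      (by decide +kernel) (by decide +kernel) (by simpa using hz), hE.U_eq]
    refine Eq.trans ?_ (hE.foldl_rootSubgroup _ (L := [4]) (by decide +kernel)).symm
    congr 1
    ext r
    simp [rset, R.isPosRoot_iff]
  · rw [hE.centralizer_eq 2 (c := ⟨9, 9, 4, [9], [10, 11], [1], 1, 0, List.replicate 2 (1, 0),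
      fun r => [9, 10, 11, 6, 5].contains r, [(7, 9, 10, -3), (8, 9, 11, -3)]⟩) (by decide +kernel)
      (by decide +kernel) (by decide +kernel) (by simpa using ht),
      ← bot_sup_eq (chevG2.rootSubgroup F 9), ← E.XS_empty]
    refine Eq.trans ?_ (hE.foldl_rootSubgroup _ (L := [9, 10, 11, 6, 5]) (by decide +kernel)).symm
    congr 1
    ext r
    simp [rset]

end Cfsg.Agent.S2180
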