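import Cfsg.Statements.S1159
import Mathlib
import Cfsg.Agent.Lib.Ree.TorusM

set_option autoImplicit false
open Cfsg

namespace Cfsg.Agent.S1159

/-- In the small Ree group ²G₂(q), q = 3^(2m+1) with m ≥ 1, realised as G¹ inside the Chevalley group G₂ over the field with q elements (θ the 3^m-th power map), with `r = 3^(m+1)`: a natural number is the order of an element of `G¹` iff it divides one of `6`, `9`, `q - 1`, `(q + 1)/2`, `q - r + 1`, `q + r + 1`. -/
theorem result {K : Type*} [Field K] [Fintype K] {m : ℕ} (hm : 1 ≤ m) (hK : Fintype.card K = 3 ^ (2 * m + 1)) (d : ℕ) :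
    (∃ g : ↥(Cfsg.Lie.twistedG2 K (3 ^ m)), orderOf g = d) ↔
      (d ∣ 6 ∨ d ∣ 9 ∨ d ∣ 3 ^ (2 * m + 1) - 1 ∨ d ∣ (3 ^ (2 * m + 1) + 1) / 2 ∨
        d ∣ 3 ^ (2 * m + 1) - 3 ^ (m + 1) + 1 ∨ d ∣ 3 ^ (2 * m + 1) + 3 ^ (m + 1) + 1) := by
  have := H40.Ree.charP_three hK
  have hq := H40.Ree.three_lt_card hm hK
  have hr := H40.Ree.r_mul_r m
  rw [← H40.Ree.natCard_eq hK] at hr ⊢
  set S := H40.Ree.lieModel hK
  have h8 := S.card_mod_eight
  obtain ⟨T₁, t₁, c₁, -⟩ := S.exists_tor_pm hq hr (Or.inl rfl)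
  obtain ⟨T₂, t₂, c₂, -⟩ := S.exists_tor_pm hq hr (Or.inr rfl)
  constructor
  · rintro ⟨g, rfl⟩
    rcases S.orderOf_cases g with h | h | h | h | h | h | h | h
    · simp [h]
    · simp [h]
    · simp [h]
    · simp [h]
    · simp [h]
    · simp only [h.2, true_or, or_true]
    · simp only [h.2, true_or, or_true]
    · obtain ⟨r, hr', hd⟩ := Nat.exists_prime_and_dvd h.1.ne'
      have h2 := hd.trans h.2
      rw [H40.Ree.M_factor hq.le hr, hr'.dvd_mul] at h2
      rcases h2 with e | e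
      · obtain ⟨x, hx⟩ := t₁.exists_conj_mem hr' (c₁ ▸ e) hd
        have := T₁.orderOf_dvd_natCard hx
        rw [H40.Tor.orderOf_conj', c₁] at this
        simp only [this, true_or, or_true]
      · obtain ⟨x, hx⟩ := t₂.exists_conj_mem hr' (c₂ ▸ e) hd
        have := T₂.orderOf_dvd_natCard hx
        rw [H40.Tor.orderOf_conj', c₂] at this
        simp only [this, true_or, or_true]
  · have key : ∀ A : Subgroup ↥(Cfsg.Lie.twistedG2 K (3 ^ m)), IsCyclic A → d ∣ Nat.card A →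
        ∃ g : ↥(Cfsg.Lie.twistedG2 K (3 ^ m)), orderOf g = d := fun A _ h =>
      (H40.Tor.exists_orderOf_eq_of_cyclic A h).imp fun _ h => h.2
    rintro (h | h | h | h | h | h)
    · obtain ⟨n, hn⟩ := H40.Tor.exists_pow_prime (x := S.u 0 1 0 * S.a0) (p := d)
        (by rwa [S.orderOf_u_a0, if_neg (by simp)])
      exact ⟨_, hn⟩
    · obtain ⟨n, hn⟩ := H40.Tor.exists_pow_prime (x := S.u 1 0 0) (p := d) (by rwa [S.orderOf_u one_ne_zero])
      exact ⟨_, hn⟩
    · exact key _ S.isCyclic_H (S.card_H ▸ h)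
    · exact key _ S.isCyclic_T1 (S.card_T1 ▸ h)
    · exact key _ t₁.cyc (c₁ ▸ h)
    · exact key _ t₂.cyc (c₂ ▸ h)

end Cfsg.Agent.S1159
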