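import Cfsg.Statements.S2357
import Mathlib
import Cfsg.Agent.Lib.Ree.TorusM

set_option autoImplicit false
open Cfsg

namespace Cfsg.Agent.S2357

/-- Let R be the small Ree group over the field with q = 3^(2m+1) ≥ 27 elements and write φ for Euler's totient function. Then R has exactly q²(q²−q+1) involutions, (q²−1)(q³+1) elements of order 3, and q²(q−1)(q³+1) elements of order 6 and as many of order 9; for i > 2 dividing q−1 it has φ(i)q³(q³+1)/2 elements of order i; for i > 1 dividing (q+1)/4 it has φ(i)q³(q−1)(q²−q+1)/6 elements of order i and φ(i)q³(q−1)(q²−q+1)/2 elements of order 2i; and for i > 1 dividing q − 3^(m+1) + 1 (respectively q + 3^(m+1) + 1) it has φ(i)q³(q²−1)(q + 3^(m+1) + 1)/6 (respectively φ(i)q³(q²−1)(q − 3^(m+1) + 1)/6) elements of order i. -/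
theorem result {K : Type*} [Field K] [Fintype K] {m : ℕ} (hm : 1 ≤ m)
    (hK : Fintype.card K = 3 ^ (2 * m + 1)) :
    Nat.card {g : ↥(Cfsg.Lie.twistedG2 K (3 ^ m)) // orderOf g = 2} = (3 ^ (2 * m + 1)) ^ 2 * ((3 ^ (2 * m + 1)) ^ 2 - 3 ^ (2 * m + 1) + 1) ∧
    Nat.card {g : ↥(Cfsg.Lie.twistedG2 K (3 ^ m)) // orderOf g = 3} = ((3 ^ (2 * m + 1)) ^ 2 - 1) * ((3 ^ (2 * m + 1)) ^ 3 + 1) ∧
    Nat.card {g : ↥(Cfsg.Lie.twistedG2 K (3 ^ m)) // orderOf g = 6} = (3 ^ (2 * m + 1)) ^ 2 * (3 ^ (2 * m + 1) - 1) * ((3 ^ (2 * m + 1)) ^ 3 + 1) ∧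
    Nat.card {g : ↥(Cfsg.Lie.twistedG2 K (3 ^ m)) // orderOf g = 9} = (3 ^ (2 * m + 1)) ^ 2 * (3 ^ (2 * m + 1) - 1) * ((3 ^ (2 * m + 1)) ^ 3 + 1) ∧
    (∀ i : ℕ, 2 < i → i ∣ 3 ^ (2 * m + 1) - 1 →
      2 * Nat.card {g : ↥(Cfsg.Lie.twistedG2 K (3 ^ m)) // orderOf g = i} = Nat.totient i * (3 ^ (2 * m + 1)) ^ 3 * ((3 ^ (2 * m + 1)) ^ 3 + 1)) ∧
    (∀ i : ℕ, 1 < i → i ∣ (3 ^ (2 * m + 1) + 1) / 4 →
      6 * Nat.card {g : ↥(Cfsg.Lie.twistedG2 K (3 ^ m)) // orderOf g = i} =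
          Nat.totient i * (3 ^ (2 * m + 1)) ^ 3 * (3 ^ (2 * m + 1) - 1) * ((3 ^ (2 * m + 1)) ^ 2 - 3 ^ (2 * m + 1) + 1) ∧
        2 * Nat.card {g : ↥(Cfsg.Lie.twistedG2 K (3 ^ m)) // orderOf g = 2 * i} =
          Nat.totient i * (3 ^ (2 * m + 1)) ^ 3 * (3 ^ (2 * m + 1) - 1) * ((3 ^ (2 * m + 1)) ^ 2 - 3 ^ (2 * m + 1) + 1)) ∧
    (∀ i : ℕ, 1 < i → i ∣ 3 ^ (2 * m + 1) - 3 ^ (m + 1) + 1 →
      6 * Nat.card {g : ↥(Cfsg.Lie.twistedG2 K (3 ^ m)) // orderOf g = i} =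
        Nat.totient i * (3 ^ (2 * m + 1)) ^ 3 * ((3 ^ (2 * m + 1)) ^ 2 - 1) * (3 ^ (2 * m + 1) + 3 ^ (m + 1) + 1)) ∧
    (∀ i : ℕ, 1 < i → i ∣ 3 ^ (2 * m + 1) + 3 ^ (m + 1) + 1 →
      6 * Nat.card {g : ↥(Cfsg.Lie.twistedG2 K (3 ^ m)) // orderOf g = i} =
        Nat.totient i * (3 ^ (2 * m + 1)) ^ 3 * ((3 ^ (2 * m + 1)) ^ 2 - 1) * (3 ^ (2 * m + 1) - 3 ^ (m + 1) + 1)) := by
  have := H40.Ree.charP_three hK
  have hq := H40.Ree.three_lt_card hm hK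
  have hr := H40.Ree.r_mul_r m
  rw [← H40.Ree.natCard_eq hK] at hr ⊢
  set S := H40.Ree.lieModel hK
  have h8 := S.card_mod_eight
  have hG := S.card_G
  have hG' := S.card_G'
  have l : 1 ≤ Nat.card K ^ 2 := by nlinarith
  have e2 : Nat.card K ^ 2 - 1 = (Nat.card K - 1) * (Nat.card K + 1) := by
    zify [l, show 1 ≤ Nat.card K by omega]; ring
  refine ⟨S.ncard_two, S.ncard_three, S.ncard_six, S.ncard_nine, fun i h2 hi => ?_, fun i h1 hi => ⟨?_, ?_⟩,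
    fun i h1 hi => ?_, fun i h1 hi => ?_⟩
  · have h := S.ncard_H_type hq (· = i) (by rintro _ rfl; exact ⟨h2, hi⟩)
    have := S.isCyclic_H
    rw [H40.Tor.ncard_orderOf_cyclic _ (S.card_H ▸ hi), hG] at h
    apply Nat.eq_of_mul_eq_mul_right (show 0 < Nat.card K - 1 by omega)
    change Nat.card {g // orderOf g = i} * _ = _ at h
    exact (by ring : _ = _ * (2 * _)).trans (h.trans (by ring))
  · have h := S.isTor_T0.card_orderOf h1 (S.card_A0 ▸ hi)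
    rw [S.card_normalizer_T0 hq, hG'] at h
    apply Nat.eq_of_mul_eq_mul_right (show 0 < Nat.card K + 1 by omega)
    exact (by ring : _ = _ * (6 * _)).trans (h.trans (by ring))
  · have hi' : i ∣ Nat.card S.A0 := S.card_A0 ▸ hi
    have ho := S.isTor_T0.odd.of_dvd_nat hi'
    have h := S.ncard_T_type hq (· = 2 * i) (by
      rintro _ rfl
      exact ⟨by omega, (mul_dvd_mul_left 2 hi).trans ⟨2, by omega⟩⟩)
    have e : {x | x ∈ S.T0 ∧ orderOf x = i} = {x | x ∈ S.A0 ∧ orderOf x = i} := by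
      ext x
      exact and_congr_left fun hx => ⟨fun hT => S.isTor_T0.mem x hT (hx ▸ ho), fun hA => S.isTor_T0.le hA⟩
    have := S.isTor_T0.cyc
    rw [H40.Tor.ncard_orderOf_two_mul (fun x hx y hy => S.T0_comm hx hy) ho, S.ncard_two_T0, e,
      H40.Tor.ncard_orderOf_cyclic _ hi', hG'] at h
    apply Nat.eq_of_mul_eq_mul_right (show 0 < 3 * (Nat.card K + 1) by omega)
    change Nat.card {g // orderOf g = 2 * i} * _ = _ at h
    exact (by ring : _ = _ * (6 * _)).trans (h.trans (by ring))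
  · obtain ⟨T, t, c, n⟩ := S.exists_tor_pm hq hr (Or.inl rfl)
    have h := t.card_orderOf h1 (c ▸ hi)
    rw [n, hG', H40.Ree.M_factor hq.le hr] at h
    apply Nat.eq_of_mul_eq_mul_right (Nat.succ_pos (Nat.card K - 3 ^ (m + 1)))
    rw [e2, Nat.succ_eq_add_one]
    exact (by ring : _ = _ * (6 * _)).trans (h.trans (by ring))
  · obtain ⟨T, t, c, n⟩ := S.exists_tor_pm hq hr (Or.inr rfl)
    have h := t.card_orderOf h1 (c ▸ hi)
    rw [n, hG', H40.Ree.M_factor hq.le hr] at h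
    apply Nat.eq_of_mul_eq_mul_right (Nat.succ_pos (Nat.card K + 3 ^ (m + 1)))
    rw [e2, Nat.succ_eq_add_one]
    exact (by ring : _ = _ * (6 * _)).trans (h.trans (by ring))

end Cfsg.Agent.S2357
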