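import Mathlib
import Cfsg.Statements.S2587
import Cfsg.Agent.Lib.StarAlg.Unitary
-- import your own Cfsg.Agent.* helpers here

set_option autoImplicit false
open Cfsg

namespace Cfsg.Agent.S2587

/-- Conjugacy in the finite general unitary group is controlled by the general linear group: two elements of GU_n(q) (the invertible matrices over the field with q² elements preserving the Hermitian form Σ u_i v_i^q) are conjugate in GU_n(q) if and only if they are conjugate in GL_n(q²). -/
theorem result {K : Type*} [Field K] [Fintype K] {q n : ℕ} (hK : Fintype.card K = q ^ 2) (A B : ↥(Cfsg.GU n K q)) : IsConj A B ↔ IsConj (A : GL (Fin n) K) (B : GL (Fin n) K) := by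
  obtain ⟨σ, hσ, hσσ, hne⟩ := H66.exists_conjHom hK
  constructor
  · intro h
    exact (Cfsg.GU n K q).subtype.map_isConj h
  · intro h
    obtain ⟨g, hg⟩ := isConj_iff.mp h
    have hg' : (g : Matrix (Fin n) (Fin n) K) * ((A : GL (Fin n) K) : Matrix (Fin n) (Fin n) K) =
        ((B : GL (Fin n) K) : Matrix (Fin n) (Fin n) K) * (g : Matrix (Fin n) (Fin n) K) := by
      rw [← Units.val_mul, ← Units.val_mul, ← hg]; simp
    obtain ⟨h, hh, hAB⟩ := H66.exists_unitary_conj_matrix hσσ hne _ _
      ((H66.mem_GU_iff hσ _).mp A.2) ((H66.mem_GU_iff hσ _).mp B.2) _ g.isUnit hg'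
    obtain ⟨C, rfl⟩ := H66.exists_GU_of_cstar_mul hσ h hh
    refine isConj_iff.mpr ⟨C, ?_⟩
    rw [mul_inv_eq_iff_eq_mul]
    apply Subtype.ext
    apply Units.ext
    exact hAB

end Cfsg.Agent.S2587
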