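import Cfsg.Statements.S1910
import Mathlib
import Cfsg.Agent.Base
import Cfsg.Agent.Lib.Invol.Dihedral
import Cfsg.Agent.Lib.Core.GrpBasic
import Cfsg.Agent.Lib.Core.HallSZ
import Cfsg.Agent.Lib.Core.CoprimeBasic
import Cfsg.Agent.Lib.InvChar.SylowIn
import Cfsg.Agent.Lib.PGroup.Basic

set_option autoImplicit false
open Cfsg

namespace Cfsg.Agent.S1910

open Subgroup
open scoped Pointwise

theorem exists_inj_of_conj {G : Type*} [Group G] {A B : Subgroup G} (h : G)
    (hh : ∀ a ∈ A, h * a * h⁻¹ ∈ B) : ∃ f : A →* B, Function.Injective f :=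
  ⟨((MulAut.conj h).toMonoidHom.comp A.subtype).codRestrict B fun a => hh a a.2, fun _ _ hab =>
    Subtype.ext ((MulAut.conj h).injective (congrArg Subtype.val hab))⟩

theorem eq_or_inj {G : Type*} [Group G] [Finite G] {K T R S : Subgroup G}
    (hK : ∀ x ∈ K, orderOf x = 2 → ∀ y : G, y * x * y⁻¹ ∈ K → y ∈ normalizer (K : Set G))
    (hTK : T ≤ K) (hS : IsPGroup 2 S) (hTS : T ≤ S) (hRS : R ≤ S)
    (hc : ∀ t ∈ T, ∀ r ∈ R, t * r = r * t) (hTR : T ⊓ R = ⊥)
    (hN : ∀ y ∈ S, y ∈ normalizer (K : Set G) → y ∈ T ⊔ R) :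
    T ⊔ R = S ∨ ∃ f : T →* R, Function.Injective f := by
  refine or_iff_not_imp_left.mpr fun hne => ?_
  obtain ⟨y, hyS, hy, hyn⟩ := H72.exists_mem_normalizer_not_mem hS
    (lt_of_le_of_ne (sup_le hTS hRS) hne)
  let φ : T × R →* G := T.subtype.noncommCoprod R.subtype fun t r => hc t t.2 r r.2
  have hφ : Function.Injective φ := by
    rw [injective_iff_map_eq_one]
    rintro ⟨t, r⟩ h
    change (t : G) * r = 1 at h
    have h1 : (t : G) ∈ T ⊓ R := ⟨t.2, by rw [eq_inv_of_mul_eq_one_left h]; exact R.inv_mem r.2⟩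
    rw [hTR, mem_bot] at h1
    rw [h1, one_mul] at h
    exact Prod.ext (Subtype.ext h1) (Subtype.ext h)
  have hr : φ.range = T ⊔ R := by
    refine (MonoidHom.noncommCoprod_range _ _ _).trans ?_
    rw [range_subtype, range_subtype]
  obtain ⟨c, hc'⟩ : ∃ c : T →* φ.range, ∀ t : T, (c t : G) = y * t * y⁻¹ :=
    ⟨((MulAut.conj y).toMonoidHom.comp T.subtype).codRestrict φ.range fun t => by
      rw [hr]; exact H3.conj_mem_of_mem_normalizer hyn (mem_sup_left t.2), fun _ => rfl⟩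
  refine ⟨((MonoidHom.snd T R).comp (MonoidHom.ofInjective hφ).symm.toMonoidHom).comp c, ?_⟩
  rw [injective_iff_map_eq_one]
  intro t ht
  by_contra ht1
  have h1 : y * t * y⁻¹ ∈ T := by
    have h2 : φ ((MonoidHom.ofInjective hφ).symm (c t)) = c t :=
      MonoidHom.apply_ofInjective_symm hφ _
    rw [← hc', ← h2]
    change ((((MonoidHom.ofInjective hφ).symm (c t)).1 : T) : G) *
      (((MonoidHom.ofInjective hφ).symm (c t)).2 : R) ∈ T
    have h3 : ((MonoidHom.ofInjective hφ).symm (c t)).2 = 1 := ht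
    rw [h3]; simp
  obtain ⟨x, hx, hxo⟩ := H9.exists_involution_of_isPGroup
    (hS.to_le ((zpowers_le.mpr t.2).trans hTS)) (by simpa using ht1)
  obtain ⟨k, rfl⟩ := mem_zpowers_iff.mp hx
  exact hy (hN y hyS (hK _ (hTK (zpow_mem t.2 k)) hxo y
    (hTK (by rw [← conj_zpow]; exact zpow_mem h1 k))))

/-- Let Q be a tightly embedded subgroup of a finite group G, g an element outside N_G(Q), T a nontrivial Sylow 2-subgroup of Q^g ∩ N_G(Q), and S a Sylow 2-subgroup of QT containing T. Then T ∩ Q = 1, and N_S(T) is the direct product of T and N_S(T) ∩ Q, with N_S(T) ∩ Q isomorphic to T. -/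
theorem result {G : Type*} [Group G] [Finite G] (Q : Subgroup G) (hQ : Cfsg.IsTightlyEmbedded Q)
    (g : G) (hg : g ∉ Subgroup.normalizer (Q : Set G))
    (T : Subgroup G) (hT1 : T ≠ ⊥) (hT : T ≤ Q.map (MulAut.conj g).toMonoidHom ⊓ Subgroup.normalizer (Q : Set G))
    (hTsyl : IsPGroup 2 T ∧ ¬ 2 ∣ T.relIndex (Q.map (MulAut.conj g).toMonoidHom ⊓ Subgroup.normalizer (Q : Set G)))
    (S : Subgroup G) (hTS : T ≤ S) (hS : S ≤ Q ⊔ T) (hSsyl : IsPGroup 2 S ∧ ¬ 2 ∣ S.relIndex (Q ⊔ T)) :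
    T ⊓ Q = ⊥ ∧
      T ⊓ (S ⊓ Subgroup.normalizer (T : Set G) ⊓ Q) = ⊥ ∧
      ⁅T, S ⊓ Subgroup.normalizer (T : Set G) ⊓ Q⁆ = ⊥ ∧
      T ⊔ (S ⊓ Subgroup.normalizer (T : Set G) ⊓ Q) = S ⊓ Subgroup.normalizer (T : Set G) ∧
      Nonempty (↥(S ⊓ Subgroup.normalizer (T : Set G) ⊓ Q) ≃* T) := by
  set K := Q.map (MulAut.conj g).toMonoidHom with hKdef
  have hKm : ∀ {x : G}, x ∈ K ↔ g⁻¹ * x * g ∈ Q := H72.mem_map_conj
  have hQt : ∀ x ∈ Q, orderOf x = 2 → ∀ y : G, y * x * y⁻¹ ∈ Q → y ∈ normalizer (Q : Set G) := by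
    intro x hx hxo y hy
    by_contra hn
    exact (H9.odd_card_iff_forall_orderOf_ne_two _).mp (hQ.2 y hn) _
      ⟨hy, H72.conj_mem_map_conj hx⟩ (by rw [H9.orderOf_conj, hxo])
  have hKt : ∀ x ∈ K, orderOf x = 2 → ∀ y : G, y * x * y⁻¹ ∈ K → y ∈ normalizer (K : Set G) := by
    intro x hx hxo y hy
    have := hQt _ (hKm.mp hx) (by rw [H9.orderOf_conj', hxo]) (g⁻¹ * y * g)
      (by convert hKm.mp hy using 1; group)
    rw [hKdef, ← H1.conj_smul_eq_map, H1.normalizer_conj_smul, H1.mem_conj_smul_iff]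
    exact this
  have hTK : T ≤ K := hT.trans inf_le_left
  have hTN : T ≤ normalizer (Q : Set G) := hT.trans inf_le_right
  have hTQ : T ⊓ Q = ⊥ := by
    by_contra h
    obtain ⟨x, hx, hxo⟩ := H9.exists_involution_of_isPGroup (hTsyl.1.to_le inf_le_left) h
    exact (H9.odd_card_iff_forall_orderOf_ne_two _).mp (hQ.2 g hg) x ⟨hx.2, hTK hx.1⟩ hxo
  set R := S ⊓ normalizer (T : Set G) ⊓ Q with hR
  have hRS : R ≤ S := inf_le_left.trans inf_le_left
  have hTR : T ⊓ R = ⊥ := eq_bot_iff.mpr (hTQ ▸ inf_le_inf_left _ inf_le_right)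
  have hcomm : ⁅T, R⁆ = ⊥ := by
    rw [eq_bot_iff, ← hTQ]
    exact le_inf (le_normalizer_iff_commutator_le_left.mp (inf_le_left.trans inf_le_right))
      ((commutator_mono le_rfl inf_le_right).trans (le_normalizer_iff_commutator_le_right.mp hTN))
  have hc : ∀ t ∈ T, ∀ r ∈ R, t * r = r * t := fun t ht r hr =>
    (commutator_eq_bot_iff_le_centralizer.mp hcomm ht r hr).symm
  have hsup : T ⊔ R = S ⊓ normalizer (T : Set G) := by
    refine le_antisymm (sup_le (le_inf hTS le_normalizer) inf_le_left) fun y hy => ?_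
    obtain ⟨q, hq, t, ht, rfl⟩ := (H3.mem_sup_iff_of_le_normalizer hTN).mp (hS hy.1)
    refine mul_mem (mem_sup_right ⟨?_, hq⟩) (mem_sup_left ht)
    simpa using (S ⊓ normalizer (T : Set G)).mul_mem hy
      ((S ⊓ normalizer (T : Set G)).inv_mem ⟨hTS ht, le_normalizer ht⟩)
  have hSN : S ≤ normalizer (Q : Set G) := hS.trans (sup_le le_normalizer hTN)
  have hmax : ∀ U : Subgroup G, IsPGroup 2 U → T ≤ U → U ⊓ (K ⊓ normalizer (Q : Set G)) = T :=
    fun U hU hTU => H72.eq_of_sylowIn hTsyl.2 (hU.to_le inf_le_left) (le_inf hTU hT) inf_le_right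
  refine ⟨hTQ, hTR, hcomm, hsup, ?_⟩
  obtain ⟨f, hf⟩ : ∃ f : T →* R, Function.Injective f := by
    rcases eq_or_inj hKt hTK hSsyl.1 hTS hRS hc hTR (fun y hy hyK => by
      rw [hsup]
      refine ⟨hy, ?_⟩
      rw [← hmax S hSsyl.1 hTS]
      exact H2.le_normalizer_inf (A := zpowers y) (zpowers_le.mpr (le_normalizer hy))
        (H2.le_normalizer_inf (zpowers_le.mpr hyK) (zpowers_le.mpr (le_normalizer (hSN hy))))
        (mem_zpowers y)) with h | h
    · obtain ⟨h', hh', hh⟩ := H72.exists_conj_mem_sylowIn hSsyl.1 hS hSsyl.2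
        (H72.isPGroup_map_conj hTsyl.1 g⁻¹) (fun x hx => mem_sup_left (by
          have := hKm.mp (hTK (H72.mem_map_conj.mp hx))
          simpa [mul_assoc] using this))
      refine exists_inj_of_conj (h' * g⁻¹) fun a ha => ?_
      have h1 := hh _ (H72.conj_mem_map_conj ha)
      have h2 : h' * (g⁻¹ * a * g⁻¹⁻¹) * h'⁻¹ ∈ Q :=
        H3.conj_mem_of_mem_normalizer (sup_le le_normalizer hTN hh') (by
          rw [inv_inv]; exact hKm.mp (hTK ha))
      rw [show h' * g⁻¹ * a * (h' * g⁻¹)⁻¹ = h' * (g⁻¹ * a * g⁻¹⁻¹) * h'⁻¹ by group]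
      refine ⟨?_, h2⟩
      rw [← hsup, h]; exact h1
    · exact h
  obtain ⟨f', hf'⟩ : ∃ f : R →* T, Function.Injective f := by
    obtain ⟨x, hx, hxo⟩ := H9.exists_involution_of_isPGroup hTsyl.1 hT1
    have hRK : R ≤ normalizer (K : Set G) := fun r hr => hKt x (hTK hx) hxo r (by
      rw [← hc x hx r hr, mul_inv_cancel_right]; exact hTK hx)
    obtain ⟨S1, hS1, hle, hS1K, hS1s⟩ := H72.exists_sylowIn_ge (H := K ⊔ R)
      (hSsyl.1.to_le (sup_le hTS hRS)) (sup_le_sup_right hTK R)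
    rcases eq_or_inj (K := Q) (T := R) (R := T) hQt inf_le_right hS1 (le_sup_right.trans hle)
      (le_sup_left.trans hle) (fun r hr t ht => (hc t ht r hr).symm) (by rw [inf_comm, hTR])
      (fun y hy hyQ => by
        obtain ⟨u, hu, r, hr, rfl⟩ := (H3.mem_sup_iff_of_le_normalizer hRK).mp (hS1K hy)
        refine mul_mem (mem_sup_right ?_) (mem_sup_left hr)
        rw [← hmax S1 hS1 (le_sup_left.trans hle)]
        exact ⟨by simpa using S1.mul_mem hy (S1.inv_mem (hle (mem_sup_right hr))), hu, by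
          simpa using (normalizer (Q : Set G)).mul_mem hyQ
            ((normalizer (Q : Set G)).inv_mem (le_normalizer hr.2))⟩) with h | h
    · obtain ⟨h', hh', hh⟩ := H72.exists_conj_mem_sylowIn hS1 hS1K hS1s
        (H72.isPGroup_map_conj (hSsyl.1.to_le hRS) g)
        ((map_mono inf_le_right).trans le_sup_left)
      refine exists_inj_of_conj (h' * g) fun a ha => ?_
      have h1 := hh _ (H72.conj_mem_map_conj ha)
      rw [show h' * g * a * (h' * g)⁻¹ = h' * (g * a * g⁻¹) * h'⁻¹ by group,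
        ← hmax S1 hS1 (le_sup_left.trans hle)]
      refine ⟨h1, H3.conj_mem_of_mem_normalizer (sup_le le_normalizer hRK hh')
        (H72.conj_mem_map_conj ha.2), ?_⟩
      rw [← h] at h1
      exact sup_le (hRS.trans hSN) hTN h1
    · exact h
  exact ⟨MulEquiv.ofBijective f' ((Nat.bijective_iff_injective_and_card f').mpr ⟨hf',
    le_antisymm (Nat.card_le_card_of_injective _ hf') (Nat.card_le_card_of_injective _ hf)⟩)⟩

end Cfsg.Agent.S1910
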