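import Cfsg.Statements.S1070
import Mathlib
import Cfsg.Agent.Lib.Twist.E6Mat

set_option autoImplicit false
open Cfsg

namespace Cfsg.Agent.S1070

/-- ²E₆(q) is simple for every `q`. -/
theorem result {K : Type*} [Field K] [Fintype K] {q : ℕ} (hq : IsPrimePow q) (hK : Fintype.card K = q ^ 2) :
    IsSimpleGroup ↥(Cfsg.Lie.twistedE6 K q) ∧ ¬ IsMulCommutative ↥(Cfsg.Lie.twistedE6 K q) := by
  obtain ⟨R, E, hE, T, h, hA⟩ := H39.exists_E6 hq hK
  have : Nonempty (Fin Cfsg.Lie.chevE6.rank) := ⟨(0 : Fin 6)⟩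
  exact H39.simple_tw hA h.good (R.connected (by simp)) h.perfect

end Cfsg.Agent.S1070
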