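import Cfsg.Statements.S2084
import Cfsg.Agent.Lib.YM.PsiB
import Cfsg.Agent.S1704

set_option autoImplicit false
open Cfsg

namespace Cfsg.Agent.S2084

/-- The outer automorphism group of the Baby Monster (the finitely presented group of the definitions) is trivial: every automorphism is inner. -/
theorem result : Nat.card (Cfsg.Out Cfsg.Spor.BabyMonster) = 1 := by
  have := Cfsg.Agent.S1704.result.1
  exact H43.MA.card_out_babyMonster fun _ _ _ _ _ _ _ _ _ M ht _ h1 h2 => H77.YM.psiB M ht h1 h2

end Cfsg.Agent.S2084
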