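import Mathlib
import Cfsg.Statements.S2109
import Cfsg.Agent.Lib.Cover.E62
import Cfsg.Agent.Lib.GL.Basic

set_option autoImplicit false
open Cfsg

namespace Cfsg.Agent.S2109

open Cfsg.Lie H19.Cov in
theorem map_gen {D : ChevalleyDatum} (T : H37.Tab D) {K K' : Type*} [Field K] [Field K'] (e : K ≃+* K')
    (S : Set (List (ℕ × K))) : (D.genSubgroup K S).map (H10.glCongr e).toMonoidHom =
      D.genSubgroup K' (List.map (Prod.map id e) '' S) := by
  rw [genSubgroup_eq T, genSubgroup_eq T, MonoidHom.map_closure, Set.image_image, Set.image_image]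
  congr 1
  refine Set.image_congr fun w _ => ?_
  rw [wU, wU, map_list_prod, List.map_map, List.map_map]
  exact congrArg _ (List.map_congr_left fun p _ => T.glMap_xU e.toRingHom p.1 p.2)

open Cfsg.Lie in
theorem words_map {K K' : Type*} [Field K] [Field K'] (e : K ≃+* K') (q : ℕ) :
    List.map (Prod.map id e) '' e6Words K q = e6Words K' q := by
  ext w
  constructor
  · rintro ⟨_, ⟨t, ht, r, hr, rfl⟩ | ⟨t, r, hr, rfl⟩, rfl⟩
    · exact Or.inl ⟨e t, by rw [← map_pow, ht], r, hr, rfl⟩
    · exact Or.inr ⟨e t, r, hr, by simp⟩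
  · rintro (⟨t, ht, r, hr, rfl⟩ | ⟨t, r, hr, rfl⟩)
    · exact ⟨_, Or.inl ⟨e.symm t, by rw [← map_pow, ht], r, hr, rfl⟩, by simp⟩
    · exact ⟨_, Or.inr ⟨e.symm t, r, hr, rfl⟩, by simp⟩

theorem transport {ι K K' A : Type*} [Fintype ι] [DecidableEq ι] [Field K] [Field K'] [CommGroup A] (e : K ≃+* K')
    {H : Subgroup (GL ι K)} {H' : Subgroup (GL ι K')} (h : H.map (H10.glCongr e).toMonoidHom = H')
    (h' : HasSchurMultiplier H' A) : HasSchurMultiplier H A :=
  H60.hasSchur_of_mulEquiv (((H10.glCongr e).subgroupMap H).trans (MulEquiv.subgroupCongr h)).symm h'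

/-- Exceptional Schur multiplier: ²E₆(2), realised over the field with 4 elements, has Schur multiplier isomorphic to the product of cyclic groups of orders 3, 2 and 2 (order 12, not cyclic; here the Schur multiplier is described through stem extensions, as in the definitions). -/
theorem result {K : Type*} [Field K] [Fintype K] (hK : Fintype.card K = 4) : Cfsg.HasSchurMultiplier ↥(Cfsg.Lie.twistedE6 K 2) (Multiplicative (ZMod 3 × ZMod 2 × ZMod 2)) := by
  obtain ⟨e⟩ := H30.F4.nonempty_ringEquiv hK
  exact transport e ((map_gen H37.tabE6 e _).trans (congrArg _ (words_map e 2))) H19.Cov.e62_main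

end Cfsg.Agent.S2109
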