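import Cfsg.Statements.S2182
import Cfsg.Agent.Lib.Twist.InvolMat
import Cfsg.Agent.Lib.Twist.BitTab

set_option autoImplicit false
open Cfsg

namespace Cfsg.Agent.S2182

open Cfsg.Lie

set_option maxRecDepth 100000

/-- Conjugating elements. -/
def certs : List (List (Fin 6) × List (Fin 6) × List ℕ × ℕ) :=
  [([], [], [2, 3, 2, 6, 7, 6, 0, 1, 0, 2, 3, 2, 6, 7, 6, 4, 6, 7, 6, 2, 3, 2, 0, 1, 0, 6, 7, 6, 2, 3, 2, 6, 7, 6, 0, 1, 0, 2, 3, 2, 6, 7, 6, 4, 6, 7, 6, 2, 3, 2, 0, 1, 0, 2, 3, 2, 6, 7, 6, 4, 6, 7, 6, 2, 3, 2, 6, 7, 6, 5, 4, 2, 3, 2, 6, 7, 6, 4, 6, 7, 6, 2, 3, 2, 0, 1, 0, 2, 3, 2, 6, 7, 6, 4, 6, 7, 6, 2, 3, 2, 0, 1, 0, 6, 7, 6, 4, 6, 7, 6, 4, 5, 4, 6, 7, 6, 4, 5, 4, 5, 4, 6, 7, 6, 0, 1, 0, 2, 3, 2, 3, 2, 0, 1, 0, 2, 3, 2, 0, 1, 0, 2, 0, 1, 0, 2, 3, 6, 7, 6, 4, 5, 4, 2, 3, 2, 6, 7, 6, 4, 5, 4, 0, 1, 0, 2, 3, 2, 6, 7, 6, 4, 5, 4, 0, 1, 0, 2, 3, 2], 2),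
   ([3], [3], [0, 4, 5, 4, 6, 7, 6, 2, 2, 3, 2, 1, 6, 7, 6, 4, 5, 4, 2, 3, 2, 6, 7, 6, 4, 5, 4, 0, 1, 0, 2, 3, 2, 6, 7, 6, 0, 1, 0, 5, 3], 2),
   ([2, 4], [2, 4], [4, 0, 1, 0, 6, 7, 6, 2, 3, 2, 6, 4, 5, 4, 6, 7, 6, 2, 3, 2, 4, 5, 4, 0, 1, 0, 7, 2, 3, 2, 6, 7, 6, 5, 3], 2),
   ([2, 3, 4], [2, 3, 2, 4, 3, 2], [0, 1, 0, 2, 3, 2, 7, 4, 5, 4, 6, 7, 6, 2, 3, 2, 0, 1, 0, 6, 7, 6, 4, 5, 4, 2, 3, 2, 7, 3], 3),
   ([1], [1], [0, 2, 2, 3, 2, 1, 6, 7, 6, 2, 3, 2, 4, 5, 4, 6, 7, 6, 4, 5, 4, 0, 1, 0, 2, 3, 2, 6, 7, 6, 0, 1, 0, 5, 3], 2),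
   ([1, 3], [1, 3, 1], [0, 2, 3, 2, 6, 7, 6, 2, 2, 3, 2, 0, 1, 0, 6, 7, 6, 3, 4, 5, 4, 6, 7, 6, 4, 5, 4, 2, 3, 2, 6, 7, 6, 0, 1, 0, 5, 3], 2),
   ([1, 2, 4], [1, 2, 4], [0, 1, 0, 6, 7, 6, 2, 3, 2, 4, 5, 4, 6, 7, 6, 4, 5, 4, 0, 1, 0, 2, 3, 2, 6, 7, 6, 0, 1, 0, 5, 3], 2),
   ([1, 2, 3, 4], [1, 2, 3, 1, 2, 3, 4, 3, 1, 2, 3, 4], [0, 1, 0, 2, 3, 2, 6, 7, 6, 2, 3, 2, 0, 1, 0, 4, 5, 4, 6, 7, 6, 3, 6, 7, 6], 1),
   ([0, 5], [0, 5], [4, 7, 5, 2, 3, 2, 6, 7, 6, 2, 3, 2, 4, 5, 4, 6, 7, 6, 0, 1, 0, 2, 3, 2, 4, 6, 7, 6, 0, 1, 0, 5, 3], 2),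
   ([0, 3, 5], [0, 3, 5], [2, 3, 2, 4, 5, 4, 6, 7, 6, 2, 3, 2, 4, 5, 4, 6, 7, 6, 0, 1, 0, 2, 3, 2, 6, 7, 6, 0, 1, 0, 5, 3], 2),
   ([0, 2, 4, 5], [0, 2, 0, 4, 5, 4], [4, 6, 7, 6, 2, 3, 2, 6, 4, 5, 4, 6, 7, 6, 2, 3, 2, 4, 5, 4, 0, 1, 0, 7, 2, 3, 2, 6, 7, 6, 5, 3], 2),
   ([0, 2, 3, 4, 5], [0, 2, 0, 3, 2, 0, 4, 3, 2, 0, 5, 4, 3, 2, 0], [4, 5, 4, 6, 7, 6, 2, 3, 2, 0, 1, 0, 6, 7, 6, 2, 3, 2, 6, 7, 6, 5], 0),
   ([0, 1, 5], [0, 1, 5], [2, 3, 2, 6, 7, 6, 2, 3, 2, 4, 5, 4, 6, 7, 6, 4, 5, 4, 0, 1, 0, 2, 3, 2, 6, 7, 6, 0, 1, 0, 5, 3], 2),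
   ([0, 1, 3, 5], [0, 1, 3, 1, 5], [2, 3, 2, 6, 7, 6, 2, 3, 2, 0, 1, 0, 4, 5, 4, 6, 7, 6, 2, 3, 2, 6, 7, 6, 0, 1, 0, 5, 3], 2),
   ([0, 1, 2, 4, 5], [0, 1, 2, 0, 4, 5, 4], [6, 7, 6, 2, 3, 2, 0, 1, 0, 4, 5, 4, 6, 7, 6, 2, 3, 2, 4, 5, 4, 6, 7, 6, 0, 1, 0, 5, 3], 2)]

theorem rk0 {K : Type*} [Field K] [CharP K 2] {R : H38.RootSys chevE6}
    {E : H38.Elts R.toRS K (GL chevE6.Idx K)} (hE : H38.IsMat R E) :
    (H39.mt (H39.w1 hE [46]) - 1).rank = 22 :=
  H39.tabOK_E6.rank_eq (B := 0x400000000000000000000040000000000000000000800000000000000000010000000000000000000000200000000000000000004000000000000000000080000000000000000000800000000000000000010000000000000000000200000000000000000000002000000200000000000040000000000000000000800000000000000000010000000000000000000200000000000000000004000000000000000000080000000000000000000010000000000000000000200000000000000000004000000000000000000001000000000000000000008) (p := [52, 7, 17, 18, 19, 32, 33, 34, 36, 37, 38, 1, 53, 54, 55, 56, 57, 58, 67, 68,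 69, 77])
    (B' := 0x800000000000000000008000000000000000000100000000000000000002000000000000000000040000000000000000000800000000000000000010000000000000000000200000000000000000004000000000000000000080000000000000000000200000000000000000004000000000000000000080000000000000000001000000000000000000020000000000000000000400000000000000000008000000000000000000100000000000000000002000000000000000000040000000000000000000800000000000000000010000000000000000000040000000000000000000100000000000000000002000000000000000000040000000000000000000800000000000000000010000000000000000000200000000000000000004000000000000000000080000000000000000001000000000000000000020000000000000000000400000000000000000008000000000000000000100000000000000000000040000000000000000000800000000000000000010000000000000000000200000000000000000004000000000000000000080000000000000000001000000000000000000020000000000000000000080000000000000000001000000000000000000020000000000000000000400000000000000000008000000000000000000100000000000000000002000000000000000000020000000000000000000400000000000000000004000000000000000000080000000000000000001)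 (p' := [0, 1, 2, 4, 5, 7, 8, 9, 10, 11, 12, 13, 17, 18, 19, 20, 21, 22, 23, 24, 32, 33, 34, 35, 36, 37, 38, 39, 40, 41, 42, 43, 44, 48, 52, 53, 54, 55, 56, 57, 58, 59, 60, 61, 62, 63, 67, 68, 69, 70, 71, 72, 73, 74, 75, 77]) (by decide +kernel)

theorem rk1 {K : Type*} [Field K] [CharP K 2] {R : H38.RootSys chevE6}
    {E : H38.Elts R.toRS K (GL chevE6.Idx K)} (hE : H38.IsMat R E) :
    (H39.mt (H39.w1 hE [40, 43]) - 1).rank = 32 :=
  H39.tabOK_E6.rank_eq (B := 0x4800000000000000000100000000000000000000400000000000000000008000000000000000000020000000000000000000400000000000000000001000000000000000000008000000000000000000140000000000000000004000000000000000000000400000000000000000008400000000000000000100000000000000000008000000000000000000009000000008000000000100000000000000000002800000000000000000040000000100000000002000000000000000000010000000000000000000024000000000000000000800000000000000000002000000000000000000040000000000000000000200000000000000000004000000000000000000008000000000000000000040000000000000000000a0000000000000000002000000000000000000000c0000000000000000001)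 (p := [49, 46, 14, 11, 15, 16, 20, 21, 25, 28, 31, 29, 39, 45, 3, 40, 41, 4, 50, 47, 48, 51, 59, 56, 60, 61, 64, 65, 70, 73, 76, 74])
    (B' := 0x800000000000000000010000000000000000000200000000000000000005000000000000000000080000000000000000000800000000000000000010000000000000000000040000000000000000000800000000000000000010000000000000000000080000000000000000001000000000000000000020000000000000000000200000000000000000005000000000000000000020000000000000000000200000000000000000004000000000000000000080000000000000000001080000000000000000020000000000000000000400000000000000000008000000000000000000020000000000000000000420000000000000000008000000000000000000002000000000000000000040000000000000000000a00000000000000000010000000000000000000100000000000000000002000000000000000000008000000000000000000100000000000000000000800000000000000000010000000000000000000200000000000000000004000000000000000000040000000000000000000a000000000000000000040000000000000000000400000000000000000008c0000000000000000012000000000000000000280000000000000000006)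 (p' := [2, 3, 4, 5, 6, 8, 11, 12, 14, 15, 16, 17, 20, 21, 25, 26, 28, 29, 30, 31, 39, 40, 41, 45, 46, 47, 48, 49, 50, 51, 53, 56, 57, 59, 60, 61, 64, 65, 66, 70, 71, 73, 74, 75, 76, 77]) (by decide +kernel)

theorem rk2 {K : Type*} [Field K] [CharP K 2] {R : H38.RootSys chevE6}
    {E : H38.Elts R.toRS K (GL chevE6.Idx K)} (hE : H38.IsMat R E) :
    (H39.mt (H39.w1 hE [46, 42, 37]) - 1).rank = 38 :=
  H39.tabOK_E6.rank_eq (B := 0x400000000000000000001800000000000000000040000000000000000000400000000000000000001000000000000000000030000000000000000000800000000000000000004000000000000000000040000000000000000000008800000000000000000198000000000000000004400000000000000000200000000000000000006000000000000000000100000000000000000000040000000000000000000400000000800000000008000000000000000000020000000040000000000080000029000000000001b0000000000000000004800000000000000000048000000000000000006000000000000000000100000000000000000001000000000000000000001000000000000000000010000000000000000000060000000000000000001000000000000000000010000000000000000000040000000000000000000c000000000000000000200000000000000000001000000000000000000020000000000000000000a40000000000000000001)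 (p := [48, 52, 43, 7, 12, 11, 13, 17, 19, 18, 21, 23, 36, 38, 37, 32, 34, 33, 1, 2, 41, 4, 44, 57, 56, 58, 54, 53, 55, 61, 63, 68, 67, 69, 73, 75, 74, 77])
    (B' := 0x800000000000000000008000000000000000000140000000000000000002000000000000000000008000000000000000000100000000000000000002800000000000000000008000000000000000000080000000000000000000800000000000000000010000000000000000000200000000000000000004100000000000000000088000000000000000001100000000000000000026400000000000000000400000000000000000001000000000000000000004000000000000000000080000000000000000000800000000000000000004000000000000000000081000000000000000001000000000000000000011000000000000000000268000000000000000004400000000000000000001000000000000000000020000000000000000000200000000000000000002000000000000000000050000000000000000000800000000000000000002000000000000000000040000000000000000000a00000000000000000002000000000000000000010000000000000000000100000000000000000002) (p' := [1, 2, 4, 7, 11, 12, 13, 17, 18, 19, 21,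 23, 24, 32, 33, 34, 36, 37, 38, 41, 43, 44, 48, 52, 53, 54, 55, 56, 57, 58, 59, 61, 63, 67, 68, 69, 73, 74, 75, 77]) (by decide +kernel)

theorem ok : H39.invOK chevE6 78 H39.tabE6 [[56, 36], [15, 35], [42, 37], [29, 34], [46], [25], [39], [32]]
    [[4], [6, 7, 6, 2, 6, 7, 6], [4, 2], [6, 7, 6, 2, 6, 7, 6, 2, 3, 2, 6, 2, 3, 2]]
    ([0, 1, 2, 0, 3, 1, 2, 0, 3, 2, 4, 3, 1, 2, 0, 3, 2, 4, 3, 1, 5, 4, 3, 1, 2, 0, 3, 2, 4, 3, 1, 5, 4, 3, 2, 0] : List (Fin 6)) certs = true := by decide +kernel

theorem cover : ∀ b : Fin 6 → Bool, (∀ i, b (H39.rho2E6 i) = b i) → (∃ i, b i = false) →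
    ∃ c ∈ certs, ∀ i, b i = decide (i ∈ c.1) := by decide +kernel

theorem conj_aux {G : Type*} [Group G] {a b c d y z : G} (h1 : c * a = a * c * y)
    (h2 : d * b = b * d * z) (h3 : d * a = a * d) (h4 : c * b = b * c) (h5 : y * b = b * y)
    (h6 : y * c = c * y) (h7 : z * c = c * z) (h8 : z * d = d * z) :
    c * d * (a * b) = a * (b * (y * z)) * (c * d) := by
  calc c * d * (a * b) = c * (d * a) * b := by group
    _ = (c * a) * (d * b) := by rw [h3]; group
    _ = a * c * (y * b) * (d * z) := by rw [h1, h2]; group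
    _ = a * (c * b) * y * z * d := by rw [h5, ← h8]; group
    _ = a * b * (c * y) * z * d := by rw [h4]; group
    _ = a * b * y * (c * z) * d := by rw [← h6]; group
    _ = _ := by rw [← h7]; group

theorem fuse {K G : Type*} [Group G] [Field K] [CharP K 2] (S : H38.StRel chevE6 K G) (u v : K) (h : u + v = 1) :
    S.x 42 u * S.x 37 v * (S.x 40 1 * S.x 43 1) =
      S.x 40 1 * (S.x 43 1 * S.x 44 1) * (S.x 42 u * S.x 37 v) := by
  have c0 : ∀ r s, r < 72 → s < 72 → s ≠ r → s ≠ chevE6.neg r → chevE6.commTerms r s = [] →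
      ∀ t u, S.x s u * S.x r t = S.x r t * S.x s u := fun r s h1 h2 h3 h4 h5 t u => by
    have := S.comm r h1 s h2 h3 h4 t u
    rwa [ChevalleyDatum.commWord, h5, List.map_nil, List.map_nil, List.prod_nil, mul_one] at this
  have c1 := S.comm 40 (by decide) 42 (by decide) (by decide) (by decide +kernel) 1 u
  have c2 := S.comm 43 (by decide) 37 (by decide) (by decide) (by decide +kernel) 1 v
  rw [ChevalleyDatum.commWord, show chevE6.commTerms 40 42 = [(44, 1, 1, 1)] by decide +kernel] at c1
  rw [ChevalleyDatum.commWord, show chevE6.commTerms 43 37 = [(44, -1, 1, 1)] by decide +kernel] at c2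
  simp only [List.map_cons, List.map_nil, List.prod_cons, List.prod_nil, mul_one,
    Int.cast_neg, Int.cast_one, CharTwo.neg_eq, one_mul, pow_one] at c1 c2
  rw [← h, ← S.x_add 44 (by decide), h]
  refine conj_aux c1 c2 ?_ ?_ ?_ ?_ ?_ ?_ <;>
    exact c0 _ _ (by decide) (by decide) (by decide) (by decide +kernel) (by decide +kernel) _ _

/-- The twisted group ²E₆(q), q even, realised inside the Chevalley group of type E₆ over the field K with q² elements, has exactly three conjugacy classes of elements of order 2. -/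
theorem result {K : Type*} [Field K] [Fintype K] [CharP K 2] (q : ℕ) (hK : Fintype.card K = q ^ 2) :
    (ConjClasses.mk '' {g : ↥(Cfsg.Lie.twistedE6 K q) | orderOf g = 2}).ncard = 3 := by
  have hq : IsPrimePow q := (isPrimePow_pow_iff (by norm_num)).mp (hK ▸ FiniteField.isPrimePow_card K)
  obtain ⟨R, E, hE, T, h, hA⟩ := H39.exists_E6 hq hK
  have hg : ∀ w ∈ [[56, 36], [15, 35], [42, 37], [29, 34], [46], [25], [39], [32]], H39.w1 hE w ∈ T.Γ := by
    intro w hw
    simp only [List.mem_cons, List.not_mem_nil, or_false] at hw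
    rw [H39.w1_eq_wd]
    refine H39.wd_mem hA rfl ?_
    rcases hw with rfl | rfl | rfl | rfl | rfl | rfl | rfl | rfl
    · exact Or.inr ⟨1, (e6p1, e6p6), by simp, by simp; decide⟩
    · exact Or.inr ⟨1, (e6m1, e6m6), by simp, by simp; decide⟩
    · exact Or.inr ⟨1, (e6p3, e6p5), by simp, by simp; decide⟩
    · exact Or.inr ⟨1, (e6m3, e6m5), by simp, by simp; decide⟩
    · exact Or.inl ⟨1, one_pow _, e6p2, by simp, rfl⟩
    · exact Or.inl ⟨1, one_pow _, e6m2, by simp, rfl⟩
    · exact Or.inl ⟨1, one_pow _, e6p4, by simp, rfl⟩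
    · exact Or.inl ⟨1, one_pow _, e6m4, by simp, rfl⟩
  have e1 : H39.w1 hE (H39.ex [[56, 36], [15, 35], [42, 37], [29, 34], [46], [25], [39], [32]] [6, 7, 6, 2, 6, 7, 6]) = H39.w1 hE [40, 43] :=
    H39.tabOK_E6.w1_eq hE (by decide +kernel)
  have e3 : H39.w1 hE (H39.ex [[56, 36], [15, 35], [42, 37], [29, 34], [46], [25], [39], [32]] [6, 7, 6, 2, 6, 7, 6, 2, 3, 2, 6, 2, 3, 2]) = H39.w1 hE [40, 43, 44] :=
    H39.tabOK_E6.w1_eq hE (by decide +kernel)
  obtain ⟨u, hu⟩ : ∃ u : K, u + u ^ q = 1 := by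
    obtain ⟨t, ht⟩ : ∃ t : K, t ^ q ≠ t := by
      by_contra hn
      push Not at hn
      have h1 := H39.card_fixed hq.one_lt.le hK
      rw [Nat.card_congr (Equiv.subtypeUnivEquiv hn), Nat.card_eq_fintype_card, hK] at h1
      have := hq.one_lt
      nlinarith
    have h0 : t + t ^ q ≠ 0 := fun e => ht (CharTwo.add_eq_zero.mp e).symm
    refine ⟨t / (t + t ^ q), ?_⟩
    rw [div_pow, ← h.hφ (0 : Fin 6) (t + _), map_add, h.hφ, h.hφ, h.pow_pow, add_comm (t ^ q),
      ← add_div, div_self h0]
  have hy : hE.grpRel.x 42 u * hE.grpRel.x 37 (u ^ q) ∈ T.Γ := by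
    have := H39.wd_mem hA rfl (w := [(e6p3, u), (e6p5, u ^ q)])
      (Or.inr ⟨u, (e6p3, e6p5), by simp, rfl⟩)
    simpa [H39.wd, e6p3, e6p5] using this
  refine H39.ncard_tw hA ![H39.w1 hE [46], H39.w1 hE [40, 43], H39.w1 hE [46, 42, 37]]
    (fun i => ?_) (fun i => ?_) ![22, 32, 38] (fun i => ?_) (by decide) (by decide)
    fun t ht h2 h1 => ?_
  · fin_cases i
    · exact hg _ (by simp)
    · exact e1 ▸ H39.w1_ex_mem hE hg _
    · exact H39.w1_ex_mem hE hg [4, 2]
  · fin_cases i <;> exact (H39.w1_append hE _ _).symm.trans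
      (H39.tabOK_E6.w1_eq hE (w' := []) (by decide +kernel))
  · fin_cases i
    · exact rk0 hE
    · exact rk1 hE
    · exact rk2 hE
  · obtain ⟨g, hg, k, hk, e⟩ := H39.tabOK_E6.invol h.good hg ok h.hρ cover ht h2 h1
    obtain rfl | rfl | rfl | rfl : k = 0 ∨ k = 1 ∨ k = 2 ∨ k = 3 := by simp at hk; omega
    · exact ⟨g, hg, 0, e⟩
    · exact ⟨g, hg, 1, e.trans e1⟩
    · exact ⟨g, hg, 2, e⟩
    · refine ⟨_ * g, T.Γ.mul_mem (T.Γ.inv_mem hy) hg, 1, ?_⟩
      have e4 := fuse hE.grpRel u (u ^ q) hu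
      have e5 : g * t * g⁻¹ = hE.grpRel.x 40 1 * (hE.grpRel.x 43 1 * hE.grpRel.x 44 1) :=
        (e.trans e3).trans (by simp [H39.w1])
      rw [← e5] at e4
      refine Eq.trans ?_ (show hE.grpRel.x 40 1 * hE.grpRel.x 43 1 = _ by simp [H39.w1])
      rw [eq_inv_mul_of_mul_eq e4]; group

end Cfsg.Agent.S2182
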