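import Cfsg.Statements.S0983
import Mathlib
import Cfsg.Agent.Lib.H4.Sieve2

set_option autoImplicit false
open Cfsg

namespace Cfsg.Agent.S0983

theorem r1 : H4.Sv.killRange [4080, 4320] 700 3641 = true := by decide +kernel
theorem r2 : H4.Sv.killRange [4620] 700 4341 = true := by decide +kernel
theorem r3 : H4.Sv.killRange [5400, 5460, 5616] 600 5041 = true := by decide +kernel
theorem r4 : H4.Sv.killRange [6048, 6072] 592 5641 = true := by decide +kernel

/-- A non-abelian finite simple group of order greater than 3640 and at most 6232 has order 4080, 5616, 6048 or 6072. -/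
theorem result {G : Type*} [Group G] [Finite G] [IsSimpleGroup G] (hG : ¬ IsMulCommutative G) (h1 : 3640 < Nat.card G) (h2 : Nat.card G ≤ 6232) : Nat.card G = 4080 ∨ Nat.card G = 5616 ∨ Nat.card G = 6048 ∨ Nat.card G = 6072 := by
  have a := H4.Sv.card_ne_4320 hG
  have b := H4.Sv.card_ne_4620 hG
  have c := H4.Sv.card_ne_5400 hG
  have d := H4.Sv.card_ne_5460 hG
  by_cases e1 : Nat.card G < 4341
  · have := H4.Sv.card_mem hG r1 (by omega) (by omega)
    simp only [List.mem_cons, List.not_mem_nil, or_false] at this
    omega
  by_cases e2 : Nat.card G < 5041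
  · have := H4.Sv.card_mem hG r2 (by omega) (by omega)
    simp only [List.mem_cons, List.not_mem_nil, or_false] at this
    omega
  by_cases e3 : Nat.card G < 5641
  · have := H4.Sv.card_mem hG r3 (by omega) (by omega)
    simp only [List.mem_cons, List.not_mem_nil, or_false] at this
    omega
  · have := H4.Sv.card_mem hG r4 (by omega) (by omega)
    simp only [List.mem_cons, List.not_mem_nil, or_false] at this
    omega

end Cfsg.Agent.S0983
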