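import Cfsg.Statements.S0972
import Mathlib
import Cfsg.Agent.Base
import Cfsg.Agent.Lib.Block.Inert

set_option autoImplicit false
open Cfsg

namespace Cfsg.Agent.S0972

/-- Let B be a block of the finite group G (relative to a maximal ideal M of the algebraic integers containing the prime p) with a defect group P that is normal in G. Then P is commutative if and only if every member of B has height zero. -/
theorem result {G : Type*} [Group G] [Finite G] (p : ℕ) [Fact p.Prime] (M : Ideal Cfsg.AlgInt) (hM : Cfsg.IsPModular p M) (B : Set (Cfsg.IrrCharacter G)) (hB : Cfsg.IsPBlock M B) (P : Subgroup G) [P.Normal] (hP : Cfsg.IsDefectGroup p M B P) : (∀ a ∈ P, ∀ c ∈ P, a * c = c * a) ↔ ∀ χ ∈ B, Cfsg.blockHeight p B (χ : G → ℂ) = 0 := by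
  haveI := hM.2.1
  haveI := H33.charP hM
  haveI := Fintype.ofFinite G
  have hPp : IsPGroup p P := ((H86.isDefectGroup_iff hB P).mp hP).pgrp
  obtain ⟨h1, h2⟩ := H35.heights_of_normal_defect hM hB hP
  have hle : P ≤ P ⊔ H86.Cen P := le_sup_left
  constructor
  · intro hc χ hχ
    obtain ⟨ξ, hξ⟩ := h1 χ hχ
    have h3 : (ξ : P.subgroupOf (P ⊔ H86.Cen P) → ℂ) 1 = 1 :=
      H6.irr_one_eq_one_of_comm
        (fun a b => Subtype.ext (Subtype.ext (hc _ a.2 _ b.2))) ξ.2
    rw [← H84.cast_deg, Nat.cast_eq_one] at h3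
    rw [hξ, h3]
    simp
  · intro h0 a ha c hc
    have h3 : ∀ a b : P.subgroupOf (P ⊔ H86.Cen P), a * b = b * a := by
      refine H6.comm_iff_irr_one.mpr fun ξ => ?_
      obtain ⟨χ, hχ, e⟩ := h2 ξ
      rw [h0 χ hχ] at e
      obtain ⟨n, hn⟩ := (H86.isPGroup_subgroupOf (K := P ⊔ H86.Cen P) hPp).exists_card_eq
      have h4 := H84.deg_dvd_card ξ
      rw [hn, Nat.dvd_prime_pow Fact.out] at h4
      obtain ⟨k, -, hk⟩ := h4
      rw [hk, Nat.Prime.factorization_pow Fact.out, Finsupp.single_eq_same] at e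
      rw [← H84.cast_deg, hk, ← e]
      simp
    exact congrArg (fun x : P.subgroupOf (P ⊔ H86.Cen P) => ((x : (P ⊔ H86.Cen P : Subgroup G)) : G))
      (h3 ⟨⟨a, hle ha⟩, ha⟩ ⟨⟨c, hle hc⟩, hc⟩)

end Cfsg.Agent.S0972
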