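import Cfsg.Statements.S0132
import Mathlib
import Cfsg.Agent.Lib.Transfer.Control
import Cfsg.Agent.Lib.BG.Api.Core
import Cfsg.Agent.Lib.BG.Api.Hall

set_option autoImplicit false
open Cfsg

namespace Cfsg.Agent.S0132

/-- A minimal non-p-nilpotent finite group is a minimal non-nilpotent group with a normal Sylow p-subgroup. -/
theorem result {G : Type*} [Group G] [Finite G] {p : ℕ} [Fact p.Prime] (h1 : ¬ Cfsg.HasNormalPComplement p G) (h2 : ∀ H : Subgroup G, H ≠ ⊤ → Cfsg.HasNormalPComplement p H) : (∀ H : Subgroup G, H ≠ ⊤ → Group.IsNilpotent H) ∧ ¬ Group.IsNilpotent G ∧ ∀ P : Sylow p G, (P : Subgroup G).Normal := by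
  classical
  obtain ⟨P₀⟩ : Nonempty (Sylow p G) := inferInstance
  have h3 : ¬ ∀ Q : Subgroup G, Q ≤ (P₀ : Subgroup G) → ∀ q : ℕ, q.Prime → q ≠ p → q ∣ Nat.card G →
      ∀ g ∈ Subgroup.normalizer (Q : Set G), (∃ k : ℕ, g ^ q ^ k = 1) →
        g ∈ Subgroup.centralizer (Q : Set G) :=
    fun h => h1 (H4.hasNormalPComplement_of_forall_prime_pow P₀ h)
  push Not at h3
  obtain ⟨X, hXP, q, hq, hqp, -, g, hgN, ⟨k, hk⟩, hgC⟩ := h3
  have hX : IsPGroup p X := P₀.isPGroup'.to_le hXP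
  have hpq : Nat.Coprime (q ^ k) p :=
    Nat.Coprime.pow_left _ ((Nat.coprime_primes hq Fact.out).2 hqp)
  have htop : X ⊔ Subgroup.zpowers g = ⊤ := by
    by_contra hne
    exact hgC (H4.mem_centralizer_of_hasNormalPComplement (h2 _ hne) hX le_sup_left
      (Subgroup.mem_sup_right (Subgroup.mem_zpowers g)) hgN
      (Nat.Coprime.coprime_dvd_left (orderOf_dvd_of_pow_eq_one hk) hpq))
  have hXn : X.Normal := Subgroup.normalizer_eq_top_iff.1 (top_le_iff.1
    (htop ▸ sup_le Subgroup.le_normalizer (Subgroup.zpowers_le.2 hgN)))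
  have hpow : ∀ y : G, y ^ q ^ k ∈ X := fun y => by
    have hy : y ∈ X ⊔ Subgroup.zpowers g := htop ▸ Subgroup.mem_top y
    rw [← SetLike.mem_coe, Subgroup.normal_mul] at hy
    obtain ⟨x, hx, _, ⟨i, rfl⟩, rfl⟩ := hy
    rw [← QuotientGroup.eq_one_iff]
    simp only [QuotientGroup.mk_pow, QuotientGroup.mk_mul, (QuotientGroup.eq_one_iff x).2 hx,
      one_mul, QuotientGroup.mk_zpow]
    rw [← zpow_natCast, ← zpow_mul, mul_comm, zpow_mul, zpow_natCast, ← QuotientGroup.mk_pow, hk]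
    simp
  have hSyl : ∀ P : Sylow p G, (P : Subgroup G) = X := fun P => by
    refine le_antisymm (fun y hy => ?_) (hX.le_sylow_of_normal P)
    obtain ⟨j, hj⟩ := P.isPGroup' ⟨y, hy⟩
    have hj' : y ^ p ^ j = 1 := congrArg Subtype.val hj
    exact H4.mem_of_pow_mem_of_coprime (hpow y) (Nat.Coprime.coprime_dvd_left
      (orderOf_dvd_of_pow_eq_one hj') (Nat.Coprime.pow_left _ hpq.symm))
  refine ⟨fun H hH => ?_, fun h => h1 H4.hasNormalPComplement_of_isNilpotent,
    fun P => hSyl P ▸ hXn⟩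
  have := Fact.mk hq
  let K : Subgroup G := (pResidual p H).map H.subtype
  have hKH : K ≤ H := Subgroup.map_subtype_le _
  have hK : ¬ p ∣ Nat.card K := (H4.hasNormalPComplement_iff_card_map H).1 (h2 H hH)
  have hKq : IsPGroup q K := fun y => ⟨k, Subtype.ext (by
    have h4 : (y : G) ^ q ^ k ∈ K ⊓ X := ⟨pow_mem y.2 _, hpow y⟩
    rw [H4.inf_eq_bot_of_not_dvd_card hK hX] at h4
    exact h4)⟩
  have hnK : H ≤ Subgroup.normalizer (K : Set G) :=
    Subgroup.le_normalizer.trans (H4.normalizer_le_normalizer_pResidual H)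
  have hnX : H ≤ Subgroup.normalizer ((X ⊓ H : Subgroup G) : Set G) :=
    H69.le_normalizer_inf Subgroup.le_normalizer_of_normal Subgroup.le_normalizer
  have hsup : K ⊔ (X ⊓ H) = H := by
    refine le_antisymm (sup_le hKH inf_le_right) ?_
    obtain ⟨S⟩ : Nonempty (Sylow p H) := inferInstance
    have h4 := congrArg (Subgroup.map H.subtype) (H4.pResidual_sup_sylow S)
    rw [Subgroup.map_sup, ← MonoidHom.range_eq_map, Subgroup.range_subtype] at h4
    refine h4.ge.trans (sup_le_sup_left (le_inf ?_ (Subgroup.map_subtype_le _)) _)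
    obtain ⟨P, hP⟩ := (S.isPGroup'.map H.subtype).exists_le_sylow
    exact hSyl P ▸ hP
  rw [← hsup]
  exact H45.nilpotent_sup (hKH.trans hnX) (inf_le_right.trans hnK) hKq.isNilpotent
    hX.to_inf_left.isNilpotent

end Cfsg.Agent.S0132
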