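import Cfsg.Statements.S4432
import Mathlib
import Cfsg.Agent.Base
import Cfsg.Agent.Lib.Blk86.Cov

set_option autoImplicit false
open Cfsg

namespace Cfsg.Agent.S4432

open H86 MonoidAlgebra in
theorem exists_unit_cpt {F G : Type*} [Field F] [Group G] [Finite G] {N : Subgroup G} {c : F[G]}
    (hc : IsBlk N c) {i : F[G]} (hs : Supp (Nor N) i) (hi : Inv N i) (hii : i * i = i)
    (hic : i * c ≠ 0) : ∃ s ∈ Nor N, ∃ a : F[G], Inv N a ∧ ∃ y ∈ Zc F N,
      cpt N s⁻¹ a * cpt N s i * y = c := by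
  by_contra h0
  let A := Fx F (Nor N) N
  let S : Set F[G] := {u | u ∈ A ∧ c * u = u ∧ i * u ≠ 0 ∧ ∃ t ∈ Nor N, HomD N t u}
  let m : F[G] → ℕ := fun u =>
    Module.finrank F ((Subalgebra.toSubmodule A).map (LinearMap.mulRight F u))
  have hcA : c ∈ A := ⟨hc.supp.mono Subgroup.le_normalizer, hc.inv⟩
  have hcS : c ∈ S := ⟨hcA, hc.idem, hic, 1, one_mem _, homD_one.2 hc.supp⟩
  obtain ⟨u, ⟨huA, hcu, hiu, t, ht, hut⟩, hmin⟩ :=
    (measure m).wf.has_min S ⟨c, hcS⟩
  have hcomm : ∀ a ∈ A, c * a = a * c := fun a ha => (ha.2.comm hc.supp).symm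
  obtain ⟨s, hsN, hne'⟩ := exists_cpt_ne_zero (N := N) Subgroup.le_normalizer hs
    ((LinearMap.mulLeft F i).comp (LinearMap.mulRight F u)) (by
      change i * (i * u) ≠ 0
      rwa [← mul_assoc, hii])
  have hsA : cpt N s i ∈ A := ⟨hs.cpt s, hi.cpt hsN⟩
  have hv : HomD N (s * t) (cpt N s i * u) := (homD_cpt s i).mul hut ht
  have hvS : cpt N s i * u ∈ S :=
    ⟨A.mul_mem hsA huA, by rw [← mul_assoc, hcomm _ hsA, mul_assoc, hcu], hne', s * t,
      mul_mem hsN ht, hv⟩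
  have hle : (Subalgebra.toSubmodule A).map (LinearMap.mulRight F (cpt N s i * u)) ≤
      (Subalgebra.toSubmodule A).map (LinearMap.mulRight F u) := by
    rintro _ ⟨a, ha, rfl⟩
    exact ⟨a * cpt N s i, A.mul_mem ha hsA, mul_assoc _ _ _⟩
  have heq := Submodule.eq_of_le_of_finrank_le hle (not_lt.1 (hmin _ hvS))
  obtain ⟨a, ha, hau⟩ : u ∈ (Subalgebra.toSubmodule A).map (LinearMap.mulRight F (cpt N s i * u)) :=
    heq ▸ ⟨1, A.one_mem, one_mul u⟩
  have h1 := hut.eq_cpt_mul hv hsN ht hau.symm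
  have haA : cpt N s⁻¹ a ∈ A := ⟨ha.1.cpt _, ha.2.cpt (inv_mem hsN)⟩
  have hj : cpt N s⁻¹ a * cpt N s i ∈ Zc F N := by
    refine ⟨?_, (A.mul_mem haA hsA).2⟩
    have := (homD_cpt s⁻¹ a).mul (homD_cpt s i) hsN
    rwa [inv_mul_cancel, homD_one] at this
  rcases hc.dvd_or_nilpotent (isComm_Zc N) hj with ⟨y, hy, h2⟩ | ⟨n, hn⟩
  · exact h0 ⟨s, hsN, a, ha.2, y, hy, h2⟩
  · have h3 : ∀ k : ℕ, (cpt N s⁻¹ a * cpt N s i * c) ^ k * u = u := by
      intro k
      induction k with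
      | zero => simp
      | succ k ih => rw [pow_succ, mul_assoc, mul_assoc _ c, hcu, mul_assoc _ _ u, ← h1, ih]
    apply hiu
    rw [← h3 n, hn, zero_mul, mul_zero]

open H86 MonoidAlgebra in
theorem cpt_mul_supp {R G : Type*} [CommRing R] [Group G] [Finite G] {N : Subgroup G}
    (t : G) (x : R[G]) {y : R[G]} (hy : Supp N y) : cpt N t x * y = cpt N t (x * y) := by
  classical
  have := Fintype.ofFinite G
  refine H33.alg_ext fun g => ?_
  rw [coeff_cpt, H33.coeff_mul_sum', H33.coeff_mul_sum']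
  by_cases hg : t⁻¹ * g ∈ N
  · rw [if_pos hg]
    refine Finset.sum_congr rfl fun h _ => ?_
    by_cases hh : h ∈ N
    · rw [coeff_cpt, if_pos]
      rw [← mul_assoc]
      exact N.mul_mem hg (N.inv_mem hh)
    · rw [hy h hh, mul_zero, mul_zero]
  · rw [if_neg hg]
    refine Finset.sum_eq_zero fun h _ => ?_
    by_cases hh : h ∈ N
    · rw [coeff_cpt, if_neg, zero_mul]
      intro h1
      apply hg
      have := N.mul_mem h1 hh
      simpa [mul_assoc] using this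
    · rw [hy h hh, mul_zero]

open H86 H33 MonoidAlgebra in
theorem redA_cpt {M : Ideal AlgInt} [M.IsMaximal] {G : Type*} [Group G] [Finite G] {N : Subgroup G}
    (t : G) (x : ℂ[G]) : redA M (cpt N t x) = cpt N t (redA M x) := by
  refine H33.alg_ext fun g => ?_
  rw [coeff_redA, coeff_cpt, coeff_cpt, coeff_redA]
  split_ifs <;> simp

open H86 H33 MonoidAlgebra in
theorem cpt_mem_OG {M : Ideal AlgInt} [M.IsMaximal] {G : Type*} [Group G] [Finite G] {N : Subgroup G}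
    (t : G) {x : ℂ[G]} (hx : x ∈ OG M G) : cpt N t x ∈ OG M G := by
  intro g
  rw [coeff_cpt]
  split_ifs
  · exact hx g
  · exact zero_mem _


/-- Let N be a normal subgroup of the finite group G, b a block of N and B a block of G (relative to a maximal ideal M of the algebraic integers containing p) such that B covers b: some member of B has a constituent in b on restriction to N. Then every θ ∈ b is a constituent of the restriction of some χ ∈ B. -/
theorem result {G : Type*} [Group G] [Fintype G] (p : ℕ) [Fact p.Prime] (M : Ideal Cfsg.AlgInt) (hM : Cfsg.IsPModular p M) (N : Subgroup G) [hN : N.Normal] [Fintype N] (B : Set (Cfsg.IrrCharacter G)) (hB : Cfsg.IsPBlock M B) (b : Set (Cfsg.IrrCharacter N)) (hb : Cfsg.IsPBlock M b) (hcov : (∃ χ ∈ B, ∃ θ ∈ b, Cfsg.classInner (fun n : N => (χ : G → ℂ) n) (θ : N → ℂ) ≠ 0)) (θ : Cfsg.IrrCharacter N) (hθ : θ ∈ b) : ∃ χ ∈ B, Cfsg.classInner (fun n : N => (χ : G → ℂ) n) (θ : N → ℂ)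 ≠ 0 := by
  haveI := H33.isMaximal_of hM; haveI := H33.charP hM
  have hn : ⊤ ≤ H86.Nor N := (Subgroup.normalizer_eq_top N).ge
  by_contra hne
  have h0 : H33.fB B * H86.fS N {θ} = 0 := by
    have h1 : H33.fB (H35.upSet G {θ}) = H86.fS N (H35.cjOrb G {θ}) := by
      refine (H86.emb_subtype_ext (fun g hg => ?_) fun k => ?_).symm
      · rw [H33.coeff_fB, H35.blockCoeff_upSet_eq_zero _ hg]
      · rw [H33.coeff_fB, H33.coeff_fB, H35.blockCoeff_upSet_eq]
    have h2 : H86.fS N (H35.cjOrb G {θ}) * H86.fS N {θ} = H86.fS N {θ} := by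
      rw [H86.fS, H86.fS, ← map_mul, H33.fB_mul_fB, Set.inter_eq_right.2 (H35.subset_cjOrb _)]
    have h3 : B ∩ H35.upSet G {θ} = ∅ := Set.eq_empty_of_forall_notMem fun χ hχ => by
      obtain ⟨ψ, rfl, h⟩ := hχ.2
      exact hne ⟨χ, hχ.1, h⟩
    rw [← h2, ← mul_assoc, ← h1, H33.fB_mul_fB, h3, H33.fB_empty, zero_mul]
  obtain ⟨s, hs, a, ha, y, hy, h⟩ := exists_unit_cpt (H86.isBlk_eS hb) (i := H33.eB M B)
    (fun g hg => absurd (hn trivial) hg) ((H33.isCent_eB B).inv N) (H33.eB_idem hB)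
    ((H86.covers_iff hB hb).1 hcov)
  obtain ⟨a', ha'O, rfl, -, ha'⟩ := H33.exists_lift a
  have hinv : H86.Inv N a' := fun n hn g => ha' _ _ (ha n hn g)
  set j := H86.cpt N s⁻¹ a' * H86.cpt N s (H33.fB B) with hj
  have hjZ : j ∈ H86.Zc ℂ N := by
    refine ⟨?_, (hinv.cpt (inv_mem hs)).mul (((H33.isCent_fB B).inv N).cpt hs)⟩
    have := (H86.homD_cpt s⁻¹ a').mul (H86.homD_cpt s (H33.fB B)) hs
    rwa [inv_mul_cancel, H86.homD_one] at this
  have hjO : j ∈ H33.OG M G :=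
    mul_mem (cpt_mem_OG _ ha'O) (cpt_mem_OG _ (H33.fB_mem_OG hB))
  have hj0 : j * H86.fS N {θ} = 0 := by
    rw [hj, mul_assoc, cpt_mul_supp _ _ (H86.fS_mem_Zc N _).1, h0]
    have : H86.cpt N s (0 : MonoidAlgebra ℂ G) = 0 :=
      H33.alg_ext fun g => by rw [H86.coeff_cpt]; simp
    rw [this, mul_zero]
  have hred : H33.redA M j * y = H86.eS M N b := by
    rw [hj, H33.redA_mul (cpt_mem_OG _ ha'O) (cpt_mem_OG _ (H33.fB_mem_OG hB)), redA_cpt,
      redA_cpt, ← H33.eB_def, h]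
  obtain ⟨j', hj'⟩ := H86.exists_emb_subtype hjZ.1
  obtain ⟨y', rfl⟩ := H86.exists_emb_subtype hy.1
  rw [← hj'] at hjZ hjO hj0 hred
  have hc1 := H86.emb_subtype_mem_Zc.1 hjZ
  have hc2 := H86.emb_subtype_mem_Zc.1 hy
  have hO := (H86.emb_mem_OG N.subtype_injective).1 hjO
  rw [H86.fS, ← map_mul, H86.emb_eq_zero_iff N.subtype_injective] at hj0
  rw [H86.redA_emb N.subtype_injective, ← map_mul, H86.eS] at hred
  have h4 := H86.emb_injective N.subtype_injective hred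
  have h5 : H33.omega (θ : N → ℂ) j' = 0 := by
    have := congrArg (H33.omega (θ : N → ℂ)) hj0
    rwa [H33.omega_cent_mul θ hc1, H33.omega_fB_of_mem (Set.mem_singleton θ), mul_one,
      map_zero] at this
  have h6 := congrArg (H33.lam M (θ : N → ℂ)) h4
  rw [H33.lam_mul θ (hc1.redA M) hc2, ← H33.red_omega θ hc1 hO, h5, H33.red_zero, zero_mul,
    H33.lam_eB_of_mem hb hθ] at h6
  exact zero_ne_one h6

end Cfsg.Agent.S4432
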