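import Mathlib
import Cfsg.Statements.S4512
import Cfsg.Agent.Lib.H85.Prin4
import Cfsg.Agent.S0948
-- import your own Cfsg.Agent.* helpers here

set_option autoImplicit false
open Cfsg

namespace Cfsg.Agent.S4512

/-- If G is a finite group with a Sylow 2-subgroup that is a Klein four-group and a single conjugacy class of involutions, then its principal 2-block (relative to a maximal ideal M of the algebraic integers containing 2) has 2-regular rank 3: the restrictions of its irreducible characters to the elements of odd order span a space of dimension 3 (it has three irreducible Brauer characters). -/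
theorem result {G : Type*} [Group G] [Finite G] (M : Ideal Cfsg.AlgInt) (hM : Cfsg.IsPModular 2 M) (P : Sylow 2 G)
    (hP : Nat.card P = 4) (hexp : ∀ x : P, x * x = 1)
    (hone : ∀ s t : G, orderOf s = 2 → orderOf t = 2 → IsConj s t) :
    Cfsg.blockRank 2 (Cfsg.principalBlock M G) = 3 := by
  classical
  have := H33.isMaximal_of hM
  have hV : IsKleinFour (P : Subgroup G) := by
    refine ⟨hP, ?_⟩
    have : Nontrivial (P : Subgroup G) := Finite.one_lt_card_iff_nontrivial.1 (by rw [hP]; norm_num)
    exact Monoid.exponent_eq_prime_iff Nat.prime_two |>.2 fun g hg =>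
      orderOf_eq_prime (by rw [pow_two, hexp]) hg
  have h := H34.rk2_of_isKleinFour hV
  obtain ⟨ζ₂, ζ₃, ζ₄, ε, -, h2, h3, h23, h24, h34, hB, hv, -⟩ := Cfsg.Agent.S0948.result M hM P hV hone
  obtain ⟨z, hz, -, -, hz1, -, -, hz2, -⟩ := h.ex
  have hzo : orderOf z = 2 := orderOf_eq_prime hz2 hz1
  have hze : H35.IsPElt 2 z := ⟨1, by simp [hzo]⟩
  have h4 : (ζ₄ : G → ℂ) ≠ fun _ => 1 := by
    intro h
    have := (hv z hzo).2.2
    rw [h] at this
    norm_num at this
  have hcard : Nat.card (Cfsg.principalBlock M G) = 4 := by
    have : Cfsg.principalBlock M G = ({H84.irrOne G, ζ₂, ζ₃, ζ₄} : Finset _) := by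
      rw [hB]
      ext χ
      simp only [Set.mem_setOf_eq, Finset.coe_insert, Finset.coe_singleton, Set.mem_insert_iff,
        Set.mem_singleton_iff]
      refine or_congr_left ⟨fun h => Subtype.ext h, fun h => by rw [h]; rfl⟩
    rw [this, Nat.card_coe_set_eq, Set.ncard_coe_finset]
    have e2 : H84.irrOne G ≠ ζ₂ := fun h => h2 (by rw [← h]; rfl)
    have e3 : H84.irrOne G ≠ ζ₃ := fun h => h3 (by rw [← h]; rfl)
    have e4 : H84.irrOne G ≠ ζ₄ := fun h => h4 (by rw [← h]; rfl)
    rw [Finset.card_insert_of_notMem (by simp [e2, e3, e4]), Finset.card_insert_of_notMem (by simp [h23, h24]),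
      Finset.card_pair h34]
  have hsum := H85.card_prin_eq_sum hM (X := {1, z}) (by
    intro x hx
    simp only [Finset.mem_insert, Finset.mem_singleton] at hx
    rcases hx with rfl | rfl
    · exact ⟨0, by simp⟩
    · exact hze) (by
    intro g hg
    by_cases hg1 : g = 1
    · subst hg1
      refine ⟨1, by simp, fun y hy => ?_⟩
      exact (isConj_one_right.1 hy.2)
    · refine ⟨z, ⟨by simp, ?_⟩, fun y hy => ?_⟩
      · apply hone _ _ _ hzo
        obtain ⟨a, ha⟩ := hg.exists_conj_mem P
        have h1 := congrArg Subtype.val (hexp ⟨_, ha⟩)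
        have h2 : g ^ 2 = 1 := by
          have : a * (g * g) * a⁻¹ = 1 := by simpa [mul_assoc] using h1
          rw [pow_two]; simpa using this
        exact orderOf_eq_prime h2 hg1
      · have := hy.1
        simp only [Finset.mem_insert, Finset.mem_singleton] at this
        rcases this with rfl | rfl
        · exact absurd (isConj_one_left.1 hy.2) hg1
        · rfl)
  rw [Finset.sum_pair hz1.symm, hcard, H85.blockRank_prin_centralizer_one hM,
    (H85.blockRank_prin_eq_one_iff hM).2 (H34.hasNormalPComplement_centralizer P h hz hz1)] at hsum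
  omega

end Cfsg.Agent.S4512
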