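import Cfsg.Statements.S2302
import Mathlib
import Cfsg.Agent.Lib.GL2Char.SLMore

set_option autoImplicit false
open Cfsg

namespace Cfsg.Agent.S2302

open H62.GL2 in

/-- Over a finite field with q elements of characteristic 2, the involutions of SL₂ (the non-identity unipotent elements) form a single conjugacy class, of size q² − 1. -/
theorem result {F : Type*} [Field F] [Fintype F] [CharP F 2] (g h : Matrix.SpecialLinearGroup (Fin 2) F) (hg : orderOf g = 2) (hh : orderOf h = 2) :
    IsConj g h ∧ Nat.card (ConjClasses.mk g).carrier = Fintype.card F ^ 2 - 1 := by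
  classical
  have h2 : ringChar F = 2 := ringChar.eq F 2
  have h5 := FiniteField.even_card_of_char_two h2
  have hq := one_lt_q (F := F)
  have k1 : IsConj (tg g) (uu F) :=
    isConj_uu_of_orderOf (p := 2) (by rw [orderOf_injective _ tg_injective, hg])
  have k2 : IsConj (tg h) (uu F) :=
    isConj_uu_of_orderOf (p := 2) (by rw [orderOf_injective _ tg_injective, hh])
  constructor
  · obtain ⟨y, rfl⟩ := exists_cj_of_isConj (k1.trans k2.symm)
    exact isConj_cj_of_isSquare (FiniteField.isSquare_of_char_two h2 _) g
  · have := card_carrier_unipotent k1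
    rwa [show Nat.gcd (Fintype.card F - 1) 2 = 1 from
      (Nat.coprime_two_right).2 (Nat.odd_iff.2 (by omega)), mul_one] at this

end Cfsg.Agent.S2302
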