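import Mathlib
import Cfsg.Statements.S0018
import Cfsg.Agent.Lib.Core.Fitting

set_option autoImplicit false
open Cfsg

namespace Cfsg.Agent.S0018

/-- A finite solvable group whose Sylow p-subgroups are abelian has p-length one: a Sylow p-subgroup together with the largest normal subgroup of order prime to p generates a normal subgroup. -/
theorem result {G : Type*} [Group G] [Finite G] [Group.IsSolvable G]
    (p : ℕ) [Fact p.Prime] (P : Sylow p G) (hP : IsMulCommutative P) :
    ((P : Subgroup G) ⊔ Cfsg.pPrimeCore p G).Normal := by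
  set f := QuotientGroup.mk' (pPrimeCore p G) with hf
  have hs : Function.Surjective f := QuotientGroup.mk'_surjective _
  have h1 := H1.centralizer_pCore_le_of_isSolvable (G := G ⧸ pPrimeCore p G) (p := p)
    H1.pPrimeCore_quotient_pPrimeCore
  have h2 : pCore p (G ⧸ pPrimeCore p G) ≤ (P : Subgroup G).map f :=
    H1.pCore_le_sylow (P.mapSurjective hs)
  have h3 : (P : Subgroup G).map f ≤ pCore p (G ⧸ pPrimeCore p G) := by
    refine le_trans ?_ h1
    rintro _ ⟨x, hx, rfl⟩ y hy
    obtain ⟨z, hz, rfl⟩ := h2 hy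
    rw [← map_mul, ← map_mul]
    congr 1
    exact congrArg Subtype.val (hP.is_comm.comm (⟨z, hz⟩ : P) ⟨x, hx⟩)
  have h4 : (P : Subgroup G) ⊔ pPrimeCore p G = (pCore p (G ⧸ pPrimeCore p G)).comap f := by
    rw [le_antisymm h2 h3, Subgroup.comap_map_eq, QuotientGroup.ker_mk']
  rw [h4]
  infer_instance

end Cfsg.Agent.S0018
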