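import Cfsg.Statements.S4701
import Mathlib
import Cfsg.Agent.Base
import Cfsg.Agent.S4700
import Cfsg.Agent.Lib.GL.Basic
import Cfsg.Agent.Lib.Block.SelfCen

set_option autoImplicit false
open Cfsg

namespace Cfsg.Agent.S4701

/-- Let G be a finite perfect group and p a prime dividing the order of G with p^3 larger than the order of G. Suppose a Sylow p-subgroup of G is not normal and G has no normal subgroup of order 2. Then p > 3 and G is isomorphic to PSL(2, p), or to SL(2, 2^m) with p = 2^m + 1. -/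
theorem result {G : Type*} [Group G] [Finite G] (hperf : commutator G = ⊤) (p : ℕ) [Fact p.Prime] (hdvd : p ∣ Nat.card G) (hbig : Nat.card G < p ^ 3) (P : Sylow p G) (hP : ¬ (P : Subgroup G).Normal) (h2 : ∀ N : Subgroup G, N.Normal → Nat.card N ≠ 2) : (∃ (F : Type) (_ : Field F) (_ : Fintype F), Fintype.card F = p ∧ 3 < p ∧ Nonempty (G ≃* Matrix.ProjectiveSpecialLinearGroup (Fin 2) F)) ∨ (∃ (m : ℕ) (F : Type) (_ : Field F) (_ : Fintype F), Fintype.card F = 2 ^ m ∧ p = 2 ^ m + 1 ∧ 3 < p ∧ Nonempty (G ≃* Matrix.SpecialLinearGroup (Fin 2) F)) := by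
  have hp : p.Prime := Fact.out
  have hs : Nat.card (Sylow p G) = 1 + Nat.card (Sylow p G) / p * p := by
    have := card_sylow_modEq_one p G
    rw [Nat.ModEq, Nat.mod_eq_of_lt hp.one_lt] at this
    rw [← this, Nat.mod_add_div']
  generalize Nat.card (Sylow p G) / p = n at hs
  have hidx : Nat.card (Sylow p G) = (H86.Nor (P : Subgroup G)).index := P.card_eq_index_normalizer
  have hn0 : n ≠ 0 := by
    rintro rfl
    rw [hs, zero_mul, add_zero, eq_comm, Subgroup.index_eq_one] at hidx
    exact hP (Subgroup.normalizer_eq_top_iff.1 hidx)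
  have hG := (P : Subgroup G).card_mul_index
  have hr := Subgroup.relIndex_mul_index (K := H86.Nor (P : Subgroup G))
    (Subgroup.le_normalizer (H := (P : Subgroup G)))
  rw [← hidx, hs] at hr
  have hr0 : (P : Subgroup G).relIndex (H86.Nor (P : Subgroup G)) ≠ 0 :=
    Subgroup.index_ne_zero_of_finite
  have hPc : Nat.card P = p := by
    obtain ⟨k, hk⟩ := IsPGroup.iff_card.1 P.isPGroup'
    obtain _ | _ | k := k
    · rw [← hG, hk, pow_zero, one_mul] at hdvd
      exact absurd hdvd P.not_dvd_index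
    · simpa using hk
    · exfalso
      rw [← hG, hk, ← hr] at hbig
      have h1 : p * p ≤ p ^ (k + 1 + 1) := by
        rw [← sq]; exact Nat.pow_le_pow_right hp.pos (by omega)
      have h2 : p ≤ (P : Subgroup G).relIndex (H86.Nor (P : Subgroup G)) * (1 + n * p) :=
        le_mul_of_one_le_of_le (by omega) (le_add_left (Nat.le_mul_of_pos_left _ (by omega)))
      have := Nat.mul_le_mul h1 h2
      rw [show p ^ 3 = p * p * p by ring] at hbig
      omega
  have hq := Subgroup.card_eq_card_quotient_mul_card_subgroup (pPrimeCore p G)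
  have hbot : p ^ 3 ≤ Nat.card (G ⧸ pPrimeCore p G) * 3 →
      Nonempty (G ≃* G ⧸ pPrimeCore p G) := fun h1 => by
    have h3 : Nat.card (pPrimeCore p G) < 3 :=
      Nat.lt_of_mul_lt_mul_left (a := Nat.card (G ⧸ pPrimeCore p G)) (by omega)
    have h4 := h2 (pPrimeCore p G) inferInstance
    have h5 : 0 < Nat.card (pPrimeCore p G) := Nat.card_pos
    have h6 : pPrimeCore p G = ⊥ := Subgroup.card_eq_one.1 (by omega)
    exact ⟨(QuotientGroup.quotientBot.symm).trans (QuotientGroup.quotientMulEquivOfEq h6.symm)⟩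
  rcases Cfsg.Agent.S4700.result hperf p P hPc n hs with
    ⟨F, _, _, hF, h3, ⟨e⟩⟩ | ⟨m, F, _, _, hF, hm, h3, ⟨e⟩⟩ | ⟨h, u, hh, hu, e⟩
  · obtain ⟨f⟩ := hbot (by
      have h4 := H10.card_PSL_two (F := F)
      rw [Nat.card_eq_fintype_card (α := F), hF, ← Nat.card_congr e.toEquiv] at h4
      have h5 : Nat.gcd 2 (p - 1) ≤ 2 := Nat.gcd_le_left _ two_pos
      have h6 := Nat.mul_le_mul_right (Nat.card (G ⧸ pPrimeCore p G)) h5
      rw [h4] at h6
      obtain ⟨c, rfl⟩ := Nat.exists_eq_add_of_lt h3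
      rw [Nat.add_sub_cancel] at h6
      nlinarith [Nat.zero_le (c ^ 3), Nat.zero_le (c ^ 2)])
    exact Or.inl ⟨F, _, _, hF, h3, ⟨f.trans e⟩⟩
  · obtain ⟨f⟩ := hbot (by
      have h4 := H10.card_SL_two (F := F)
      rw [Nat.card_eq_fintype_card (α := F), hF, ← Nat.card_congr e.toEquiv] at h4
      rw [h4, hm]
      generalize 2 ^ m = q at *
      have hq4 : 4 ≤ q := by
        by_contra hq
        obtain rfl : q = 3 := by omega
        rw [hm] at hp; norm_num at hp
      obtain ⟨c, rfl⟩ := Nat.exists_eq_add_of_le hq4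
      rw [show 4 + c - 1 = 3 + c by omega]
      nlinarith [Nat.zero_le (c ^ 3), Nat.zero_le (c ^ 2)])
    exact Or.inr ⟨m, F, _, _, hF, hm, h3, ⟨f.trans e⟩⟩
  · exfalso
    have h1 : (P : Subgroup G).relIndex (H86.Nor (P : Subgroup G)) ≠ 1 := fun h1 => by
      obtain ⟨K, hK, hi⟩ := H84.exists_normal_index hPc P.not_dvd_index
        (Nat.dvd_one.1 (h1 ▸ Subgroup.relIndex_dvd_of_le_left _ (H84.le_Cen_of_card hPc)))
      have : IsCyclic (G ⧸ K) := isCyclic_of_prime_card hi
      letI : CommGroup (G ⧸ K) := IsCyclic.commGroup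
      have h3 := Abelianization.commutator_subset_ker (QuotientGroup.mk' K)
      rw [hperf, QuotientGroup.ker_mk', top_le_iff] at h3
      rw [h3, Subgroup.index_top] at hi
      exact hp.one_lt.ne hi
    rw [← hG, hPc, ← hr] at hbig
    have h3 : p ≤ 2 * n := by
      refine Nat.le_of_mul_le_mul_right (c := u + 1) ?_ (by omega)
      rw [mul_assoc, e]
      have : u * p ≤ h * u * p := by rw [mul_assoc]; exact Nat.le_mul_of_pos_left _ hh
      nlinarith
    have h4 : 2 * (1 + n * p) ≤ (P : Subgroup G).relIndex (H86.Nor (P : Subgroup G)) * (1 + n * p) :=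
      Nat.mul_le_mul_right _ (by omega)
    have h5 := Nat.mul_le_mul_left p h4
    nlinarith [Nat.mul_le_mul_left (p * p) h3]

end Cfsg.Agent.S4701
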