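import Cfsg.Statements.S0999
import Mathlib
import Cfsg.Agent.Base
import Cfsg.Agent.S4701
import Cfsg.Agent.Lib.Block.Br43d

set_option autoImplicit false
open Cfsg

namespace Cfsg.Agent.S0999

/-- Let G be a non-cyclic finite simple group and p a prime divisor of its order with p^3 > |G|. Then p > 3 and G is isomorphic to the projective special linear group of dimension 2 over the field with p elements, or p - 1 is a power of 2 and G is isomorphic to that group over the field with p - 1 elements. -/
theorem result {G : Type*} [Group G] [Finite G] [IsSimpleGroup G] (hG : ¬ IsCyclic G) (p : ℕ) (hp : p.Prime) (hdvd : p ∣ Nat.card G) (hbig : Nat.card G < p ^ 3) : (∃ (F : Type) (_ : Field F) (_ : Fintype F), Fintype.card F = p ∧ 3 < p ∧ Nonempty (G ≃* Matrix.ProjectiveSpecialLinearGroup (Fin 2) F)) ∨ (∃ (m : ℕ) (F : Type) (_ : Field F) (_ : Fintype F), Fintype.card F = 2 ^ m ∧ p = 2 ^ m + 1 ∧ 3 < p ∧ Nonempty (G ≃* Matrix.ProjectiveSpecialLinearGroup (Fin 2) F)) := by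
  haveI := Fact.mk hp
  have hna : ¬ IsMulCommutative G := fun h => hG (by
    letI : CommGroup G := { (inferInstance : Group G) with mul_comm := h.is_comm.comm }
    infer_instance)
  have hperf : commutator G = ⊤ := (Subgroup.Normal.eq_bot_or_eq_top inferInstance).resolve_left
    fun h => hna ((commutator_eq_bot_iff G).1 h)
  obtain ⟨P⟩ := (inferInstance : Nonempty (Sylow p G))
  refine (Cfsg.Agent.S4701.result hperf p hdvd hbig P (H84.not_normal_sylow hna hdvd P)
    fun N hN h => ?_).imp id ?_
  · rcases hN.eq_bot_or_eq_top with rfl | rfl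
    · simp at h
    · exact hG (isCyclic_of_prime_card (p := 2) (by simpa using h))
  · rintro ⟨m, F, _, _, hF, hm, h3, ⟨f⟩⟩
    refine ⟨m, F, _, _, hF, hm, h3, ⟨f.trans (H64.SL2.projEquiv ?_)⟩⟩
    have := FiniteField.cast_card_eq_zero F
    rw [hF, Nat.cast_pow, Nat.cast_ofNat] at this
    exact (pow_eq_zero_iff'.1 this).1

end Cfsg.Agent.S0999
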