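import Cfsg.Statements.S4696
import Mathlib
import Cfsg.Agent.Base
import Cfsg.Agent.Lib.Cyc.Dade
import Cfsg.Agent.Lib.Block.Inert

set_option autoImplicit false
open Cfsg

namespace Cfsg.Agent.S4696

/-- Let p be a prime, M a maximal ideal of the algebraic integers containing p, and B a p-block of the finite group G whose defect group D is cyclic of order p^a with a ≥ 1. Let C = C_G(D), let b be a block of C inducing B, let T be the stabilizer of b in N_G(D) (the elements g of N_G(D) such that the g-conjugate of every member of b is again in b), and let e be the index of C in T (the inertial index of B). Then e divides p − 1, every irreducible character in B has height zero, and B is the disjoint union of a set X of e characters and a set Y of (p^a − 1)/e characters, the members of Y agreeing on p-regular elements, for which there are signs δ_χ = ±1 (χ ∈ X) and δ₀ = ±1 such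 that: for every ψ ∈ Y and every p-regular g, δ₀ ψ(g) + Σ_{χ ∈ X} δ_χ χ(g) = 0; for all χ, χ' ∈ X the integers δ_χ χ(1) and δ_χ' χ'(1) are congruent modulo p^a; and for ψ ∈ Y and χ ∈ X, ψ(1) ≡ −e δ₀ δ_χ χ(1) modulo p^a. -/
theorem result {G : Type*} [Group G] [Finite G] (p : ℕ) [Fact p.Prime] (M : Ideal Cfsg.AlgInt) (hM : Cfsg.IsPModular p M) (D : Subgroup G) (hD : IsCyclic D) (a : ℕ) (ha : 1 ≤ a) (hDa : Nat.card D = p ^ a) (B : Set (Cfsg.IrrCharacter G)) (hB : Cfsg.IsPBlock M B) (hBD : Cfsg.IsDefectGroup p M B D) (b : Set (Cfsg.IrrCharacter (Subgroup.centralizer (D : Set G)))) (hind : Cfsg.IsInducedBlock M (Subgroup.centralizer (D : Set G)) b B) (T : Subgroup G) (hT : ∀ g : G, g ∈ T ↔ (g ∈ Subgroup.normalizer (D : Set G) ∧ ∀ θ ∈ b, ∀ θ' : Cfsg.IrrCharacter (Subgroup.centralizer (D : Set G)), (∀ h h' : Subgroup.centralizer (D : Set G), (h' : G) = g * h * g⁻¹ → (θ' : Subgroup.centralizer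 (D : Set G) → ℂ) h' = (θ : Subgroup.centralizer (D : Set G) → ℂ) h) → θ' ∈ b)) (e : ℕ) (he : (Subgroup.centralizer (D : Set G)).relIndex T = e) : e ∣ p - 1 ∧ (∀ χ ∈ B, Cfsg.blockHeight p B (χ : G → ℂ) = 0) ∧ ∃ X Y : Set (Cfsg.IrrCharacter G), B = X ∪ Y ∧ Disjoint X Y ∧ Nat.card X = e ∧ Nat.card Y = (p ^ a - 1) / e ∧ (∀ ψ ∈ Y, ∀ ψ' ∈ Y, ∀ g : G, ¬ p ∣ orderOf g → (ψ : G → ℂ) g = (ψ' : G → ℂ) g) ∧ ∃ (δ : Cfsg.IrrCharacter G → ℤ) (δ₀ : ℤ), (∀ χ ∈ X, δ χ = 1 ∨ δ χ = -1) ∧ (δ₀ = 1 ∨ δ₀ = -1) ∧ (∀ ψ ∈ Y, ∀ g : G, ¬ p ∣ orderOf g → (δ₀ : ℂ) * (ψ : G → ℂ) g + ∑ᶠ χ ∈ X, (δ χ : ℂ) * (χ : G → ℂ) g = 0) ∧ (∀ χ ∈ X, ∀ χ' ∈ X, δ χ * (Cfsg.charDegree (χ : G → ℂ) : ℤ) ≡ δ χ' * (Cfsg.charDegree (χ' : G → ℂ) : ℤ) [ZMOD (p : ℤ) ^ a]) ∧ (∀ ψ ∈ Y, ∀ χ ∈ X, (Cfsg.charDegree (ψ : G → ℂ) : ℤ) ≡ -((e : ℤ) * δ₀ * δ χ * (Cfsg.charDegree (χ : G → ℂ) : ℤ)) [ZMOD (p : ℤ) ^ a]) := by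
  haveI := H33.isMaximal_of hM; haveI := H33.charP hM
  letI := Fintype.ofFinite G
  have hm := H86.isMaxPair_of_induced hM hBD (H86.le_Cen_of_isCyclic hD) hind
  have hT' := H35.eq_St (fun g hg => H84.cs_Cen_of_Nor ⟨g, hg⟩) hind.1 hT
  obtain ⟨Z, hZD, hZ⟩ := H35C.exists_card_eq_prime hm.pgrp (fun h0 => by
    rw [h0, Subgroup.card_bot] at hDa
    exact (Nat.one_lt_pow (by omega) (Fact.out : p.Prime).one_lt).ne hDa)
  obtain ⟨c, h⟩ := H35C.exists_LD hM hB hm hD hZD hZ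
  have hl := h.rank_one hM
  obtain ⟨ζ, h1, h2⟩ := h.exists_fixed hM hl
  obtain ⟨X⟩ := h.nonempty_dade hM hl h1 h2
  have hc := h.cd hM hl h1 h2
  have hdvd := h.dvd hM
  have hnd := h.nd hM
  rw [← hT', he] at X hc hdvd hnd
  have hY := X.card_Y hc
  rw [(h.nil_cyclic hM hl).1, hDa] at hY
  have hq : ((Nat.card D : ℕ) : ℤ) = (p : ℤ) ^ a := by rw [hDa]; push_cast; rfl
  refine ⟨hdvd, fun χ hχ => X.height_eq_zero hc hM (h.defect_ne hM) hnd hχ, X.X, X.Y, ?_, ?_, ?_, ?_,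
    fun ψ hψ ψ' hψ' g hg => X.reg_eq hc hψ hψ' hg, X.εX, -X.ε, X.signX, ?_, ?_, ?_, ?_⟩
  · ext χ
    rw [X.mem_iff, ← X.mem_Y]; rfl
  · exact Set.disjoint_right.2 fun χ hχ => (X.mem_Y'.1 hχ).2
  · rw [Nat.card_coe_set_eq, Set.ncard_coe_finset, X.card_X]
  · rw [Nat.card_coe_set_eq, Set.ncard_coe_finset, ← hY, Nat.add_sub_cancel,
      Nat.mul_div_cancel_left _ hc.e_pos]
  · rcases X.sign with h | h <;> simp [h]
  · intro ψ hψ g hg
    rw [finsum_mem_coe_finset, ← X.reg_rel_Y hc hψ hg]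
    simp
  · intro χ hχ χ' hχ'
    exact hq ▸ X.modEq_X hc hm.pgrp hχ hχ'
  · intro ψ hψ χ hχ
    have h3 := (X.modEq_Y hc hm.pgrp hψ hχ).mul_left X.ε
    rw [hq] at h3
    convert h3 using 1
    · rcases X.sign with h | h <;> simp [h]
    · ring

end Cfsg.Agent.S4696
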