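import Mathlib
import Cfsg.Statements.S3968
import Cfsg.Agent.Lib.Char.BurnsidePQ
import Cfsg.Agent.Lib.Char.More

set_option autoImplicit false
open Cfsg

namespace Cfsg.Agent.S3968


open Subgroup

theorem irr_ne_zero_of_center {G : Type*} [Group G] [Finite G] {ψ : G → ℂ}
    (h : IsIrrCharacter G ψ) {z : G} (hz : z ∈ center G) : ψ z ≠ 0 := by
  intro h0
  have h1 := H6.irr_one_ne_zero h
  obtain ⟨n, ρ, hρ, rfl⟩ := h
  have h2 := (H6.norm_character_eq_iff ρ z).mpr (H8.exists_scalar_of_mem_center ρ hz)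
  rw [h0, norm_zero] at h2
  rw [ρ.char_one] at h1
  exact h1 (by exact_mod_cast h2.symm)

/-- Let `p` be a prime and `G` a finite group with a faithful irreducible complex character of degree `p` (so `G` is an irreducible linear group in `p` variables). If `p ^ 2` divides the order of `G`, then the centre of `G` is nontrivial. -/
theorem result {G : Type*} [Group G] [Finite G] (p : ℕ) (hp : p.Prime) (χ : Cfsg.IrrCharacter G) (hdeg : χ.1 1 = p) (hfaith : ∀ g : G, χ.1 g = χ.1 1 → g = 1) (hdiv : p ^ 2 ∣ Nat.card G) : Subgroup.center G ≠ ⊥ := by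
  classical
  intro hZ
  haveI := Fact.mk hp
  haveI := Fintype.ofFinite G
  obtain ⟨P⟩ : Nonempty (Sylow p G) := inferInstance
  have hχ := H6.irr_isCharacter χ.2
  have hvan : ∀ z : center P, z ≠ 1 → χ.1 z = 0 := by
    intro z hz
    have hle : (P : Subgroup G) ≤ centralizer {(z : G)} := fun x hx =>
      mem_centralizer_singleton_iff.mpr (congrArg Subtype.val (mem_center_iff.mp z.2 ⟨x, hx⟩))
    refine (H8.irr_eq_zero_or_norm_eq χ.2 hdeg z (hp.coprime_iff_not_dvd.mpr fun hd =>
      P.not_dvd_index (hd.trans (index_dvd_of_le hle)))).resolve_right fun hn => hz ?_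
    have : (z : G) ∈ center G := mem_center_iff.mpr fun x => by
      have := hfaith _ ((H6.mem_charKer hχ).mp (H8.commutator_mem_charKer_of_norm_eq hχ hn x))
      rw [mul_inv_eq_one, mul_inv_eq_iff_eq_mul] at this
      exact this.symm
    rw [hZ, mem_bot] at this
    exact Subtype.ext (Subtype.ext this)
  have hP2 : p ^ 2 ∣ Nat.card P := by
    rw [← (P : Subgroup G).card_mul_index] at hdiv
    exact ((hp.coprime_iff_not_dvd.mpr P.not_dvd_index).pow_left 2).dvd_of_dvd_mul_right hdiv
  have hres := H6.isCharacter_restrict (P : Subgroup G) hχ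
  have hZd : Nat.card (center P) ∣ p := by
    obtain ⟨m, hm⟩ := H6.char_inner_nat (H6.isCharacter_restrict (center P) hres) H6.isCharacter_one
    rw [H6.classInner_one_right, Finset.sum_eq_single 1 (fun z _ hz => hvan z hz) (by simp),
      inv_mul_eq_iff_eq_mul₀ (by exact_mod_cast Nat.card_pos.ne')] at hm
    exact ⟨m, by exact_mod_cast hdeg.symm.trans hm⟩
  have hnc : ¬ ∀ x ∈ commutator P, χ.1 x = χ.1 1 := by
    intro h
    have h1 : commutator P = ⊥ := eq_bot_iff.mpr fun x hx => Subtype.ext (hfaith _ (h x hx))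
    rw [commutator_eq_bot_iff_center_eq_top] at h1
    rw [h1, card_top] at hZd
    have := Nat.le_of_dvd hp.pos (hP2.trans hZd)
    have := hp.one_lt
    nlinarith
  obtain ⟨ψ, hψ, hne, h1⟩ : ∃ ψ : P → ℂ, IsIrrCharacter P ψ ∧
      classInner (fun x : P => χ.1 x) ψ ≠ 0 ∧ ψ 1 ≠ 1 := by
    by_contra hc
    push Not at hc
    exact hnc fun x hx => H6.char_commutator_of_constituents hres hc hx
  obtain ⟨n, hn0, hn, hnd⟩ := H6.irr_one_dvd_card hψ
  have hsub := H6.isCharacter_sub_of_inner_ne_zero hres hψ hne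
  obtain ⟨m, hm⟩ := H6.char_one_nat hsub
  obtain ⟨k, hk⟩ := P.isPGroup'.exists_card_eq
  obtain ⟨j, -, rfl⟩ := (Nat.dvd_prime_pow hp).mp (hk ▸ hnd)
  have h2 : p = m + p ^ j := by
    rw [Pi.sub_apply, hn, OneMemClass.coe_one, hdeg, sub_eq_iff_eq_add] at hm
    exact_mod_cast hm
  have h3 : m = 0 := by
    rcases j with _ | j
    · exact absurd (by simpa using hn) h1
    · have : p ≤ p ^ (j + 1) := Nat.le_self_pow (Nat.succ_ne_zero j) p
      omega
  have h4 := H6.char_eq_zero_of_one hsub (by rw [hm, h3, Nat.cast_zero])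
  haveI : Nontrivial P := Finite.one_lt_card_iff_nontrivial.mp
    (lt_of_lt_of_le (Nat.one_lt_pow two_ne_zero hp.one_lt) (Nat.le_of_dvd Nat.card_pos hP2))
  haveI := P.isPGroup'.center_nontrivial
  obtain ⟨z, hz⟩ := exists_ne (1 : center P)
  refine irr_ne_zero_of_center hψ z.2 ?_
  have := congrFun h4 z
  rw [Pi.sub_apply, hvan z hz, Pi.zero_apply, zero_sub, neg_eq_zero] at this
  exact this

end Cfsg.Agent.S3968
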