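import Cfsg.Statements.S4508
import Mathlib
import Cfsg.Agent.Base
import Cfsg.Agent.Lib.Block.SelfCen2

set_option autoImplicit false
open Cfsg

namespace Cfsg.Agent.S4508

/-- Let the finite group G contain an element x of prime order p with C_G(x) = ⟨x⟩, and let t be the number of conjugacy classes of elements of order p. If G has an irreducible character of degree p − 1, then t is even or the commutator subgroup has even index. -/
theorem result {G : Type*} [Group G] [Finite G] (p : ℕ) (hp : p.Prime) (x : G) (hx : orderOf x = p) (hC : Subgroup.centralizer ({x} : Set G) = Subgroup.zpowers x) (t : ℕ) (ht : Nat.card {C : ConjClasses G // ∃ g ∈ C.carrier, orderOf g = p} = t) (χ : Cfsg.IrrCharacter G) (hχ : Cfsg.charDegree (χ : G → ℂ) + 1 = p) : Even t ∨ Even (commutator G).index := by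
  classical
  haveI := Fact.mk hp
  letI := Fintype.ofFinite G
  have h : H84.SC p x := ⟨hx, hC⟩
  have h1 := h.card_classes
  rw [ht] at h1
  rcases hp.eq_two_or_odd' with rfl | hodd
  · right
    rw [(h.index_commutator (Nat.eq_one_of_mul_eq_one_left h1)).1]
    exact even_two
  refine (Nat.even_or_odd t).imp_right fun hto => ?_
  have hp1 : Even (p - 1) := hodd.tsub_odd odd_one
  have he : Even ((Subgroup.zpowers x).relIndex (H86.Nor (Subgroup.zpowers x))) :=
    (Nat.even_mul.1 (h1 ▸ hp1)).resolve_left (Nat.not_even_iff_odd.2 hto)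
  obtain ⟨M, hM⟩ := H33.exists_isPModular p
  haveI := hM.2.1
  obtain ⟨L⟩ := H84.nonempty_log h.card h.ind
  obtain ⟨D⟩ := L.nonempty_defOne_principal hM
  have hr := L.card_range_r
  have hse := fun i => L.sum_erase_indc (H84.pKer_one (P := Subgroup.zpowers x)) i
  have hre : (H86.Cen (Subgroup.zpowers x)).relIndex (H86.Nor (Subgroup.zpowers x)) =
      (Subgroup.zpowers x).relIndex (H86.Nor (Subgroup.zpowers x)) := by rw [h.Cen_eq]
  rw [hre] at hr hse
  generalize (Subgroup.zpowers x).relIndex (H86.Nor (Subgroup.zpowers x)) = e at *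
  have hp3 : 3 ≤ p := by have := hp.two_le; obtain ⟨a, rfl⟩ := hodd; omega
  have hep : e ≤ p - 1 := Nat.le_of_dvd (by omega) (Dvd.intro_left _ h1)
  have he0 : e ≠ 0 := by rintro rfl; omega
  have hχ1 : (χ : G → ℂ) 1 = (p - 1 : ℕ) := by rw [← H84.cast_deg, ← hχ]; simp
  have hmem := h.mem_principal hM (χ := χ) fun hd => by
    have := Nat.le_of_dvd (H84.deg_pos χ) hd; omega
  have hsum : ∑ u : Subgroup.zpowers x, (χ : G → ℂ) u = 0 := by
    obtain ⟨m, hm⟩ := H33.sum_char_subgroup (H84.irr_char χ) (Subgroup.zpowers x)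
    suffices m = 0 by rw [hm, this]; simp
    rw [← Finset.add_sum_erase _ _ (Finset.mem_univ 1), OneMemClass.coe_one, hχ1, h.card] at hm
    obtain ⟨ε, c, hε, hc, h2⟩ : ∃ (ε : ℤ) (c : ℕ), (ε = 1 ∨ ε = -1) ∧ (c = e ∨ c = p - 1) ∧
        ∑ u ∈ Finset.univ.erase (1 : Subgroup.zpowers x), (χ : G → ℂ) u = ε * c := by
      rcases (D.mem_iff χ).1 hmem with hX | ⟨i, rfl⟩
      · refine ⟨D.εX χ, p - 1, D.signX χ hX, Or.inr rfl, ?_⟩
        rw [Finset.sum_congr rfl fun u hu => D.X_of_mem H84.pKer_one hX u.2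
          fun e => Finset.ne_of_mem_erase hu (Subtype.ext e), Finset.sum_const,
          Finset.card_erase_of_mem (Finset.mem_univ _), Finset.card_univ,
          ← Nat.card_eq_fintype_card, h.card, H84.inert_irrOne]
        simp [H84.irrOne_coe, mul_comm]
      · refine ⟨-D.ε, e, by rcases D.sign with h | h <;> simp [h], Or.inl rfl, ?_⟩
        rw [Finset.sum_congr rfl fun (u : Subgroup.zpowers x) hu => D.sing_ψ i u (L.dvd_orderOf_of_mem u.2
          fun e => Finset.ne_of_mem_erase hu (Subtype.ext e)), ← Finset.mul_sum, hse]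
        simp [H84.irrOne_coe]
    rw [h2] at hm
    have hm' : ((p - 1 : ℕ) : ℤ) + ε * c = p * m := by exact_mod_cast hm
    obtain ⟨e', rfl⟩ := he
    rcases m with _ | _ | m
    · rfl
    · rcases hε with rfl | rfl <;> omega
    · exfalso
      have : (p : ℤ) * ((m + 1 + 1 : ℕ) : ℤ) = p * m + 2 * p := by push_cast; ring
      have : (0 : ℤ) ≤ p * m := by positivity
      rcases hε with rfl | rfl <;> omega
  obtain ⟨k, m, hm, rfl⟩ := Nat.exists_eq_two_pow_mul_odd he0
  obtain _ | k := k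
  · exact absurd he (by simpa using hm)
  obtain ⟨g, hg⟩ := IsCyclic.exists_ofOrder_eq_natCard (α := L.r.range)
  obtain ⟨n, hn⟩ := (g ^ m).2
  have ho : orderOf (L.r n) = 2 ^ (k + 1) := by
    rw [hn, Subgroup.orderOf_coe, orderOf_pow_of_dvd hm.pos.ne' (by rw [hg, hr]; simp), hg, hr,
      Nat.mul_div_cancel _ hm.pos]
  have hrp : L.r (n ^ p) = L.r n := by
    rw [map_pow]; exact Units.ext (by simp [ZMod.pow_card])
  have hker : ∀ i : ℕ, ((n ^ p : H86.Nor (Subgroup.zpowers x)) : G) ^ i ∈ Subgroup.zpowers x ↔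
      2 ^ (k + 1) ∣ i := fun i => by
    rw [← ho, orderOf_dvd_iff_pow_eq_one, ← hrp, ← map_pow, L.r_eq_one, h.Cen_eq,
      Subgroup.coe_pow (x := n ^ p)]
  have hj : ((n ^ p : H86.Nor (Subgroup.zpowers x)) : G) ^ 2 ^ (k + 1) = 1 := by
    have h2 : (n : G) ^ 2 ^ (k + 1) ∈ Subgroup.zpowers x := by
      refine h.Cen_eq.le ?_
      rw [← Subgroup.coe_pow, ← L.r_eq_one, map_pow, ← ho, pow_orderOf_eq_one]
    rw [Subgroup.coe_pow, ← pow_mul, mul_comm, pow_mul, ← orderOf_dvd_iff_pow_eq_one]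
    exact h.card ▸ Subgroup.orderOf_dvd_natCard _ h2
  have hoj : orderOf ((n ^ p : H86.Nor (Subgroup.zpowers x)) : G) = 2 ^ (k + 1) :=
    Nat.dvd_antisymm (orderOf_dvd_of_pow_eq_one hj)
      ((hker _).1 (by rw [pow_orderOf_eq_one]; exact one_mem _))
  refine H84.even_index_of_eq_neg_one _ (H84.detHom_eq_neg_one (H84.irr_char χ) hoj
    (fun i hi => h.eq_zero_of_sum (H84.irr_char χ) hsum (Subgroup.pow_mem _ (n ^ p).2 i)
      fun h2 => hi (orderOf_dvd_iff_pow_eq_one.1 (hoj ▸ (hker i).1 h2))) (m := t * m) ?_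
    (hto.mul hm))
  rw [hχ1, ← h1, mul_left_comm]

end Cfsg.Agent.S4508
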