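import Cfsg.Statements.S4706
import Mathlib
import Cfsg.Agent.Base
import Cfsg.Agent.Lib.Block.D2p
import Cfsg.Agent.Lib.Perm.PrimeDegree
import Cfsg.Agent.S0157

set_option autoImplicit false
open Cfsg

namespace Cfsg.Agent.S4706

/-- Let p > 2 be a prime and G a permutation group on p letters whose Sylow p-subgroup P has normalizer of order 2p. Then either P is normal in G, or p − 1 = 2^a for some a and G is isomorphic to SL(2, 2^a). -/
theorem result {α : Type*} [Fintype α] [DecidableEq α] {p : ℕ} [Fact p.Prime] (hp : 2 < p) (hα : Fintype.card α = p) (G : Subgroup (Equiv.Perm α)) (P : Sylow p G) (hN : Nat.card (Subgroup.normalizer ((P : Subgroup G) : Set G)) = 2 * p) : (P : Subgroup G).Normal ∨ ∃ (a : ℕ) (F : Type) (_ : Field F) (_ : Fintype F), p = 2 ^ a + 1 ∧ Fintype.card F = 2 ^ a ∧ Nonempty (G ≃* Matrix.SpecialLinearGroup (Fin 2) F) := by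
  have hpp : p.Prime := Fact.out
  have hα' : Nat.card α = p := by rw [Nat.card_eq_fintype_card, hα]
  obtain ⟨c, hc⟩ := exists_prime_orderOf_dvd_card' (G := G) p
    ((Dvd.intro_left 2 hN.symm).trans (Subgroup.card_subgroup_dvd_card _))
  obtain ⟨a, ha⟩ : ∃ a : α, c • a ≠ a := by
    by_contra h
    push Not at h
    rw [show c = 1 from Subtype.ext (Equiv.ext h), orderOf_one] at hc
    omega
  obtain ⟨e₀, -, he₀⟩ := H26.exists_frame hα' (hc ▸ pow_orderOf_eq_one c) ha
  haveI := H26.frame_isPretransitive he₀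
  obtain ⟨x, e, hx, he⟩ := H26.exists_frame_sylow hα' P
  rcases H26.affine_or_two_trans he with h | h
  · exact Or.inl (hx ▸ ⟨fun y hy g => H26.conj_mem_of_affine he (h g) hy⟩)
  by_cases h3 : p = 3
  · refine Or.inl (Subgroup.normalizer_eq_top_iff.1 (Subgroup.eq_top_of_le_card _ ?_))
    refine (Nat.card_le_card_of_injective _ G.subtype_injective).trans ?_
    rw [hN, Nat.card_perm, hα', h3]; rfl
  have h1 : ∀ g : G, (Nat.card (MulAction.fixedBy α g) : ℂ) - 1 =
      (Nat.card (MulAction.fixedBy α (1 : G)) : ℂ) - 1 → g = 1 := fun g hg => by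
    rw [sub_left_inj, Nat.cast_inj, MulAction.fixedBy_one_eq_univ, Nat.card_coe_set_eq,
      Nat.card_coe_set_eq] at hg
    have := Set.eq_of_subset_of_ncard_le (Set.subset_univ _) hg.ge
    exact Subtype.ext (Equiv.ext fun a => (this ▸ Set.mem_univ a : a ∈ MulAction.fixedBy α g))
  refine Or.inr (H84.sl2_of_degree (by omega) P hN (le_antisymm (fun g hg => ?_)
    (H84.le_Cen_of_card (H26.card_sylow_prime_degree hα' P)))
    ⟨_, (Cfsg.Agent.S0157.result α (by omega)).2 h⟩ (H87.deg_of_eq ?_) h1)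
  · have h4 := hg x (hx ▸ Subgroup.mem_zpowers x)
    rw [hx, H26.frame_mem_zpowers he]
    refine ⟨e.symm (g • e 0), fun j => ?_⟩
    have := H26.frame_pow_val he j 0
    rw [zero_add] at this
    rw [← this, ← mul_smul, ← (show Commute x g from h4).pow_left, mul_smul,
      ← e.apply_symm_apply (g • e 0), H26.frame_pow_val he, add_comm, e.symm_apply_apply]
  · simp [hα, Nat.cast_sub hpp.one_le]

end Cfsg.Agent.S4706
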