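import Mathlib
import Cfsg.Statements.S3908
import Cfsg.Agent.Lib.FGS.ConjSub

set_option autoImplicit false
open Cfsg

namespace Cfsg.Agent.S3908


/-- Let G be a finite group in which any two abelian subgroups of the same order are conjugate. Then a Sylow 2-subgroup of G is cyclic, elementary abelian or generalized quaternion, and for an odd prime p a Sylow p-subgroup of G is cyclic or has exponent dividing p. -/
theorem result {G : Type*} [Group G] [Finite G] (hB : ∀ A B : Subgroup G, IsMulCommutative ↥A → IsMulCommutative ↥B → Nat.card ↥A = Nat.card ↥B → ∃ g : G, B = A.map (MulAut.conj g).toMonoidHom) :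
    (∀ P : Sylow 2 G, IsCyclic ↥(P : Subgroup G) ∨ Cfsg.IsElementaryAbelian 2 (P : Subgroup G) ∨ ∃ k : ℕ, Nonempty (↥(P : Subgroup G) ≃* QuaternionGroup (2 ^ k))) ∧
    ∀ (p : ℕ) [Fact p.Prime], p ≠ 2 → ∀ P : Sylow p G, IsCyclic ↥(P : Subgroup G) ∨ ∀ x ∈ (P : Subgroup G), x ^ p = 1 := by
  refine ⟨fun P => ?_, fun p _ hp P => ?_⟩
  · rcases H78.ConjSub.pow_eq_one_or_unique P.isPGroup'
      (H78.ConjSub.homog_of_conj_abelian _ hB) with h | h
    · exact Or.inr (Or.inl ⟨H78.ConjSub.isMulCommutative_of_sq_eq_one h,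
        fun a ha => congrArg Subtype.val (h ⟨a, ha⟩)⟩)
    · exact (Cfsg.Agent.S0016.result 2 P.isPGroup' h).imp_right fun e => Or.inr e.2
  · rcases H78.ConjSub.pow_eq_one_or_unique P.isPGroup'
      (H78.ConjSub.homog_of_conj_abelian _ hB) with h | h
    · exact Or.inr fun a ha => congrArg Subtype.val (h ⟨a, ha⟩)
    · exact Or.inl ((Cfsg.Agent.S0016.result p P.isPGroup' h).resolve_right fun e => hp e.1)

end Cfsg.Agent.S3908
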