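import Mathlib
import Cfsg.Statements.S3909
import Cfsg.Agent.Lib.FGS.ConjSub

set_option autoImplicit false
open Cfsg

namespace Cfsg.Agent.S3909


open Subgroup

/-- Let G be a finite group in which any two abelian subgroups of the same order are conjugate. Let M be a normal subgroup of G. If M contains an element of the same order as a ∈ G, then a ∈ M; and if M is elementary abelian of order p^t with p prime and t ≥ 2, then M is the unique Sylow p-subgroup of G. -/
theorem result {G : Type*} [Group G] [Finite G] (hB : ∀ A B : Subgroup G, IsMulCommutative ↥A → IsMulCommutative ↥B → Nat.card ↥A = Nat.card ↥B → ∃ g : G, B = A.map (MulAut.conj g).toMonoidHom) (M : Subgroup G) [M.Normal] :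
    (∀ a : G, (∃ m ∈ M, orderOf m = orderOf a) → a ∈ M) ∧
    ∀ (p t : ℕ) [Fact p.Prime], 2 ≤ t → Nat.card ↥M = p ^ t → Cfsg.IsElementaryAbelian p M → ∀ P : Sylow p G, (P : Subgroup G) = M := by
  have h1 : ∀ a : G, (∃ m ∈ M, orderOf m = orderOf a) → a ∈ M := by
    rintro a ⟨m, hm, e⟩
    obtain ⟨g, hg⟩ := hB (zpowers m) (zpowers a) inferInstance inferInstance
      (by rw [Nat.card_zpowers, Nat.card_zpowers, e])
    obtain ⟨x, hx, e'⟩ : a ∈ (zpowers m).map (MulAut.conj g).toMonoidHom := hg ▸ mem_zpowers a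
    exact e' ▸ Normal.conj_mem inferInstance x (zpowers_le.mpr hm hx) g
  refine ⟨h1, fun p t hp ht hc hE P => ?_⟩
  have hMP : M ≤ P := (IsPGroup.of_card hc).le_sylow_of_normal P
  have hlt : p < Nat.card M := by
    rw [hc]
    calc p = p ^ 1 := (pow_one p).symm
      _ < p ^ t := Nat.pow_lt_pow_right hp.out.one_lt (by omega)
  obtain ⟨x, hx, hx1⟩ := SetLike.not_le_iff_exists.mp (fun e : M ≤ ⊥ => by
    have := card_le_of_le e
    rw [card_bot] at this
    have := hp.out.one_lt
    omega)
  have hxo := orderOf_eq_prime (hE.2 x hx) hx1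
  refine le_antisymm ?_ hMP
  rcases H78.ConjSub.pow_eq_one_or_unique P.isPGroup'
    (H78.ConjSub.homog_of_conj_abelian _ hB) with h | h
  · intro a ha
    by_cases h1' : a = 1
    · rw [h1']; exact one_mem _
    · exact h1 a ⟨x, hx, hxo.trans (orderOf_eq_prime (congrArg Subtype.val (h ⟨a, ha⟩)) h1').symm⟩
  · exfalso
    obtain ⟨y, hy, hy1⟩ := SetLike.not_le_iff_exists.mp (fun e : M ≤ zpowers x => by
      have := card_le_of_le e
      rw [Nat.card_zpowers, hxo] at this
      omega)
    have hyo := orderOf_eq_prime (hE.2 y hy) (fun e => hy1 (e ▸ one_mem _))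
    have := h (zpowers ⟨x, hMP hx⟩) (zpowers ⟨y, hMP hy⟩)
      (by rw [Nat.card_zpowers, ← orderOf_coe, hxo]) (by rw [Nat.card_zpowers, ← orderOf_coe, hyo])
    obtain ⟨k, hk⟩ : (⟨y, hMP hy⟩ : P) ∈ zpowers (⟨x, hMP hx⟩ : P) := this ▸ mem_zpowers _
    exact hy1 ⟨k, congrArg Subtype.val hk⟩

end Cfsg.Agent.S3909
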