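import Mathlib
import Cfsg.Statements.S2006
import Cfsg.Agent.Lib.Functor.Weak
import Cfsg.Agent.Lib.KInf.Stable
import Cfsg.Agent.Lib.KInf.TransferCore
import Cfsg.Agent.S2005
import Cfsg.Agent.Lib.Core.MaxSolv

set_option autoImplicit false
universe u
open Cfsg

namespace Cfsg.Agent.S2006

theorem aux {G : Type*} [Group G] [Finite G] {p : ℕ} [Fact p.Prime] (T : Sylow p G)
    (hT : IsCoatom (T : Subgroup G)) {g : G} (hg : g ∈ (T : Subgroup G)) (hg' : g ∉ Cfsg.pCore p G)
    {U : Subgroup G} (hU : Cfsg.IsChiefFactor U ⊥) (hUp : U ≤ Cfsg.pCore p G)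
    (h1 : Cfsg.iterCommutator U (Subgroup.zpowers g) (p - 1) ≤ ⊥) :
    ⁅U, Subgroup.zpowers g⁆ ≤ ⊥ := by
  have hUn := hU.2.1
  have hp : IsPGroup p U := H1.isPGroup_pCore.to_le hUp
  by_contra hc
  have hab : U ≤ Subgroup.centralizer (U : Set G) :=
    Subgroup.commutator_eq_bot_iff_le_centralizer.1
      (le_bot_iff.1 (H57.commutator_le_of_chief hU hp hp))
  have hZ : U ⊓ Subgroup.center G ≤ ⊥ := by
    rcases H57.chief_dichotomy hU (Subgroup.center G) with h | h
    · exact h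
    · rw [sup_bot_eq, inf_eq_left] at h
      refine absurd (Subgroup.commutator_eq_bot_iff_le_centralizer.2 ?_).le hc
      exact h.trans (Subgroup.center_le_centralizer _)
  have h2 := H69.inf_centralizer_ne_bot hp T.isPGroup' Subgroup.le_normalizer_of_normal hU.1.ne'
  apply h2
  rw [eq_bot_iff]
  intro x hx
  refine H59.mem_of_norm T le_rfl (fun H h1 h2 => ?_) hg hg' hab
    (fun y hy => H57.chief_pow_mem hU hp hy) h1 hZ hx.1 ?_
  · by_contra h3
    exact h2 (hT.2 H (lt_of_le_of_ne h1 fun e => h3 e.ge))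
  · intro s hs
    rw [Subgroup.mem_centralizer_singleton_iff]
    exact hx.2 s hs

/-- Let p be a prime, G a finite group with Sylow p-subgroup S, and W an isomorphism-invariant p-group functor (W assigns to every group Q a subgroup W(Q), nontrivial whenever Q is a nontrivial finite p-group, and every isomorphism from a finite p-group Q onto a group R carries W(Q) onto W(R)). Suppose N_G(W(S)) has a normal p-complement, and that whenever G* = K/R is a section of G with C_{G*}(O_p(G*)) ≤ O_p(G*) and S* is a Sylow p-subgroup of G* with W(S*) not normal in G*, there are an element g of S* outside O_p(G*) and a chief factor X/Y of G* with X ≤ O_p(G*) such that [X, g, …, g] ≤ Y with p − 1 entries g but [X, g] ≰ Y. Then G has a normal p-complement. -/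
theorem result {G : Type u} [Group G] [Finite G] {p : ℕ} [Fact p.Prime] (W : ∀ (Q : Type u) [Group Q], Subgroup Q) (hW : Cfsg.IsCharPFunctor.{u} p W) (S : Sylow p G) (hN : Cfsg.HasNormalPComplement p ↥(Subgroup.normalizer ((Cfsg.inducedFunctor (G := G) W (S : Subgroup G) : Subgroup G) : Set G))) (hloc : ∀ (K R : Subgroup G) [hR : (R.subgroupOf K).Normal], Subgroup.centralizer ((Cfsg.pCore p (↥K ⧸ R.subgroupOf K) : Subgroup (↥K ⧸ R.subgroupOf K)) : Set (↥K ⧸ R.subgroupOf K)) ≤ Cfsg.pCore p (↥K ⧸ R.subgroupOf K) → ∀ T : Sylow p (↥K ⧸ R.subgroupOf K), ¬ (Cfsg.inducedFunctor (G := (↥K ⧸ R.subgroupOf K)) W ((T : Subgroup (↥K ⧸ R.subgroupOf K)))).Normal → ∃ g : (↥K ⧸ R.subgroupOf K), g ∈ (T : Subgroup (↥K ⧸ R.subgroupOf K)) ∧ g ∉ Cfsg.pCore p (↥K ⧸ R.subgroupOf K) ∧ ∃ U V : Subgroup (↥K ⧸ R.subgroupOf K), Cfsg.IsChiefFactor U V ∧ U ≤ Cfsg.pCore p (↥K ⧸ R.subgroupOf K) ∧ Cfsg.iterCommutator U (Subgroup.zpowers g) (p - 1) ≤ V ∧ ¬ ⁅U, Subgroup.zpowers g⁆ ≤ V) :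 Cfsg.HasNormalPComplement p G := by
  refine Cfsg.Agent.S2005.result W hW S hN fun K R _ hC _ T hT => ?_
  by_contra hn
  obtain ⟨g, hg, hg', U, V, hUV, hU, h1, h2⟩ := hloc K R hC T hn
  have hVn := hUV.2.2.1
  apply h2
  let π := QuotientGroup.mk' V
  have hπ : Function.Surjective π := QuotientGroup.mk'_surjective V
  have hVp : V ≤ Cfsg.pCore p _ := hUV.1.le.trans hU
  have hVT : V ≤ T := hVp.trans (H1.pCore_le_sylow T)
  have hcomap := H1.comap_mk'_pCore (H1.isPGroup_pCore.to_le hVp)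
  have h3 := aux (T.mapSurjective hπ) (g := π g) (U := U.map π) ?_ ⟨g, hg, rfl⟩
    (fun h => hg' (hcomap ▸ h)) (H57.chief_map_mk' hUV)
    (by rw [Subgroup.map_le_iff_le_comap, hcomap]; exact hU)
    (by
      rw [← MonoidHom.map_zpowers, ← H57.map_iter, Subgroup.map_le_iff_le_comap,
        MonoidHom.comap_bot, QuotientGroup.ker_mk']
      exact h1)
  · rwa [← MonoidHom.map_zpowers, ← Subgroup.map_commutator, Subgroup.map_le_iff_le_comap,
      MonoidHom.comap_bot, QuotientGroup.ker_mk'] at h3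
  · exact H3.isCoatom_map_of_ker_le hπ hT (by rwa [QuotientGroup.ker_mk'])

end Cfsg.Agent.S2006
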