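import Mathlib
import Cfsg.Statements.S2007
import Cfsg.Agent.Lib.Functor.Sect
import Cfsg.Agent.Lib.Transfer.Control

set_option autoImplicit false
open Cfsg

namespace Cfsg.Agent.S2007

/-- Let p be a prime, G a finite group with Sylow p-subgroup S, and T a normal subgroup of S containing C_S(T). If N_G(T)/C_G(T) is a p-group (every element of N_G(T) of order prime to p centralizes T), then N_G(T) has a normal p-complement. -/
theorem result {G : Type*} [Group G] [Finite G] {p : ℕ} [Fact p.Prime] (S : Sylow p G) (T : Subgroup G) (hTS : T ≤ (S : Subgroup G)) (hTn : (S : Subgroup G) ≤ Subgroup.normalizer ((T : Subgroup G) : Set G)) (hC : (S : Subgroup G) ⊓ Subgroup.centralizer ((T : Subgroup G) : Set G) ≤ T) (hN : ∀ g ∈ Subgroup.normalizer ((T : Subgroup G) : Set G), (orderOf g).Coprime p → g ∈ Subgroup.centralizer ((T : Subgroup G) : Set G)) : Cfsg.HasNormalPComplement p ↥(Subgroup.normalizer ((T : Subgroup G) : Set G)) := by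
  set N := Subgroup.normalizer (T : Set G) with hNdef
  set C := Subgroup.centralizer (T : Set G) with hCdef
  have hCN : C ≤ N := Subgroup.centralizer_le_normalizer _
  have hSN : H69.IsSylowIn p (S : Subgroup G) N := H69.isSylowIn_of_le S hTn
  have hZ : H69.IsSylowIn p ((S : Subgroup G) ⊓ C) (⊤ ⊓ C) := by
    rw [top_inf_eq]
    exact hSN.inf_normal hCN (H57.normalizer_le_normalizer_centralizer T)
  have h1 := H59.hasNormalPComplement_centralizer hZ hC
  rw [top_inf_eq] at h1
  have hle : Cfsg.pResidual p N ≤ C.subgroupOf N :=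
    H4.pResidual_le_iff.2 fun g hg => hN g g.2 (by rwa [Subgroup.orderOf_coe])
  rw [H4.hasNormalPComplement_iff_of_pResidual_le hle]
  exact H4.hasNormalPComplement_subgroupOf h1 N

end Cfsg.Agent.S2007
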