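import Mathlib
import Cfsg.Statements.S1988
import Cfsg.Agent.Lib.KInf.Transport
import Cfsg.Agent.Lib.KInf.Cubic2
import Cfsg.Agent.S0093
import Cfsg.Agent.S0121
import Cfsg.Agent.S1978
import Cfsg.Agent.S2006
import Cfsg.Agent.S2007

set_option autoImplicit false
universe u
open Cfsg

namespace Cfsg.Agent.S1988

theorem aux {G : Type u} [Group G] [Finite G] {p : ℕ} [Fact p.Prime] (S : Sylow p G)
    (hK : ¬ (Cfsg.inducedFunctor Cfsg.kInfLower (S : Subgroup G)).Normal)
    (hC : Subgroup.centralizer (((Cfsg.pCore p G) : Subgroup G) : Set G) ≤ (Cfsg.pCore p G)) :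
    ∃ g : G, g ∈ (S : Subgroup G) ∧ g ∉ (Cfsg.pCore p G) ∧ ∃ U V : Subgroup G,
      Cfsg.IsChiefFactor U V ∧ U ≤ Cfsg.pCore p G ∧
      ⁅⁅U, Subgroup.zpowers g⁆, Subgroup.zpowers g⁆ ≤ V ∧ ¬ ⁅U, Subgroup.zpowers g⁆ ≤ V := by
  have hTp : IsPGroup p (Cfsg.pCore p G) := H1.isPGroup_pCore
  set T := Cfsg.pCore p G with hT
  obtain ⟨H, hHc, hH1, hH2, hH3⟩ := Cfsg.Agent.S0093.result hTp
  set A := H.map T.subtype with hA
  have hAT : A ≤ T := Subgroup.map_subtype_le H
  have hAH : A.subgroupOf T = H := Subgroup.comap_map_eq_self_of_injective T.subtype_injective H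
  have htop : (⊤ : Subgroup T).map T.subtype = T := by
    rw [← MonoidHom.range_eq_map, Subgroup.range_subtype]
  have hA3 : ⁅T, A⁆ ≤ A ⊓ Subgroup.centralizer (A : Set G) := by
    have := Subgroup.map_mono (f := T.subtype) hH2
    rwa [Subgroup.map_commutator, H57.map_inf_centralizer _ T.subtype_injective, htop,
      Subgroup.commutator_comm] at this
  have hA2 : ⁅A, A⁆ ≤ Subgroup.centralizer (A : Set G) :=
    (Subgroup.commutator_mono hAT le_rfl).trans (hA3.trans inf_le_right)
  obtain ⟨g, hgS, hgT, -, -, h3⟩ := H57.KInf.exists_cubic S A hAT (hAH ▸ hHc) hA2 hA3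
    (fun φ hφ hfix => Cfsg.Agent.S0121.result hTp H hHc hH1 hH2 hH3 φ hφ
      fun x hx => hfix x ⟨x, hx, rfl⟩) (Or.inl hK)
  obtain ⟨U, V, hUV, hU, h4, h5⟩ := h3 hC
  exact ⟨g, hgS, hgT, U, V, hUV, hU.trans hAT, h4, h5⟩

/-- Let p be an odd prime, G a finite group with Sylow p-subgroup S and K the lower K-infinity subgroup of S. If N_G(K) has a normal p-complement, or if N_G(K)/C_G(K) is a p-group (every element of N_G(K) of order prime to p centralizes K), then G has a normal p-complement. -/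
theorem result {G : Type u} [Group G] [Finite G] {p : ℕ} [Fact p.Prime] (hp : p ≠ 2) (S : Sylow p G) (h : Cfsg.HasNormalPComplement p ↥(Subgroup.normalizer ((Cfsg.inducedFunctor Cfsg.kInfLower (S : Subgroup G) : Subgroup G) : Set G)) ∨ ∀ g ∈ Subgroup.normalizer ((Cfsg.inducedFunctor Cfsg.kInfLower (S : Subgroup G) : Subgroup G) : Set G), (orderOf g).Coprime p → g ∈ Subgroup.centralizer ((Cfsg.inducedFunctor Cfsg.kInfLower (S : Subgroup G) : Subgroup G) : Set G)) : Cfsg.HasNormalPComplement p G := by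
  have hW := H57.KInf.isCharPFunctor_kInfLower.{u} p
  have hN : Cfsg.HasNormalPComplement p ↥(Subgroup.normalizer
      ((Cfsg.inducedFunctor Cfsg.kInfLower (S : Subgroup G) : Subgroup G) : Set G)) := by
    rcases h with h | h
    · exact h
    · refine Cfsg.Agent.S2007.result S _ (H57.inducedFunctor_le _ _)
        (Subgroup.le_normalizer.trans (H57.normalizer_le_normalizer_functor
          (H57.isConjugacyFunctor_induced hW) S.isPGroup')) ?_ h
      have h1 := Subgroup.map_mono (f := (S : Subgroup G).subtype)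
        ((inf_le_right (a := ⊤)).trans (Cfsg.Agent.S1978.result S.isPGroup').1)
      rwa [H57.map_inf_centralizer _ (S : Subgroup G).subtype_injective, ← MonoidHom.range_eq_map,
        Subgroup.range_subtype] at h1
  refine Cfsg.Agent.S2006.result _ hW S hN fun K R _ hC T hT => ?_
  obtain ⟨g, h1, h2, U, V, hUV, hU, h3, h4⟩ := aux T hT hC
  refine ⟨g, h1, h2, U, V, hUV, hU, ?_, h4⟩
  have := hUV.2.2.1
  have hp2 : 2 ≤ p - 1 := by
    have := (Fact.out : p.Prime).two_le
    omega
  exact H57.iter_le_of_le (i := 2) Subgroup.le_normalizer_of_normal h3 hp2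

end Cfsg.Agent.S1988
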