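import Mathlib
import Cfsg.Statements.S4365
import Cfsg.Agent.Lib.PGroup.Basic
import Cfsg.Agent.Lib.PGroup.Commutator

set_option autoImplicit false
open Cfsg

namespace Cfsg.Agent.S4365

open scoped commutatorElement


/-- Let P be a finite p-group whose conjugacy class sizes are exactly 1 and pᵃ for some a ≥ 1. Then every element of P has its p-th power in the center of P (P/Z(P) has exponent p). -/
theorem result {P : Type*} [Group P] [Finite P] (p : ℕ) [Fact p.Prime]
    (hP : IsPGroup p P) (a : ℕ) (ha : 1 ≤ a)
    (hcs : {k : ℕ | ∃ x : P, (Subgroup.centralizer ({x} : Set P)).index = k} = {1, p ^ a}) (x : P) :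
    x ^ p ∈ Subgroup.center P := by
  by_contra hx
  have hp : p.Prime := Fact.out
  -- all non-central elements have class size `p ^ a`
  have hidx : ∀ u : P, u ∉ Subgroup.center P → (Subgroup.centralizer ({u} : Set P)).index = p ^ a := by
    intro u hu
    have h1 : (Subgroup.centralizer ({u} : Set P)).index ∈ ({1, p ^ a} : Set ℕ) := by
      rw [← hcs]; exact ⟨u, rfl⟩
    rcases h1 with h1 | h1
    · exfalso
      apply hu
      rw [Subgroup.index_eq_one] at h1
      rw [Subgroup.mem_center_iff]
      intro g
      exact Subgroup.mem_centralizer_singleton_iff.mp (h1 ▸ Subgroup.mem_top g)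
    · exact h1
  have heq : ∀ u v : P, u ∉ Subgroup.center P → v ∉ Subgroup.center P →
      Subgroup.centralizer ({u} : Set P) ≤ Subgroup.centralizer ({v} : Set P) →
      Subgroup.centralizer ({u} : Set P) = Subgroup.centralizer ({v} : Set P) := by
    intro u v hu hv hle
    have h1 := Subgroup.relIndex_mul_index hle
    rw [hidx u hu, hidx v hv] at h1
    have h2 := Nat.eq_of_mul_eq_mul_right (pow_pos hp.pos a) (h1.trans (one_mul _).symm)
    exact le_antisymm hle (Subgroup.relIndex_eq_one.mp h2)
  have hpow : ∀ u : P, u ^ p ∉ Subgroup.center P →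
      Subgroup.centralizer ({u} : Set P) = Subgroup.centralizer ({u ^ p} : Set P) := by
    intro u hu
    apply heq u _ (fun h => hu (Subgroup.pow_mem _ h p)) hu
    intro g hg
    rw [Subgroup.mem_centralizer_singleton_iff] at hg ⊢
    exact (Commute.pow_right hg p).eq
  have hx1 : x ∉ Subgroup.center P := fun h => hx (Subgroup.pow_mem _ h p)
  obtain ⟨z, -, hz, hzp, hzc⟩ := H5.exists_step hP (Subgroup.center P) ⊤ (fun h => hx1 (h (Subgroup.mem_top x)))
  have hcen : ∀ u ∈ Subgroup.center P, ∀ g : P, Commute g u := fun u hu g =>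
    Subgroup.mem_center_iff.mp hu g
  -- `z` commutes with all `p`-th powers
  have hzpow : ∀ g : P, Commute z (g ^ p) := by
    intro g
    rw [← commutatorElement_eq_one_iff_commute, H5.commutator_pow_right (hcen _ (hzc g) g),
      ← H5.commutator_pow_left (hcen _ (hzc g) z), commutatorElement_eq_one_iff_commute]
    exact (hcen _ hzp g).symm
  have hzg : ∀ g : P, g ^ p ∉ Subgroup.center P → Commute z g := by
    intro g hg
    have : z ∈ Subgroup.centralizer ({g} : Set P) := by
      rw [hpow g hg, Subgroup.mem_centralizer_singleton_iff]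
      exact (hzpow g).eq
    exact Subgroup.mem_centralizer_singleton_iff.mp this
  set C := Subgroup.centralizer ({z} : Set P) with hC
  have hmemC : ∀ g, g ∈ C ↔ Commute z g := fun g => by
    rw [hC, Subgroup.mem_centralizer_singleton_iff]; exact ⟨fun h => h.symm, fun h => h.symm⟩
  have hxC : Subgroup.centralizer ({x} : Set P) = C := by
    apply heq x z hx1 hz
    intro y hy
    rw [hmemC]
    have hy' : Commute x y := (Subgroup.mem_centralizer_singleton_iff.mp hy).symm
    by_cases h1 : y ^ p ∈ Subgroup.center P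
    · have h2 : (x * y) ^ p ∉ Subgroup.center P := by
        intro h
        apply hx
        rw [hy'.mul_pow] at h
        exact (Subgroup.mul_mem_cancel_right _ h1).mp h
      have h3 := hzg _ h2
      have h4 := hzg _ hx
      have : y = x⁻¹ * (x * y) := by group
      rw [this]
      exact h4.inv_right.mul_right h3
    · exact hzg y h1
  have hCn : ∀ c ∈ C, ∀ g : P, g * c * g⁻¹ ∈ C := by
    intro c hc g
    rw [hmemC] at hc ⊢
    have h1 := hcen _ (hzc g)
    have h2 := hcen _ (hzc g⁻¹)
    have e1 : z * g = g * (g⁻¹ * z * g) := by group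
    have e2 : g⁻¹ * z * g = ⁅z, g⁻¹⁆⁻¹ * z := by rw [commutatorElement_def]; group
    have h3 : Commute (g⁻¹ * z * g) c := by
      rw [e2]; exact (h2 c).symm.inv_left.mul_left hc
    change z * (g * c * g⁻¹) = g * c * g⁻¹ * z
    calc z * (g * c * g⁻¹) = g * ((g⁻¹ * z * g) * c) * g⁻¹ := by group
      _ = g * (c * (g⁻¹ * z * g)) * g⁻¹ := by rw [h3.eq]
      _ = _ := by group
  -- conjugates of `x` centralize `C`
  have hconj : ∀ g : P, ∀ c ∈ C, Commute (g * x * g⁻¹) c := by
    intro g c hc
    have h1 : g⁻¹ * c * g⁻¹⁻¹ ∈ C := hCn c hc g⁻¹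
    rw [← hxC, Subgroup.mem_centralizer_singleton_iff] at h1
    change g * x * g⁻¹ * c = c * (g * x * g⁻¹)
    calc g * x * g⁻¹ * c = g * (x * (g⁻¹ * c * g⁻¹⁻¹)) * g⁻¹ := by group
      _ = g * ((g⁻¹ * c * g⁻¹⁻¹) * x) * g⁻¹ := by rw [h1]
      _ = _ := by group
  obtain ⟨y, hy⟩ : ∃ y, y ∉ C := by
    by_contra hc
    push Not at hc
    exact hz (Subgroup.mem_center_iff.mpr fun g => ((hmemC g).mp (hc g)).symm.eq)
  have hy1 : y ∉ Subgroup.center P := fun h => hy ((hmemC y).mpr (hcen _ h z))
  -- an element centralizing `C` and `y` is central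
  have hA : ∀ u : P, (∀ c ∈ C, Commute u c) → Commute u y → u ∈ Subgroup.center P := by
    intro u hu huy
    by_contra hu1
    have := heq z u hz hu1 (fun c hc => Subgroup.mem_centralizer_singleton_iff.mpr (hu c hc).symm.eq)
    apply hy
    rw [hC, this, Subgroup.mem_centralizer_singleton_iff]
    exact huy.symm.eq
  set D := Subgroup.centralizer ({y} : Set P) with hD
  let f : Option (P ⧸ C) → P ⧸ D := fun o =>
    match o with
    | none => ((1 : P) : P ⧸ D)
    | some c => ((c.out * x * c.out⁻¹ : P) : P ⧸ D)
  have hnone : ∀ g : P, ((1 : P) : P ⧸ D) ≠ ((g * x * g⁻¹ : P) : P ⧸ D) := by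
    intro g h
    rw [QuotientGroup.eq, inv_one, one_mul, hD, Subgroup.mem_centralizer_singleton_iff] at h
    have h1 := hA _ (hconj g) h
    apply hx1
    have h2 := (inferInstance : (Subgroup.center P).Normal).conj_mem _ h1 g⁻¹
    simpa [mul_assoc] using h2
  have hf : Function.Injective f := by
    rintro (_ | c) (_ | d) h
    · rfl
    · exact absurd h (hnone _)
    · exact absurd h.symm (hnone _)
    · congr 1
      have h' : ((c.out * x * c.out⁻¹ : P) : P ⧸ D) = ((d.out * x * d.out⁻¹ : P) : P ⧸ D) := h
      rw [QuotientGroup.eq, hD, Subgroup.mem_centralizer_singleton_iff] at h'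
      have h1 := hA _ (fun e he => (hconj c.out e he).inv_left.mul_left (hconj d.out e he)) h'
      rw [← QuotientGroup.out_eq' c, ← QuotientGroup.out_eq' d, QuotientGroup.eq]
      set g := c.out⁻¹ * d.out with hg
      have h2 : ⁅g, x⁆ ∈ Subgroup.center P := by
        have h3 := (inferInstance : (Subgroup.center P).Normal).conj_mem _ h1 (x * c.out⁻¹)
        convert h3 using 1
        rw [commutatorElement_def, hg]; group
      rw [← hxC, hpow x hx, Subgroup.mem_centralizer_singleton_iff]
      change Commute g (x ^ p)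
      rw [← commutatorElement_eq_one_iff_commute, H5.commutator_pow_right (hcen _ h2 x),
        ← H5.commutator_pow_left (hcen _ h2 g), commutatorElement_eq_one_iff_commute]
      have h4 : g ^ p ∈ C := (hmemC _).mpr (hzpow g)
      rw [← hxC, Subgroup.mem_centralizer_singleton_iff] at h4
      exact h4
  have := Nat.card_le_card_of_injective f hf
  rw [Finite.card_option, ← Subgroup.index_eq_card, ← Subgroup.index_eq_card, hC, hD,
    hidx z hz, hidx y hy1] at this
  omega

end Cfsg.Agent.S4365
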