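import Mathlib
import Cfsg.Statements.S4134
import Cfsg.Agent.Base
import Cfsg.Agent.Lib.FGS.TwoSizes
import Cfsg.Agent.Lib.FGS.DirFactor
import Cfsg.Agent.S4365
-- import your own Cfsg.Agent.* helpers here

set_option autoImplicit false
open Cfsg

namespace Cfsg.Agent.S4134

open Subgroup H80

theorem cs_pow {G : Type*} [Group G] [Finite G] [Group.IsNilpotent G] {p : ℕ} (hp : p.Prime)
    {u : G} (hu : H35.IsPElt p u) : ∃ a, cs⟦u⟧ = p ^ a := by
  refine ⟨_, Nat.eq_prime_pow_of_unique_prime_dvd (cs_ne_zero u) fun {q} hq hd => ?_⟩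
  by_contra hne
  haveI := Fact.mk hq
  haveI := Fact.mk hp
  obtain ⟨Q⟩ : Nonempty (Sylow q G) := inferInstance
  obtain ⟨P, hP⟩ := hu.exists_sylow
  refine not_dvd_cs_iff.2 ⟨Q, fun v hv => ?_⟩ hd
  haveI : (Q : Subgroup G).Normal := inferInstance
  haveI : (P : Subgroup G).Normal := inferInstance
  exact mem_Cx_iff_commute'.2 (commute_of_normal_of_disjoint _ _ inferInstance inferInstance
    (IsPGroup.disjoint_of_ne q p hne _ _ Q.isPGroup' P.isPGroup') v u hv hP)


/-- Let G be a finite group whose conjugacy classes have exactly two sizes, 1 and n > 1. Then n is a power of a prime p and G is the direct product of a p-group and an abelian group of order prime to p: its Sylow p-subgroup P is normal with an abelian normal complement centralizing it; moreover P has an abelian normal subgroup A with P/A of exponent dividing p. -/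
theorem result {G : Type*} [Group G] [Finite G] (n : ℕ) (hn : 1 < n)
    (h : ∀ x : G, (Subgroup.centralizer ({x} : Set G)).index = 1 ∨ (Subgroup.centralizer ({x} : Set G)).index = n) (hex : ∃ x : G, (Subgroup.centralizer ({x} : Set G)).index = n) :
    ∃ (p : ℕ) (_ : Fact p.Prime) (a : ℕ), n = p ^ a ∧ ∀ P : Sylow p G, (P : Subgroup G).Normal ∧
      (∃ N : Subgroup G, N.Normal ∧ N.IsComplement' (P : Subgroup G) ∧ IsMulCommutative N ∧
        ∀ x ∈ N, ∀ y ∈ (P : Subgroup G), x * y = y * x) ∧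
      ∃ A : Subgroup (P : Subgroup G), A.Normal ∧ IsMulCommutative A ∧ ∀ y : (P : Subgroup G), y ^ p ∈ A := by
  have h2 : H76.Two (⊤ : Subgroup G) n :=
    ⟨inferInstance, fun x _ hxZ => (h x).resolve_left fun e => hxZ (cs_eq_one_iff.1 e)⟩
  obtain ⟨x, hx⟩ := hex
  have hxZ : x ∉ center G := by rw [← one_lt_cs_iff, hx]; exact hn
  obtain ⟨p, u, hp, -, hu, -, huZ⟩ := H76.exists_isPElt_not_mem hxZ
  haveI := Fact.mk hp
  obtain ⟨R, hR⟩ := hu.exists_sylow
  haveI : Group.IsNilpotent G := by
    haveI := h2.isNilpotent R (fun hh => huZ (hh hR)) le_top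
    exact nilpotent_of_mulEquiv topEquiv (G := (⊤ : Subgroup G))
  obtain ⟨a, ha⟩ := cs_pow hp hu
  have hna : n = p ^ a := by rw [← ha, h2.cs u (mem_top u) huZ]
  have ha1 : 1 ≤ a := by
    rcases a with _ | a
    · rw [hna] at hn; simp at hn
    · omega
  have hq : ∀ (q : ℕ) (y : G), q.Prime → q ≠ p → H35.IsPElt q y → y ∈ center G := by
    intro q y hq hne hy
    by_contra hyZ
    obtain ⟨b, hb⟩ := cs_pow hq hy
    rw [h2.cs y (mem_top y) hyZ, hna] at hb
    have : p ∣ q ^ b := hb ▸ dvd_pow_self p (by omega)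
    exact hne ((Nat.prime_dvd_prime_iff_eq hp hq).1 (hp.dvd_of_dvd_pow this)).symm
  refine ⟨p, inferInstance, a, hna, fun P => ?_⟩
  haveI hP : (P : Subgroup G).Normal := inferInstance
  obtain ⟨K, hKn, hK, h1, h3⟩ := H79.exists_normal_compl_of_centralizes P
    fun q y h1 h2 h3 => center_le_centralizer _ (hq q y h1 h2 h3)
  have hKZ : K ≤ center G := fun y hy => mem_of_forall_isPElt_zpowers fun s w hs hd hw _ =>
    hq s w hs (by rintro rfl; exact hK (hd.trans (H1.orderOf_dvd_card_of_mem hy))) hw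
  refine ⟨hP, ⟨K, hKn, ?_, ⟨⟨fun b c => Subtype.ext (mem_center_iff.1 (hKZ c.2) b)⟩⟩,
    fun b hb c _ => (mem_center_iff.1 (hKZ hb) c).symm⟩, center _, inferInstance, inferInstance,
    fun y => ?_⟩
  · refine isComplement'_of_disjoint_and_mul_eq_univ (disjoint_iff.2 (by rw [inf_comm, h1])) ?_
    rw [← normal_mul, sup_comm, h3, coe_top]
  · have hcs : ∀ z : P, cs⟦z⟧ = cs⟦(z : G)⟧ := by
      intro z
      rw [cs_subtype]
      refine relIndex_eq_index_of_forall_mul fun g => ?_
      have : g ∈ (P : Subgroup G) ⊔ K := h3 ▸ mem_top g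
      obtain ⟨b, hb, c, hc, rfl⟩ := (mem_sup_of_normal_right).1 this
      exact ⟨b, hb, c, center_le_Cx _ (hKZ hc), rfl⟩
    refine S4365.result p P.isPGroup' a ha1 ?_ y
    ext k
    simp only [Set.mem_setOf_eq, Set.mem_insert_iff, Set.mem_singleton_iff, hcs]
    constructor
    · rintro ⟨z, rfl⟩
      rw [← hna]; exact h z
    · rintro (rfl | rfl)
      · exact ⟨1, by simpa using cs_one⟩
      · haveI := Sylow.unique_of_normal P hP
        exact ⟨⟨u, by rw [Subsingleton.elim P R]; exact hR⟩, ha⟩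

end Cfsg.Agent.S4134
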