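import Mathlib
import Cfsg.Statements.S4249
import Cfsg.Agent.Lib.FGS.Kegel

set_option autoImplicit false
open Cfsg

namespace Cfsg.Agent.S4249


/-- Let G be a finite group and p a prime such that G is not a p-group, and suppose the Hughes subgroup H_p(G), generated by all elements g with g^p ≠ 1, is a proper subgroup. Then H_p(G) is nilpotent and has index p in G. -/
theorem result {G : Type*} [Group G] [Finite G] (p : ℕ) (hp : p.Prime) (hG : ¬ IsPGroup p G)
    (hH : Subgroup.closure {g : G | g ^ p ≠ 1} ≠ ⊤) :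
    Group.IsNilpotent (Subgroup.closure {g : G | g ^ p ≠ 1}) ∧ (Subgroup.closure {g : G | g ^ p ≠ 1}).index = p := by
  classical
  haveI : Fact p.Prime := ⟨hp⟩
  set H : Subgroup G := Subgroup.closure {g : G | g ^ p ≠ 1} with hHdef
  have hout : ∀ g : G, g ∉ H → g ^ p = 1 := by
    intro g hg
    by_contra h
    exact hg (Subgroup.subset_closure h)
  haveI hHn : H.Normal := by
    constructor
    intro x hx g
    have : H.map (MulAut.conj g).toMonoidHom ≤ H := by
      rw [hHdef, MonoidHom.map_closure]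
      apply Subgroup.closure_mono
      rintro _ ⟨y, hy, rfl⟩ h
      apply hy
      have h' : (g * y * g⁻¹) ^ p = 1 := h
      rw [conj_pow] at h'
      simpa using h'
    exact this ⟨x, hx, rfl⟩
  refine ⟨H78.Kegel.isNilpotent hp H hH hout, ?_⟩
  have hQ : ∀ x : G ⧸ H, x ^ p = 1 := by
    intro x
    obtain ⟨g, rfl⟩ := QuotientGroup.mk_surjective x
    by_cases hg : g ∈ H
    · rw [(QuotientGroup.eq_one_iff g).mpr hg, one_pow]
    · rw [← QuotientGroup.mk_pow, hout g hg, QuotientGroup.mk_one]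
  have hQp : IsPGroup p (G ⧸ H) := fun x => ⟨1, by rw [pow_one, hQ]⟩
  haveI : Nontrivial (G ⧸ H) := QuotientGroup.nontrivial_iff.mpr hH
  haveI := hQp.center_nontrivial
  obtain ⟨⟨z, hzc⟩, hz1⟩ := exists_ne (1 : Subgroup.center (G ⧸ H))
  have hz1' : z ≠ 1 := fun h => hz1 (Subtype.ext h)
  have hzo : orderOf z = p := orderOf_eq_prime (hQ z) hz1'
  haveI : (Subgroup.zpowers z).Normal := by
    constructor
    rintro _ ⟨k, rfl⟩ g
    have : g * z ^ k * g⁻¹ = z ^ k := by
      rw [Subgroup.mem_center_iff.mp (Subgroup.zpow_mem _ hzc k) g]; group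
    rw [this]
    exact ⟨k, rfl⟩
  by_cases htop : Subgroup.zpowers z = ⊤
  · rw [Subgroup.index_eq_card, ← hzo, ← Nat.card_zpowers, htop, Subgroup.card_top]
  exfalso
  set M : Subgroup G := (Subgroup.zpowers z).comap (QuotientGroup.mk' H) with hM
  have hHM : H ≤ M := by
    intro x hx
    rw [hM, Subgroup.mem_comap, QuotientGroup.mk'_apply, (QuotientGroup.eq_one_iff x).mpr hx]
    exact Subgroup.one_mem _
  have hMt : M ≠ ⊤ := by
    intro h
    apply htop
    rw [eq_top_iff]
    intro x _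
    obtain ⟨g, rfl⟩ := QuotientGroup.mk_surjective x
    have : g ∈ M := h ▸ Subgroup.mem_top g
    exact this
  have hMn := H78.Kegel.isNilpotent hp M hMt (fun g hg => hout g fun h => hg (hHM h))
  have hq : ∃ q : ℕ, q.Prime ∧ q ∣ Nat.card G ∧ q ≠ p := by
    by_contra h
    push Not at h
    exact hG (IsPGroup.of_card
      (Nat.eq_prime_pow_of_unique_prime_dvd Nat.card_pos.ne' (fun hd hd' => h _ hd hd')))
  obtain ⟨q, hq, hqd, hqp⟩ := hq
  haveI : Fact q.Prime := ⟨hq⟩
  obtain ⟨v, hv⟩ := exists_prime_orderOf_dvd_card' q hqd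
  have hvp : v ^ p ≠ 1 := by
    intro h
    have := orderOf_dvd_of_pow_eq_one h
    rw [hv] at this
    exact hqp ((Nat.prime_dvd_prime_iff_eq hq hp).mp this)
  have hvH : v ∈ H := Subgroup.subset_closure hvp
  obtain ⟨x, rfl⟩ := QuotientGroup.mk_surjective z
  have hxH : x ∉ H := fun h => hz1' ((QuotientGroup.eq_one_iff x).mpr h)
  have hxM : x ∈ M := Subgroup.mem_zpowers _
  have hx1 : x ≠ 1 := fun h => hxH (h ▸ H.one_mem)
  have hxo : orderOf x = p := orderOf_eq_prime (hout x hxH) hx1
  have hcomm : Commute x v := H77.commute_of_isNilpotent_of_coprime hMn hxM (hHM hvH)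
    (by rw [hxo, hv]; exact (Nat.coprime_primes hp hq).mpr hqp.symm)
  have h1 := hout (x * v) (fun h => hxH ((H.mul_mem_cancel_right hvH).mp h))
  rw [hcomm.mul_pow, hout x hxH, one_mul] at h1
  exact hvp h1

end Cfsg.Agent.S4249
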