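import Mathlib
import Cfsg.Statements.S3559
import Cfsg.Agent.Lib.Perm75.Schur

set_option autoImplicit false
open Cfsg

namespace Cfsg.Agent.S3559

/-- Let G act faithfully and transitively on a finite set whose number of points n ≥ 2 is not a prime power, and suppose G has a cyclic subgroup acting regularly (transitively with trivial point stabilizers). Then G is imprimitive or doubly transitive. -/
theorem result {G Ω : Type*} [Group G] [Finite G] [MulAction G Ω] [FaithfulSMul G Ω] [Finite Ω]
    (htrans : MulAction.IsPretransitive G Ω) (hn : 2 ≤ Nat.card Ω) (hnp : ¬ IsPrimePow (Nat.card Ω))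
    (C : Subgroup G) (hcyc : IsCyclic ↥C) (hC : MulAction.IsPretransitive ↥C Ω ∧ ∀ a : Ω, MulAction.stabilizer ↥C a = ⊥) :
    ¬ MulAction.IsPreprimitive G Ω ∨ MulAction.IsMultiplyPretransitive G Ω 2 := by

  by_cases h : MulAction.IsPreprimitive G Ω
  · right
    haveI : Nonempty Ω := (Nat.card_pos_iff.mp (by omega)).1
    obtain ⟨ω⟩ := ‹Nonempty Ω›
    have hb : Function.Bijective fun a : C => C.subtype a • ω := by
      refine ⟨fun a b hab => ?_, fun x => hC.1.exists_smul_eq ω x⟩
      have : a⁻¹ * b ∈ MulAction.stabilizer C ω := by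
        rw [MulAction.mem_stabilizer_iff, mul_smul, inv_smul_eq_iff]
        exact hab.symm
      rw [hC.2, Subgroup.mem_bot, inv_mul_eq_one] at this
      exact this
    have hcard : Nat.card C = Nat.card Ω := Nat.card_eq_of_bijective _ hb
    refine H75.two_trans_of_regular_cyclic C.subtype ω hb h (by omega) fun hp => hnp ?_
    rw [← hcard]; exact hp.isPrimePow
  · exact Or.inl h

end Cfsg.Agent.S3559
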