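import Cfsg.Statements.S2765
import Mathlib
import Cfsg.Agent.Base
import Cfsg.Agent.Lib.Push.Amal6

set_option autoImplicit false
open Cfsg

namespace Cfsg.Agent.S2765

open Subgroup H69 H24 H68.Push
open scoped commutatorElement

/-- In the same pushing-up situation (G finite, C_G(O_p(G)) ≤ O_p(G), G/K ≅ PSL₂(p^n) with n ≥ 1, a Sylow p-subgroup S in exactly one maximal subgroup, no nontrivial characteristic subgroup of S normal in G), one of the following holds: (I) S has nilpotency class 2, exponent 4 if p = 2 and exponent p otherwise, and G has exactly one noncentral chief factor inside O_p(G); or (II) p = 3, S has class 3 and exponent 9, and G has exactly two noncentral chief factors inside O_p(G). 'Exactly one' is phrased as: some noncentral chief factor U/W inside O_p(G) with G acting hypercentrally on W and on O_p(G)/U; 'exactly two' analogously with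 a chain. -/
theorem result {G : Type*} [Group G] [Finite G] {p : ℕ} [Fact p.Prime] (S : Sylow p G) (hE₁ : Subgroup.centralizer (Cfsg.pCore p G : Set G) ≤ Cfsg.pCore p G) (hE₂ : ∃! M : Subgroup G, IsCoatom M ∧ (S : Subgroup G) ≤ M) (K : Subgroup G) [K.Normal] (F : Type) [Field F] [Fintype F] (n : ℕ) (hn : 1 ≤ n) (hF : Fintype.card F = p ^ n) (hE₃ : Nonempty (G ⧸ K ≃* Matrix.ProjectiveSpecialLinearGroup (Fin 2) F)) (hd : ∀ T : Subgroup ↥(S : Subgroup G), T ≠ ⊥ → T.Characteristic → ¬ (T.map (S : Subgroup G).subtype).Normal) : ((S : Subgroup G).lowerCentralSeries 2 = ⊥ ∧ (S : Subgroup G).lowerCentralSeries 1 ≠ ⊥ ∧ (p = 2 → Monoid.exponent ↥(S : Subgroup G) = 4) ∧ (p ≠ 2 → Monoid.exponent ↥(S : Subgroup G) = p) ∧ (∃ U W : Subgroup G, W ≤ U ∧ U ≤ (Cfsg.pCore p G) ∧ Cfsg.IsChiefFactor U W ∧ ¬ ⁅U, (⊤ : Subgroup G)⁆ ≤ W ∧ (∃ k : ℕ, Cfsg.iterCommutator W ⊤ k = ⊥)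 ∧ (∃ k : ℕ, Cfsg.iterCommutator (Cfsg.pCore p G) ⊤ k ≤ U))) ∨ (p = 3 ∧ (S : Subgroup G).lowerCentralSeries 3 = ⊥ ∧ (S : Subgroup G).lowerCentralSeries 2 ≠ ⊥ ∧ Monoid.exponent ↥(S : Subgroup G) = 9 ∧ (∃ U₁ W₁ U₂ W₂ : Subgroup G, W₁ ≤ U₁ ∧ U₁ ≤ W₂ ∧ W₂ ≤ U₂ ∧ U₂ ≤ (Cfsg.pCore p G) ∧ Cfsg.IsChiefFactor U₁ W₁ ∧ Cfsg.IsChiefFactor U₂ W₂ ∧ ¬ ⁅U₁, (⊤ : Subgroup G)⁆ ≤ W₁ ∧ ¬ ⁅U₂, (⊤ : Subgroup G)⁆ ≤ W₂ ∧ (∃ k : ℕ, Cfsg.iterCommutator W₁ ⊤ k = ⊥) ∧ (∃ k : ℕ, Cfsg.iterCommutator W₂ ⊤ k ≤ U₁) ∧ (∃ k : ℕ, Cfsg.iterCommutator (Cfsg.pCore p G) ⊤ k ≤ U₂))) := by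
  obtain ⟨-, M, h⟩ := exists_pu_of_psl S hE₁ hE₂ K F hF hE₃
  have hQ := H70.pCoreOf_top p G
  have hQp : IsPGroup p (pCore p G) := hQ ▸ H70.isPGroup_pCoreOf p ⊤
  have hf := free_of_normal hd
  have hC : ∀ Z : Subgroup G, iterCommutator (Z ⊓ cm ⊥ ⊤) ⊤ 1 = ⊥ := fun Z =>
    commutator_eq_bot_of_le_centralizer (inf_le_right.trans (cm_bot _).le)
  rcases exists_B h hf with ⟨A, D, hB⟩ | ⟨A, Y, D, E, hB⟩
  · obtain ⟨ρ, ψ, hN⟩ := hB.nat F rfl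
    haveI := normal_iff_top_le_normalizer.2 hB.normZ
    refine Or.inl ⟨hB.lcs_two hf, hB.lcs_one_ne, ?_, hB.exponent_odd hf, _, _, inf_le_left,
      hQ ▸ hB.Z_le_Q, hN.isChief.1, hN.isChief.2, ⟨1, hC _⟩,
      exists_iter_le hQp (hQ ▸ hB.comm_res)⟩
    rintro rfl
    exact hB.exponent_two hf
  · obtain rfl := hB.three
    obtain ⟨ρ, ψ, hN⟩ := hB.nat F rfl
    obtain ⟨ρ', ψ', hN'⟩ := hB.natQ F rfl
    haveI := normal_iff_top_le_normalizer.2 hB.normZ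
    haveI : D.Normal := normal_iff_top_le_normalizer.2 hB.normD
    have h1 := hN'.isChief
    rw [hB.kerD, hQ] at h1
    exact Or.inr ⟨rfl, hB.lcs_three hf, hB.lcs_two_ne, hB.exponent hf, _, _, _, D, inf_le_left,
      hB.ZD, hQ ▸ hB.leD, le_rfl, hN.isChief.1, h1.1, hN.isChief.2, h1.2, ⟨1, hC _⟩,
      exists_iter_le (hQp.to_le (hQ ▸ hB.leD)) hB.comm_res, 0, le_rfl⟩

end Cfsg.Agent.S2765
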