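import Cfsg.Statements.S2911
import Mathlib
import Cfsg.Agent.Lib.LocStruct.ParChar

set_option autoImplicit false
open Cfsg

namespace Cfsg.Agent.S2911

open Subgroup H69
open scoped commutatorElement Pointwise

theorem dec1 : ∀ d : DihedralGroup 4, (∀ e, d * e = e * d) → ∃ w, d = w * w := by decide

theorem dec3 : ((Multiplicative.ofAdd 1, 1) : Multiplicative (ZMod 2) × DihedralGroup 4) ^ 2 = 1 ∧
    ((Multiplicative.ofAdd 1, 1) : Multiplicative (ZMod 2) × DihedralGroup 4) ≠ 1 := by decide

theorem dec2 : ∀ a : Multiplicative (ZMod 2), Multiplicative.ofAdd 1 ≠ a * a := by decide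


/-- A finite group whose Sylow 2-subgroups are isomorphic to the direct product of a group of order 2 and a dihedral group of order 8 has a subgroup of index two. -/
theorem result {G : Type*} [Group G] [Finite G] (S : Sylow 2 G) (hS : Nonempty (↥(S : Subgroup G) ≃* Multiplicative (ZMod 2) × DihedralGroup 4)) : ∃ H : Subgroup G, H.index = 2 := by
  obtain ⟨e⟩ := hS
  by_contra hno
  push Not at hno
  haveI : Fact (Nat.Prime 2) := ⟨Nat.prime_two⟩
  have hG : pResidual 2 G = ⊤ := by
    by_contra hne
    have := H4.pResidual_normal 2 G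
    have hQ : IsPGroup 2 (G ⧸ pResidual 2 G) := H4.isPGroup_quotient_pResidual
    have hb : (⊥ : Subgroup (G ⧸ pResidual 2 G)) ≠ ⊤ := by
      intro h
      apply hne
      have : Subsingleton (G ⧸ pResidual 2 G) := by
        rw [← Subgroup.subsingleton_iff]
        exact subsingleton_iff_bot_eq_top.1 h
      exact QuotientGroup.subgroup_eq_top_of_subsingleton _ this
    obtain ⟨M, -, -, hM, -⟩ := H5.exists_le_normal_index_eq hQ hb
    apply hno (M.comap (QuotientGroup.mk' _))
    rw [index_comap_of_surjective _ (QuotientGroup.mk'_surjective _), hM]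
  let f : S →* Multiplicative (ZMod 2) := (MonoidHom.fst _ _).comp e.toMonoidHom
  have hf : Function.Surjective f := fun a => ⟨e.symm (a, 1), by simp [f]⟩
  let M : Subgroup G := f.ker.map (S : Subgroup G).subtype
  have hMS : M ≤ S := map_subtype_le _
  have hM : M.relIndex S = 2 := by
    rw [relIndex, subgroupOf, comap_map_eq_self_of_injective (subtype_injective _),
      index_ker, MonoidHom.range_eq_top.2 hf, card_top]
    simp
  let c : (S : Subgroup G) := e.symm (Multiplicative.ofAdd 1, 1)
  have hc : ∀ s : (S : Subgroup G), s * c = c * s := fun s => by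
    apply e.injective
    simp only [c, map_mul, MulEquiv.apply_symm_apply]
    refine Prod.ext (mul_comm _ _) ?_
    simp
  have hx : orderOf (c : G) = 2 := by
    rw [orderOf_coe, ← e.orderOf_eq]
    simp only [c, MulEquiv.apply_symm_apply]
    exact orderOf_eq_prime dec3.1 dec3.2
  have hT : (S : Subgroup G) ≤ centralizer ({(c : G)} : Set G) := fun s hs =>
    mem_centralizer_singleton_iff.2 (congrArg Subtype.val (hc ⟨s, hs⟩))
  obtain ⟨g, hg, hSg⟩ := exists_extremal_conj_mem hG S hMS hM hx S.isPGroup' hT
  have hSeq : (S : Subgroup G) ^ᶜ g = S :=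
    (eq_of_le_of_card_ge hSg (card_cj _ _).le).symm
  have hgN := cj_eq_self_iff.1 hSeq
  obtain ⟨y, hy, hyeq⟩ := hg
  have hy1 : (e y).1 = 1 := hy
  have hyc : ∀ s : (S : Subgroup G), y * s = s * y := fun s => by
    apply Subtype.ext
    have h1 := congrArg Subtype.val (hc ⟨g * s * g⁻¹, conj_mem_of_mem_normalizer hgN s.2⟩)
    simp only [coe_mul] at h1 ⊢
    have h2 : (y : G) = g⁻¹ * c * g := hyeq
    rw [h2]
    calc g⁻¹ * c * g * s = g⁻¹ * (c * (g * s * g⁻¹)) * g := by group
      _ = g⁻¹ * ((g * s * g⁻¹) * c) * g := by rw [h1]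
      _ = _ := by group
  obtain ⟨w, hw⟩ := dec1 (e y).2 (fun d => by
    have := congrArg (fun s => (e s).2) (hyc (e.symm (1, d)))
    simpa using this)
  let w' : (S : Subgroup G) := e.symm (1, w)
  have hyw : y = w' * w' := by
    apply e.injective
    simp only [w', map_mul, MulEquiv.apply_symm_apply]
    refine Prod.ext ?_ ?_
    · simp [hy1]
    · simp [hw]
  let v : (S : Subgroup G) := ⟨g * w' * g⁻¹, conj_mem_of_mem_normalizer hgN w'.2⟩
  have hcv : c = v * v := by
    apply Subtype.ext
    have h2 : (y : G) = g⁻¹ * c * g := hyeq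
    rw [hyw] at h2
    simp only [coe_mul, v] at h2 ⊢
    calc (c : G) = g * (g⁻¹ * c * g) * g⁻¹ := by group
      _ = _ := by rw [← h2]; group
  have := congrArg (fun s => (e s).1) hcv
  simp only [c, map_mul, MulEquiv.apply_symm_apply, Prod.fst_mul] at this
  exact dec2 _ this

end Cfsg.Agent.S2911
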