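import Cfsg.Statements.S0434
import Mathlib
import Cfsg.Agent.Base
import Cfsg.Agent.Lib.Ord.Gk
import Cfsg.Agent.Lib.Ord.M11
import Cfsg.Agent.Lib.M24Geom.ClsM11

set_option autoImplicit false
open Cfsg

namespace Cfsg.Agent.S0434

/-- Sylow 3-normalisers in a simple group of order 7920 have order 144 (so there are 55 Sylow 3-subgroups). -/
theorem result {G : Type*} [Group G] [Finite G] (hG : Cfsg.IsM11 G) (P : Sylow 3 G) : Nat.card (Subgroup.normalizer ((P : Subgroup G) : Set G)) = 144 := by
  have d1 : ∀ e ∈ H96.Geo.M11.cls, 3 ∣ e.o → e.o = 6 ∨ e.o = 3 ∧ e.z = 18 := by decide +kernel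
  have d2 : ((H96.Geo.M11.cls.filter fun e' => e'.o = 3).map fun e => 7920 / e.z).sum = 440 := by
    decide +kernel
  classical
  haveI := hG.1
  haveI := Fintype.ofFinite G
  haveI : Fact (Nat.Prime 3) := ⟨by norm_num⟩
  obtain ⟨φ⟩ := H17.Ord.M11.isoM11 hG.2
  have h1 : Nat.card {g : G // orderOf g = 3} = 440 := by
    rw [← d2, ← H17.Ord.card_orderOf_of_table H96.Geo.M11.table H15.card_M11]
    exact Nat.card_congr (φ.toEquiv.subtypeEquiv fun g => by simp)
  have h2 : ∀ g : G, 3 ∣ orderOf g → orderOf g = 6 ∨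
      orderOf g = 3 ∧ Nat.card (Subgroup.centralizer ({g} : Set G)) = 18 := fun g hg => by
    obtain ⟨e, he, k, hk, h1⟩ := H96.Geo.M11.table.cover _ (φ g).2
    have a1 : orderOf g = e.o := by
      rw [← φ.orderOf_eq, ← Subgroup.orderOf_coe, ← h1, ← H96.Geo.M11.table.ord e he]
      exact (MulAut.conj k).orderOf_eq _
    have a2 : Nat.card (Subgroup.centralizer ({g} : Set G)) = e.z := by
      rw [← H96.Geo.M11.table.cent e he, ← H96.Geo.card_cent_conj hk, h1]
      refine Nat.card_congr ⟨fun y => ⟨φ y, (φ y).2, Subgroup.mem_centralizer_singleton_iff.mpr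
        (by rw [← Subgroup.coe_mul, ← map_mul, Subgroup.mem_centralizer_singleton_iff.mp y.2,
          map_mul, Subgroup.coe_mul])⟩,
        fun z => ⟨φ.symm ⟨z, z.2.1⟩, Subgroup.mem_centralizer_singleton_iff.mpr (φ.injective ?_)⟩,
        fun y => by simp, fun z => by simp⟩
      rw [map_mul, map_mul, MulEquiv.apply_symm_apply]
      exact Subtype.ext (Subgroup.mem_centralizer_singleton_iff.mp z.2.2)
    rw [a1, a2]; exact d1 e he (a1 ▸ hg)
  have hP : ∀ P : Sylow 3 G, Nat.card (P : Subgroup G) = 3 ^ 2 := fun P => by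
    rw [P.card_eq_multiplicity, hG.2]
    congr 1
    rw [show 7920 = 3 ^ 2 * 880 by norm_num, Nat.factorization_mul (by norm_num) (by norm_num),
      Nat.factorization_pow]
    simp [Nat.factorization_eq_zero_of_not_dvd, Nat.Prime.factorization_self Nat.prime_three]
  have h3 : ∀ (P : Sylow 3 G) (y : G), y ∈ (P : Subgroup G) → y ≠ 1 → orderOf y = 3 := by
    intro P y hy h
    have a1 := hP P ▸ Subgroup.orderOf_dvd_natCard _ hy
    have a2 := Nat.le_of_dvd (by norm_num) a1
    have a3 : orderOf y ≠ 1 := by simpa using h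
    have a4 := h2 y
    generalize orderOf y = n at *
    interval_cases n <;> omega
  have h4 : ∀ (P Q : Sylow 3 G) (y : G), y ∈ (P : Subgroup G) → y ∈ (Q : Subgroup G) → y ≠ 1 →
      P = Q := by
    intro P Q y hp hq h
    have a1 := ((h2 y (by rw [h3 P y hp h])).resolve_left (by rw [h3 P y hp h]; norm_num)).2
    have hle : ∀ R : Sylow 3 G, y ∈ (R : Subgroup G) →
        (R : Subgroup G) ≤ Subgroup.centralizer ({y} : Set G) := fun R hr g hg => by
      letI := IsPGroup.commGroupOfCardEqPrimeSq (hP R)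
      exact Subgroup.mem_centralizer_singleton_iff.mpr
        (congrArg Subtype.val (mul_comm (⟨g, hg⟩ : (R : Subgroup G)) ⟨y, hr⟩))
    have a2 : (P.subtype (hle P hp) : Subgroup (Subgroup.centralizer ({y} : Set G))).index = 2 := by
      have := (P.subtype (hle P hp) : Subgroup (Subgroup.centralizer ({y} : Set G))).card_mul_index
      rw [a1, Sylow.coe_subtype, (Nat.card_congr (Subgroup.subgroupOfEquivOfLe (hle P hp)).toEquiv).trans (hP P)] at this
      rw [Sylow.coe_subtype]
      omega
    haveI := Subgroup.normal_of_index_eq_two a2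
    haveI := Sylow.unique_of_normal (P.subtype (hle P hp)) inferInstance
    exact Sylow.subtype_injective (Subsingleton.elim (P.subtype (hle P hp)) (Q.subtype (hle Q hq)))
  haveI := Fintype.ofFinite (Sylow 3 G)
  let f : (Σ P : Sylow 3 G, {y : (P : Subgroup G) // y ≠ 1}) → {x : G // orderOf x = 3} :=
    fun a => ⟨a.2.1, h3 _ _ a.2.1.2 fun e => a.2.2 (Subtype.ext e)⟩
  have hf : Function.Bijective f := by
    constructor
    · rintro ⟨P, y, hy⟩ ⟨Q, z, hz⟩ e
      have e1 : (y : G) = z := congrArg Subtype.val e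
      obtain rfl := h4 P Q y y.2 (e1 ▸ z.2) fun e => hy (Subtype.ext e)
      obtain rfl := Subtype.ext e1
      rfl
    · rintro ⟨x, hx⟩
      obtain ⟨R, hR⟩ := (IsPGroup.of_card (p := 3) (n := 1) (G := Subgroup.zpowers x)
        (by rw [Nat.card_zpowers, hx]; rfl)).exists_le_sylow
      exact ⟨⟨R, ⟨x, hR (Subgroup.mem_zpowers x)⟩, fun e => by
        simp [show x = 1 from congrArg Subtype.val e] at hx⟩, rfl⟩
  have h5 := Nat.card_congr (Equiv.ofBijective f hf)
  rw [h1, Nat.card_sigma] at h5
  have h6 : ∀ P : Sylow 3 G, Nat.card {y : (P : Subgroup G) // y ≠ 1} = 8 := fun P => by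
    have := hP P
    rw [Nat.card_eq_fintype_card] at this ⊢
    rw [Fintype.card_subtype_compl, this]; simp
  simp only [h6, Finset.sum_const, Finset.card_univ, smul_eq_mul, ← Nat.card_eq_fintype_card] at h5
  have a1 : _ = (Subgroup.normalizer ((P : Subgroup G) : Set G)).index :=
    P.card_eq_index_normalizer
  have a3 := (Subgroup.normalizer ((P : Subgroup G) : Set G)).card_mul_index
  rw [← a1, hG.2, show Nat.card (Sylow 3 G) = 55 by omega] at a3
  omega

end Cfsg.Agent.S0434
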