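import Mathlib
import Cfsg.Statements.S3547
import Cfsg.Agent.Lib.Perm75.Derange

set_option autoImplicit false
open Cfsg

namespace Cfsg.Agent.S3547
open MulAction H75

/-- Let G act faithfully and transitively on a finite set Ω, let D be the subgroup generated by the derangements, and let r_G and r_D be the numbers of orbits of G and of D on ordered pairs of points (the permutation ranks). Then r_D − 1 = (r_G − 1)·[G : D]. -/
theorem result {G Ω : Type*} [Group G] [Finite G] [MulAction G Ω] [FaithfulSMul G Ω] [Finite Ω]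
    (htrans : MulAction.IsPretransitive G Ω) :
    Nat.card (MulAction.orbitRel.Quotient ↥(Subgroup.closure {g : G | ∀ ω : Ω, g • ω ≠ ω}) (Ω × Ω)) - 1 =
      (Nat.card (MulAction.orbitRel.Quotient G (Ω × Ω)) - 1) * (Subgroup.closure {g : G | ∀ ω : Ω, g • ω ≠ ω}).index := by
  classical
  haveI := Fintype.ofFinite G
  obtain ⟨h1, h2⟩ := H75.derSub_main htrans
  rcases isEmpty_or_nonempty Ω with hΩ | hΩ
  · have e1 : Nat.card (orbitRel.Quotient (derSub G Ω) (Ω × Ω)) = 0 := by
      rw [Nat.card_eq_zero]; left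
      exact ⟨fun x => by induction x using Quotient.inductionOn; rename_i a; exact IsEmpty.false a.1⟩
    have e2 : Nat.card (orbitRel.Quotient G (Ω × Ω)) = 0 := by
      rw [Nat.card_eq_zero]; left
      exact ⟨fun x => by induction x using Quotient.inductionOn; rename_i a; exact IsEmpty.false a.1⟩
    rw [e1, e2]; simp
  set D := derSub G Ω with hD
  have s1 := sum_card_fixedBy G (Ω × Ω)
  rw [sum_split_subgroup D] at s1
  have s2 : ∑ g : D, Nat.card (fixedBy (Ω × Ω) (g : G)) =
      Nat.card (orbitRel.Quotient D (Ω × Ω)) * Nat.card D := sum_card_fixedBy D (Ω × Ω)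
  have s3 : ∑ g ∈ Finset.univ.filter (fun g => g ∉ D), Nat.card (fixedBy (Ω × Ω) g) =
      (Finset.univ.filter (fun g => g ∉ D)).card := by
    rw [Finset.card_eq_sum_ones]
    refine Finset.sum_congr rfl fun g hg => ?_
    rw [card_fixedBy_prod, h2 g (by simpa using hg)]
  have s4 := card_filter_not_mem D
  rw [s2, s3] at s1
  have p1 : 0 < Nat.card (orbitRel.Quotient D (Ω × Ω)) := card_orbits_pos
  have p2 : 0 < Nat.card (orbitRel.Quotient G (Ω × Ω)) := card_orbits_pos
  have p3 : 0 < Nat.card D := Nat.card_pos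
  have s5 := D.index_mul_card
  obtain ⟨r, hr⟩ : ∃ r, Nat.card (orbitRel.Quotient D (Ω × Ω)) = r + 1 := ⟨_, (Nat.succ_pred_eq_of_pos p1).symm⟩
  obtain ⟨t, ht⟩ : ∃ r, Nat.card (orbitRel.Quotient G (Ω × Ω)) = r + 1 := ⟨_, (Nat.succ_pred_eq_of_pos p2).symm⟩
  rw [hr, ht] at s1 ⊢
  simp only [Nat.add_sub_cancel]
  apply Nat.eq_of_mul_eq_mul_right p3
  rw [mul_assoc, s5]
  nlinarith

end Cfsg.Agent.S3547
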