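import Mathlib
import Cfsg.Agent.Lib.InvChar.AutChain
import Cfsg.Statements.S3116

set_option autoImplicit false
open Cfsg

namespace Cfsg.Agent.S3116

/-- The automorphism group of a dihedral 2-group of order at least 8, or of a quasi-dihedral (semidihedral) 2-group of order at least 16, is a 2-group. -/
theorem result {X : Type*} [Group X] [Finite X] (h2 : IsPGroup 2 X)
    (h : (∃ n : ℕ, 4 ≤ n ∧ Nonempty (X ≃* DihedralGroup n)) ∨ Cfsg.IsQuasiDihedral X) : IsPGroup 2 (MulAut X) := by
  rcases h with ⟨n, hn, ⟨e⟩⟩ | ⟨n, hn, hc, x, y, hx, hy, hxy⟩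
  · have : NeZero n := ⟨by omega⟩
    have ho : orderOf (e.symm (DihedralGroup.r 1)) = n := by
      rw [MulEquiv.orderOf_eq, DihedralGroup.orderOf_r_one]
    apply H72.isPGroup_two_mulAut_of_zpowers h2 (x := e.symm (DihedralGroup.r 1))
    · have h1 := (Subgroup.zpowers (e.symm (DihedralGroup.r 1))).card_mul_index
      rw [Nat.card_zpowers, ho, Nat.card_congr e.toEquiv, DihedralGroup.nat_card] at h1
      apply Nat.eq_of_mul_eq_mul_left (show 0 < n by omega)
      rw [h1, mul_comm]
    · intro y hy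
      rw [ho, ← e.orderOf_eq y]
      rcases hey : e y with i | i
      · exfalso
        apply hy
        refine ⟨(i.val : ℤ), ?_⟩
        apply e.injective
        simp [hey]
      · rw [DihedralGroup.orderOf_sr]; omega
  · obtain ⟨m, rfl⟩ : ∃ m, n = m + 3 := ⟨n - 3, by omega⟩
    have hi : (Subgroup.zpowers x).index = 2 := by
      have h1 := (Subgroup.zpowers x).card_mul_index
      rw [Nat.card_zpowers, hx, hc] at h1
      apply Nat.eq_of_mul_eq_mul_left (show 0 < 2 ^ (m + 3) by positivity)
      rw [h1, pow_succ]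
    have hxy' : y * x * y⁻¹ = x ^ ((2 : ℤ) ^ (m + 2) - 1) := by
      rw [hxy, ← zpow_natCast]
      congr 1
      have : 1 ≤ 2 ^ (m + 3 - 1) := Nat.one_le_two_pow
      rw [Nat.cast_sub this]
      push_cast
      rfl
    have hyx : y ∉ Subgroup.zpowers x := by
      rintro ⟨k, rfl⟩
      have h1 : x ^ ((2 : ℤ) ^ (m + 2) - 2) = 1 := by
        have h2 : x = x ^ ((2 : ℤ) ^ (m + 2) - 1) := by
          rw [← hxy']; group
        calc x ^ ((2 : ℤ) ^ (m + 2) - 2) = x ^ ((2 : ℤ) ^ (m + 2) - 1) * x⁻¹ := by group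
          _ = 1 := by rw [← h2]; simp
      rw [← orderOf_dvd_iff_zpow_eq_one, hx] at h1
      have h3 : (0 : ℤ) < 2 ^ m := by positivity
      have := Int.le_of_dvd (by rw [pow_add]; omega) h1
      push_cast at this
      rw [pow_add, pow_add] at this
      omega
    apply H72.isPGroup_two_mulAut_of_zpowers h2 hi
    intro z hz
    have hzy : z * y⁻¹ ∈ Subgroup.zpowers x := by
      rw [Subgroup.mul_mem_iff_of_index_two hi, inv_mem_iff]
      exact iff_of_false hz hyx
    obtain ⟨k, hk⟩ := hzy
    have hz' : z = x ^ k * y := by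
      change x ^ k = _ at hk
      rw [hk]; group
    have hyy : y * y = 1 := by rw [← pow_two, ← hy, pow_orderOf_eq_one]
    have hsq : z ^ 2 = x ^ ((2 : ℤ) ^ (m + 2) * k) := by
      calc z ^ 2 = x ^ k * (y * x * y⁻¹) ^ k * (y * y) := by
            rw [hz', pow_two, conj_zpow]; group
        _ = _ := by rw [hxy', hyy]; group
    have h4 : z ^ 4 = 1 := by
      calc z ^ 4 = (z ^ 2) ^ 2 := by group
        _ = (x ^ (2 ^ (m + 3))) ^ k := by
          rw [hsq, ← zpow_natCast, ← zpow_mul, ← zpow_natCast, ← zpow_mul]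
          congr 1
          push_cast
          ring
        _ = 1 := by rw [← hx, pow_orderOf_eq_one, one_zpow]
    have := Nat.le_of_dvd (by norm_num) (orderOf_dvd_of_pow_eq_one h4)
    rw [hx, pow_add]
    have : 0 < 2 ^ m := by positivity
    omega

end Cfsg.Agent.S3116
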