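import Cfsg.Statements.S1896
import Mathlib
import Cfsg.Agent.Base
import Cfsg.Agent.Lib.Functor.Meta
import Cfsg.Agent.S3116

set_option autoImplicit false
open Cfsg

namespace Cfsg.Agent.S1896

section Aux
open Subgroup H69 H59
open scoped commutatorElement Pointwise

theorem isPGroup_mulAut_quat (n : ℕ) : IsPGroup 2 (MulAut (QuaternionGroup (2 ^ (n + 2)))) := by
  have hc : Nat.card (QuaternionGroup (2 ^ (n + 2))) = 4 * 2 ^ (n + 2) := by
    rw [Nat.card_eq_fintype_card, QuaternionGroup.card]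
  refine H72.isPGroup_two_mulAut_of_zpowers (IsPGroup.of_card (n := n + 4) (by rw [hc]; ring))
    (x := QuaternionGroup.a 1) ?_ fun y hy => ?_
  · have := (zpowers (QuaternionGroup.a 1 : QuaternionGroup (2 ^ (n + 2)))).card_mul_index
    rw [Nat.card_zpowers, QuaternionGroup.orderOf_a_one, hc] at this
    have h2 : 0 < 2 ^ (n + 2) := by positivity
    nlinarith
  · rcases y with i | i
    · exact absurd ⟨(i.val : ℕ), by simp only [zpow_natCast, QuaternionGroup.a_one_pow, ZMod.natCast_zmod_val]⟩ hy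
    · rw [QuaternionGroup.orderOf_xa, QuaternionGroup.orderOf_a_one, pow_add]
      have : 0 < 2 ^ n := by positivity
      omega
end Aux

/-- A finite metacyclic 2-group whose automorphism group is not a 2-group is isomorphic to the quaternion group of order 8 or to a homocyclic abelian group Z_{2^n} × Z_{2^n}. -/
theorem result {X : Type*} [Group X] [Finite X] (hX : IsPGroup 2 X)
    (hm : Cfsg.IsMetacyclic X) (hA : ¬ IsPGroup 2 (MulAut X)) :
    Nonempty (X ≃* QuaternionGroup 2) ∨
      ∃ n : ℕ, Nonempty (X ≃* Multiplicative (ZMod (2 ^ n)) × Multiplicative (ZMod (2 ^ n))) := by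
  open Subgroup H69 H59 in
  have hS : IsPGroup 2 (⊤ : Subgroup X) := isPGroup_top_iff.2 hX
  have hA' : ¬ IsPGroup 2 (MulAut (⊤ : Subgroup X)) := fun h =>
    hA (h.of_equiv (MulAut.congr Subgroup.topEquiv))
  by_cases h1 : ∃ n : ℕ, 0 < n ∧ Nonempty ((⊤ : Subgroup X) ≃*
      Multiplicative (ZMod (2 ^ n)) × Multiplicative (ZMod (2 ^ n)))
  · obtain ⟨n, -, ⟨e⟩⟩ := h1
    exact Or.inr ⟨n, ⟨Subgroup.topEquiv.symm.trans e⟩⟩
  by_cases h2 : H93.MaxCl (⊤ : Subgroup X)
  · rcases h2 with ⟨k, h⟩ | h | ⟨k, ⟨e⟩⟩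
    · exact absurd (S3116.result hS (Or.inl ⟨_, by
        have : 0 < 2 ^ k := by positivity
        rw [pow_add]; omega, h⟩)) hA'
    · exact absurd (S3116.result hS (Or.inr h)) hA'
    · rcases k with _ | k
      · exact Or.inl ⟨Subgroup.topEquiv.symm.trans e⟩
      · exact absurd ((isPGroup_mulAut_quat k).of_equiv (MulAut.congr e.symm)) hA'
  obtain ⟨β, hβ, ho⟩ := H41.exists_odd_aut_of_not_isPGroup hA'
  have hc : (Nat.card (Subgroup.zpowers β)).Coprime 2 := by
    rw [Nat.card_zpowers]; simpa using ho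
  obtain ⟨F, hF, hH⟩ := H93.exists_system_of_coprime hS _ hc
  have := (H93.Super.comm_and_pow hS (H93.super_of_isMetacyclic hS hF (H48.isMetacyclic_subgroup hm ⊤)
    h1 fun h => h2 h.2) hH hc).2 β (Subgroup.mem_zpowers β)
  exact absurd (by simpa using this) hβ

end Cfsg.Agent.S1896
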