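import Mathlib
import Cfsg.Statements.S0877
import Cfsg.Agent.Lib.Perm75.ElemDec
import Cfsg.Agent.Lib.Char.Integral

set_option autoImplicit false
open Cfsg

namespace Cfsg.Agent.S0877

open scoped ComplexConjugate
open Finset

theorem all_eq_one {ι : Type*} [Fintype ι] (a : ι → ℤ) (h1 : ∀ i, 0 < a i)
    (h2 : ∑ i, a i = Fintype.card ι) (i : ι) : a i = 1 := by
  have h3 : ∑ i, (a i - 1) = 0 := by rw [sum_sub_distrib, h2]; simp
  rw [sum_eq_zero_iff_of_nonneg fun i _ => by have := h1 i; omega] at h3
  have := h3 i (mem_univ _)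
  omega

/-- Let H be a subgroup of the finite group G whose order is coprime to its index. Suppose that elements of H conjugate in G are conjugate in H, and that every subgroup E of G that is elementary for some prime (in the sense used for Brauer's characterisation of characters) and whose order divides the order of H is conjugate to a subgroup of H. Then there is a normal subgroup K with K ⊔ H = ⊤ and K ⊓ H trivial. -/
theorem result {G : Type*} [Group G] [Finite G] (H : Subgroup G) (hHall : Nat.Coprime (Nat.card H) H.index) (hfus : ∀ x ∈ H, ∀ y ∈ H, IsConj x y → ∃ h ∈ H, h * x * h⁻¹ = y) (helem : ∀ (E : Subgroup G) (p : ℕ), p.Prime → Cfsg.IsElementary p E → Nat.card E ∣ Nat.card H → ∃ g : G, E.map (MulAut.conj g).toMonoidHom ≤ H) : ∃ K : Subgroup G, K.Normal ∧ K ⊔ H = ⊤ ∧ K ⊓ H = ⊥ := by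

  classical
  haveI := Fintype.ofFinite G
  have hmn : Nat.card G = H.index * Nat.card H := by rw [mul_comm, H.card_mul_index]
  obtain ⟨k, hk1, hk2⟩ := H75.exists_proj_exp hHall.symm
  have hr : ∀ x : G, ∃ h : H, IsConj (x ^ k) h := by
    intro x
    obtain ⟨p, hp, hE⟩ := H75.isElementary_of_isCyclic (E := Subgroup.zpowers (x ^ k))
    obtain ⟨g, hg⟩ := helem _ p hp hE (by
      rw [Nat.card_zpowers, orderOf_dvd_iff_pow_eq_one, ← pow_mul, ← orderOf_dvd_iff_pow_eq_one]
      exact (orderOf_dvd_natCard x).trans (hmn ▸ Nat.mul_dvd_mul_right hk1 _))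
    exact ⟨⟨_, hg ⟨_, Subgroup.mem_zpowers _, rfl⟩⟩, isConj_iff.mpr ⟨g, rfl⟩⟩
  choose r hr using hr
  have hfus' : ∀ x y : H, IsConj (x : G) y → IsConj x y := by
    intro x y h
    obtain ⟨c, hc, e⟩ := hfus x x.2 y y.2 h
    exact isConj_iff.mpr ⟨⟨c, hc⟩, Subtype.ext e⟩
  have hrH : ∀ h : H, IsConj (r h) h := by
    intro h
    apply hfus'
    have := H75.mul_pow_proj hk1 hk2 (Commute.one_left (h : G)) (by simp)
      (H.orderOf_dvd_natCard h.2)
    rw [one_mul] at this
    have h2 := (hr h).symm
    rwa [this] at h2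
  have hcl : ∀ θ : H → ℂ, IsClassFunction H θ → IsClassFunction G fun x => θ (r x) := by
    intro θ hθ x g
    refine H6.classFun_of_isConj hθ (hfus' _ _ ?_)
    refine (hr _).symm.trans (IsConj.trans ?_ (hr x))
    rw [conj_pow]
    exact (isConj_iff.mpr ⟨g, rfl⟩).symm
  have hgen : ∀ θ : H → ℂ, IsCharacter H θ → IsGeneralizedCharacter G fun x => θ (r x) := by
    intro θ hθ
    refine H8.brauer_characterization (hcl θ (H6.char_isClassFunction hθ)) fun E p hp hE => ?_
    haveI := H8.isNilpotent_of_isElementary hp hE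
    obtain ⟨U, V, hU, hV, hUV, hc⟩ := H75.exists_dec (E := E) hHall.symm
      (hmn ▸ Subgroup.card_subgroup_dvd_card E)
    obtain ⟨g, hg⟩ := helem (V.map E.subtype) p hp
      (H8.isElementary_of_injective hp hE (V.subtype.comp
        (V.equivMapOfInjective _ E.subtype_injective).symm.toMonoidHom)
        (V.subtype_injective.comp (MulEquiv.injective _)))
      (by rwa [Subgroup.card_map_of_injective E.subtype_injective])
    have hdec : ∀ x : E, ∃ u ∈ U, ∃ v ∈ V, x = u * v ∧ x ^ k = v := by
      intro x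
      obtain ⟨⟨u, v⟩, e⟩ := hc.2 x
      refine ⟨u, u.2, v, v.2, e.symm, ?_⟩
      rw [← e]
      exact H75.mul_pow_proj hk1 hk2 (hUV _ u.2 _ v.2) ((U.orderOf_dvd_natCard u.2).trans hU)
        ((V.orderOf_dvd_natCard v.2).trans hV)
    have hmul : ∀ x y : E, (x * y) ^ k = x ^ k * y ^ k := by
      intro x y
      obtain ⟨u, hu, v, hv, e1, e2⟩ := hdec x
      obtain ⟨u', hu', v', hv', e1', e2'⟩ := hdec y
      rw [e2, e2', e1, e1', show u * v * (u' * v') = (u * u') * (v * v') by
        rw [mul_assoc, ← mul_assoc v, ← (hUV u' hu' v hv).eq]; simp only [mul_assoc]]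
      exact H75.mul_pow_proj hk1 hk2 (hUV _ (U.mul_mem hu hu') _ (V.mul_mem hv hv'))
        ((U.orderOf_dvd_natCard (U.mul_mem hu hu')).trans hU)
        ((V.orderOf_dvd_natCard (V.mul_mem hv hv')).trans hV)
    have hmem : ∀ x : E, g * (x : G) ^ k * g⁻¹ ∈ H := by
      intro x
      obtain ⟨u, hu, v, hv, e1, e2⟩ := hdec x
      exact hg ⟨_, ⟨v, hv, rfl⟩, by rw [← e2]; rfl⟩
    let f : E →* H := MonoidHom.mk' (fun x => ⟨_, hmem x⟩) fun x y => Subtype.ext (by
      have := congrArg Subtype.val (hmul x y)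
      simp only [Subgroup.coe_mul, Subgroup.coe_pow] at this ⊢
      rw [this]; group)
    have : (fun e : E => θ (r e)) = fun e => θ (f e) := by
      funext e
      exact H6.classFun_of_isConj (H6.char_isClassFunction hθ)
        (hfus' _ _ ((hr _).symm.trans (isConj_iff.mpr ⟨g, rfl⟩)))
    rw [this]
    exact H6.char_isGen (H6.isCharacter_comp f hθ)
  have hG0 := H6.card_ne_zero (G := G)
  have hH0 := H6.card_ne_zero (G := H)
  -- counting
  have ha : ∀ h : H, ∃ a : ℤ, 0 < a ∧ ∑ x : G,
      (Nat.card (Subgroup.centralizer ({h} : Set H)) : ℂ) * H6.classInd h (r x) =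
        Nat.card G * a := by
    intro h
    set N : ℕ := (univ.filter fun x : G => IsConj h (r x)).card with hN
    have e1 : ∑ x : G, (Nat.card (Subgroup.centralizer ({h} : Set H)) : ℂ) * H6.classInd h (r x) =
        (Nat.card (Subgroup.centralizer ({h} : Set H)) * N : ℕ) := by
      rw [← mul_sum, hN, card_filter]
      push_cast
      refine congrArg (_ * ·) (sum_congr rfl fun x _ => ?_)
      split_ifs with h1
      · exact H6.classInd_of_isConj h1
      · exact H6.classInd_of_not_isConj h1
    have e2 : IsIntegral ℤ ((((Nat.card (Subgroup.centralizer ({h} : Set H)) * N : ℕ) : ℚ) /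
        Nat.card G : ℚ) : ℂ) := by
      rw [Rat.cast_div, Rat.cast_natCast, Rat.cast_natCast, ← e1]
      simp only [← H6.column_orthogonality]
      rw [sum_comm, sum_div]
      refine IsIntegral.sum _ fun φ _ => ?_
      obtain ⟨z, hz⟩ := H6.gen_inner_int (hgen _ (H6.irr_isCharacter φ.2)) H6.isGen_one
      rw [H6.classInner_one_right] at hz
      rw [← sum_mul, mul_div_right_comm, div_eq_inv_mul, hz]
      have i1 : IsIntegral ℤ (z : ℂ) := isIntegral_algebraMap (R := ℤ) (x := z)
      have i2 : IsIntegral ℤ (conj ((φ : H → ℂ) h)) :=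
        (H6.char_isIntegral (H6.irr_isCharacter φ.2) h).map (starRingEnd ℂ).toIntAlgHom
      exact i1.mul i2
    obtain ⟨z, hz⟩ := H8.exists_int_of_isIntegral_rat e2
    have hNpos : 0 < N := card_pos.mpr ⟨h, by simpa using (hrH h).symm⟩
    refine ⟨z, ?_, ?_⟩
    · have : (0 : ℚ) < z := by
        rw [← hz]
        have : 0 < Nat.card (Subgroup.centralizer ({h} : Set H)) := Nat.card_pos
        have : 0 < Nat.card G := Nat.card_pos
        positivity
      exact_mod_cast this
    · rw [e1, ← Rat.cast_intCast, ← hz, Rat.cast_div, Rat.cast_natCast, Rat.cast_natCast]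
      field_simp
  choose a ha1 ha2 using ha
  have hsw : ∀ θ : H → ℂ, IsClassFunction H θ → ∀ y : H, ∑ h : H,
      (Nat.card (Subgroup.centralizer ({h} : Set H)) : ℂ) * H6.classInd h y * θ h =
        Nat.card H * θ y := by
    intro θ hθ y
    have : ∀ h : H, (Nat.card (Subgroup.centralizer ({h} : Set H)) : ℂ) * H6.classInd h y * θ h =
        Nat.card (Subgroup.centralizer ({y} : Set H)) * (H6.classInd y h * θ h) := by
      intro h
      by_cases hc : IsConj h y
      · rw [H6.classInd_of_isConj hc, H6.classInd_of_isConj hc.symm,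
          ← H6.column_orthogonality_self, ← H6.column_orthogonality_self, mul_assoc]
        congr 1
        exact sum_congr rfl fun φ _ => by rw [H6.classFun_of_isConj (H6.irr_isClassFunction φ.2) hc]
      · rw [H6.classInd_of_not_isConj hc, H6.classInd_of_not_isConj fun h1 => hc h1.symm]
        simp
    simp only [this]
    rw [← mul_sum, H6.sum_classInd_mul y hθ, ← mul_assoc, ← Nat.cast_mul,
      Subgroup.card_mul_index]
  have hsum : ∀ θ : H → ℂ, IsClassFunction H θ →
      (Nat.card H : ℂ) * ∑ x : G, θ (r x) = Nat.card G * ∑ h : H, a h * θ h := by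
    intro θ hθ
    rw [mul_sum, mul_sum]
    simp only [← hsw θ hθ, ← mul_assoc, ← ha2, sum_mul]
    rw [sum_comm]
  have ha3 : ∀ h, a h = 1 := by
    refine all_eq_one a ha1 ?_
    have := hsum (fun _ => 1) (H6.isClassFunction_const 1)
    simp only [sum_const, card_univ, nsmul_eq_mul, mul_one, ← Nat.card_eq_fintype_card] at this
    rw [mul_comm] at this
    have h2 := mul_left_cancel₀ hG0 this
    rw [← Nat.card_eq_fintype_card]
    exact_mod_cast h2.symm
  simp only [ha3, Int.cast_one, one_mul] at hsum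
  have hirr : ∀ φ : IrrCharacter H, IsIrrCharacter G fun x => (φ : H → ℂ) (r x) := by
    intro φ
    refine H6.isIrr_of_gen_of_inner_self (hgen _ (H6.irr_isCharacter φ.2)) ?_ ?_
    · have h1 := hsum (fun h => (φ : H → ℂ) h * conj ((φ : H → ℂ) h))
        (H6.isClassFunction_mul (H6.irr_isClassFunction φ.2)
          (H6.isClassFunction_conj (H6.irr_isClassFunction φ.2)))
      rw [← H6.card_mul_classInner (φ : H → ℂ), H6.irr_inner_self φ.2, mul_one, mul_comm] at h1
      rw [H6.classInner_def, mul_right_cancel₀ hH0 h1, inv_mul_cancel₀ hG0]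
    · obtain ⟨n, -, hn⟩ := H6.irr_one_pos φ.2
      have : r 1 = 1 := isConj_one_left.mp (hrH 1)
      simp [this, hn]
  have hψ : IsCharacter G fun x => H6.regChar H (r x) := by
    obtain ⟨m, hm⟩ := H6.char_eq_sum_irr (H6.isCharacter_regChar (G := H))
    have : (fun x => H6.regChar H (r x)) =
        ∑ φ : IrrCharacter H, (m φ : ℂ) • fun x => (φ : H → ℂ) (r x) := by
      funext x
      rw [hm]
      simp
    rw [this]
    exact H6.isCharacter_sum _ fun φ _ =>
      H6.isCharacter_natCast_smul _ (H6.irr_isCharacter (hirr φ))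
  have hr1 : r 1 = 1 := isConj_one_left.mp (hrH 1)
  have hK : ∀ x, x ∈ H6.charKer (fun x => H6.regChar H (r x)) ↔ r x = 1 := by
    intro x
    rw [H6.mem_charKer hψ, hr1, H6.regChar_one]
    refine ⟨fun h => ?_, fun h => by rw [h, H6.regChar_one]⟩
    by_contra h1
    rw [H6.regChar_ne h1] at h
    exact hH0 h.symm
  have hdis : H6.charKer (fun x => H6.regChar H (r x)) ⊓ H = ⊥ := by
    rw [eq_bot_iff]
    intro x hx
    have := hrH ⟨x, hx.2⟩
    rw [show r ((⟨x, hx.2⟩ : H) : G) = 1 from (hK x).mp hx.1, isConj_one_right] at this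
    exact congrArg Subtype.val this
  refine ⟨_, inferInstance, ?_, hdis⟩
  refine (Subgroup.isComplement'_of_card_mul_and_disjoint ?_ (disjoint_iff.mpr hdis)).sup_eq_top
  have h1 := hsum (H6.regChar H) (H6.char_isClassFunction H6.isCharacter_regChar)
  have h2 : ∑ h : H, H6.regChar H h = Nat.card H := by
    rw [sum_eq_single 1 (fun b _ hb => H6.regChar_ne hb) (by simp), H6.regChar_one]
  have h3 : ∑ x : G, H6.regChar H (r x) =
      Nat.card (H6.charKer (fun x => H6.regChar H (r x))) * Nat.card H := by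
    rw [Nat.card_eq_fintype_card (α := H6.charKer _), Fintype.card_subtype, card_filter]
    push_cast
    rw [sum_mul]
    refine sum_congr rfl fun x _ => ?_
    split_ifs with h
    · rw [(hK x).mp h, H6.regChar_one, one_mul]
    · rw [H6.regChar_ne fun h1 => h ((hK x).mpr h1), zero_mul]
  rw [h2, h3, mul_comm] at h1
  exact_mod_cast mul_right_cancel₀ hH0 h1

end Cfsg.Agent.S0877
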