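import Cfsg.Statements.S0338
import Cfsg.Agent.Lib.Zass.Basic

set_option autoImplicit false
open Cfsg

namespace Cfsg.Agent.S0338

/-- A Zassenhaus group of odd degree is a simple group. -/
theorem result {G Ω : Type*} [Group G] [MulAction G Ω] [Fintype Ω]
    (hZ : Cfsg.IsZassenhausGroup G Ω) (hodd : Odd (Fintype.card Ω)) : IsSimpleGroup G := by
  have h := H13.Zass.pre_of hZ
  have := h.finite
  obtain ⟨g, hg, a, b, hab, -⟩ := h.fix2
  have : Nontrivial G := ⟨⟨g, 1, hg⟩⟩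
  refine ⟨fun N hNn => or_iff_not_imp_left.2 fun hN => ?_⟩
  obtain ⟨K, hK⟩ := h.exists_isKer a
  have hcard := hK.card_add_one hab.symm
  have h2 : 2 ∣ Nat.card K := by
    rw [← Nat.card_eq_fintype_card, ← hcard] at hodd
    exact even_iff_two_dvd.1 (Nat.odd_add_one.1 hodd |> Nat.not_odd_iff_even.1)
  have : Fact (Nat.Prime 2) := ⟨Nat.prime_two⟩
  obtain ⟨⟨t, htK⟩, ht⟩ := exists_prime_orderOf_dvd_card' 2 h2
  rw [← Subgroup.orderOf_coe] at ht
  have ht : orderOf t = 2 := ht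
  have ht1 : t ≠ 1 := by rintro rfl; simp at ht
  have ht2 : t * t = 1 := by rw [← sq, ← ht, pow_orderOf_eq_one]
  have htN : t ∈ N := hK.le_normal hZ hNn hN htK
  have hbc : b ≠ t • b := fun e => hab (hK.fix t htK ht1 b e.symm).symm
  have htc : t • t • b = b := by rw [← mul_smul, ht2, one_smul]
  set H : Subgroup G := MulAction.stabilizer G b ⊓ MulAction.stabilizer G (t • b) with hH
  have memH : ∀ x : G, x ∈ H ↔ x • b = b ∧ x • t • b = t • b := fun x => Iff.rfl
  have hti : t⁻¹ = t := inv_eq_of_mul_eq_one_right ht2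
  have conjH : ∀ x ∈ H, t * x * t⁻¹ ∈ H := by
    intro x hx
    rw [memH] at hx ⊢
    rw [hti]
    simp only [mul_smul, hx.2, htc, hx.1, and_self]
  let f : H → H := fun x => ⟨(x : G)⁻¹ * (t * x * t⁻¹), mul_mem (inv_mem x.2) (conjH x x.2)⟩
  have hf : Function.Injective f := by
    intro u w huw
    have e : (u : G)⁻¹ * (t * u * t⁻¹) = (w : G)⁻¹ * (t * w * t⁻¹) := congrArg Subtype.val huw
    have e2 : t * ((w : G) * (u : G)⁻¹) = ((w : G) * (u : G)⁻¹) * t := by
      calc t * ((w : G) * (u : G)⁻¹)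
          = w * ((w : G)⁻¹ * (t * w * t⁻¹)) * t * (u : G)⁻¹ := by group
        _ = w * ((u : G)⁻¹ * (t * u * t⁻¹)) * t * (u : G)⁻¹ := by rw [e]
        _ = _ := by group
    have hm := (memH _).1 (mul_mem w.2 (inv_mem u.2))
    have h3 : ((w : G) * (u : G)⁻¹) • a = a := by
      refine hK.fix t htK ht1 _ ?_
      rw [← mul_smul, e2, mul_smul, hK.le t htK]
    have := h.eq_one hbc hab (hK.smul_ne htK hab.symm).symm hm.1 hm.2 h3
    exact Subtype.ext (mul_inv_eq_one.1 this).symm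
  have hHN : H ≤ N := by
    intro x hx
    obtain ⟨y, hy⟩ := Finite.injective_iff_surjective.1 hf ⟨x, hx⟩
    have e : x = (y : G)⁻¹ * (t * y * t⁻¹) := (congrArg Subtype.val hy).symm
    have := mul_mem (hNn.conj_mem t htN (y : G)⁻¹) (inv_mem htN)
    rw [e]
    simpa [mul_assoc] using this
  rw [eq_top_iff]
  intro x _
  obtain ⟨n, hn, e1, e2⟩ := H13.Zass.normal_trans2 hZ hNn hN hbc
    (show x • b ≠ x • t • b from fun e => hbc (smul_left_cancel x e))
  have : n⁻¹ * x ∈ H := (memH _).2 ⟨by rw [mul_smul, ← e1, inv_smul_smul],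
    by rw [mul_smul, ← e2, inv_smul_smul]⟩
  simpa using mul_mem hn (hHN this)

end Cfsg.Agent.S0338
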