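import Cfsg.Statements.S0346
import Cfsg.Agent.Lib.Zass.Basic
import Cfsg.Agent.S0741
import Cfsg.Agent.S0738
import Cfsg.Agent.S0885

set_option autoImplicit false
open Cfsg

namespace Cfsg.Agent.S0346

/-- The number of points of a finite simple Zassenhaus group is `p^k + 1` for some prime power `p^k` (the regular normal
subgroup of a point stabiliser is a `p`-group). -/
theorem result {G Ω : Type*} [Group G] [Finite G] [MulAction G Ω] [Fintype Ω]
    (hZ : Cfsg.IsZassenhausGroup G Ω) [IsSimpleGroup G] :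
    IsPrimePow (Fintype.card Ω - 1) := by
  classical
  have h := H13.Zass.pre_of hZ
  have h4 := h.four_le_card
  rw [Nat.card_eq_fintype_card] at h4
  obtain ⟨a⟩ : Nonempty Ω := Fintype.card_pos_iff.1 (by omega)
  obtain ⟨b, hb⟩ := h.exists_ne a
  obtain ⟨K, hK⟩ := h.exists_isKer a
  have hKc := hK.card_add_one hb
  rw [Nat.card_eq_fintype_card (α := Ω)] at hKc
  have key : Fintype.card Ω - 2 ≤ 2 * Nat.card ↥(MulAction.stabilizer G a ⊓ MulAction.stabilizer G b) →
      IsPrimePow (Fintype.card Ω - 1) := by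
    intro hd
    obtain ⟨-, p, f, hp, -, hf⟩ := Cfsg.Agent.S0738.result hZ hb.symm hd K hK.le_stabilizer
      hK.normal_subgroupOf hK.existsUnique
    refine (isPrimePow_nat_iff _).2 ⟨p, f, hp, ?_, by omega⟩
    rcases f with _ | f
    · simp at hf; omega
    · omega
  rcases Nat.even_or_odd (Nat.card ↥(MulAction.stabilizer G a ⊓ MulAction.stabilizer G b)) with he | ho
  · exact key (Cfsg.Agent.S0741.result hZ hb.symm he)
  · rcases Cfsg.Agent.S0885.result hZ hb.symm (Fintype.card Ω - 1) _ (by omega) rfl ho K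
      hK.le_stabilizer hKc hK.fix with h1 | ⟨h1, -⟩
    · exact key (by rw [Nat.sub_sub] at h1; exact h1)
    · obtain ⟨n, hn⟩ := h1.exists_card_eq
      refine (isPrimePow_nat_iff _).2 ⟨2, n, Nat.prime_two, ?_, by omega⟩
      rcases n with _ | n
      · rw [pow_zero] at hn; omega
      · omega

end Cfsg.Agent.S0346
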