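import Mathlib
import Cfsg.Statements.S2202
import Cfsg.Agent.Lib.CIT.AC

set_option autoImplicit false
open Cfsg

namespace Cfsg.Agent.S2202


/-- Finite groups in which the centralizer of every involution is abelian. Let G be a finite group of even order in which the centralizer of every element of order 2 is abelian. Then the Sylow 2-subgroups of G are cyclic, or a Sylow 2-subgroup of G is normal, or G is isomorphic to the direct product of SL₂(F) for a finite field F of characteristic two and an abelian group of odd order. -/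
theorem result {G : Type*} [Group G] [Finite G] (heven : Even (Nat.card G)) (h : ∀ t : G, orderOf t = 2 → IsMulCommutative ↥(Subgroup.centralizer ({t} : Set G))) :
    (∀ P : Sylow 2 G, IsCyclic ↥P) ∨ (∀ P : Sylow 2 G, (P : Subgroup G).Normal) ∨
    (∃ (F : Type) (_ : Field F) (_ : Fintype F) (A : Type) (_ : CommGroup A) (_ : Finite A), CharP F 2 ∧ Odd (Nat.card A) ∧ Nonempty (G ≃* Matrix.SpecialLinearGroup (Fin 2) F × A)) := by
  have hA : H32.AC G := fun t x y ht hx hy => congrArg Subtype.val ((h t ht).is_comm.comm
    ⟨x, Subgroup.mem_centralizer_singleton_iff.2 hx⟩ ⟨y, Subgroup.mem_centralizer_singleton_iff.2 hy⟩)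
  by_contra hc
  push Not at hc
  obtain ⟨⟨P, hP⟩, ⟨Q, hQ⟩, hc⟩ := hc
  obtain ⟨F, _, _, _, K, -, h1, h2, ⟨e⟩⟩ := hA.classify heven hP fun hn => by
    haveI := Sylow.unique_of_normal P hn
    exact hQ (Subsingleton.elim P Q ▸ hn)
  letI : CommGroup K := { (inferInstance : Group K) with
    mul_comm := fun x y => Subtype.ext (Subgroup.mem_center_iff.1 (h1 y.2) x) }
  obtain ⟨ι, _, n, hn, ⟨e'⟩⟩ := CommGroup.equiv_prod_multiplicative_zmod_of_finite K
  haveI : Finite ((i : ι) → Multiplicative (ZMod (n i))) := Finite.of_equiv _ e'.toEquiv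
  exact (hc F _ inferInstance ((i : ι) → Multiplicative (ZMod (n i))) _ this inferInstance
    (Nat.card_congr e'.toEquiv ▸ h2)).false
    (e.trans ((MulEquiv.refl _).prodCongr e'))

end Cfsg.Agent.S2202
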