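import Mathlib
import Cfsg.Statements.S0680
import Cfsg.Agent.Lib.Perm.Sharp2

set_option autoImplicit false
open Cfsg

namespace Cfsg.Agent.S0680

open MulAction

/-- A finite sharply doubly transitive permutation group has degree a prime power `p ^ j`; a Sylow `p`-subgroup is normal, elementary abelian and regular, and consists of the identity together with the elements without fixed points. (Frobenius' Theorem is not needed.) -/
theorem result {α : Type*} [Fintype α] [DecidableEq α] (G : Subgroup (Equiv.Perm α)) [MulAction.IsMultiplyPretransitive G α 2] (hsharp : ∀ x : Fin 2 ↪ α, MulAction.stabilizer G x = ⊥) (h2 : 2 ≤ Fintype.card α) : ∃ p j : ℕ, p.Prime ∧ 1 ≤ j ∧ Fintype.card α = p ^ j ∧ ∀ (hp : Fact p.Prime) (P : Sylow p G), (P : Subgroup G).Normal ∧ IsMulCommutative (P : Subgroup G) ∧ (∀ x ∈ (P : Subgroup G), x ^ p = 1) ∧ MulAction.IsPretransitive (P : Subgroup G) α ∧ (∀ a : α, MulAction.stabilizer (P : Subgroup G) a = ⊥) ∧ ∀ g : G, g ∈ (P : Subgroup G) ↔ g = 1 ∨ ∀ a : α, g • a ≠ a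 := by
  have : Nontrivial α := Fintype.one_lt_card_iff_nontrivial.mp h2
  have hs := H26.sharp2_iff.mp hsharp
  obtain ⟨K, hn, hc, ht, hst, hK, p, j, hp, hj, hcard, hexp⟩ :=
    H26.sharp2_exists_kernel (G := G) (α := α) inferInstance hs
  refine ⟨p, j, hp, hj, by rw [← hcard, Nat.card_eq_fintype_card], fun _ P => ?_⟩
  have hpg : IsPGroup p K := fun k => ⟨1, Subtype.ext (by simpa using hexp k k.2)⟩
  have hPK : (P : Subgroup G) = K := by
    refine le_antisymm (fun g hg => ?_) (hpg.le_sylow_of_normal P)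
    rw [hK]
    by_cases h : ∀ a : α, g • a ≠ a
    · exact Or.inr h
    left
    simp only [ne_eq, not_forall, not_not] at h
    obtain ⟨a, ha⟩ := h
    have hz : IsPGroup p (Subgroup.zpowers g) :=
      P.isPGroup'.to_le (Subgroup.zpowers_le.mpr hg)
    have hfix : a ∈ fixedPoints (Subgroup.zpowers g) α := by
      rintro ⟨_, n, rfl⟩
      exact mem_fixedBy_zpow ha n
    obtain ⟨b, hb, hab⟩ := hz.exists_fixed_point_of_prime_dvd_card_of_fixed_point α
      (by rw [hcard]; exact dvd_pow_self p (by omega)) hfix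
    exact hs g a b hab ha (hb ⟨g, Subgroup.mem_zpowers g⟩)
  rw [hPK]
  exact ⟨hn, hc, hexp, ht, hst, hK⟩

end Cfsg.Agent.S0680
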