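import Cfsg.Statements.S4480
import Mathlib
import Cfsg.Agent.Lib.Block.Klein

set_option autoImplicit false
set_option linter.style.haveILetI false
open Cfsg

namespace Cfsg.Agent.S4480

/-- Same setting as the Klein-four order formula: G of order 4·g₀ (g₀ odd) with no normal 2-complement, P a Sylow 2-subgroup, J an involution of P, M over 2, principal 2-block {1, χ₁, χ₂, χ₃} with χ_i(J) = ε_i = ±1. Suppose ε₁ε₂ε₃ = −1 and ε₃ = −1, and put q = x₃ = χ₃(1). Then there is a natural number m with 4·c(J) = m·c(P)·(q + 1), and the order of G equals (m³·c(P)/4)·(q³ − q)/2, that is 8·#G = m³·c(P)·(q³ − q). -/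
theorem result {G : Type*} [Group G] [Finite G] (M : Ideal Cfsg.AlgInt) (hM : Cfsg.IsPModular 2 M) (g₀ : ℕ) (hg₀ : Odd g₀) (hG : Nat.card G = 4 * g₀) (hnc : ¬ ∃ N : Subgroup G, N.Normal ∧ Nat.card N = g₀) (P : Sylow 2 G) (J : G) (hJ : J ∈ (P : Subgroup G)) (hJ2 : orderOf J = 2) (χ₁ χ₂ χ₃ : Cfsg.IrrCharacter G) (ε₁ ε₂ ε₃ : ℤ) (hB : Cfsg.principalBlock M G = {χ : Cfsg.IrrCharacter G | (χ : G → ℂ) = (fun _ => 1) ∨ χ = χ₁ ∨ χ = χ₂ ∨ χ = χ₃}) (hdist : (χ₁ : G → ℂ) ≠ (fun _ => 1) ∧ (χ₂ : G → ℂ) ≠ (fun _ => 1) ∧ (χ₃ : G → ℂ) ≠ (fun _ => 1) ∧ χ₁ ≠ χ₂ ∧ χ₁ ≠ χ₃ ∧ χ₂ ≠ χ₃) (hε : (ε₁ = 1 ∨ ε₁ = -1) ∧ (ε₂ = 1 ∨ ε₂ = -1) ∧ (ε₃ = 1 ∨ ε₃ = -1)) (hval : (χ₁ : G → ℂ) J = ε₁ ∧ (χ₂ : G → ℂ) J = ε₂ ∧ (χ₃ : G → ℂ) J = ε₃) (hprod : ε₁ * ε₂ * ε₃ = -1) (hε₃ : ε₃ = -1) : ∃ m : ℕ, 4 * Nat.card (Subgroup.centralizer ({J} : Set G)) = m * Nat.card (Subgroup.centralizer ((P : Subgroup G) : Set G)) * (Cfsg.charDegree (χ₃ : G → ℂ) + 1)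 ∧ 8 * Nat.card G = m ^ 3 * Nat.card (Subgroup.centralizer ((P : Subgroup G) : Set G)) * (Cfsg.charDegree (χ₃ : G → ℂ) ^ 3 - Cfsg.charDegree (χ₃ : G → ℂ)) := by
  classical
  haveI := H33.isMaximal_of hM
  letI := Fintype.ofFinite G
  have hP := H33.Klein.card_sylow hg₀ hG P
  have hn := H33.Klein.not_hasNormal hg₀ hG hnc
  obtain ⟨E1, E2⟩ := H33.Klein.main hM P hP hn hJ hJ2 hB hdist hε hval
  have p1 := H84.deg_pos χ₁
  have p2 := H84.deg_pos χ₂
  have p3 := H84.deg_pos χ₃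
  subst hε₃
  obtain ⟨rfl, rfl⟩ : ε₁ = 1 ∧ ε₂ = 1 := by
    obtain ⟨rfl | rfl, rfl | rfl, -⟩ := hε <;> omega
  obtain ⟨τ, hd⟩ := H33.Klein.exists_dihData hP (H33.Klein.rk2 P hP hn) hJ hJ2
  have hle : (P : Subgroup G) ≤ Subgroup.centralizer ({J} : Set G) := by
    simpa using H33.Dih.le_centralizer_J hd
  have hdvd : ∀ (χ : IrrCharacter G) (ε : ℤ), ε * ε = 1 → (χ : G → ℂ) J = ε →
      charDegree (χ : G → ℂ) ∣ (Subgroup.centralizer ({J} : Set G)).index := by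
    intro χ ε h1 h2
    have h3 := (H84.isIntegral_centralChar χ J).mul (isIntegral_intCast (B := ℂ) ε)
    have h4 : centralChar (χ : G → ℂ) J * ε = algebraMap ℚ ℂ
        (((Subgroup.centralizer ({J} : Set G)).index : ℚ) / charDegree (χ : G → ℂ)) := by
      have : (ε : ℂ) * ε = 1 := by exact_mod_cast h1
      rw [centralChar, h2, ← H84.cast_deg]
      simp only [eq_ratCast, Rat.cast_div, Rat.cast_natCast]
      linear_combination ((Subgroup.centralizer ({J} : Set G)).index : ℂ) /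
        (charDegree (χ : G → ℂ) : ℂ) * this
    rw [h4, isIntegral_algebraMap_iff (algebraMap ℚ ℂ).injective,
      IsIntegrallyClosed.isIntegral_iff] at h3
    obtain ⟨y, hy⟩ := h3
    have h5 : (charDegree (χ : G → ℂ) : ℚ) ≠ 0 := by exact_mod_cast H84.deg_ne_zero χ
    rw [eq_div_iff h5, eq_intCast] at hy
    have h6 : y * charDegree (χ : G → ℂ) = (Subgroup.centralizer ({J} : Set G)).index := by
      exact_mod_cast hy
    exact Int.natCast_dvd_natCast.1 (Dvd.intro_left y h6)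
  have d1 := hdvd χ₁ _ (by norm_num) hval.1
  have d2 := hdvd χ₂ _ (by norm_num) hval.2.1
  have d3 := hdvd χ₃ _ (by norm_num) hval.2.2
  have hodd : Odd (Subgroup.centralizer ({J} : Set G)).index :=
    Nat.odd_iff.2 (Nat.two_dvd_ne_zero.1 fun h =>
      P.not_dvd_index (h.trans (Subgroup.index_dvd_of_le hle)))
  have hnu := H33.Klein.sum_nu_eq_zero hM H84.isPBlock_principal (u := J) ⟨1, by simp [hJ2]⟩
    (fun s hs hc => by
      obtain ⟨g, hg⟩ := hs.exists_conj_mem P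
      have h1 : g * s * g⁻¹ * (g * s * g⁻¹) = 1 := by
        obtain ⟨i, e | e⟩ := (hd.mem _).1 hg
        · rw [e, ← (Commute.refl J).mul_zpow, H9.mul_self_of_orderOf_two hJ2, one_zpow]
        · rw [e, hd.refl_mul_self]
      have h2 : s * s = 1 := H33.mul_self_of_isConj h1 (isConj_iff.2 ⟨g, rfl⟩).symm
      rw [h2, isConj_one_left] at hc
      exact H9.ne_one_of_orderOf_two hJ2 hc)
  rw [H33.Klein.sum_four hB hdist] at hnu
  simp only [hval, H84.irrOne_coe, H87.nu_one] at hnu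
  have hreal : ¬ H87.IsReal (χ₁ : G → ℂ) := by
    intro hr
    rw [H87.nu_eq_one_of_odd_deg χ₁.2 hr (hodd.of_dvd_nat d1)] at hnu
    have a2 : H87.nu (χ₂ : G → ℂ) ≠ -1 := fun e =>
      Nat.not_even_iff_odd.2 (hodd.of_dvd_nat d2) (H87.even_deg_of_nu_eq_neg_one χ₂.2 e)
    rcases H87.nu_trichotomy χ₂.2 with e | e | e <;> rcases H87.nu_trichotomy χ₃.2 with e' | e' | e'
    all_goals first | exact a2 e | (rw [e, e'] at hnu; norm_num at hnu)
  have h12 : charDegree (χ₂ : G → ℂ) = charDegree (χ₁ : G → ℂ) := by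
    have h1 := H33.Klein.irrConj_mem_principal (M := M) (χ := χ₁) (by rw [hB]; simp)
    rw [hB] at h1
    rcases h1 with e | e | e | e
    · refine absurd (funext fun g => ?_) hdist.1
      simpa [H87.irrConj_apply] using congrArg (starRingEnd ℂ) (congrFun e g)
    · exact absurd ((H87.irrConj_eq_iff χ₁).1 e) hreal
    · rw [← e, H87.deg_irrConj]
    · have := hval.2.2
      rw [← e, H87.irrConj_apply, hval.1] at this
      norm_num at this
  rw [h12] at E1 E2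
  generalize charDegree (χ₁ : G → ℂ) = x at *
  generalize charDegree (χ₃ : G → ℂ) = q at *
  obtain rfl : q = 2 * x + 1 := by omega
  obtain ⟨t, ht⟩ := Nat.Coprime.mul_dvd_of_dvd_of_dvd (by simp : x.Coprime (2 * x + 1)) d1 d3
  obtain ⟨r, hr⟩ := Subgroup.card_dvd_of_le (Subgroup.centralizer_le
    (Set.singleton_subset_iff.2 hJ) : Subgroup.centralizer ((P : Subgroup G) : Set G) ≤ _)
  have hc : 0 < Nat.card (Subgroup.centralizer ((P : Subgroup G) : Set G)) := Nat.card_pos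
  have hc' : 0 < Nat.card (Subgroup.centralizer ({J} : Set G)) := Nat.card_pos
  rw [← (Subgroup.centralizer ({J} : Set G)).index_mul_card, ht, hr] at E2 ⊢
  rw [hr] at hc'
  generalize Nat.card (Subgroup.centralizer ((P : Subgroup G) : Set G)) = c at *
  have hr0 : 0 < r := Nat.pos_of_mul_pos_left hc'
  have E3 : t * (x + 1) ^ 2 = (2 * r) ^ 2 := by
    have h0 : (0 : ℤ) < 2 * x ^ 2 * (2 * x + 1) * c ^ 3 * r := by positivity
    have : (t * (x + 1) ^ 2 : ℤ) = (2 * r) ^ 2 := by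
      apply mul_left_cancel₀ h0.ne'
      push_cast at E2
      linear_combination E2
    exact_mod_cast this
  obtain ⟨m, hm⟩ := (Nat.pow_dvd_pow_iff two_ne_zero).1 (Dvd.intro_left t E3)
  have ht2 : t = m ^ 2 := by
    rw [hm, mul_pow, mul_comm] at E3
    exact Nat.eq_of_mul_eq_mul_left (by positivity) E3
  refine ⟨m, by linear_combination 2 * c * hm, ?_⟩
  rw [show (2 * x + 1) ^ 3 - (2 * x + 1) = (2 * x + 1) * (2 * x) * (2 * x + 2) from
    Nat.sub_eq_of_eq_add (by ring), ht2]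
  linear_combination 4 * x * (2 * x + 1) * m ^ 2 * c * hm

end Cfsg.Agent.S4480
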