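import Mathlib
import Cfsg.Statements.S4446
import Cfsg.Agent.Lib.Glaub.Cyclic

set_option autoImplicit false
open Cfsg

namespace Cfsg.Agent.S4446

set_option linter.style.haveILetI false


/-- Let the finite group Γ be generated by a normal subgroup G and a cyclic subgroup S of coprime orders, C = G ⊓ C(S), and let χ be an S-invariant irreducible character of G with canonical extension χ̂ to Γ (the extension whose determinantal order is coprime to the order of S). Then there are exactly one irreducible character β of C and one sign ε such that χ̂(c s) = ε β(c) for every c ∈ C and every generator s of S; this β is a constituent of the restriction of χ to C; distinct S-invariant χ give distinct β; and every irreducible character of C arises in this way. -/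
theorem result {Γ : Type*} [Group Γ] [Fintype Γ] (G S : Subgroup Γ) [Fintype G] (hnorm : ∀ s ∈ S, ∀ g ∈ G, s * g * s⁻¹ ∈ G) (hcop : (Nat.card G).Coprime (Nat.card S)) (htop : G ⊔ S = ⊤) (hcyc : IsCyclic S) (C : Subgroup Γ) [Fintype C] (hC : C = G ⊓ Subgroup.centralizer (S : Set Γ)) (hCG : C ≤ G) : (∀ (χ : Cfsg.IrrCharacter G) (χh : Cfsg.IrrCharacter Γ), (∀ s ∈ S, ∀ g g' : G, (g' : Γ) = s * g * s⁻¹ → (χ : G → ℂ) g' = (χ : G → ℂ) g) → (∀ g : G, (χh : Γ → ℂ) g = (χ : G → ℂ) g) → (Cfsg.detOrder (χh : Γ → ℂ)).Coprime (Nat.card S) → (∃! βε : Cfsg.IrrCharacter C × ℤ, (βε.2 = 1 ∨ βε.2 = -1) ∧ ∀ c : C, ∀ s : Γ, Subgroup.zpowers s = S → (χh : Γ → ℂ) ((c : Γ) * s) = (βε.2 : ℂ) * (βε.1 : C → ℂ) c) ∧ ∀ β : Cfsg.IrrCharacter C, ∀ ε : ℤ, (ε = 1 ∨ ε = -1) → (∀ c : C, ∀ s : Γ, Subgroup.zpowers s = S → (χh : Γ → ℂ) ((c : Γ) * s) = (ε : ℂ) * (β : C → ℂ) c) → Cfsg.classInner (fun c : C => (χ : G → ℂ)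 ⟨c, hCG c.2⟩) (β : C → ℂ) ≠ 0) ∧ (∀ (χ χ' : Cfsg.IrrCharacter G) (χh χh' : Cfsg.IrrCharacter Γ), (∀ s ∈ S, ∀ g g' : G, (g' : Γ) = s * g * s⁻¹ → (χ : G → ℂ) g' = (χ : G → ℂ) g) → (∀ s ∈ S, ∀ g g' : G, (g' : Γ) = s * g * s⁻¹ → (χ' : G → ℂ) g' = (χ' : G → ℂ) g) → (∀ g : G, (χh : Γ → ℂ) g = (χ : G → ℂ) g) → (∀ g : G, (χh' : Γ → ℂ) g = (χ' : G → ℂ) g) → (Cfsg.detOrder (χh : Γ → ℂ)).Coprime (Nat.card S) → (Cfsg.detOrder (χh' : Γ → ℂ)).Coprime (Nat.card S) → ∀ β : Cfsg.IrrCharacter C, ∀ ε ε' : ℤ, (ε = 1 ∨ ε = -1) → (ε' = 1 ∨ ε' = -1) → (∀ c : C, ∀ s : Γ, Subgroup.zpowers s = S → (χh : Γ → ℂ) ((c : Γ) * s) = (ε : ℂ) * (β : C → ℂ) c) → (∀ c : C, ∀ s : Γ, Subgroup.zpowers s = S → (χh' : Γ → ℂ) ((c : Γ) * s) = (ε' : ℂ) * (β : C → ℂ) c) → χ = χ') ∧ (∀ β : Cfsg.IrrCharacter C, ∃ (χ : Cfsg.IrrCharacter G) (χh : Cfsg.IrrCharacter Γ) (ε : ℤ), (∀ s ∈ S, ∀ g g' : G, (g' : Γ) = s * g * s⁻¹ → (χ : G →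 ℂ) g' = (χ : G → ℂ) g) ∧ (∀ g : G, (χh : Γ → ℂ) g = (χ : G → ℂ) g) ∧ (Cfsg.detOrder (χh : Γ → ℂ)).Coprime (Nat.card S) ∧ (ε = 1 ∨ ε = -1) ∧ ∀ c : C, ∀ s : Γ, Subgroup.zpowers s = S → (χh : Γ → ℂ) ((c : Γ) * s) = (ε : ℂ) * (β : C → ℂ) c) := by
  classical
  haveI hG := H88.normal_of_sup hnorm htop
  obtain ⟨s, hs⟩ := (Subgroup.isCyclic_iff_exists_zpowers_eq_top S).1 hcyc
  have hsS : s ∈ S := hs ▸ Subgroup.mem_zpowers s
  have ho : orderOf s = Nat.card S := by rw [← hs, Nat.card_zpowers]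
  have hC' : C = G ⊓ Subgroup.centralizer {s} := by rw [hC, H88.centralizer_of_zpowers hs]
  have hCS : ∀ (c : C) (x : S), Commute (c : Γ) x := fun c x =>
    (Subgroup.mem_centralizer_iff.1 ((hC.le c.2).2) x x.2).symm
  have hirr : ∀ (χ : IrrCharacter G) (χh : IrrCharacter Γ), (∀ g : G, χh.1 g = χ.1 g) →
      IsIrrCharacter G fun g : G => χh.1 g := fun χ χh h => by
    rw [funext h]; exact χ.2
  have hε0 : ∀ {ε : ℤ}, (ε = 1 ∨ ε = -1) → (ε : ℂ) ≠ 0 := by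
    rintro ε (rfl | rfl) <;> simp
  have hin : ∀ (β β' : IrrCharacter C) (ε ε' : ℤ),
      classInner (fun c => (ε : ℂ) * β.1 c) (fun c => (ε' : ℂ) * β'.1 c) =
        ε * ε' * classInner β.1 β'.1 := fun β β' ε ε' => by
    have h1 := H6.classInner_smul_left (ε : ℂ) β.1 ((ε' : ℂ) • β'.1)
    rw [H6.classInner_smul_right (φ := β.1), map_intCast, ← mul_assoc] at h1
    exact h1
  have hinj : ∀ (χ χ' : IrrCharacter G) (χh χh' : IrrCharacter Γ), (∀ g : G, χh.1 g = χ.1 g) →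
      (∀ g : G, χh'.1 g = χ'.1 g) → ∀ β : IrrCharacter C, ∀ ε ε' : ℤ, (ε = 1 ∨ ε = -1) →
      (ε' = 1 ∨ ε' = -1) → (∀ c : C, ∀ s : Γ, Subgroup.zpowers s = S → χh.1 (c * s) = ε * β.1 c) →
      (∀ c : C, ∀ s : Γ, Subgroup.zpowers s = S → χh'.1 (c * s) = ε' * β.1 c) → χ = χ' := by
    intro χ χ' χh χh' h h' β ε ε' hε hε' hβ hβ'
    by_contra hne
    have h1 := H88.inner_partial_eq (ho ▸ hcop) hC' (H6.irr_isClassFunction χh.2)
      (H6.irr_isClassFunction χh'.2)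
    have h2 := congrFun ((S0868.result G χh.1 χh.2 (hirr χ χh h) χh'.1 χh'.2 _ rfl).2.1 (by
      simp only [h, h']
      exact H6.irr_inner_ne χ'.2 χ.2 fun e => hne (Subtype.ext e.symm))) s
    simp only [hβ _ s hs, hβ' _ s hs, hin, H6.irr_inner_self β.2, mul_one] at h1
    exact mul_ne_zero (hε0 hε') (hε0 hε) (h1.trans h2)
  refine ⟨fun χ χh _ hext hdet => ⟨?_, fun β ε hε hβ h0 => ?_⟩,
    fun χ χ' χh χh' _ _ h h' _ _ => hinj χ χ' χh χh' h h', fun β => ?_⟩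
  · obtain ⟨β, ε, hε, hβ⟩ := H88.exists_corr_cyclic hcop htop hcyc hC χh.2 (hirr χ χh hext) hdet
    refine ⟨(β, ε), ⟨hε, hβ⟩, ?_⟩
    rintro ⟨β', ε'⟩ ⟨hε', hβ'⟩
    have h1 : (fun c => (ε' : ℂ) * β'.1 c) = fun c => (ε : ℂ) * β.1 c :=
      funext fun c => (hβ' c s hs).symm.trans (hβ c s hs)
    have h2 := hin β' β ε' ε
    rw [h1, hin, H6.irr_inner_self β.2, mul_one] at h2
    have h3 : β' = β := Subtype.ext (H6.irr_eq_of_inner_ne_zero β'.2 β.2 fun h0 => by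
      rw [h0, mul_zero] at h2
      exact mul_ne_zero (hε0 hε) (hε0 hε) h2)
    subst h3
    rw [H6.irr_inner_self β'.2, mul_one] at h2
    exact Prod.ext rfl (Int.cast_injective (α := ℂ) (mul_right_cancel₀ (hε0 hε) h2).symm)
  · have h1 := congrFun (H6.char_eq_zero_of_one (H88.isCharacter_partial C S hCS
      (H6.irr_isCharacter χh.2) (H6.irr_isCharacter β.2)) (by
        simp only [OneMemClass.coe_one, mul_one]
        rw [← h0]
        congr 1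
        exact funext fun c => hext ⟨c, hCG c.2⟩)) ⟨s, hsS⟩
    have h2 := hin β β ε 1
    simp only [hβ _ s hs, Pi.zero_apply] at h1
    simp only [Int.cast_one, one_mul, mul_one, H6.irr_inner_self β.2] at h2
    exact hε0 hε (h2.symm.trans h1)
  · letI := H88.conjAction G S hnorm
    have hex : ∀ χ : {χ : IrrCharacter G // H88.Inv S χ.1}, ∃ (β : IrrCharacter C)
        (χh : IrrCharacter Γ) (ε : ℤ), (∀ g : G, χh.1 g = χ.1.1 g) ∧
        (detOrder χh.1).Coprime (Nat.card S) ∧ (ε = 1 ∨ ε = -1) ∧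
        ∀ c : C, ∀ s : Γ, Subgroup.zpowers s = S → χh.1 (c * s) = ε * β.1 c := by
      rintro ⟨χ, hχ⟩
      obtain ⟨d, -, hd, hdG⟩ := H6.irr_one_dvd_card χ.2
      have h1 : G.index.Coprime (Nat.card G) :=
        hcop.symm.coprime_dvd_left (H88.index_dvd_of_sup htop)
      obtain ⟨χh, ⟨h2, h3, h4⟩, -⟩ := H31.exists_canonical_ext G χ.2 (fun g n => by
        obtain ⟨a, ha, t, ht, rfl⟩ := Subgroup.mem_sup_of_normal_left.1 (htop.symm ▸ Subgroup.mem_top g)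
        rw [← (H88.inv_conjAction_iff G S hnorm χ.1).1 hχ t ht n ⟨_, hnorm t ht n n.2⟩ rfl,
          ← H6.irr_isClassFunction χ.2 ⟨_, hnorm t ht n n.2⟩ ⟨a, ha⟩]
        refine congrArg χ.1 (Subtype.ext ?_)
        simp only [Subgroup.coe_mul, Subgroup.coe_inv]
        group) hd
        (Nat.Coprime.mul_right (h1.coprime_dvd_right (H31.detOrder_dvd_card _))
          (h1.coprime_dvd_right hdG))
      have h5 : (detOrder χh).Coprime (Nat.card S) :=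
        h4 ▸ hcop.coprime_dvd_left (H31.detOrder_dvd_card _)
      obtain ⟨β, ε, hε, hβ⟩ := H88.exists_corr_cyclic hcop htop hcyc hC h2
        (hirr χ ⟨χh, h2⟩ h3) h5
      exact ⟨β, ⟨χh, h2⟩, ε, h3, h5, hε, hβ⟩
    choose f χh ε h1 h2 h3 h4 using hex
    have hf : Function.Injective f := fun a b h => Subtype.ext
      (hinj _ _ _ _ (h1 a) (h1 b) (f a) _ _ (h3 a) (h3 b) (h4 a) (h ▸ h4 b))
    have hcard := H88.card_inv_irr (A := S)
      (Group.isSolvable_of_comm (H88.comm_of_isCyclic hcyc)) hcop (Subgroup.inclusion hCG)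
      (Subgroup.inclusion_injective hCG) (H88.conjAction_fix G S hnorm C hC hCG)
    obtain ⟨χ, rfl⟩ := (hf.bijective_of_nat_card_le hcard.ge).2 β
    exact ⟨χ.1, χh χ, ε χ, (H88.inv_conjAction_iff G S hnorm χ.1.1).1 χ.2, h1 χ, h2 χ, h3 χ, h4 χ⟩

end Cfsg.Agent.S4446
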