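import Cfsg.Statements.S3170
import Cfsg.Agent.Lib.SylT.M24Main
import Cfsg.Agent.Lib.ZStar.WClosed

set_option autoImplicit false
open Cfsg

namespace Cfsg.Agent.S3170

open Subgroup H69 H55.SylT
open scoped commutatorElement

/-- Let H be a finite group with no nontrivial normal subgroup of odd order whose Sylow 2-subgroup T is isomorphic to a Sylow 2-subgroup of the Mathieu group of degree 24, and suppose that the centre of T lies in the centre of H. If E is a subgroup of T that is normal in T and extraspecial of order 2^7, and E is the only such subgroup of T, then E is normal in H. -/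
theorem result {H : Type*} [Group H] [Finite H]
    (hO : Cfsg.oddCore H = ⊥) (T : Sylow 2 H) (P : Sylow 2 ↥Cfsg.M24)
    (hT : Nonempty (↥(T : Subgroup H) ≃* ↥(P : Subgroup ↥Cfsg.M24)))
    (hZ : ∀ z ∈ (T : Subgroup H), (∀ t ∈ (T : Subgroup H), z * t = t * z) → z ∈ Subgroup.center H)
    (E : Subgroup H) (hE : E ≤ (T : Subgroup H)) (hEn : (E.subgroupOf (T : Subgroup H)).Normal)
    (hEx : Cfsg.IsExtraspecial 2 ↥E) (hE7 : Nat.card ↥E = 2 ^ 7)
    (huniq : ∀ E' : Subgroup H, E' ≤ (T : Subgroup H) → (E'.subgroupOf (T : Subgroup H)).Normal →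
      Cfsg.IsExtraspecial 2 ↥E' → Nat.card ↥E' = 2 ^ 7 → E' = E) :
    E.Normal := by
  obtain ⟨e⟩ := hT
  obtain ⟨f⟩ := T10.nonempty_equiv P
  let ι : T10 →* H := (T : Subgroup H).subtype.comp (f.trans e.symm).toMonoidHom
  have hι : Function.Injective ι := Subtype.val_injective.comp (f.trans e.symm).injective
  have hr : ι.range = T := by
    rw [MonoidHom.range_comp, MonoidHom.range_eq_top.2 (f.trans e.symm).surjective,
      map_subtype_top]
  have hz2 : ι T10.z0 * ι T10.z0 = 1 := by rw [← map_mul, T10.z0_sq, map_one]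
  have hz1 : ι T10.z0 ≠ 1 := fun h => T10.z0_ne (hι (by rw [h, map_one]))
  have hzc : ι T10.z0 ∈ center H := hZ _ (hr ▸ ⟨_, rfl⟩) fun t ht => by
    rw [← hr] at ht
    obtain ⟨t, rfl⟩ := ht
    rw [← map_mul, ← map_mul, T10.z0_cent]
  set Z : Subgroup H := zpowers (ι T10.z0) with hZd
  have hZc : Z ≤ center H := zpowers_le.2 hzc
  have : Z.Normal := ⟨fun n hn g => by rw [mem_center_iff.1 (hZc hn) g, mul_inv_cancel_right]; exact hn⟩
  have hZ2 : IsPGroup 2 Z := Gold.ea2 (Gold.ea_zpowers hz2)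
  have hmem : ∀ x, x ∈ Z ↔ x = 1 ∨ x = ι T10.z0 := fun x => Gold.mem_zpowers_of_mul_self hz2
  have hker : T10.pr.ker ≤ ((QuotientGroup.mk' Z).comp ι).ker := fun x hx => by
    rcases T10.ker_cases x hx with rfl | rfl
    · exact one_mem _
    · exact (QuotientGroup.eq_one_iff _).2 (mem_zpowers _)
  let j : S9 →* H ⧸ Z := T10.pr.liftOfSurjective T10.pr_surj ⟨_, hker⟩
  have hj : ∀ x, j (T10.pr x) = QuotientGroup.mk' Z (ι x) := fun x =>
    T10.pr.liftOfRightInverse_comp_apply _ _ ⟨_, hker⟩ x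
  have hji : Function.Injective j := (injective_iff_map_eq_one _).2 fun s hs => by
    obtain ⟨x, rfl⟩ := T10.pr_surj s
    rw [hj] at hs
    rcases (hmem _).1 ((QuotientGroup.eq_one_iff _).1 hs) with h | h
    · rw [hι (h.trans (map_one ι).symm), map_one]
    · rw [hι h]; rfl
  have hjr : j.range = (T.mapSurjective (QuotientGroup.mk'_surjective Z) : Sylow 2 (H ⧸ Z)) := by
    change _ = (T : Subgroup H).map (QuotientGroup.mk' Z)
    rw [← hr]
    ext y
    constructor
    · rintro ⟨s, rfl⟩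
      obtain ⟨x, rfl⟩ := T10.pr_surj s
      exact ⟨ι x, ⟨x, rfl⟩, (hj x).symm⟩
    · rintro ⟨_, ⟨x, rfl⟩, rfl⟩
      exact ⟨_, hj x⟩
  have h1 := m24_main _ j hji hjr
  have h2 := loc_model j hji
  rw [H34.pPrimeCore_quotient_eq_bot_of_le_center hZc hZ2 hO, sup_bot_eq] at h1
  have hTE : (T : Subgroup H) ≤ normalizer (E : Set H) :=
    (normal_subgroupOf_iff_le_normalizer hE).1 hEn
  have hzE : ι T10.z0 ∈ E := by
    obtain ⟨c, hc, hc1⟩ := Gold.exists_ne_one (inf_centralizer_ne_bot hEx.1.1 T.isPGroup' hTE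
      (fun h => by rw [h, card_bot] at hE7; omega))
    have h3 := hE hc.1
    rw [← hr] at h3
    obtain ⟨c, rfl⟩ := h3
    rcases T10.cent_cases c (fun g _ => hι (by
      rw [map_mul, map_mul]; exact hc.2 _ (hr ▸ ⟨_, rfl⟩))) with rfl | rfl
    · exact absurd (map_one ι) hc1
    · exact hc.1
  have hZE : Z ≤ E := zpowers_le.2 hzE
  have hZcard : Nat.card Z = 2 := by
    rw [hZd, Nat.card_zpowers]; exact orderOf_eq_prime (by rw [pow_two, hz2]) hz1
  have hcen : Z.subgroupOf E = center E := eq_of_le_of_card_ge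
    (fun x hx => mem_center_iff.2 fun g => Subtype.ext (mem_center_iff.1 (hZc hx) g))
    (by rw [card_subgroupOf hZE, hZcard, hEx.2])
  have h4 : E.map (QuotientGroup.mk' Z) = S9.A0.map j := by
    refine h2.uniq _ (by rw [hjr]; exact map_mono hE) ?_ ?_
    · rintro _ ⟨x, hx, rfl⟩ _ ⟨y, hy, rfl⟩
      have : ⁅(⟨y, hy⟩ : E), (⟨x, hx⟩ : E)⁆ ∈ Z.subgroupOf E := by
        rw [hcen, ← hEx.1.2.2]; exact commutator_mem_commutator (mem_top _) (mem_top _)
      rw [← commutatorElement_eq_one_iff_mul_comm, ← map_commutatorElement]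
      exact (QuotientGroup.eq_one_iff _).2 this
    · have := H1.card_mul_relIndex_of_le hZE
      rw [← relIndex_ker, QuotientGroup.ker_mk']
      rw [hZcard, hE7] at this
      omega
  rw [← h4] at h1
  have := h1.comap (QuotientGroup.mk' Z)
  rwa [comap_map_eq, QuotientGroup.ker_mk', sup_eq_left.2 hZE] at this

end Cfsg.Agent.S3170
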