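import Cfsg.Statements.S5896
import Mathlib

set_option autoImplicit false
open Cfsg

namespace Cfsg.Agent.S5896

open RegularWreathProduct

theorem isSolvable_fun (ι D : Type*) [Group D] [h : Group.IsSolvable D] : Group.IsSolvable (ι → D) := by
  obtain ⟨n, hn⟩ := h
  refine ⟨n, ?_⟩
  rw [eq_bot_iff]
  intro x hx
  rw [Subgroup.mem_bot]
  funext i
  have := map_derivedSeries_le_derivedSeries (Pi.evalMonoidHom (fun _ : ι => D) i) n ⟨x, hx, rfl⟩
  rw [hn] at this
  exact this

/-- The base group of the wreath product. -/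
def baseHom (D Q : Type*) [Group D] [Group Q] : (Q → D) →* D ≀ᵣ Q where
  toFun b := ⟨b, 1⟩
  map_one' := rfl
  map_mul' a b := by ext <;> simp

theorem isSolvable_comap {D Q : Type*} [Group D] [Group Q] [Group.IsSolvable D] (M : Subgroup Q)
    [Group.IsSolvable M] : Group.IsSolvable (M.comap (rightHom : D ≀ᵣ Q →* Q)) := by
  have := isSolvable_fun Q D
  let f : (Q → D) →* M.comap (rightHom : D ≀ᵣ Q →* Q) :=
    (baseHom D Q).codRestrict _ (fun b => M.one_mem)
  refine Group.isSolvable_of_ker_le_range f ((rightHom : D ≀ᵣ Q →* Q).subgroupComap M) ?_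
  rintro ⟨⟨a, q⟩, hq⟩ h
  have h1 : q = 1 := congrArg Subtype.val h
  subst h1
  exact ⟨a, rfl⟩

theorem derived_ne_bot {D Q : Type*} [Group D] [Group Q] {d : ℕ} (hd : derivedSeries D d ≠ ⊥)
    (H : Subgroup (D ≀ᵣ Q)) (hH : ∀ s : D, ∃ x ∈ H, x.right = 1 ∧ x.left 1 = s) :
    derivedSeries H d ≠ ⊥ := by
  intro h
  apply hd
  let H0 : Subgroup (D ≀ᵣ Q) := H ⊓ (rightHom : D ≀ᵣ Q →* Q).ker
  let π : H0 →* D :=
    { toFun := fun x => x.1.left 1
      map_one' := rfl
      map_mul' := fun x y => by
        have hx : x.1.right = 1 := x.2.2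
        simp [hx] }
  have hπ : Function.Surjective π := fun s => by
    obtain ⟨x, hx, h1, h2⟩ := hH s
    exact ⟨⟨x, hx, h1⟩, h2⟩
  have h1 := map_derivedSeries_le_derivedSeries (Subgroup.inclusion (inf_le_left : H0 ≤ H)) d
  rw [h, le_bot_iff, Subgroup.map_eq_bot_iff_of_injective _ (Subgroup.inclusion_injective _)] at h1
  rw [← map_derivedSeries_eq hπ, h1, Subgroup.map_bot]

theorem comm_elt {D Q : Type*} [Group D] [Group Q] {q : Q} (hq : q ≠ 1) (s : D) :
    ∃ b : D ≀ᵣ Q, (b * inl q * b⁻¹ * (inl q)⁻¹).right = 1 ∧ (b * inl q * b⁻¹ * (inl q)⁻¹).left 1 = s := by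
  classical
  refine ⟨⟨Pi.mulSingle 1 s, 1⟩, by simp, ?_⟩
  simp [Pi.mulSingle_eq_of_ne (inv_ne_one.2 hq)]

theorem derived_commutator_le (G : Type*) [Group G] (n : ℕ) :
    (derivedSeries (commutator G) n).map (commutator G).subtype ≤ derivedSeries G (n + 1) := by
  induction n with
  | zero => exact Subgroup.map_subtype_le _
  | succ n ih =>
    rw [derivedSeries_succ, derivedSeries_succ G (n + 1), Subgroup.map_commutator]
    exact Subgroup.commutator_mono ih ih

theorem exists_solvable (d : ℕ) :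
    ∃ (S : Type) (_ : Group S) (_ : Finite S), Group.IsSolvable S ∧ derivedSeries S d ≠ ⊥ := by
  induction d with
  | zero => exact ⟨Multiplicative (ZMod 2), inferInstance, inferInstance, inferInstance, top_ne_bot⟩
  | succ d ih =>
    obtain ⟨S, _, _, hS, hd⟩ := ih
    refine ⟨S ≀ᵣ Multiplicative (ZMod 2), inferInstance, inferInstance, ?_, fun h => ?_⟩
    · have := isSolvable_comap (D := S) (⊤ : Subgroup (Multiplicative (ZMod 2)))
      rw [Subgroup.comap_top] at this
      exact Group.isSolvable_of_surjective (MonoidHom.range_eq_top.mp (Subgroup.range_subtype ⊤))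
    · obtain ⟨q, hq⟩ := exists_ne (1 : Multiplicative (ZMod 2))
      refine derived_ne_bot hd (commutator (S ≀ᵣ Multiplicative (ZMod 2))) (fun s => ?_) ?_
      · obtain ⟨b, h1, h2⟩ := comm_elt hq s
        exact ⟨_, Subgroup.commutator_mem_commutator (Subgroup.mem_top b) (Subgroup.mem_top (inl q)), h1, h2⟩
      · have h1 := derived_commutator_le (S ≀ᵣ Multiplicative (ZMod 2)) d
        rwa [h, le_bot_iff, Subgroup.map_eq_bot_iff_of_injective _ (Subgroup.subtype_injective _)] at h1

theorem exists_minimal_nonsolvable : ∃ (Q : Type) (_ : Group Q) (_ : Finite Q) (M : Subgroup Q),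
    commutator Q = ⊤ ∧ IsCoatom M ∧ Group.IsSolvable M ∧ Nontrivial Q := by
  have h0 : ¬ Group.IsSolvable (⊤ : Subgroup (Equiv.Perm (Fin 5))) := fun h =>
    Equiv.Perm.not_isSolvable_fin_5
      (Group.isSolvable_of_surjective (MonoidHom.range_eq_top.mp (Subgroup.range_subtype ⊤)))
  obtain ⟨Q, -, hQ⟩ := exists_minimal_le_of_wellFoundedLT
    (fun Q : Subgroup (Equiv.Perm (Fin 5)) => ¬ Group.IsSolvable Q) ⊤ h0
  have h1 : ∀ M : Subgroup Q, M ≠ ⊤ → Group.IsSolvable M := by
    intro M hM
    by_contra hs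
    have h2 : ¬ Group.IsSolvable (M.map Q.subtype) := fun h => hs
      (Group.isSolvable_of_isSolvable_injective (f := (M.equivMapOfInjective _ Q.subtype_injective).toMonoidHom)
        (MulEquiv.injective _))
    have h3 := hQ.eq_of_le h2 (Subgroup.map_subtype_le M)
    apply hM
    apply Subgroup.map_injective Q.subtype_injective
    rw [h3, ← MonoidHom.range_eq_map, Subgroup.range_subtype]
  have hnt : Nontrivial Q := by
    by_contra h
    rw [not_nontrivial_iff_subsingleton] at h
    exact hQ.prop inferInstance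
  obtain ⟨M, hM, -⟩ := (eq_top_or_exists_le_coatom (⊥ : Subgroup Q)).resolve_left bot_ne_top
  refine ⟨Q, inferInstance, inferInstance, M, ?_, hM, h1 M hM.1, hnt⟩
  by_contra h
  have h2 := h1 _ h
  apply hQ.prop
  rw [Group.isSolvable_iff_subgroup_quotient (commutator Q)]
  exact ⟨h2, inferInstanceAs (Group.IsSolvable (Abelianization Q))⟩

/-- Finite perfect groups have solvable maximal subgroups of unbounded derived length: for every d there is a finite perfect group G (equal to its commutator subgroup) with a solvable maximal subgroup H whose derived length exceeds d, i.e. the d-th term of the derived series of H is non-trivial. (Take the derived subgroup of a wreath product S ≀ A₅ with S solvable of large derived length, and H the preimage of a maximal subgroup of A₅.) -/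
theorem result (d : ℕ) :
    ∃ (G : Type) (_ : Group G) (_ : Finite G) (H : Subgroup G), commutator G = ⊤ ∧ IsCoatom H ∧ Group.IsSolvable H ∧
      derivedSeries H d ≠ ⊥ := by
  obtain ⟨S, _, _, hS, hd⟩ := exists_solvable d
  obtain ⟨Q, _, _, M, hQ, hM, hMs, hnt⟩ := exists_minimal_nonsolvable
  let A : Subgroup (S ≀ᵣ Q) := (inl : Q →* S ≀ᵣ Q).range
  let G : Subgroup (S ≀ᵣ Q) := Subgroup.normalClosure (A : Set (S ≀ᵣ Q))
  have hAG : A ≤ G := Subgroup.le_normalClosure
  let π : G →* Q := (rightHom : S ≀ᵣ Q →* Q).comp G.subtype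
  have hπ : Function.Surjective π := fun q => ⟨⟨inl q, hAG ⟨q, rfl⟩⟩, rfl⟩
  have hsub : M.comap π = (M.comap (rightHom : S ≀ᵣ Q →* Q)).subgroupOf G := rfl
  let e : M.comap π ≃* ↥(M.comap (rightHom : S ≀ᵣ Q →* Q) ⊓ G) :=
    ((M.comap π).equivMapOfInjective _ G.subtype_injective).trans
      (MulEquiv.subgroupCongr (by rw [hsub, Subgroup.subgroupOf_map_subtype]))
  refine ⟨G, inferInstance, inferInstance, M.comap π, ?_, Subgroup.isCoatom_comap_of_surjective hπ hM, ?_, ?_⟩
  · apply Subgroup.map_injective G.subtype_injective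
    rw [Subgroup.map_subtype_commutator, ← MonoidHom.range_eq_map, Subgroup.range_subtype]
    refine le_antisymm (Subgroup.commutator_le_left _ _) (Subgroup.normalClosure_le_normal ?_)
    have : A = ⁅A, A⁆ := by
      simp only [A, MonoidHom.range_eq_map]
      rw [← Subgroup.map_commutator, ← commutator_def, hQ]
    intro x hx
    have hx' : x ∈ ⁅A, A⁆ := this ▸ hx
    exact Subgroup.commutator_mono hAG hAG hx'
  · have := isSolvable_comap (D := S) M
    exact Group.isSolvable_of_isSolvable_injective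
      (f := (Subgroup.inclusion inf_le_left).comp e.toMonoidHom)
      ((Subgroup.inclusion_injective inf_le_left).comp e.injective)
  · intro h
    obtain ⟨q, hq⟩ := exists_ne (1 : Q)
    refine derived_ne_bot hd (M.comap (rightHom : S ≀ᵣ Q →* Q) ⊓ G) (fun s => ?_) ?_
    · obtain ⟨b, h1, h2⟩ := comm_elt hq s
      refine ⟨_, ⟨?_, ?_⟩, h1, h2⟩
      · show (b * inl q * b⁻¹ * (inl q)⁻¹).right ∈ M
        rw [h1]; exact M.one_mem
      · exact G.mul_mem (Subgroup.Normal.conj_mem inferInstance _ (hAG ⟨q, rfl⟩) b) (G.inv_mem (hAG ⟨q, rfl⟩))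
    · rw [← map_derivedSeries_eq (f := e.toMonoidHom) e.surjective, h, Subgroup.map_bot]

end Cfsg.Agent.S5896
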