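import Cfsg.Statements.S0904
import Mathlib
import Cfsg.Agent.Lib.Block.Apps

set_option autoImplicit false
set_option linter.style.haveILetI false
open Cfsg

namespace Cfsg.Agent.S0904

theorem key {G : Type*} [Group G] [Finite G] [IsSimpleGroup G] {p q r : ℕ} (hp : p.Prime)
    (hq : q.Prime) (hr : r.Prime) (hpr : p ≠ r)
    (hall : ∀ t : ℕ, t.Prime → t ∣ Nat.card G → t = p ∨ t = q ∨ t = r)
    (hr1 : (Nat.card G).factorization r = 1) (y : G) (hpy : p ∣ orderOf y) (hry : r ∣ orderOf y) :
    False := by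
  classical
  haveI : Fact p.Prime := ⟨hp⟩
  haveI : Fact r.Prime := ⟨hr⟩
  by_cases hna : ∃ a b : G, a * b ≠ b * a
  swap
  · push Not at hna
    letI : CommGroup G := { (inferInstance : Group G) with mul_comm := hna }
    have h1 : (Nat.card G).Prime := IsSimpleGroup.prime_card
    exact hpr (((Nat.prime_dvd_prime_iff_eq hp h1).mp (hpy.trans (orderOf_dvd_natCard y))).trans
      ((Nat.prime_dvd_prime_iff_eq hr h1).mp (hry.trans (orderOf_dvd_natCard y))).symm)
  obtain ⟨M, hM⟩ := H33.exists_isPModular p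
  obtain ⟨M', hM'⟩ := H33.exists_isPModular r
  haveI := H33.isMaximal_of hM
  haveI := H33.isMaximal_of hM'
  have h0 := H34.blockCoeff_eq_zero_of_dvd hM _
    (H33.fB_mem_OG (H33.isPBlock_principalBlock (M := M) (G := G))) hpy
  rw [H33.blockCoeff_eq_sum, mul_eq_zero, inv_eq_zero, Nat.cast_eq_zero] at h0
  replace h0 := h0.resolve_left Nat.card_pos.ne'
  rw [← Finset.add_sum_erase _ _ (a := H33.oneIrr G)
    (by simpa using H33.oneIrr_mem_principalBlock)] at h0
  have hq0 : (q : ℂ) ≠ 0 := by exact_mod_cast hq.ne_zero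
  have hterm : ∀ χ ∈ (Finset.univ.filter (· ∈ Cfsg.principalBlock M G)).erase (H33.oneIrr G),
      IsIntegral ℤ ((χ : G → ℂ) 1 * (starRingEnd ℂ) ((χ : G → ℂ) y) / q) := by
    intro χ hχ
    obtain ⟨hne, hχ⟩ := Finset.mem_erase.mp hχ
    replace hχ := (Finset.mem_filter.mp hχ).2
    by_cases hqd : q ∣ Cfsg.charDegree (χ : G → ℂ)
    · obtain ⟨m, hm⟩ := hqd
      rw [H33.irr_one_eq_charDegree, hm, ← H33.irr_inv]
      push_cast
      rw [mul_assoc, mul_div_cancel_left₀ _ hq0]
      exact (isIntegral_algebraMap (R := ℤ) (x := (m : ℤ))).mul (H33.irr_isIntegral χ _)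
    by_cases hrd : r ∣ Cfsg.charDegree (χ : G → ℂ)
    · rw [H33.irr_eq_zero_of_blockOf_eq_singleton hM' (H33.blockOf_eq_singleton hM'
        (le_antisymm (H33.degree_factorization_le_card χ) (by
          rw [hr1]
          exact (hr.dvd_iff_one_le_factorization (H33.charDegree_ne_zero χ)).mp hrd))) hry]
      simp [isIntegral_zero]
    exfalso
    have hpow := Nat.eq_prime_pow_of_unique_prime_dvd (p := p) (H33.charDegree_ne_zero χ)
      (fun {t} ht htd => by
        rcases hall t ht (htd.trans (H33.charDegree_dvd_card χ)) with h | h | h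
        · exact h
        · exact absurd (h ▸ htd) hqd
        · exact absurd (h ▸ htd) hrd)
    exact hne (Subtype.ext (H33.eq_one_of_mem_principal_of_degree hM hna hχ
      (by rw [H33.irr_one_eq_charDegree, hpow, Nat.cast_pow])))
  have hint := (IsIntegral.sum _ hterm).neg
  rw [← Finset.sum_div, ← neg_div, ← eq_neg_of_add_eq_zero_left h0] at hint
  simp only [H33.oneIrr_apply, map_one, mul_one] at hint
  exact hq.one_lt.ne' (Nat.dvd_one.1 (H8.dvd_of_isIntegral_div hq.pos (by simpa using hint)))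

/-- Let G be a finite simple group of order p ^ a * q ^ b * r with p, q, r distinct primes. Then every Sylow r-subgroup S of G satisfies C_G(S) = S. -/
theorem result {G : Type*} [Group G] [Finite G] [IsSimpleGroup G] (p q r a b : ℕ) (hp : p.Prime) (hq : q.Prime) [Fact r.Prime] (hpq : p ≠ q) (hpr : p ≠ r) (hqr : q ≠ r) (hcard : Nat.card G = p ^ a * q ^ b * r) (S : Sylow r G) : Subgroup.centralizer (S : Set G) = (S : Subgroup G) := by
  have hr : r.Prime := Fact.out
  have hr1 : (Nat.card G).factorization r = 1 := by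
    rw [hcard, Nat.factorization_mul (mul_ne_zero (pow_ne_zero _ hp.ne_zero)
      (pow_ne_zero _ hq.ne_zero)) hr.ne_zero, Nat.factorization_mul (pow_ne_zero _ hp.ne_zero)
      (pow_ne_zero _ hq.ne_zero), hp.factorization_pow, hq.factorization_pow, hr.factorization]
    simp [hpr, hqr]
  have hall : ∀ t : ℕ, t.Prime → t ∣ Nat.card G → t = p ∨ t = q ∨ t = r := by
    intro t ht h
    rw [hcard, ht.dvd_mul, ht.dvd_mul, or_assoc] at h
    exact h.imp (fun h => (Nat.prime_dvd_prime_iff_eq ht hp).mp (ht.dvd_of_dvd_pow h))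
      (Or.imp (fun h => (Nat.prime_dvd_prime_iff_eq ht hq).mp (ht.dvd_of_dvd_pow h))
        (Nat.prime_dvd_prime_iff_eq ht hr).mp)
  have hS : Nat.card (S : Subgroup G) = r := by rw [S.card_eq_multiplicity, hr1, pow_one]
  apply le_antisymm
  · intro x hx
    by_contra hxS
    have hw : H35.pReg r x ≠ 1 := by
      intro h
      have h1 : IsPGroup r (Subgroup.zpowers x) :=
        H35.isPElt_iff_zpowers.mp ((H35.pReg_eq_one_iff r).mp h)
      have h2 := H86.isPGroup_sup S.isPGroup' h1
        ((Subgroup.zpowers_le.mpr hx).trans (H86.Cen_le_Nor _))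
      have h3 := S.is_maximal' h2 le_sup_left
      exact hxS (h3 ▸ Subgroup.mem_sup_right (Subgroup.mem_zpowers x))
    obtain ⟨t, ht, htd⟩ := Nat.exists_prime_and_dvd (mt orderOf_eq_one_iff.mp hw)
    have hwC : H35.pReg r x ∈ H86.Cen (S : Subgroup G) := H35.pReg_mem r hx
    haveI : Nontrivial (S : Subgroup G) := Finite.one_lt_card_iff_nontrivial.mp (by rw [hS]; exact hr.one_lt)
    obtain ⟨s, hs⟩ := exists_ne (1 : (S : Subgroup G))
    have hsr : H35.IsPElt r (s : G) := H35.isPElt_of_mem S.isPGroup' s.2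
    have hc : Commute (s : G) (H35.pReg r x) := H86.mem_Cen.mp hwC s s.2
    have hord : orderOf ((s : G) * H35.pReg r x) = orderOf (s : G) * orderOf (H35.pReg r x) :=
      hc.orderOf_mul_eq_mul_orderOf_of_coprime
        (H35.coprime_orderOf hsr (H35.not_dvd_orderOf_pReg r x))
    have h1 : t ∣ orderOf ((s : G) * H35.pReg r x) := hord ▸ htd.mul_left _
    have h2 : r ∣ orderOf ((s : G) * H35.pReg r x) :=
      hord ▸ (hsr.dvd_orderOf fun h => hs (Subtype.ext h)).mul_right _
    rcases hall t ht (h1.trans (orderOf_dvd_natCard _)) with h | h | h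
    · exact key hp hq hr hpr hall hr1 _ (h ▸ h1) h2
    · exact key hq hp hr hqr (fun t ht h => or_left_comm.mp (hall t ht h)) hr1 _ (h ▸ h1) h2
    · exact H35.not_dvd_orderOf_pReg r x (h ▸ htd)
  · haveI : IsCyclic (S : Subgroup G) := isCyclic_of_prime_card hS
    intro x hx
    rw [Subgroup.mem_centralizer_iff]
    intro y hy
    exact congrArg Subtype.val (IsCyclic.commGroup.mul_comm (⟨y, hy⟩ : (S : Subgroup G)) ⟨x, hx⟩)

end Cfsg.Agent.S0904
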