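import Cfsg.Statements.S0998
import Mathlib
import Cfsg.Agent.Base
import Cfsg.Agent.S0997
import Cfsg.Agent.Lib.GL.Basic

set_option autoImplicit false
open Cfsg

namespace Cfsg.Agent.S0998

theorem odd_dvd {u r b : ℕ} (hr : r.Prime) (hu : Odd u) (h : u ∣ r * 2 ^ b) : u = 1 ∨ u = r :=
  (Nat.dvd_prime hr).1 (((Nat.coprime_two_right.2 hu).pow_right b).dvd_of_dvd_mul_right h)

theorem eq_two {q r b n : ℕ} (hq : q.Prime) (h : r % 2 = 1) (hn : r * q ^ b = 2 * n) : q = 2 :=
  ((Nat.prime_dvd_prime_iff_eq Nat.prime_two hq).1 (Nat.prime_two.dvd_of_dvd_pow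
    (((Nat.Prime.dvd_mul Nat.prime_two).1 (Dvd.intro _ hn.symm)).resolve_left (by omega)))).symm

theorem num {p q r b : ℕ} (hp : p.Prime) (hq : q.Prime) (hr : r.Prime) (h2 : r % 2 = 1)
    (hrp : r < p) {m : ℕ} (hm : p = 2 ^ m + 1 ∨ p = 2 ^ m - 1)
    (h : 2 * (r * q ^ b) = (p - 1) * (p + 1)) : p = 5 ∨ p = 7 := by
  have h3 := hr.two_le
  obtain ⟨a, rfl⟩ := hp.odd_of_ne_two (by omega)
  have h4 : r * q ^ b = 2 * (a * (a + 1)) := by
    rw [Nat.add_sub_cancel] at h; nlinarith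
  obtain rfl := eq_two hq h2 h4
  have h5 : r = 3 := by
    have h6 : 3 ∣ a * (a + 1) := by
      have : (2 * a + 1) % 3 ≠ 0 := fun h => by
        have := (Nat.prime_dvd_prime_iff_eq Nat.prime_three hp).1 (Nat.dvd_of_mod_eq_zero h); omega
      rcases (by omega : a % 3 = 0 ∨ a % 3 = 1 ∨ a % 3 = 2) with h | h | h
      · exact (Nat.dvd_of_mod_eq_zero h).mul_right _
      · omega
      · exact (Nat.dvd_of_mod_eq_zero (by omega)).mul_left _
    have := odd_dvd (u := 3) hr (by decide) (h4 ▸ h6.mul_left 2)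
    omega
  obtain ⟨k, rfl⟩ : ∃ k, m = k + 2 := ⟨m - 2, by
    rcases m with _ | _ | m <;> omega⟩
  rw [pow_add] at hm
  rcases hm with hm | hm
  · have := odd_dvd (u := a + 1) hr (Nat.odd_iff.2 (by omega)) ⟨2 * a, by rw [h4]; ring⟩
    omega
  · have := odd_dvd (u := a) hr (Nat.odd_iff.2 (by omega)) ⟨2 * (a + 1), by rw [h4]; ring⟩
    omega

/-- A non-cyclic finite simple group whose order has the form p * r * q^b for distinct primes p, q, r is isomorphic to the projective special linear group of dimension 2 over the field with 5 or with 7 elements. -/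
theorem result {G : Type*} [Group G] [Finite G] [IsSimpleGroup G] (hG : ¬ IsCyclic G) (p q r b : ℕ) (hp : p.Prime) (hq : q.Prime) (hr : r.Prime) (hpq : p ≠ q) (hpr : p ≠ r) (hqr : q ≠ r) (hG' : Nat.card G = p * r * q ^ b) : (∃ (F : Type) (_ : Field F) (_ : Fintype F), Fintype.card F = 5 ∧ Nonempty (G ≃* Matrix.ProjectiveSpecialLinearGroup (Fin 2) F)) ∨ (∃ (F : Type) (_ : Field F) (_ : Fintype F), Fintype.card F = 7 ∧ Nonempty (G ≃* Matrix.ProjectiveSpecialLinearGroup (Fin 2) F)) := by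
  wlog h : r < p generalizing p r
  · exact this r p hr hp hqr.symm hpr.symm hpq.symm (by rw [hG', mul_comm p]) (by omega)
  have hna : ¬ IsMulCommutative G := fun h => hG (by
    letI : CommGroup G := { (inferInstance : Group G) with mul_comm := h.is_comm.comm }
    infer_instance)
  have h2 := hr.two_le
  have hp2 := hp.eq_two_or_odd.resolve_left (by omega)
  have hr2 : r % 2 = 1 := hr.eq_two_or_odd.resolve_left fun e => by
    subst e
    have h4 := H36.four_dvd_card hna (by rw [hG']; exact ⟨p * q ^ b, by ring⟩)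
    rw [hG', mul_comm p, mul_assoc] at h4
    have h5 := Nat.dvd_of_mul_dvd_mul_left two_pos (show 2 * 2 ∣ _ from h4)
    exact ((Nat.Prime.dvd_mul Nat.prime_two).1 h5).elim (by omega) fun h => hqr
      ((Nat.prime_dvd_prime_iff_eq Nat.prime_two hq).1 (Nat.prime_two.dvd_of_dvd_pow h)).symm
  rcases Cfsg.Agent.S0997.result hG p q b r hp hq hpq (by rw [hG']; ring) (by omega) with
    ⟨m, F, _, _, hF, hm, ⟨f⟩⟩ | ⟨m, F, _, _, hF, hm, h3, ⟨f⟩⟩
  · have h4 := H10.card_PSL_two (F := F)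
    rw [← Nat.card_congr f.toEquiv, hG', Nat.card_eq_fintype_card, hF,
      Nat.gcd_eq_left (by omega), mul_assoc p, mul_left_comm, mul_assoc p] at h4
    exact (num hp hq hr hr2 h hm (Nat.eq_of_mul_eq_mul_left hp.pos h4)).imp
      (fun e => ⟨F, _, _, hF.trans e, ⟨f⟩⟩) fun e => ⟨F, _, _, hF.trans e, ⟨f⟩⟩
  · have h4 := H10.card_PSL_two (F := F)
    obtain ⟨k, rfl⟩ : ∃ k, m = k + 1 := ⟨m - 1, by rcases m with _ | m <;> omega⟩
    rw [← Nat.card_congr f.toEquiv, hG', Nat.card_eq_fintype_card, hF, ← hm,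
      show Nat.gcd 2 (2 ^ (k + 1) - 1) = 1 from Nat.coprime_two_left.2 (Nat.odd_iff.2 (by omega)),
      one_mul, mul_assoc p, mul_comm _ p] at h4
    have h5 := Nat.eq_of_mul_eq_mul_left hp.pos h4
    obtain rfl := eq_two hq hr2 (n := 2 ^ k * (2 ^ (k + 1) - 1)) (by rw [h5]; ring)
    have h6 := odd_dvd (u := 2 ^ (k + 1) - 1) hr (Nat.odd_iff.2 (by omega)) (Dvd.intro_left _ h5.symm)
    have h7 : r = 3 := by
      by_contra h7
      have h8 : p % 3 ≠ 0 := fun h => by
        have := (Nat.prime_dvd_prime_iff_eq Nat.prime_three hp).1 (Nat.dvd_of_mod_eq_zero h); omega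
      have h9 : r % 3 ≠ 0 := fun h => by
        have := (Nat.prime_dvd_prime_iff_eq Nat.prime_three hr).1 (Nat.dvd_of_mod_eq_zero h); omega
      have h10 : 2 ^ (k + 1) % 3 ≠ 0 := fun h => by
        have := Nat.prime_three.dvd_of_dvd_pow (Nat.dvd_of_mod_eq_zero h); omega
      rcases (by omega : p % 3 = 0 ∨ p % 3 = 1 ∨ p % 3 = 2) with h | h | h <;> omega
    obtain rfl : p = 5 := by omega
    haveI := Fact.mk hp
    refine Or.inl ⟨ZMod 5, inferInstance, inferInstance, ZMod.card 5,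
      H36.simple_card_psl2_prime 5 hp le_rfl ?_ (Nat.card_zmod 5)⟩
    rw [hG', mul_assoc, h5, show 2 ^ (k + 1) = 4 by omega]
    norm_num

end Cfsg.Agent.S0998
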