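import Mathlib
import Cfsg.Statements.S4120
import Cfsg.Agent.Lib.FGS83.FH4
import Cfsg.Agent.Lib.Core.MinNormal
import Cfsg.Agent.S0042
import Cfsg.Agent.S0035

set_option autoImplicit false
open Cfsg

namespace Cfsg.Agent.S4120

open Subgroup H2 H83
universe u

theorem quot_hyp {G A : Type*} [Group G] [Finite G] [Group A] [Finite A] (φ : A →* MulAut G)
    {F H : Subgroup A} (hF : Group.IsNilpotent F) (hHF : H ≤ normalizer (F : Set A))
    (hsr : ∀ h ∈ H, h ≠ 1 → F ⊓ centralizer {h} = ⊥) (hfix : fixSub φ F = ⊥)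
    {V : Subgroup G} [V.Normal] (hVi : ∀ a, ∀ x ∈ V, φ a x ∈ V) (hVc : IsMulCommutative V)
    {p : ℕ} [Fact p.Prime] (hVp : IsPGroup p V) :
    fixSub (quotAut φ V hVi) F = ⊥ ∧
      fixSub (quotAut φ V hVi) H = (fixSub φ H).map (QuotientGroup.mk' V) := by
  constructor
  · rw [eq_bot_iff]
    intro x hx
    obtain ⟨g, rfl⟩ := QuotientGroup.mk_surjective x
    rw [mem_fixSub_quotAut] at hx
    exact mem_bot.2 ((QuotientGroup.eq_one_iff g).2
      (mem_of_fpf_nilpotent φ hF hfix hVp (fun a _ => hVi a) hx))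
  · apply le_antisymm
    · intro x hx
      obtain ⟨g, rfl⟩ := QuotientGroup.mk_surjective x
      rw [mem_fixSub_quotAut] at hx
      obtain ⟨n, hn, h⟩ := exists_mul_mem_fixSub_of_frobenius φ hHF hsr hVc hVi
        (by rw [hfix, inf_bot_eq]) hx
      refine ⟨g * n, h, ?_⟩
      change ((g * n : G) : G ⧸ V) = g
      rw [QuotientGroup.mk_mul, (QuotientGroup.eq_one_iff n).2 hn, mul_one]
    · rintro _ ⟨g, hg, rfl⟩ h hh
      change quotAut φ V hVi h (g : G ⧸ V) = g
      rw [quotAut_mk, hg h hh]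

theorem module_case {G A : Type*} [Group G] [Finite G] [Group A] [Finite A] (φ : A →* MulAut G)
    {F H : Subgroup A} (hF : Group.IsNilpotent F) (hHF : H ≤ normalizer (F : Set A))
    (hsr : ∀ h ∈ H, h ≠ 1 → F ⊓ centralizer {h} = ⊥) (hfix : fixSub φ F = ⊥)
    (hnil : Group.IsNilpotent (fixSub φ H))
    {V : Subgroup G} [V.Normal] (hVi : ∀ a, ∀ x ∈ V, φ a x ∈ V) (hVc : IsMulCommutative V)
    {p q : ℕ} [hp : Fact p.Prime] [hq : Fact q.Prime] (hpq : p ≠ q) (hVp : ∀ x ∈ V, x ^ p = 1)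
    (hQc : ∀ x y : G ⧸ V, x * y = y * x) (hQq : ∀ x : G ⧸ V, x ^ q = 1) : V ≤ center G := by
  obtain ⟨h1, h2⟩ := quot_hyp φ hF hHF hsr hfix hVi hVc (H3.isPGroup_of_pow_eq_one hVp)
  have hQ : IsPGroup q (G ⧸ V) := fun x => ⟨1, by rw [pow_one, hQq]⟩
  obtain ⟨K, hKF, hnK, hcop, hK⟩ := exists_pPrime_part F hF q
  have h0 := fpf_of_pPrime_part (quotAut φ V hVi) (le_normalizer.trans hnK) hK
    (M := ⊤) (hQ.to_subgroup ⊤) (fun _ _ _ _ => mem_top _) (by rw [h1, inf_bot_eq])
  rw [top_inf_eq] at h0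
  obtain ⟨n, hn⟩ := hQ.exists_card_eq
  have hKs := H1.isNilpotent_of_le hF hKF
  let _ : CommGroup V := { (inferInstance : Group V) with mul_comm := hVc.is_comm.comm }
  let _ : CommGroup (G ⧸ V) := { (inferInstance : Group (G ⧸ V)) with mul_comm := hQc }
  have key := frob_module (Q := G ⧸ V) (V := V) (quotAut φ V hVi) (subAut φ V hVi)
    (quotConj V hVc) (fun a x => by
      obtain ⟨g, rfl⟩ := QuotientGroup.mk_surjective x
      ext v
      change φ a (g * v * g⁻¹) = φ a g * φ a v * (φ a g)⁻¹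
      rw [map_mul, map_mul, map_inv]) (p := p) (fun v => Subtype.ext (hVp v v.2))
    (by
      rw [hn]
      intro h
      exact hpq ((Nat.prime_dvd_prime_iff_eq hp.out hq.out).1 (hp.out.dvd_of_dvd_pow h)))
    (K := K) (H := H) (hHF.trans hnK) (semiregular_mono hsr hKF le_rfl) inferInstance
    (by rw [hn]; exact hcop.pow_right n) h0 (by
      intro c hc v hv
      rw [h2] at hc
      obtain ⟨g, hg, rfl⟩ := hc
      have hv' : (v : G) ∈ fixSub φ H := fun b hb => congrArg Subtype.val (hv b hb)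
      have hgq : g ^ q ∈ V := (QuotientGroup.eq_one_iff _).1 (hQq (g : G ⧸ V))
      have c1 : Commute (g ^ q) v := congrArg Subtype.val (hVc.is_comm.comm ⟨_, hgq⟩ v)
      have c2 : Commute (g ^ p) v := by
        apply H77.commute_of_isNilpotent_of_coprime hnil (pow_mem hg p) hv'
        have e1 : orderOf (g ^ p) ∣ q := orderOf_dvd_of_pow_eq_one (by
          rw [← pow_mul, mul_comm, pow_mul, hVp _ hgq])
        have e2 : orderOf (v : G) ∣ p := orderOf_dvd_of_pow_eq_one (hVp v v.2)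
        exact Nat.Coprime.coprime_dvd_left e1 (Nat.Coprime.coprime_dvd_right e2
          ((Nat.coprime_primes hq.out hp.out).2 hpq.symm))
      have c3 : g ∈ centralizer {(v : G)} := by
        have hco : p.Coprime q := (Nat.coprime_primes hp.out hq.out).2 hpq
        have e1 : g ^ p ∈ centralizer {(v : G)} := mem_centralizer_singleton_iff.2 c2
        have e2 : g ^ q ∈ centralizer {(v : G)} := mem_centralizer_singleton_iff.2 c1
        have e3 := mul_mem (zpow_mem e1 (Nat.gcdA p q)) (zpow_mem e2 (Nat.gcdB p q))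
        rwa [← zpow_natCast, ← zpow_natCast, ← zpow_mul, ← zpow_mul, ← zpow_add,
          ← Nat.gcd_eq_gcd_ab, hco.gcd_eq_one, Nat.cast_one, zpow_one] at e3
      apply Subtype.ext
      change g * v * g⁻¹ = v
      rw [mem_centralizer_singleton_iff.1 c3, mul_inv_cancel_right])
  intro v hv
  rw [mem_center_iff]
  intro g
  have := congrArg (fun f : MulAut V => (f ⟨v, hv⟩ : G)) (key (g : G ⧸ V))
  change g * v * g⁻¹ = v at this
  rw [← mul_inv_eq_iff_eq_mul, this]

theorem main {A : Type*} [Group A] [Finite A] (F : Subgroup A) [F.Normal] {H : Subgroup A}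
    (hF : Group.IsNilpotent F) (hsr : ∀ h ∈ H, h ≠ 1 → F ⊓ centralizer {h} = ⊥) (n : ℕ) :
    ∀ (G : Type u) [Group G] [Finite G] (φ : A →* MulAut G), Nat.card G = n → fixSub φ F = ⊥ →
      Group.IsNilpotent (fixSub φ H) → Group.IsNilpotent G := by
  have hHF : H ≤ normalizer (F : Set A) := le_normalizer_of_normal
  induction n using Nat.strong_induction_on with
  | _ n ih =>
  intro G _ _ φ hn hfix hnil
  have hsub : ∀ M : Subgroup G, (∀ a, ∀ x ∈ M, φ a x ∈ M) → M ≠ ⊤ → Group.IsNilpotent M := by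
    intro M hM hne
    refine ih _ (hn ▸ H1.card_lt_of_ne_top hne) M (subAut φ M hM) rfl
      (fixSub_subAut_eq_bot φ hfix M hM) ?_
    apply H1.isNilpotent_of_map_injective M.subtype_injective
    rw [map_fixSub_subAut]
    exact H1.isNilpotent_of_le hnil inf_le_right
  have hquot : ∀ (V : Subgroup G) [V.Normal], (∀ a, ∀ x ∈ V, φ a x ∈ V) → V ≠ ⊥ →
      IsMulCommutative V → ∀ (p : ℕ) [Fact p.Prime], (∀ x ∈ V, x ^ p = 1) →
      Group.IsNilpotent (G ⧸ V) := by
    intro V _ hVi hne hVc p _ hVp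
    obtain ⟨h1, h2⟩ := quot_hyp φ hF hHF hsr hfix hVi hVc (H3.isPGroup_of_pow_eq_one hVp)
    refine ih _ (hn ▸ H1.card_quotient_lt hne) (G ⧸ V) (quotAut φ V hVi) rfl h1 ?_
    rw [h2]
    exact H1.isNilpotent_map hnil _
  have hEA : ∀ (M : Subgroup G) [M.Normal], (∀ a, ∀ x ∈ M, φ a x ∈ M) → M ≠ ⊤ →
      ∀ (p : ℕ) [Fact p.Prime], p ∣ Nat.card M → ∃ V : Subgroup G, V.Normal ∧
        (∀ a, ∀ x ∈ V, φ a x ∈ V) ∧ V ≠ ⊥ ∧ IsMulCommutative V ∧ (∀ x ∈ V, x ^ p = 1) := by
    intro M _ hM hne p _ hp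
    have : (Cfsg.pCoreOf p M).Normal := by rw [H1.pCoreOf_eq_inf]; infer_instance
    obtain ⟨V, -, h1, h2, h3, h4, h5, -⟩ := exists_inv_elemAb φ (inv_pCoreOf φ hM p)
      (H1.isPGroup_pCoreOf M) (pCoreOf_ne_bot_of_isNilpotent (hsub M hM hne) hp)
    exact ⟨V, h1, h2, h3, h4, h5⟩
  by_cases hs : ∀ M : Subgroup G, M.Normal → (∀ a, ∀ x ∈ M, φ a x ∈ M) → M = ⊥ ∨ M = ⊤
  · by_cases h2 : IsPGroup 2 G
    · exact h2.isNilpotent
    obtain ⟨p, hp, hp2, R, hR, hRi, hne⟩ := exists_inv_odd_pSubgroup φ F hF hfix hsub h2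
    have : Fact p.Prime := ⟨hp⟩
    exact (isPGroup_of_inv_simple φ hsub hs hp2 hR hRi hne).isNilpotent
  push Not at hs
  obtain ⟨M, hMn, hMi, hM1, hM2⟩ := hs
  obtain ⟨p, hp, hpd⟩ := Nat.exists_prime_and_dvd (fun h => hM1 (card_eq_one.1 h))
  have : Fact p.Prime := ⟨hp⟩
  obtain ⟨V, hVn, hVi, hVne, hVc, hVp⟩ := hEA M hMi hM2 p hpd
  have hQ := hquot V hVi hVne hVc p hVp
  by_cases hG : IsPGroup p G
  · exact hG.isNilpotent
  obtain ⟨q, hq, hqd, hqp⟩ : ∃ q : ℕ, q.Prime ∧ q ∣ Nat.card (G ⧸ V) ∧ q ≠ p := by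
    by_contra hh
    push Not at hh
    have h1 : IsPGroup p (G ⧸ V) := IsPGroup.of_card
      (Nat.eq_prime_pow_of_unique_prime_dvd Nat.card_pos.ne' (fun {d} hd h => hh d hd h))
    have h2 := IsPGroup.comap_of_ker_isPGroup (h1.to_subgroup ⊤) (QuotientGroup.mk' V)
      (by rw [QuotientGroup.ker_mk']; exact H3.isPGroup_of_pow_eq_one hVp)
    rw [comap_top] at h2
    exact hG (h2.of_equiv topEquiv)
  have : Fact q.Prime := ⟨hq⟩
  obtain ⟨W, -, hWn, hWi, hWne, hWc, hWq, -⟩ := exists_inv_elemAb (quotAut φ V hVi)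
    (inv_of_characteristic _ (Cfsg.pCore q (G ⧸ V))) H1.isPGroup_pCore (by
      rw [← H1.pCoreOf_top]
      exact pCoreOf_ne_bot_of_isNilpotent inferInstance (by rwa [card_top]))
  by_cases hW : W = ⊤
  · subst hW
    have := module_case φ hF hHF hsr hfix hnil hVi hVc hqp.symm hVp
      (fun x y => congrArg Subtype.val (hWc.is_comm.comm ⟨x, mem_top x⟩ ⟨y, mem_top y⟩))
      (fun x => hWq x (mem_top x))
    exact Subgroup.isNilpotent_of_ker_le_center (QuotientGroup.mk' V) (by rwa [QuotientGroup.ker_mk'])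
  · have hZ : W.comap (QuotientGroup.mk' V) ≠ ⊤ := fun h => hW (by
      rw [← map_comap_eq_self_of_surjective (QuotientGroup.mk'_surjective V) W, h,
        map_top_of_surjective _ (QuotientGroup.mk'_surjective V)])
    obtain ⟨V', hVn', hVi', hVne', hVc', hVp'⟩ := hEA _ (inv_comap_mk φ V hVi hWi) hZ q (by
      rw [H1.card_comap_mk']
      exact (H68.dvd_card_of_isPGroup_of_ne_bot (H3.isPGroup_of_pow_eq_one hWq) hWne
        le_rfl).mul_right _)
    refine isNilpotent_of_inf_eq_bot (M := V) (N := V') ?_ hQ (hquot V' hVi' hVne' hVc' q hVp')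
    rw [eq_bot_iff]
    intro x hx
    exact eq_one_of_pow_coprime ((Nat.coprime_primes hp hq).2 hqp.symm) (hVp x hx.1) (hVp' x hx.2)

/-- Let the finite group A act faithfully on the finite group G by automorphisms, and suppose A is a Frobenius group with kernel F and complement H such that F fixes only the identity of G. If the fixed-point subgroup C_G(H) is nilpotent, then G is nilpotent. -/
theorem result {G A : Type*} [Group G] [Finite G] [Group A] [Finite A] [MulDistribMulAction A G] [FaithfulSMul A G]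
    (Fk Hc : Subgroup A) [Fk.Normal] (hHc : Cfsg.IsFrobeniusComplement Hc) (hker : Cfsg.frobeniusKernel Hc = (Fk : Set A))
    (hCF : ∀ g : G, (∀ f ∈ Fk, f • g = g) → g = 1) (hnil : Group.IsNilpotent (Subgroup.closure {g : G | ∀ h ∈ Hc, h • g = g})) : Group.IsNilpotent G := by

  obtain ⟨N, hN, -, hNn⟩ := Cfsg.Agent.S0042.result Hc hHc
  obtain ⟨N', hN', -, hc⟩ := Cfsg.Agent.S0035.result Hc hHc
  obtain rfl : N = Fk := SetLike.coe_injective (hN.trans hker)
  obtain rfl : N' = N := SetLike.coe_injective (hN'.trans hker)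
  have hsr := (isFrobeniusComplement_iff_semiregular hc (by
    rintro rfl
    exact hHc.2.1 (isComplement'_bot_left.1 hc)) hHc.1).1 hHc
  refine main N' hNn hsr _ G (MulDistribMulAction.toMulAut A G) rfl
    (eq_bot_iff.2 fun g hg => hCF g hg) ?_
  have e : (Subgroup.closure {g : G | ∀ h ∈ Hc, h • g = g}) =
      fixSub (MulDistribMulAction.toMulAut A G) Hc :=
    Subgroup.closure_eq (fixSub (MulDistribMulAction.toMulAut A G) Hc)
  rwa [e] at hnil

end Cfsg.Agent.S4120
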