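import Cfsg.Statements.S2934
import Cfsg.Agent.Lib.TwoGrp.RankOne
import Cfsg.Agent.Lib.Core.CoprimeExt
import Cfsg.Agent.Lib.PGroup.Frattini

set_option autoImplicit false
open Cfsg

namespace Cfsg.Agent.S2934

open Subgroup hiding mul_mem inv_mem one_mem pow_mem commutator_le
open H2 H13.TG
open scoped commutatorElement

variable {W : Type*} [Group W]

theorem relIndex_mul_card_of_le {H K : Subgroup W} (h : H ≤ K) :
    H.relIndex K * Nat.card H = Nat.card K := by
  rw [relIndex, ← Nat.card_congr (subgroupOfEquivOfLe h).toEquiv, index_mul_card]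

theorem mk_comm (N : Subgroup W) [N.Normal] (x y : W) :
    ((⁅x, y⁆ : W) : W ⧸ N) = ⁅(x : W ⧸ N), (y : W ⧸ N)⁆ :=
  map_commutatorElement (QuotientGroup.mk' N) x y

/-- fixed points of one automorphism -/
def Q (e : MulAut W) : Subgroup W where
  carrier := {x | e x = x}
  one_mem' := map_one e
  mul_mem' := fun {a b} ha hb => by
    simp only [Set.mem_setOf_eq] at *; rw [map_mul, ha, hb]
  inv_mem' := fun {a} ha => by
    simp only [Set.mem_setOf_eq] at *; rw [map_inv, ha]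

theorem mem_Q {e : MulAut W} {x : W} : x ∈ Q e ↔ e x = x := Iff.rfl

/-- `E`-invariant subgroups -/
def Inv (E : Subgroup (MulAut W)) (X : Subgroup W) : Prop := ∀ e ∈ E, ∀ x ∈ X, e x ∈ X

theorem Inv.inf {E : Subgroup (MulAut W)} {X Y : Subgroup W} (hX : Inv E X) (hY : Inv E Y) :
    Inv E (X ⊓ Y) := fun e he x hx => ⟨hX e he x hx.1, hY e he x hx.2⟩

theorem Inv.sup {E : Subgroup (MulAut W)} {X Y : Subgroup W} (hX : Inv E X) (hY : Inv E Y) :
    Inv E (X ⊔ Y) := fun e he x hx => by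
  have : X ⊔ Y ≤ (X ⊔ Y).comap e.toMonoidHom :=
    sup_le (fun y hy => mem_sup_left (hX e he y hy)) (fun y hy => mem_sup_right (hY e he y hy))
  exact this hx

theorem Inv.cent {E : Subgroup (MulAut W)} {X : Subgroup W} (hX : Inv E X) :
    Inv E (centralizer (X : Set W)) := fun e he x hx y hy => by
  have h1 := hx _ (hX e⁻¹ (E.inv_mem he) y hy)
  have h2 := congrArg e h1
  simpa only [map_mul, MulAut.apply_inv_self] using h2

/-- restriction to an invariant subgroup -/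
def res {E : Subgroup (MulAut W)} {X : Subgroup W} (hX : Inv E X) : E →* MulAut X where
  toFun e :=
    { toFun := fun x => ⟨e.1 x, hX _ e.2 _ x.2⟩
      invFun := fun x => ⟨e.1⁻¹ x, hX _ (E.inv_mem e.2) _ x.2⟩
      left_inv := fun x => Subtype.ext (by simp)
      right_inv := fun x => Subtype.ext (by simp)
      map_mul' := fun x y => Subtype.ext (by simp) }
  map_one' := by ext x; rfl
  map_mul' := fun _ _ => by ext x; rfl

theorem mem_ker_res {E : Subgroup (MulAut W)} {X : Subgroup W} (hX : Inv E X) {e : E} :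
    e ∈ (res hX).ker ↔ ∀ x ∈ X, e.1 x = x := by
  rw [MonoidHom.mem_ker]
  constructor
  · intro h x hx
    exact congrArg Subtype.val (DFunLike.congr_fun h ⟨x, hx⟩)
  · intro h
    ext x
    exact h x x.2

structure Hyp (p : ℕ) (E : Subgroup (MulAut W)) : Prop where
  hW : IsPGroup 2 W
  pp : p.Prime
  hp : p ≠ 2
  hE : IsPGroup p E
  hab : IsMulCommutative E
  hnc : ¬ IsCyclic E
  hfix : ∀ e ∈ E, e ≠ 1 → ∀ x y : W, orderOf x = 2 → orderOf y = 2 → e x = x → e y = y → x = y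

/-- quaternion type -/
def B (E : Subgroup (MulAut W)) (e : MulAut W) : Prop :=
  e ∈ E ∧ e ≠ 1 ∧ Nonempty (Q e ≃* QuaternionGroup 2) ∧ ¬ ∀ f ∈ E, ∀ x ∈ Q e, f x = x

namespace Hyp

variable [Finite W] {p : ℕ} {E : Subgroup (MulAut W)} (h : Hyp p E)
include h

theorem cop (A : Subgroup E) (X : Subgroup W) : (Nat.card A).Coprime (Nat.card X) := by
  haveI := Fact.mk h.pp
  obtain ⟨a, ha⟩ := (IsPGroup.iff_card.1 (h.hE.to_subgroup A))
  obtain ⟨b, hb⟩ := (IsPGroup.iff_card.1 (h.hW.to_subgroup X))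
  rw [ha, hb]
  exact Nat.Coprime.pow _ _ ((Nat.coprime_primes h.pp Nat.prime_two).2 h.hp)

theorem gen {X M : Subgroup W} (hX : Inv E X) (H : ∀ e ∈ E, e ≠ 1 → X ⊓ Q e ≤ M) : X ≤ M := by
  refine ext_le_of_forall_fix_le (φ := E.subtype) h.hab h.hnc (fun a x hx => hX a a.2 x hx) ?_
    (fun a ha x hx hax => H a a.2 (fun e => ha (Subtype.ext e)) ⟨hx, hax⟩)
  have := h.cop ⊤ X
  rwa [card_top] at this

theorem inv_Q {e : MulAut W} (he : e ∈ E) : Inv E (Q e) := fun f hf x hx => by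
  have h1 : (⟨e, he⟩ * ⟨f, hf⟩ : E) = ⟨f, hf⟩ * ⟨e, he⟩ := h.hab.is_comm.comm _ _
  have h2 : e * f = f * e := congrArg Subtype.val h1
  have h3 : e (f x) = f (e x) := DFunLike.congr_fun h2 x
  rw [mem_Q, h3, mem_Q.1 hx]

theorem uniq {e : MulAut W} (he : e ∈ E) (h1 : e ≠ 1) {x y : W} (hx : x ∈ Q e) (hy : y ∈ Q e)
    (hxx : x * x = 1) (hyy : y * y = 1) (hx1 : x ≠ 1) (hy1 : y ≠ 1) : x = y :=
  h.hfix e he h1 x y (orderOf_eq_prime (by rw [pow_two, hxx]) hx1)
    (orderOf_eq_prime (by rw [pow_two, hyy]) hy1) hx hy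

theorem ui {e : MulAut W} (he : e ∈ E) (h1 : e ≠ 1) : UI (Q e) := fun x y hx hy hx1 hy1 =>
  Subtype.ext (h.uniq he h1 x.2 y.2 (congrArg Subtype.val hx) (congrArg Subtype.val hy)
    (fun e => hx1 (Subtype.ext e)) (fun e => hy1 (Subtype.ext e)))

theorem typ {e : MulAut W} (he : e ∈ E) (h1 : e ≠ 1) : (∀ f ∈ E, ∀ x ∈ Q e, f x = x) ∨ B E e := by
  haveI := Fact.mk h.pp
  by_cases hc : ∀ f ∈ E, ∀ x ∈ Q e, f x = x
  · exact Or.inl hc
  rcases (h.ui he h1).aut_cases (h.hW.to_subgroup _) with h2 | h2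
  · refine absurd (fun f hf => (mem_ker_res (h.inv_Q he) (e := ⟨f, hf⟩)).1 ?_) hc
    obtain ⟨a, ha⟩ := h2 (res (h.inv_Q he) ⟨f, hf⟩)
    obtain ⟨b, hb⟩ := h.hE ⟨f, hf⟩
    have hb' : res (h.inv_Q he) ⟨f, hf⟩ ^ p ^ b = 1 := by rw [← map_pow, hb, map_one]
    have := Nat.dvd_gcd (orderOf_dvd_of_pow_eq_one ha) (orderOf_dvd_of_pow_eq_one hb')
    rw [Nat.Coprime.pow a b ((Nat.coprime_primes Nat.prime_two h.pp).2 h.hp.symm), Nat.dvd_one,
      orderOf_eq_one_iff] at this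
    exact this
  · exact Or.inr ⟨he, h1, h2, hc⟩

theorem exists_B : ∃ e, B E e := by
  by_contra hn
  push Not at hn
  have h1 : (⊤ : Subgroup W) ≤ fixSub E.subtype ⊤ :=
    h.gen (fun _ _ _ _ => mem_top _) fun e he h1 x hx f _ =>
      ((h.typ he h1).resolve_right (hn e)) f f.2 x hx.2
  refine h.hnc ?_
  haveI : Subsingleton E := ⟨fun a b => Subtype.ext (by
    ext x
    exact (h1 (mem_top x) a (mem_top _)).trans (h1 (mem_top x) b (mem_top _)).symm)⟩
  infer_instance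

theorem index_ker {e : MulAut W} (hB : B E e) : (res (h.inv_Q hB.1)).ker.index = 3 := by
  haveI := Fact.mk h.pp
  obtain ⟨φ⟩ := hB.2.2.1
  obtain ⟨ψ⟩ := Cfsg.Agent.S3742.result
  have hc : Nat.card (MulAut (Q e)) = 24 := by
    rw [Nat.card_congr ((MulAut.congr φ).trans ψ).toEquiv, Nat.card_eq_fintype_card, Fintype.card_perm,
      Fintype.card_fin]
    rfl
  rw [Subgroup.index_ker]
  have h1 : Nat.card (res (h.inv_Q hB.1)).range ∣ 24 := hc ▸ card_subgroup_dvd_card _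
  obtain ⟨k, hk⟩ := IsPGroup.iff_card.1
    (h.hE.of_surjective _ (res (h.inv_Q hB.1)).rangeRestrict_surjective)
  have h2 : Nat.card (res (h.inv_Q hB.1)).range ≠ 1 := by
    intro h3
    rw [card_eq_one, MonoidHom.range_eq_bot_iff] at h3
    refine hB.2.2.2 fun f hf => (mem_ker_res (h.inv_Q hB.1) (e := ⟨f, hf⟩)).1 ?_
    rw [MonoidHom.mem_ker, h3]; rfl
  have h4 : (Nat.card (res (h.inv_Q hB.1)).range).Coprime 8 := by
    rw [hk]
    exact Nat.Coprime.pow k 3 ((Nat.coprime_primes h.pp Nat.prime_two).2 h.hp)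
  have h5 : Nat.card (res (h.inv_Q hB.1)).range ∣ 3 := h4.dvd_of_dvd_mul_left (by simpa using h1)
  exact ((Nat.dvd_prime Nat.prime_three).1 h5).resolve_left h2

theorem stab {X Y : Subgroup W} (hX : Inv E X) (hY : Inv E Y) (hi : Y.relIndex X = 2)
    (hf : ∀ f ∈ E, ∀ y ∈ Y, f y = y) : ∀ f ∈ E, ∀ x ∈ X, f x = x := by
  have : X ≤ fixSub E.subtype ⊤ := by
    refine ext_le_fixSub_of_stable (h.cop ⊤ Y) (fun b _ x hx => ?_) (fun y hy b _ => hf b b.2 y hy)
    have h1 := (mul_mem_iff_of_index_two (H := Y.subgroupOf X) hi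
      (a := ⟨x⁻¹, X.inv_mem hx⟩) (b := ⟨b.1 x, hX _ b.2 _ hx⟩)).2 (by
        simp only [mem_subgroupOf, inv_mem_iff]
        refine ⟨fun h => hY _ b.2 _ h, fun h => ?_⟩
        simpa using hY _ (E.inv_mem b.2) _ h)
    exact h1
  exact fun f hf x hx => this hx ⟨f, hf⟩ (mem_top _)

end Hyp

theorem B.card {E : Subgroup (MulAut W)} {e : MulAut W} (hB : B E e) : Nat.card (Q e) = 8 := by
  obtain ⟨φ⟩ := hB.2.2.1
  rw [Nat.card_congr φ.toEquiv, card_quat]

theorem B.pow4 {E : Subgroup (MulAut W)} {e : MulAut W} (hB : B E e) {x : W} (hx : x ∈ Q e) :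
    x * x * (x * x) = 1 := by
  obtain ⟨φ⟩ := hB.2.2.1
  have : ∀ q : QuaternionGroup 2, q * q * (q * q) = 1 := by decide
  have h1 : (⟨x, hx⟩ * ⟨x, hx⟩ * (⟨x, hx⟩ * ⟨x, hx⟩) : Q e) = 1 :=
    φ.injective (by simp only [map_mul, map_one, this])
  exact congrArg Subtype.val h1

theorem B.noncomm {E : Subgroup (MulAut W)} {e : MulAut W} (hB : B E e) :
    ¬ Q e ≤ centralizer (Q e : Set W) := by
  obtain ⟨φ⟩ := hB.2.2.1
  intro h
  have h1 : φ.symm (QuaternionGroup.a 1) * φ.symm (QuaternionGroup.xa 0) =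
      φ.symm (QuaternionGroup.xa 0) * φ.symm (QuaternionGroup.a 1) :=
    Subtype.ext (h (φ.symm _).2 _ (φ.symm _).2)
  rw [← map_mul, ← map_mul] at h1
  exact absurd (φ.symm.injective h1) (by decide)

/-- the common central involution -/
structure Hyp2 (p : ℕ) (E : Subgroup (MulAut W)) (z : W) : Prop extends Hyp p E where
  zz : z * z = 1
  z1 : z ≠ 1
  fz : ∀ f ∈ E, f z = z

theorem Hyp.exists_z [Finite W] {p : ℕ} {E : Subgroup (MulAut W)} (h : Hyp p E) : ∃ z, Hyp2 p E z := by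
  obtain ⟨e, hB⟩ := h.exists_B
  obtain ⟨z, hz⟩ := exists_prime_orderOf_dvd_card' (G := Q e) 2 (by rw [hB.card]; norm_num)
  have h1 : z.1 * z.1 = 1 := by
    have := pow_orderOf_eq_one z
    rw [hz, pow_two] at this
    exact congrArg Subtype.val this
  have h2 : z.1 ≠ 1 := fun e => by
    rw [show z = 1 from Subtype.ext e, orderOf_one] at hz
    exact absurd hz (by norm_num)
  exact ⟨z, h, h1, h2, fun f hf => h.uniq hB.1 hB.2.1 (h.inv_Q hB.1 f hf _ z.2) z.2
    (by rw [← map_mul, h1, map_one]) h1 (by simpa using h2) h2⟩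

namespace Hyp2

variable [Finite W] {p : ℕ} {E : Subgroup (MulAut W)} {z : W} (h : Hyp2 p E z)
include h

theorem cardZ : Nat.card (zpowers z) = 2 := by
  rw [Nat.card_zpowers, orderOf_eq_prime (by rw [pow_two, h.zz]) h.z1]

theorem fZ {f : MulAut W} (hf : f ∈ E) : zpowers z ≤ Q f := zpowers_le.2 (h.fz f hf)

theorem invZ : Inv E (zpowers z) := fun f hf x hx => by
  rw [mem_Q.1 (h.fZ hf hx)]; exact hx

theorem irr {e : MulAut W} (hB : B E e) {Y : Subgroup W} (hY : Inv E Y) (h1 : zpowers z ≤ Y)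
    (h2 : Y ≤ Q e) : Y = zpowers z ∨ Y = Q e := by
  have d1 : Nat.card Y ∣ 2 ^ 3 := by
    have := card_dvd_of_le h2
    rwa [hB.card] at this
  have d2 : 2 ∣ Nat.card Y := h.cardZ ▸ card_dvd_of_le h1
  obtain ⟨k, hk, hk'⟩ := (Nat.dvd_prime_pow Nat.prime_two).1 d1
  interval_cases k
  · rw [hk'] at d2; exact absurd d2 (by norm_num)
  · exact Or.inl (eq_of_le_of_card_ge h1 (by rw [hk', h.cardZ]; norm_num)).symm
  · exfalso
    have i1 : (zpowers z).relIndex Y = 2 := by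
      have := relIndex_mul_card_of_le h1
      rw [h.cardZ, hk'] at this
      omega
    have i2 : Y.relIndex (Q e) = 2 := by
      have := relIndex_mul_card_of_le h2
      rw [hB.card, hk'] at this
      omega
    exact hB.2.2.2 (h.toHyp.stab (h.inv_Q hB.1) hY i2
      (h.toHyp.stab hY h.invZ i1 fun f hf y hy => h.fZ hf hy))
  · exact Or.inr (eq_of_le_of_card_ge h2 (by rw [hk', hB.card]; norm_num))

theorem fix_eq : fixSub E.subtype ⊤ = zpowers z := by
  obtain ⟨e, hB⟩ := h.exists_B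
  refine (h.irr hB (Y := fixSub E.subtype ⊤) (fun f hf x hx => ?_)
    (fun x hx f _ => h.fZ f.2 hx) (fun x hx => hx ⟨e, hB.1⟩ (mem_top _))).resolve_right fun h1 => ?_
  · rw [show f x = x from hx ⟨f, hf⟩ (mem_top _)]; exact hx
  · exact hB.2.2.2 fun f hf x hx => (h1.ge hx) ⟨f, hf⟩ (mem_top _)

theorem typ' {e : MulAut W} (he : e ∈ E) (h1 : e ≠ 1) : Q e = zpowers z ∨ B E e :=
  (h.typ he h1).imp_left fun h2 => le_antisymm
    (fun x hx => h.fix_eq.le fun f _ => h2 f f.2 x hx) (h.fZ he)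

theorem exists_le {Y : Subgroup W} (hY : Inv E Y) (h1 : zpowers z ≤ Y) (h2 : ¬ Y ≤ zpowers z) :
    ∃ g, B E g ∧ Q g ≤ Y := by
  by_contra hn
  push Not at hn
  refine h2 (h.gen hY fun e he h3 => ?_)
  rcases h.typ' he h3 with h4 | h4
  · exact inf_le_right.trans h4.le
  · rcases h.irr h4 (hY.inf (h.inv_Q he)) (le_inf h1 (h.fZ he)) inf_le_right with h5 | h5
    · exact h5.le
    · exact absurd (h5.ge.trans inf_le_left) (hn e h4)

theorem central : z ∈ center W := by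
  have : (⊤ : Subgroup W) ≤ centralizer {z} := h.gen (fun _ _ _ _ => mem_top _) fun e he h1 x hx => by
    have h2 := (h.ui he h1).mem_center (x := ⟨z, h.fz e he⟩) (Subtype.ext h.zz)
    rw [mem_centralizer_singleton_iff]
    exact congrArg Subtype.val (mem_center_iff.1 h2 ⟨x, hx.2⟩)
  exact mem_center_iff.2 fun g => mem_centralizer_singleton_iff.1 (this (mem_top g))

theorem Z_le_center : zpowers z ≤ center W := zpowers_le.2 h.central

theorem Z_le_cent (X : Set W) : zpowers z ≤ centralizer X :=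
  h.Z_le_center.trans (center_le_centralizer X)

theorem normalZ : (zpowers z).Normal := ⟨fun x hx g => by
  rw [mem_center_iff.1 (h.Z_le_center hx) g, mul_inv_cancel_right]; exact hx⟩

theorem sq {e : MulAut W} (he : e ∈ E) (h1 : e ≠ 1) {x : W} (hx : x ∈ Q e) : x * x ∈ zpowers z := by
  rcases h.typ' he h1 with h2 | h2
  · exact h2 ▸ mul_mem hx hx
  by_cases h3 : x * x = 1
  · exact h3 ▸ one_mem _
  · rw [h.uniq he h1 (mul_mem hx hx) (h.fz e he) (h2.pow4 hx) h.zz h3 h.z1]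
    exact mem_zpowers z

theorem key {f g : MulAut W} (hf : B E f) (hg : B E g) (hne : Q f ≠ Q g)
    (hc : ∀ x ∈ Q f, ∀ y ∈ Q g, ⁅y, x⁆ ∈ zpowers z) : Q g ≤ centralizer (Q f : Set W) := by
  rcases h.irr hg ((h.inv_Q hg.1).inf (h.inv_Q hf.1).cent) (le_inf (h.fZ hg.1) (h.Z_le_cent _))
    inf_le_left with h1 | h1
  · exfalso
    have h2 : Q g ≤ fixSub E.subtype (res (h.inv_Q hf.1)).ker := by
      refine ext_le_fixSub_of_stable (h.cop _ (zpowers z)) (fun b hb y hy => ?_)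
        (fun y hy b _ => h.fZ b.2 hy)
      rw [← h1]
      refine ⟨(Q g).mul_mem ((Q g).inv_mem hy) (h.inv_Q hg.1 _ b.2 _ hy), fun x hx => ?_⟩
      have e1 : b.1 ⁅y, x⁆ = ⁅y, x⁆ := h.fZ b.2 (hc x hx y hy)
      rw [map_commutatorElement, (mem_ker_res _).1 hb x hx, commutatorElement_def,
        commutatorElement_def] at e1
      have e2 : b.1 y * x * (b.1 y)⁻¹ = y * x * y⁻¹ := mul_right_cancel e1
      change x * (y⁻¹ * b.1 y) = y⁻¹ * b.1 y * x
      calc x * (y⁻¹ * b.1 y) = y⁻¹ * (y * x * y⁻¹) * b.1 y := by group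
        _ = _ := by rw [← e2]; group
    have h3 : Q g ≤ Q f := fun y hy =>
      h2 hy ⟨f, hf.1⟩ ((mem_ker_res _).2 fun x hx => hx)
    exact hne (eq_of_le_of_card_ge h3 (by rw [hf.card, hg.card])).symm
  · exact h1.ge.trans inf_le_right

theorem comm_aux (n : ℕ) : ∀ X : Subgroup W, Nat.card X ≤ n → Inv E X → zpowers z ≤ X →
    ∀ e f, B E e → B E f → Q e ≤ X → Q f ≤ X → Q e ≠ Q f → Q f ≤ centralizer (Q e : Set W) := by
  induction n with
  | zero => intro X hX; exact absurd (Nat.card_pos (α := X)) (by omega)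
  | succ n ih =>
    intro X hX hI hZ e f he hf heX hfX hne
    haveI := h.normalZ
    have hnZ : ¬ X ≤ zpowers z := fun h1 => he.noncomm ((heX.trans h1).trans (h.Z_le_cent _))
    obtain ⟨c, hcX, hcZ, -, hc⟩ := H5.exists_step_of_le (h.hW.to_subgroup X) (zpowers z) le_rfl
      le_normalizer hnZ
    obtain ⟨g, hg, hgY⟩ := h.exists_le (Y := X ⊓ relCentralizer X (zpowers z))
      (fun b hb x hx => ⟨hI b hb x hx.1, by rw [normalizer_eq_top]; exact mem_top _, fun y hy => by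
        have := h.invZ b hb _ (hx.2.2 _ (hI _ (E.inv_mem hb) y hy))
        simpa only [map_commutatorElement, MulAut.apply_inv_self] using this⟩)
      (fun x hx => ⟨hZ hx, by rw [normalizer_eq_top]; exact mem_top _, fun y _ => by
        rw [commutatorElement_eq_one_iff_mul_comm.2 (mem_center_iff.1 (h.Z_le_center hx) y).symm]
        exact one_mem _⟩)
      (fun h1 => hcZ (h1 ⟨hcX, by rw [normalizer_eq_top]; exact mem_top _, hc⟩))
    have K : ∀ e, B E e → Q e ≤ X → Q e ≠ Q g → Q g ≤ centralizer (Q e : Set W) :=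
      fun e he heX hne => h.key he hg hne fun x hx y hy => (hgY hy).2.2 x (heX hx)
    by_cases h1 : Q f = Q g
    · rw [h1]; exact K e he heX (h1 ▸ hne)
    by_cases h2 : Q e = Q g
    · rw [le_centralizer_iff, h2]; exact K f hf hfX h1
    have hlt : X ⊓ centralizer (Q g : Set W) < X := lt_of_le_of_ne inf_le_left fun h3 =>
      hg.noncomm ((hgY.trans inf_le_left).trans (h3.ge.trans inf_le_right))
    have hc : Nat.card ↥(X ⊓ centralizer (Q g : Set W)) < Nat.card X :=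
      lt_of_le_of_ne (card_le_of_le hlt.le) fun h3 => hlt.ne (eq_of_le_of_card_ge hlt.le h3.ge)
    exact ih _ (by omega) (hI.inf (h.inv_Q hg.1).cent) (le_inf hZ (h.Z_le_cent _)) e f he hf
      (le_inf heX (le_centralizer_iff.1 (K e he heX h2)))
      (le_inf hfX (le_centralizer_iff.1 (K f hf hfX h1))) hne

theorem comm {e f : MulAut W} (he : e ∈ E) (he1 : e ≠ 1) (hf : f ∈ E) (hf1 : f ≠ 1) {x y : W}
    (hx : x ∈ Q e) (hy : y ∈ Q f) : ⁅x, y⁆ ∈ zpowers z := by
  haveI := h.normalZ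
  by_cases h1 : Q e = Q f
  · rw [← h1] at hy
    rw [← QuotientGroup.eq_one_iff, mk_comm, commutatorElement_eq_one_iff_mul_comm]
    have a1 := (QuotientGroup.eq_one_iff _).2 (h.sq he he1 hx)
    have a2 := (QuotientGroup.eq_one_iff _).2 (h.sq he he1 hy)
    have a3 := (QuotientGroup.eq_one_iff _).2 (h.sq he he1 (mul_mem hx hy))
    simp only [QuotientGroup.mk_mul] at a1 a2 a3
    have b1 := inv_eq_of_mul_eq_one_right a1
    have b2 := inv_eq_of_mul_eq_one_right a2
    have b3 := inv_eq_of_mul_eq_one_right a3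
    rw [mul_inv_rev, b1, b2] at b3
    exact b3.symm
  have : x * y = y * x := by
    rcases h.typ' he he1 with h2 | h2
    · exact (mem_center_iff.1 (h.Z_le_center (h2 ▸ hx)) y).symm
    rcases h.typ' hf hf1 with h3 | h3
    · exact mem_center_iff.1 (h.Z_le_center (h3 ▸ hy)) x
    exact h.comm_aux _ ⊤ le_rfl (fun _ _ _ _ => mem_top _) le_top e f h2 h3 le_top le_top h1 hy x hx
  rw [commutatorElement_eq_one_iff_mul_comm.2 this]
  exact one_mem _

theorem comm_all (x y : W) : ⁅x, y⁆ ∈ zpowers z := by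
  haveI := h.normalZ
  have K : ∀ x y : W, ⁅x, y⁆ ∈ zpowers z ↔
      y ∈ (centralizer {(x : W ⧸ zpowers z)}).comap (QuotientGroup.mk' (zpowers z)) := fun x y => by
    rw [← QuotientGroup.eq_one_iff, mk_comm, commutatorElement_eq_one_iff_mul_comm,
      mem_comap, mem_centralizer_singleton_iff, eq_comm]
    rfl
  have T : Inv E (⊤ : Subgroup W) := fun _ _ _ _ => mem_top _
  refine (K x y).2 (h.gen T (fun f hf hf1 y hy => (K x y).1 ?_) (mem_top y))
  rw [← inv_mem_iff, commutatorElement_inv]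
  exact (K y x).2 (h.gen T (fun e he he1 x hx => (K y x).1 (h.comm hf hf1 he he1 hy.2 hx.2)) (mem_top x))

theorem commutator_le : commutator W ≤ zpowers z := by
  rw [commutator_def, Subgroup.commutator_le]
  exact fun x _ y _ => h.comm_all x y

theorem sq_all (x : W) : x ^ 2 ∈ zpowers z := by
  haveI := h.normalZ
  let M : Subgroup W :=
    { carrier := {x | x * x ∈ zpowers z}
      one_mem' := by simp
      mul_mem' := fun {a b} ha hb => by
        have e : a * b * (a * b) = a * a * (⁅a⁻¹, b⁆ * (b * b)) := by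
          rw [commutatorElement_def]; group
        exact show a * b * (a * b) ∈ _ from e ▸ mul_mem ha (mul_mem (h.comm_all _ _) hb)
      inv_mem' := fun {a} ha => by
        have := inv_mem (show a * a ∈ zpowers z from ha)
        rwa [mul_inv_rev] at this }
  rw [pow_two]
  exact h.gen (X := ⊤) (M := M) (fun _ _ _ _ => mem_top _) (fun e he h1 x hx => h.sq he h1 hx.2) (mem_top x)

theorem center_eq : center W = zpowers z := by
  refine le_antisymm ?_ h.Z_le_center
  by_contra hn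
  obtain ⟨g, hg, h1⟩ := h.exists_le (Y := center W) (fun e _ x hx => mem_center_iff.2 fun y => by
    have := congrArg e (mem_center_iff.1 hx (e⁻¹ y))
    simpa only [map_mul, MulAut.apply_inv_self] using this) h.Z_le_center hn
  exact hg.noncomm (h1.trans (center_le_centralizer _))

theorem commutator_eq : commutator W = zpowers z := by
  obtain ⟨e, he⟩ := h.exists_B
  refine eq_of_le_of_card_ge h.commutator_le ?_
  rw [h.cardZ]
  refine (one_lt_card_iff_ne_bot _).2 fun h1 => he.noncomm fun x _ y _ => ?_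
  have : ⁅y, x⁆ ∈ commutator W := commutator_mem_commutator (mem_top _) (mem_top _)
  rw [h1, mem_bot] at this
  exact commutatorElement_eq_one_iff_mul_comm.1 this

theorem extraspecial : Cfsg.IsExtraspecial 2 W := by
  refine ⟨⟨h.hW, ?_, h.commutator_eq.trans h.center_eq.symm⟩, h.center_eq ▸ h.cardZ⟩
  rw [h.center_eq]
  exact le_antisymm (H5.frattini_le_of_commutator_le_of_pow_mem h.commutator_le h.sq_all)
    (h.commutator_eq.ge.trans (H5.commutator_le_frattini h.hW))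

theorem card_sup {X : Subgroup W} (hX : Inv E X) (hZ : zpowers z ≤ X) {e : MulAut W} (he : e ∈ E)
    (h1 : e ≠ 1) : X ⊔ Q e = X ∨ (¬ Q e ≤ X ∧ Nat.card ↥(X ⊔ Q e) = 4 * Nat.card X) := by
  by_cases h2 : Q e ≤ X
  · exact Or.inl (sup_eq_left.2 h2)
  refine Or.inr ⟨h2, ?_⟩
  have hB := (h.typ' he h1).resolve_left fun h3 => h2 (h3.le.trans hZ)
  have h3 := (h.irr hB (hX.inf (h.inv_Q he)) (le_inf hZ (h.fZ he)) inf_le_right).resolve_right
    fun h3 => h2 (h3.ge.trans inf_le_left)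
  haveI : X.Normal := Subgroup.Normal.of_commutator_le _ (h.commutator_le.trans hZ)
  have h4 : X.relIndex (X ⊔ Q e) = 4 := by
    rw [relIndex_sup_left, ← inf_relIndex_right, h3]
    have := relIndex_mul_card_of_le (h.fZ he)
    rw [h.cardZ, hB.card] at this
    omega
  rw [← h4, relIndex_mul_card_of_le (le_sup_left : X ≤ X ⊔ Q e)]

theorem exists_two : ∃ a b, B E a ∧ B E b ∧ Q a ≠ Q b := by
  obtain ⟨a, ha⟩ := h.exists_B
  by_contra hn
  push Not at hn
  have h1 : (⊤ : Subgroup W) ≤ Q a := h.gen (fun _ _ _ _ => mem_top _) fun e he h1 => by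
    rcases h.typ' he h1 with h2 | h2
    · exact inf_le_right.trans (h2.le.trans (h.fZ ha.1))
    · exact inf_le_right.trans (hn a e ha h2).ge
  exact ha.2.1 (by ext x; exact h1 (mem_top x))

theorem ker_inf {a b : MulAut W} (ha : B E a) (hb : B E b) (hne : Q a ≠ Q b) :
    (res (h.inv_Q ha.1)).ker ⊓ (res (h.inv_Q hb.1)).ker = ⊥ := by
  refine eq_bot_iff.2 fun e he => mem_bot.2 (Subtype.ext ?_)
  by_contra h1
  have l1 : Q a ≤ Q e.1 := (mem_ker_res _).1 he.1
  have l2 : Q b ≤ Q e.1 := (mem_ker_res _).1 he.2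
  have hB := (h.typ' e.2 h1).resolve_left fun h3 => ha.noncomm ((l1.trans h3.le).trans (h.Z_le_cent _))
  exact hne ((eq_of_le_of_card_ge l1 (by rw [ha.card, hB.card])).trans
    (eq_of_le_of_card_ge l2 (by rw [hb.card, hB.card])).symm)

theorem card_E : Nat.card E = 9 := by
  obtain ⟨a, b, ha, hb, hne⟩ := h.exists_two
  have h1 := index_inf_le (H := (res (h.inv_Q ha.1)).ker) (K := (res (h.inv_Q hb.1)).ker)
  rw [h.ker_inf ha hb hne, index_bot, h.index_ker ha, h.index_ker hb] at h1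
  haveI := Fact.mk h.pp
  obtain ⟨k, hk⟩ := IsPGroup.iff_card.1 h.hE
  have h2 : 3 ∣ Nat.card E := h.index_ker ha ▸ index_dvd_card _
  have h3 : p = 3 := ((Nat.prime_dvd_prime_iff_eq Nat.prime_three h.pp).1
    (Nat.prime_three.dvd_of_dvd_pow (hk ▸ h2))).symm
  subst h3
  have h4 : k ≤ 2 := by
    by_contra h5
    have := Nat.pow_le_pow_right (by norm_num : 0 < 3) (show 3 ≤ k by omega)
    omega
  interval_cases k
  · rw [hk] at h2; exact absurd h2 (by norm_num)
  · exact absurd (isCyclic_of_prime_card (p := 3) (by simpa using hk)) h.hnc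
  · exact hk

theorem card_W : Nat.card W = 2 ^ 5 ∨ Nat.card W = 2 ^ 7 ∨ Nat.card W = 2 ^ 9 := by
  obtain ⟨a, b, ha, hb, hne⟩ := h.exists_two
  have hk := h.ker_inf ha hb hne
  set A := (res (h.inv_Q ha.1)).ker with hA
  set A' := (res (h.inv_Q hb.1)).ker with hA'
  have cA : Nat.card A = 3 := by
    have := A.index_mul_card
    rw [h.index_ker ha, h.card_E] at this
    omega
  have cA' : Nat.card A' = 3 := by
    have := A'.index_mul_card
    rw [h.index_ker hb, h.card_E] at this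
    omega
  let α : E := ⟨a, ha.1⟩
  let β : E := ⟨b, hb.1⟩
  have α1 : α ≠ 1 := fun e => ha.2.1 (congrArg Subtype.val e)
  have β1 : β ≠ 1 := fun e => hb.2.1 (congrArg Subtype.val e)
  have αA : α ∈ A := (mem_ker_res _).2 fun x hx => hx
  have βA : β ∈ A' := (mem_ker_res _).2 fun x hx => hx
  haveI := Fact.mk Nat.prime_three
  have oα : orderOf α = 3 := ((Nat.dvd_prime Nat.prime_three).1
    (cA ▸ A.orderOf_dvd_natCard αA)).resolve_left (by simpa using α1)
  have oβ : orderOf β = 3 := ((Nat.dvd_prime Nat.prime_three).1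
    (cA' ▸ A'.orderOf_dvd_natCard βA)).resolve_left (by simpa using β1)
  have inj : Function.Injective fun ij : Fin 3 × Fin 3 => α ^ ij.1.1 * β ^ ij.2.1 := by
    rintro ⟨i, j⟩ ⟨i', j'⟩ e
    simp only at e
    have e1 : (α ^ i'.1)⁻¹ * α ^ i.1 = β ^ j'.1 * (β ^ j.1)⁻¹ := by
      rw [inv_mul_eq_iff_eq_mul, ← mul_assoc, ← e, mul_inv_cancel_right]
    have m : (α ^ i'.1)⁻¹ * α ^ i.1 ∈ A ⊓ A' :=
      ⟨A.mul_mem (A.inv_mem (A.pow_mem αA _)) (A.pow_mem αA _),
        e1 ▸ A'.mul_mem (A'.pow_mem βA _) (A'.inv_mem (A'.pow_mem βA _))⟩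
    rw [hk, mem_bot] at m
    have m' := e1 ▸ m
    rw [inv_mul_eq_one] at m
    rw [mul_inv_eq_one] at m'
    exact Prod.ext (Fin.ext (pow_injOn_Iio_orderOf (by rw [oα]; exact i'.2) (by rw [oα]; exact i.2) m).symm)
      (Fin.ext (pow_injOn_Iio_orderOf (by rw [oβ]; exact j'.2) (by rw [oβ]; exact j.2) m').symm)
  have surj := (Nat.bijective_iff_injective_and_card _).2 ⟨inj, by rw [h.card_E]; simp⟩ |>.2
  have c : α * β = β * α := h.hab.is_comm.comm _ _
  have a3 : α ^ 3 = 1 := oα ▸ pow_orderOf_eq_one α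
  have b3 : β ^ 3 = 1 := oβ ▸ pow_orderOf_eq_one β
  have P : ∀ (e f : E) (k : ℕ), e ^ k = f → Q e.1 ≤ Q f.1 := fun e f k hk x hx => by
    rw [← hk, mem_Q, Subgroup.coe_pow]
    clear hk
    induction k with
    | zero => rfl
    | succ k ih => rw [pow_succ, MulAut.mul_apply, mem_Q.1 hx, ih]
  have n1 : α * β ≠ 1 := fun e => by
    have := @inj (1, 1) (0, 0) (by simpa using e)
    simp at this
  have n2 : α * β ^ 2 ≠ 1 := fun e => by
    have := @inj (1, 2) (0, 0) (by simpa using e)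
    simp at this
  have cc : Commute α β := c
  have top : (⊤ : Subgroup W) ≤ Q a ⊔ Q b ⊔ Q (α * β).1 ⊔ Q (α * β ^ 2).1 := by
    refine h.gen (fun _ _ _ _ => mem_top _) fun e he h1 => inf_le_right.trans ?_
    obtain ⟨⟨i, j⟩, hij⟩ := surj ⟨e, he⟩
    have l1 : Q a ≤ Q a ⊔ Q b ⊔ Q (α * β).1 ⊔ Q (α * β ^ 2).1 :=
      le_sup_left.trans (le_sup_left.trans le_sup_left)
    have l2 : Q b ≤ Q a ⊔ Q b ⊔ Q (α * β).1 ⊔ Q (α * β ^ 2).1 :=
      le_sup_right.trans (le_sup_left.trans le_sup_left)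
    have l3 : Q (α * β).1 ≤ Q a ⊔ Q b ⊔ Q (α * β).1 ⊔ Q (α * β ^ 2).1 := le_sup_right.trans le_sup_left
    have l4 : Q (α * β ^ 2).1 ≤ Q a ⊔ Q b ⊔ Q (α * β).1 ⊔ Q (α * β ^ 2).1 := le_sup_right
    have a4 : (α ^ 2) ^ 2 = α := by rw [← pow_mul, show 2 * 2 = 3 + 1 from rfl, pow_succ, a3, one_mul]
    have b4 : (β ^ 2) ^ 2 = β := by rw [← pow_mul, show 2 * 2 = 3 + 1 from rfl, pow_succ, b3, one_mul]
    fin_cases i <;> fin_cases j <;> simp only [pow_zero, pow_one, one_mul, mul_one] at hij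
    · exact absurd (congrArg Subtype.val hij).symm h1
    · exact (P ⟨e, he⟩ β 1 (by rw [← hij, pow_one])).trans l2
    · exact (P ⟨e, he⟩ β 2 (by rw [← hij, b4])).trans l2
    · exact (P ⟨e, he⟩ α 1 (by rw [← hij, pow_one])).trans l1
    · exact (P ⟨e, he⟩ _ 1 (by rw [← hij, pow_one])).trans l3
    · exact (P ⟨e, he⟩ _ 1 (by rw [← hij, pow_one])).trans l4
    · exact (P ⟨e, he⟩ α 2 (by rw [← hij, a4])).trans l1
    · exact (P ⟨e, he⟩ _ 2 (by rw [← hij, (cc.pow_left 2).mul_pow, a4])).trans l4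
    · exact (P ⟨e, he⟩ _ 2 (by rw [← hij, (cc.pow_pow 2 2).mul_pow, a4, b4])).trans l3
  have ia := h.inv_Q ha.1
  have ib := h.inv_Q hb.1
  have c1 : Nat.card ↥(Q a ⊔ Q b) = 32 := by
    rcases h.card_sup ia (h.fZ ha.1) hb.1 hb.2.1 with h1 | h1
    · exact absurd (eq_of_le_of_card_ge (sup_eq_left.1 h1) (by rw [ha.card, hb.card])).symm hne
    · rw [h1.2, ha.card]
  have z1 : zpowers z ≤ Q a ⊔ Q b := (h.fZ ha.1).trans le_sup_left
  have c2 := h.card_sup (ia.sup ib) z1 (α * β).2 (fun e => n1 (Subtype.ext e))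
  have c3 := h.card_sup ((ia.sup ib).sup (h.inv_Q (α * β).2)) (z1.trans le_sup_left) (α * β ^ 2).2
    (fun e => n2 (Subtype.ext e))
  have c4 : Nat.card W = Nat.card ↥(Q a ⊔ Q b ⊔ Q (α * β).1 ⊔ Q (α * β ^ 2).1) := by
    rw [top_le_iff.1 top, card_top]
  have c2' : Nat.card ↥(Q a ⊔ Q b ⊔ Q (α * β).1) = 32 ∨ Nat.card ↥(Q a ⊔ Q b ⊔ Q (α * β).1) = 128 := by
    rcases c2 with h1 | h1
    · left; rw [h1, c1]
    · right; rw [h1.2, c1]
  rcases c3 with h1 | h1
  · rw [c4, h1]; omega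
  · rw [c4, h1.2]; omega

end Hyp2

/-- Let p be an odd prime, W a finite 2-group and E a non-cyclic abelian p-subgroup of Aut(W) such that, for every nontrivial e ∈ E, the fixed points of e in W contain at most one involution. Then E has order 9, W is extraspecial of order 2⁵, 2⁷ or 2⁹, and the common fixed points of E in W form exactly the centre Z(W). -/
theorem result {W : Type*} [Group W] [Finite W] (hW : IsPGroup 2 W) {p : ℕ} [Fact p.Prime] (hp : p ≠ 2) (E : Subgroup (MulAut W)) (hE : IsPGroup p ↥E) (hab : IsMulCommutative ↥E) (hnc : ¬ IsCyclic ↥E) (hfix : ∀ e ∈ E, e ≠ 1 → ∀ x y : W, orderOf x = 2 → orderOf y = 2 → e x = x → e y = y → x = y) : Nat.card ↥E = 9 ∧ Cfsg.IsExtraspecial 2 W ∧ (Nat.card W = 2 ^ 5 ∨ Nat.card W = 2 ^ 7 ∨ Nat.card W = 2 ^ 9) ∧ {x : W | ∀ e ∈ E, e x = x} = (Subgroup.center W : Set W) := by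
  obtain ⟨z, h⟩ := Hyp.exists_z (p := p) (E := E) ⟨hW, Fact.out, hp, hE, hab, hnc, hfix⟩
  refine ⟨h.card_E, h.extraspecial, h.card_W, ?_⟩
  rw [h.center_eq, ← h.fix_eq]
  ext x
  exact ⟨fun hx b _ => hx b b.2, fun hx e he => hx ⟨e, he⟩ (mem_top _)⟩

end Cfsg.Agent.S2934
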