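import Cfsg.Statements.S0996
import Mathlib
import Cfsg.Agent.Base
import Cfsg.Agent.Lib.Block.Br43d

set_option autoImplicit false
open Cfsg

namespace Cfsg.Agent.S0996

/-- Let G be a finite perfect group containing an element z of prime order p whose centralizer is the cyclic group it generates, and suppose the number 1 + n * p of Sylow p-subgroups satisfies n < (p + 3) / 2. Then p > 3 and G is isomorphic to the projective special linear group of dimension 2 over the field with p elements, or p - 1 is a power of 2 and G is isomorphic to that group over the field with p - 1 elements. -/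
theorem result {G : Type*} [Group G] [Finite G] (hperf : commutator G = ⊤) (p : ℕ) [Fact p.Prime] (z : G) (hz : orderOf z = p) (hC : Subgroup.centralizer ({z} : Set G) = Subgroup.zpowers z) (hn : 2 * Nat.card (Sylow p G) < (p + 1) * (p + 2)) : (∃ (F : Type) (_ : Field F) (_ : Fintype F), Fintype.card F = p ∧ 3 < p ∧ Nonempty (G ≃* Matrix.ProjectiveSpecialLinearGroup (Fin 2) F)) ∨ (∃ (m : ℕ) (F : Type) (_ : Field F) (_ : Fintype F), Fintype.card F = 2 ^ m ∧ p = 2 ^ m + 1 ∧ 3 < p ∧ Nonempty (G ≃* Matrix.ProjectiveSpecialLinearGroup (Fin 2) F)) := by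
  have hp : p.Prime := Fact.out
  have h : H84.SC p z := ⟨hz, hC⟩
  obtain ⟨S, hS⟩ := H84.exists_sylow_eq h.card h.ind
  have h2 : Nat.card (Sylow p G) = (H86.Nor (Subgroup.zpowers z)).index :=
    hS ▸ S.card_eq_index_normalizer
  have h3 : Nat.card (Sylow p G) % p = 1 :=
    Eq.trans (card_sylow_modEq_one p G) (Nat.mod_eq_of_lt hp.one_lt)
  have h4 := Nat.mod_add_div' (Nat.card (Sylow p G)) p
  rw [h3] at h4
  generalize Nat.card (Sylow p G) / p = n at h4
  obtain ⟨h5, h6⟩ := H84.div_of_not_rep (p := p) (n := n) (by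
    rintro ⟨h, u, hh, hu, e⟩
    have h5 : 2 * n < p + 3 := Nat.lt_of_mul_lt_mul_right (a := p) (by nlinarith)
    have h6 : 1 * (u * p) ≤ h * (u * p) := by gcongr; omega
    have h7 : 1 * p ≤ u * p := by gcongr; omega
    have h8 : (2 * n + 1) * (u + 1) ≤ (p + 3) * (u + 1) := Nat.mul_le_mul_right _ h5
    nlinarith)
  refine (H84.br43_core hperf h.card h.ind (fun K _ hK => ?_) (h2.symm.trans h4.symm) h5 h6).imp
    id ?_
  · by_contra h7
    have h8 := h.card_mul_index_sup hK
    have h9 := h.card_mod hK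
    have big : ∀ k, k % p = 1 → k ≠ 1 → p + 1 ≤ k := fun k h1 h2 => by
      have := Nat.mod_add_div k p
      rcases Nat.eq_zero_or_pos (k / p) with h | h
      · rw [h] at this; omega
      · have := Nat.le_mul_of_pos_right p h; omega
    rw [← h2] at h8
    have h10 := Nat.mul_le_mul (big _ h9 fun h => h7 (Subgroup.card_eq_one.1 h))
      (big (H86.Nor (Subgroup.zpowers z) ⊔ K).index (by
        rwa [← h8, Nat.mul_mod, h9, one_mul, Nat.mod_mod] at h3) fun h1 => ?_)
    · nlinarith
    rw [Subgroup.index_eq_one, sup_comm] at h1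
    have h11 : ∀ A B : Subgroup G, K ⊔ A = ⊤ → ⁅A, A⁆ ≤ B → K ⊔ B = ⊤ := fun A B hA hB => by
      rw [eq_top_iff, ← hperf, commutator_def, ← hA]
      exact (H45.der_sup_le (by rw [Subgroup.normalizer_eq_top]; exact le_top)).trans
        (sup_le_sup_left hB _)
    have h12 := h11 _ ⊥ (h11 _ (Subgroup.zpowers z) h1 (Subgroup.commutator_le.2 fun a ha b hb =>
      h.Cen_eq.le (H84.commutator_mem_Cen h.card h.ind ha hb)))
      (Subgroup.commutator_eq_bot_iff_le_centralizer.2 (H84.le_Cen_of_card h.card)).le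
    rw [sup_bot_eq] at h12
    exact hK (h.dvd_of_mem (h12 ▸ Subgroup.mem_top z))
  · rintro ⟨m, F, _, _, hF, hm, h3, ⟨f⟩⟩
    refine ⟨m, F, _, _, hF, hm, h3, ⟨f.trans (H64.SL2.projEquiv ?_)⟩⟩
    have := FiniteField.cast_card_eq_zero F
    rw [hF, Nat.cast_pow, Nat.cast_ofNat] at this
    exact (pow_eq_zero_iff'.1 this).1

end Cfsg.Agent.S0996
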