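import Mathlib
import Cfsg.Statements.S4123
import Cfsg.Agent.Lib.NilF.Act
import Cfsg.Agent.S0042

set_option autoImplicit false
open Cfsg

namespace Cfsg.Agent.S4123

/-- Let the finite group A act faithfully on the finite group G by automorphisms, A a Frobenius group with kernel F and complement H such that F fixes only the identity of G. Then for every prime p there is exactly one A-invariant Sylow p-subgroup of G. -/
theorem result {G A : Type*} [Group G] [Finite G] [Group A] [Finite A] [MulDistribMulAction A G] [FaithfulSMul A G]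
    (Fk Hc : Subgroup A) [Fk.Normal] (hHc : Cfsg.IsFrobeniusComplement Hc) (hker : Cfsg.frobeniusKernel Hc = (Fk : Set A))
    (hCF : ∀ g : G, (∀ f ∈ Fk, f • g = g) → g = 1) (p : ℕ) [Fact p.Prime] : ∃! P : Sylow p G, ∀ (a : A) (x : G), x ∈ (P : Subgroup G) → a • x ∈ (P : Subgroup G) := by
  obtain ⟨N, hN, -, hNn⟩ := Cfsg.Agent.S0042.result Hc hHc
  obtain rfl : N = Fk := SetLike.coe_injective (hN.trans hker)
  let φ : N →* MulAut G := (MulDistribMulAction.toMulAut A G).comp N.subtype
  have hf : ∀ g : G, (∀ a, φ a g = g) → g = 1 := fun g h => hCF g (fun f hf => h ⟨f, hf⟩)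
  obtain ⟨P, hP⟩ := H2.NF.exists_sylow φ hNn hf p
  refine ⟨P, fun a x hx => ?_, fun Q hQ => H2.NF.sylow_unique φ hNn hf hP (fun a => hQ a)⟩
  have e : MulDistribMulAction.toMulAut A G a • P = P :=
    H2.NF.sylow_unique φ hNn hf hP (by
      rintro f _ ⟨y, hy, rfl⟩
      refine ⟨_, hP ⟨a⁻¹ * f * a, (inferInstance : N.Normal).conj_mem' _ f.2 a⟩ y hy, ?_⟩
      change a • (a⁻¹ * f * a) • y = (f : A) • a • y
      rw [← mul_smul, ← mul_smul, ← mul_assoc, mul_inv_cancel_left])
  rw [← e]
  exact ⟨x, hx, rfl⟩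

end Cfsg.Agent.S4123
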