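import Mathlib
import Cfsg.Statements.S1233
import Cfsg.Agent.Lib.FGS83.MacG
import Cfsg.Agent.Lib.Core.CoprimeBasic

set_option autoImplicit false
open Cfsg

namespace Cfsg.Agent.S1233


open Subgroup H83 H83.Mac

abbrev Q8 := QuaternionGroup 2
abbrev R := Q8 × Q8
def i : Q8 := .a 1
def j : Q8 := .xa 0
def z : Q8 := .a 2
def Eq' (r s : R) : Prop := r = s ∨ r = s * (z, z)
def Rl {G : Type*} [Group G] (a b : G) : Prop := a = b ∨ a = b⁻¹
def InA (r : R) : Prop := r.1 = r.2 ∨ r.1 = r.2 * z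
instance (r s : R) : Decidable (Eq' r s) := inferInstanceAs (Decidable (_ ∨ _))
instance (r : R) : Decidable (InA r) := inferInstanceAs (Decidable (_ ∨ _))

theorem Rl.step {G : Type*} [Group G] {g h a b c : G} (h1 : Rl (g * a * g⁻¹) b)
    (h2 : Rl (h * b * h⁻¹) c) : Rl (h * g * a * (h * g)⁻¹) c := by
  have : h * g * a * (h * g)⁻¹ = h * (g * a * g⁻¹) * h⁻¹ := by group
  rw [this]
  rcases h1 with e | e <;> rw [e]
  · exact h2
  · rw [← conj_inv]
    rcases h2 with e | e <;> rw [e]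
    exacts [Or.inr rfl, Or.inl (inv_inv _)]

theorem Rl.back {G : Type*} [Group G] {g a b : G} (h1 : Rl (g * a * g⁻¹) b) :
    Rl (g⁻¹ * b * g⁻¹⁻¹) a := by
  rcases h1 with e | e
  · left; rw [← e]; group
  · right; rw [← inv_inv b, ← e]; group

theorem cyc3 {G : Type*} [Group G] (n : ℕ) : ∀ g a b c : G, g ^ 2 ^ n = 1 → Rl (g * a * g⁻¹) b →
    Rl (g * b * g⁻¹) c → Rl (g * c * g⁻¹) a → Rl a b ∨ Rl a c := by
  induction n with
  | zero => intro g a b c e h1 _ _; left; simpa [show g = 1 by simpa using e] using h1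
  | succ n ih =>
    intro g a b c e h1 h2 h3
    exact (ih (g * g) a c b (by rw [← pow_two, ← pow_mul, ← pow_succ']; exact e) (h1.step h2)
      (h3.step h1) (h2.step h3)).symm

def A0 : Subgroup R where
  carrier := {r | InA r}
  mul_mem' := fun {x y} => by revert x y; simp only [Set.mem_setOf_eq]; decide +kernel
  one_mem' := Or.inl rfl
  inv_mem' := fun {x} => by revert x; simp only [Set.mem_setOf_eq]; decide +kernel

theorem a_norm : ∀ r, InA r → ∀ g : R, InA (g * r * g⁻¹) := by decide +kernel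
theorem a_sq : ∀ r, InA r → Eq' (r * r) 1 := by decide +kernel
theorem a_fix : ∀ r, InA r → ∀ s, InA s → Eq' (r * s * r⁻¹) s := by decide +kernel
theorem a_mem : ∀ r : R, Eq' (r * (i, i) * r⁻¹) (i, i) → Eq' (r * (j, j) * r⁻¹) (j, j) → InA r := by
  decide +kernel
theorem a_card : Nat.card A0 = 16 := by
  rw [show Nat.card A0 = Nat.card {r : R // InA r} from rfl, Nat.card_eq_fintype_card]; decide +kernel
theorem q_gen : ∀ a : Q8, ∃ m : Fin 4, ∃ n : Fin 2, a = i ^ m.val * j ^ n.val := by decide +kernel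
set_option synthInstance.maxSize 2000 in
theorem a_main : ∀ a, InA a → Eq' (a * (i, 1) * (a * (i, 1))) (z, 1) → ∀ b, InA b →
    Eq' (b * (j, 1) * (b * (j, 1))) (z, 1) →
    ¬ Eq' (a * (i, 1) * (b * (j, 1))) (b * (j, 1) * (a * (i, 1))) →
    ((Eq' (a * (i, 1)) (1, i) ∨ Eq' (a * (i, 1)) (1, i)⁻¹) ∧
      (Eq' (b * (j, 1)) (1, j) ∨ Eq' (b * (j, 1)) (1, j)⁻¹) ∧
      (Eq' (a * (i, 1) * (b * (j, 1))) (1, i * j) ∨ Eq' (a * (i, 1) * (b * (j, 1))) (1, i * j)⁻¹)) ∨
    ∃ c : Q8, Eq' ((c, c) * (i, 1) * (c, c)⁻¹) (a * (i, 1)) ∧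
      Eq' ((c, c) * (j, 1) * (c, c)⁻¹) (b * (j, 1)) := by
  decide +kernel

theorem swap {S : Type*} [Group S] [Finite S] (hS : IsPGroup 2 S) (f : R →* S)
    (hk : ∀ r s, f r = f s ↔ Eq' r s) (hC : ∀ s, (∀ r, s * f r * s⁻¹ = f r) → s ∈ f.range) :
    SR 4 S ∨ ∃ x, Rl (x * f (i, 1) * x⁻¹) (f (1, i)) ∧ Rl (x * f (j, 1) * x⁻¹) (f (1, j)) ∧
      Rl (x * f (i * j, 1) * x⁻¹) (f (1, i * j)) := by
  set A := A0.map f
  by_cases hA : centralizer (A : Set S) ≤ A
  · refine Or.inl (harada hS (A := A) ⟨?_, ?_, fun s hs => hA (mem_centralizer_iff.2 fun a ha =>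
      conj_eq_iff.1 (hs a ha)), ?_⟩)
    · rintro _ ⟨r, hr, rfl⟩
      rw [← map_mul, (hk _ _).2 (a_sq r hr), map_one]
    · rintro _ ⟨r, hr, rfl⟩ _ ⟨s, hs, rfl⟩
      rw [← map_inv, ← map_mul, ← map_mul, (hk _ _).2 (a_fix r hr s hs)]
    · have e1 := H3.relIndex_mul_card_inf f.ker A0
      have e2 : ((f.ker ⊓ A0 : Subgroup R) : Set R) = {1, (z, z)} := by
        ext r
        have := hk r 1
        rw [map_one, Eq', one_mul] at this
        refine ⟨fun h => this.1 h.1, fun h => ⟨this.2 h, ?_⟩⟩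
        rcases h with rfl | rfl
        exacts [Or.inl rfl, Or.inl rfl]
      rw [relIndex_ker, a_card, card_eq_ncard (_ ⊓ _), e2, Set.ncard_pair (by decide)] at e1
      change Nat.card (A0.map f) = 8
      omega
  right
  obtain ⟨x, hx, hxA, -, h1⟩ := H5.exists_step_of_le (P := normalizer (A : Set S))
    (hS.to_subgroup _) A (centralizer_le_normalizer _) (H2.le_normalizer_centralizer le_rfl) hA
  have h2 : ∀ r, ∃ a, InA a ∧ x * f r * x⁻¹ = f (a * r) := fun r => by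
    obtain ⟨a, ha, e⟩ := h1 (f r) (mem_normalizer_fintype (by
      rintro _ ⟨s, hs, rfl⟩
      exact ⟨_, a_norm s hs r, by simp⟩))
    exact ⟨a, ha, by rw [map_mul, e, commutatorElement_def]; group⟩
  have h3 : ∀ r, InA r → x * f r * x⁻¹ = f r := fun r hr =>
    conj_eq_iff.2 (mem_centralizer_iff.1 hx _ ⟨r, hr, rfl⟩).symm
  have h4 : ∀ r s, x * f (r * s) * x⁻¹ = x * f r * x⁻¹ * (x * f s * x⁻¹) := fun r s => by
    rw [map_mul]; group
  obtain ⟨a, ha, ea⟩ := h2 (i, 1)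
  obtain ⟨b, hb, eb⟩ := h2 (j, 1)
  have h5 : ∀ {r s}, Eq' r s ∨ Eq' r s⁻¹ → Rl (f r) (f s) := fun h =>
    h.imp (hk _ _).2 fun e => ((hk _ _).2 e).trans (map_inv _ _)
  rcases a_main a ha ((hk _ _).1 (by rw [map_mul, ← ea, ← h4]; exact h3 _ (by decide))) b hb
    ((hk _ _).1 (by rw [map_mul, ← eb, ← h4]; exact h3 _ (by decide))) (fun e => by
      have := (hk _ _).2 e
      rw [map_mul, map_mul f (b * _), ← ea, ← eb, ← h4, ← h4, mul_left_inj, mul_right_inj, hk] at this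
      exact absurd this (by decide)) with ⟨e1, e2, e3⟩ | ⟨c, e1, e2⟩
  · refine ⟨x, ea ▸ h5 e1, eb ▸ h5 e2, ?_⟩
    have := h5 e3
    rwa [map_mul, ← ea, ← eb, ← h4] at this
  · exfalso
    have hc : InA (c, c) := Or.inl rfl
    have h6 : ∀ r s, Eq' ((c, c) * r * (c, c)⁻¹) s → x * f r * x⁻¹ = f s →
        r ∈ (centralizer {(f (c, c))⁻¹ * x}).comap f := fun r s e e' => by
      have := (hk _ _).2 e
      rw [map_mul, map_mul, map_inv, ← e'] at this
      refine mem_centralizer_singleton_iff.2 ?_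
      calc f r * ((f (c, c))⁻¹ * x) = (f (c, c))⁻¹ * (f (c, c) * f r * (f (c, c))⁻¹) * x := by group
        _ = _ := by rw [this]; group
    have g1 := h6 _ _ e1 ea
    have g2 := h6 _ _ e2 eb
    have g3 := mul_mem (inv_mem g1) (h6 (i, i) _ (a_fix _ hc _ (Or.inl rfl)) (h3 _ (Or.inl rfl)))
    have g4 := mul_mem (inv_mem g2) (h6 (j, j) _ (a_fix _ hc _ (Or.inl rfl)) (h3 _ (Or.inl rfl)))
    obtain ⟨r, hr⟩ := mul_mem (show f (c, c) ∈ f.range from ⟨_, rfl⟩) (hC ((f (c, c))⁻¹ * x) fun r => by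
      obtain ⟨m, n, e⟩ := q_gen r.1
      obtain ⟨m', n', e'⟩ := q_gen r.2
      have := mul_mem (mul_mem (pow_mem g1 m) (pow_mem g2 n)) (mul_mem (pow_mem g3 m') (pow_mem g4 n'))
      simp only [Prod.pow_mk, Prod.mk_mul_mk, Prod.inv_mk, inv_mul_cancel, inv_one, one_mul, one_pow,
        mul_one, ← e, ← e'] at this
      exact conj_eq_iff.2 (mem_centralizer_singleton_iff.1 this).symm)
    rw [mul_inv_cancel_left] at hr
    subst hr
    exact hxA ⟨r, a_mem r ((hk _ _).1 (by simpa using h3 (i, i) (Or.inl rfl)))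
      ((hk _ _).1 (by simpa using h3 (j, j) (Or.inl rfl))), rfl⟩

def th0 : Q8 → Q8
  | .a m => j ^ m.val
  | .xa m => i * j * j ^ m.val

def th : R →* R := MonoidHom.mk' (fun r => (r.1, th0 r.2)) fun a b => Prod.ext rfl
  ((by decide +kernel : ∀ x y : Q8, th0 (x * y) = th0 x * th0 y) a.2 b.2)

theorem th_eq : ∀ r s, Eq' (th r) (th s) ↔ Eq' r s := by decide +kernel
theorem th_surj : ∀ r, ∃ s, th s = r := by decide +kernel
theorem q_cen : ∀ a : Q8, (∀ b, a * b = b * a) → a = 1 ∨ a = z := by decide +kernel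


/-- Let S be a finite 2-group and Q a subgroup of order 32 generated by two elementwise-commuting subgroups Q₁, Q₂ each isomorphic to the quaternion group of order 8 (so Q = Q₁ ∗ Q₂). If C_S(Q) ≤ Q, then every section of S has 2-rank at most 4. -/
theorem result {S : Type*} [Group S] [Finite S] (hS : IsPGroup 2 S) (Q Q₁ Q₂ : Subgroup S) (e₁ : Q₁ ≃* QuaternionGroup 2) (e₂ : Q₂ ≃* QuaternionGroup 2) (hcomm : ∀ a ∈ Q₁, ∀ b ∈ Q₂, a * b = b * a) (hQ : Q₁ ⊔ Q₂ = Q) (hQ32 : Nat.card Q = 32) (hC : Subgroup.centralizer (Q : Set S) ≤ Q) : Cfsg.SectionalPRankLE 2 4 S := by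
  let f₁ : Q8 →* S := Q₁.subtype.comp e₁.symm.toMonoidHom
  let f₂ : Q8 →* S := Q₂.subtype.comp e₂.symm.toMonoidHom
  have i₁ : Function.Injective f₁ := Q₁.subtype_injective.comp e₁.symm.injective
  have i₂ : Function.Injective f₂ := Q₂.subtype_injective.comp e₂.symm.injective
  have hc : ∀ a b, Commute (f₁ a) (f₂ b) := fun a b => hcomm _ (e₁.symm a).2 _ (e₂.symm b).2
  let f : R →* S := f₁.noncommCoprod f₂ hc
  have hf : ∀ a b, f (a, b) = f₁ a * f₂ b := fun _ _ => rfl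
  have hr : f.range = Q := by
    rw [← hQ]
    refine le_antisymm ?_ (sup_le (fun x hx => ⟨(e₁ ⟨x, hx⟩, 1), by simp [hf, f₁]⟩)
      fun x hx => ⟨(1, e₂ ⟨x, hx⟩), by simp [hf, f₂]⟩)
    rintro _ ⟨⟨a, b⟩, rfl⟩
    exact mul_mem (mem_sup_left (e₁.symm a).2) (mem_sup_right (e₂.symm b).2)
  have h1 : ∀ r, f r = 1 → r = 1 ∨ r = (z, z) := by
    rintro ⟨a, b⟩ e
    rw [hf, mul_eq_one_iff_eq_inv] at e
    have ha := q_cen a fun c => i₁ (by rw [map_mul, map_mul, e]; exact (hc c b).inv_right.symm.eq)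
    have hb := q_cen b fun c => i₂ (by
      rw [map_mul, map_mul, ← inv_inv (f₂ b), ← e]; exact (hc a c).inv_left.eq)
    rcases ha with rfl | rfl <;> rcases hb with rfl | rfl
    · exact Or.inl rfl
    · rw [map_one, eq_comm, inv_eq_one, ← map_one f₂] at e; exact absurd (i₂ e) (by decide)
    · rw [map_one, inv_one, ← map_one f₁] at e; exact absurd (i₁ e) (by decide)
    · exact Or.inr rfl
  have h2 : f (z, z) = 1 := by
    by_contra e
    have : f.ker = ⊥ := eq_bot_iff.2 fun r hr => (h1 r hr).resolve_right fun e1 => e (e1 ▸ hr)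
    have e1 := f.ker.index_mul_card
    rw [index_ker, hr, hQ32, this] at e1
    simp [QuaternionGroup.card] at e1
  have hk : ∀ r s, f r = f s ↔ Eq' r s := fun r s => ⟨fun e => by
    rcases h1 (s⁻¹ * r) (by rw [map_mul, map_inv, e, inv_mul_cancel]) with e1 | e1
    · exact Or.inl (inv_mul_eq_one.1 e1).symm
    · exact Or.inr (inv_mul_eq_iff_eq_mul.1 e1), fun e => by
    rcases e with rfl | rfl
    · rfl
    · rw [map_mul, h2, mul_one]⟩
  have hC' : ∀ s, (∀ r, s * f r * s⁻¹ = f r) → s ∈ f.range := fun s hs => by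
    rw [hr]
    refine hC (mem_centralizer_iff.2 fun q hq => ?_)
    obtain ⟨r, rfl⟩ : q ∈ f.range := hr ▸ hq
    exact (conj_eq_iff.1 (hs r)).symm
  rcases swap hS f hk hC' with h | ⟨x, x1, x2, x3⟩
  · exact h.sectional
  rcases swap hS (f.comp th) (fun r s => (hk _ _).trans (th_eq r s)) (fun s hs => by
    obtain ⟨r, e⟩ := hC' s fun r => by obtain ⟨r', rfl⟩ := th_surj r; exact hs r'
    obtain ⟨r', rfl⟩ := th_surj r
    exact ⟨r', e⟩) with h | ⟨y, y1, y2, y3⟩
  · exact h.sectional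
  exfalso
  simp only [MonoidHom.comp_apply] at y1 y2 y3
  rw [show th (i, 1) = (i, 1) by decide, show th (1, i) = (1, j) by decide] at y1
  rw [show th (j, 1) = (j, 1) by decide, show th (1, j) = (1, i * j) by decide] at y2
  rw [show th (i * j, 1) = (i * j, 1) by decide, show th (1, i * j) = (1, i) by decide] at y3
  obtain ⟨n, hn⟩ := hS (y⁻¹ * x)
  have := cyc3 n _ _ _ _ hn (x1.step y3.back) (x3.step y2.back) (x2.step y1.back)
  simp only [Rl, ← map_inv, hk] at this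
  exact absurd this (by decide)

end Cfsg.Agent.S1233
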