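import Mathlib
import Cfsg.Agent.Lib.MonType.Std
import Cfsg.Agent.Lib.MonType.C7A
import Cfsg.Statements.S5416
-- import your own Cfsg.Agent.* helpers here

set_option autoImplicit false
open Cfsg

namespace Cfsg.Agent.S5416

open H15 H96.Geo.M24 in
theorem conj7 : ∃ k ∈ M24, permOf c7A * (k * permOf c7B) = k := by
  have k : inM24 971011494989733351745723063945477682 = true := by decide +kernel
  have e1 := permOf_mul_eq (okP_of_inM24 H95.in7A) (okP_mulP (okP_of_inM24 k)
    (show okP c7B = true by decide +kernel)) (c := 971011494989733351745723063945477682)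
    (by decide +kernel)
  rw [permOf_mulP (okP_of_inM24 k) (show okP c7B = true by decide +kernel)] at e1
  exact ⟨_, permOf_mem_M24 k, e1⟩

/-- Let G be a finite group of Monster type at the involution z with Q the extraspecial normal subgroup of order 2^25 of C = C_G(z) (so C/Q is identified with the first Conway group with Q modulo its centre the Leech lattice modulo 2, and z is not weakly closed in Q). Let s be a conjugate of z in Q other than z and let B be a Sylow 7-subgroup of the joint centralizer of z and s. Then the centralizer of B modulo B is a group of Held type (an involution whose centralizer D has generalized Fitting subgroup R extraspecial of order 2^7 with D/R isomorphic to SL(3, 2), exactly 29 of its conjugates lying in R, and the involution not weakly closed in R). -/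
theorem result {G : Type*} [Group G] [Finite G] (z : G) (Q : Subgroup (Subgroup.centralizer ({z} : Set G))) [Q.Normal] (hM : Cfsg.IsOfMonsterType z Q) (s : G) (hsQ : ∃ hsc : s ∈ Subgroup.centralizer ({z} : Set G), (⟨s, hsc⟩ : Subgroup.centralizer ({z} : Set G)) ∈ Q) (hs : IsConj z s) (hs1 : s ≠ z) (B : Subgroup G) (hB : B ≤ Subgroup.centralizer ({z, s} : Set G)) (hBp : Nat.card B = 7 ^ (Nat.card ↥(Subgroup.centralizer ({z, s} : Set G))).factorization 7) [hn : (B.subgroupOf (Subgroup.centralizer (B : Set G))).Normal] : Cfsg.IsOfHeldType (↥(Subgroup.centralizer (B : Set G)) ⧸ B.subgroupOf (Subgroup.centralizer (B : Set G))) := by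
  obtain ⟨hS, e, ψ, hψ⟩ := hM
  obtain ⟨Λ, h1, h2, h3⟩ := (H95.mon_of hS hψ).cent_std (H95.mem_map_cent.2 hsQ) hs hs1
  have : Fact (Nat.Prime 7) := ⟨by norm_num⟩
  rw [H95.factorization_top h1 h2 (by norm_num), H15.card_M24,
    show (244823040 : ℕ).factorization 7 = 1 by decide +kernel, pow_one] at hBp
  obtain ⟨b, ob, eB, hj⟩ : ∃ b : Subgroup.centralizer ({z, s} : Set G), orderOf b = 7 ∧
      B = Subgroup.zpowers (b : G) ∧
      IsConj ⟨H15.permOf H96.Geo.M24.c7A, H15.permOf_mem_M24 H95.in7A⟩ (Λ b) := by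
    obtain ⟨b, ob, eB⟩ := H95.exists_zpowers_of_le hB hBp
    obtain ⟨c, hc, o, -, hj⟩ := H95.M24_class (Λ b)
    rw [H95.orderOf_map_of_odd h2 (by rw [ob]; decide), ob] at o
    have ec : c.c = H96.Geo.M24.c7A ∨ c.c = H96.Geo.M24.c7B := by
      revert hc o; generalize c = c; revert c; decide +kernel
    rcases ec with ec | ec <;> rw [ec] at hj
    · exact ⟨b, ob, eB, hj _⟩
    · obtain ⟨u, hu⟩ := isConj_iff.1 (hj (H15.permOf_mem_M24 (by decide +kernel)))
      obtain ⟨k, hk, ek⟩ := conj7
      refine ⟨b⁻¹, by rwa [orderOf_inv], by simpa using eB,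
        isConj_iff.2 ⟨u * (⟨k, hk⟩ : M24)⁻¹, ?_⟩⟩
      rw [map_inv, ← hu]
      apply Subtype.ext
      simp only [Subgroup.coe_mul, Subgroup.coe_inv]
      rw [eq_mul_inv_of_mul_eq ek]
      group
  obtain ⟨n, θ, D⟩ := H95.data7A
  obtain ⟨y, Θ, s1, s2, s3⟩ := h3 b (by rw [ob]; decide) _ hj 3 _ θ D H95.pCore_SL32 B eB
  exact ⟨y, Θ.ker, inferInstance, s2,
    ⟨(QuotientGroup.quotientKerEquivOfSurjective Θ s1).trans Subgroup.topEquiv⟩,
    s3.trans (congrArg (fun t => 1 + 2 * t) n)⟩


end Cfsg.Agent.S5416
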