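import Mathlib
import Cfsg.Statements.S3701
import Cfsg.Agent.Base
import Cfsg.Agent.Lib.Odd.H108

set_option autoImplicit false
open Cfsg

namespace Cfsg.Agent.S3701

open H53.Odd H53.Odd.H108 Subgroup

theorem model {G : Type*} [Group G] [Finite G] {H : Subgroup G} {a b c s t : G}
    (hA : AH (f27 a b c)) (hi : Function.Injective (f27 a b c)) (ss : s ^ 2 = 1) (tt : t ^ 2 = 1)
    (st : s * t = t * s) (sa : s * a * s⁻¹ = f27 a b c (2, 0, 0))
    (sb : s * b * s⁻¹ = f27 a b c (0, 2, 0)) (sc : s * c * s⁻¹ = f27 a b c (0, 0, 1))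
    (ta : t * a * t⁻¹ = f27 a b c (2, 0, 0)) (tb : t * b * t⁻¹ = f27 a b c (0, 1, 0))
    (tc : t * c * t⁻¹ = f27 a b c (0, 0, 2)) (hH : H = closure {a, b, c, s, t}) :
    Mdl H mul fun p => f27 a b c p.1 * (s ^ p.2.1.val * t ^ p.2.2.val) := by
  have hs : AH fun w : W4 => s ^ w.1.val * t ^ w.2.val :=
    (AH_cyc ss).prod (AH_cyc tt) fun _ _ => (show Commute s t from st).pow_pow _ _
  have c1 : ∀ u, s * f27 a b c u * s⁻¹ = f27 a b c (act (1, 0) u) := fun u => by
    rw [conj_f27 hA sa sb sc]; congr 1; revert u; decide +kernel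
  have c2 : ∀ u, t * f27 a b c u * t⁻¹ = f27 a b c (act (0, 1) u) := fun u => by
    rw [conj_f27 hA ta tb tc]; congr 1; revert u; decide +kernel
  have ha : ∀ (w : W4) u, (s ^ w.1.val * t ^ w.2.val) * f27 a b c u * (s ^ w.1.val * t ^ w.2.val)⁻¹ =
      f27 a b c (act w u) := by
    intro w u
    rcases (by decide : ∀ w : W4, w = (0, 0) ∨ w = (1, 0) ∨ w = (0, 1) ∨ w = (1, 1)) w with
      rfl | rfl | rfl | rfl
    · simp [(by decide +kernel : ∀ u, act (0, 0) u = u) u]
    · simpa [ZMod.val_one] using c1 u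
    · simpa [ZMod.val_one] using c2 u
    · rw [← (by decide +kernel : ∀ u, act (1, 0) (act (0, 1) u) = act (1, 1) u) u, ← c1, ← c2]
      simp [ZMod.val_one, mul_assoc]
  refine mdl_sd (s := fun w : W4 => s ^ w.1.val * t ^ w.2.val) (mw := (· + ·)) hA hi hs ha
    (by decide +kernel) fun g => ⟨fun hg => ?_, ?_⟩
  · refine mem_of_closure (P := fun g => ∃ u, ∃ w : W4, f27 a b c u * (s ^ w.1.val * t ^ w.2.val) = g)
      ⟨0, 0, by simp [f27]⟩ ?_ ?_ (hH ▸ hg)
    · rintro x (rfl | rfl | rfl | rfl | rfl)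
      · exact ⟨(1, 0, 0), 0, by simp [f27, ZMod.val_one]⟩
      · exact ⟨(0, 1, 0), 0, by simp [f27, ZMod.val_one]⟩
      · exact ⟨(0, 0, 1), 0, by simp [f27, ZMod.val_one]⟩
      · exact ⟨0, (1, 0), by simp [f27, ZMod.val_one]⟩
      · exact ⟨0, (0, 1), by simp [f27, ZMod.val_one]⟩
    · rintro _ _ ⟨u, w, rfl⟩ ⟨u', w', rfl⟩
      refine ⟨u + act w u', w + w', ?_⟩
      rw [hA, show s ^ (w + w').1.val * t ^ (w + w').2.val = _ from hs w w', ← ha]; group
  · rintro ⟨u, w, rfl⟩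
    have m : ∀ x ∈ ({a, b, c, s, t} : Set G), x ∈ H := fun x hx => hH ▸ subset_closure hx
    exact mul_mem (mul_mem (pow_mem (m a (by simp)) _) (mul_mem (pow_mem (m b (by simp)) _)
      (pow_mem (m c (by simp)) _))) (mul_mem (pow_mem (m s (by simp)) _) (pow_mem (m t (by simp)) _))

theorem main {G : Type*} [Group G] [Finite G] {H T : Subgroup G} {φ : V27 × W4 → G}
    (hm : Mdl H mul φ) (hTH : T ≤ H) (hT : Nat.card T = 27)
    (hN : Subgroup.normalizer (T : Set G) = H)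
    (hC : ∀ t ∈ T, t ≠ 1 → Subgroup.centralizer ({t} : Set G) ≤ H) : H = ⊤ := by
  have hA : AH fun u => φ (u, 0) := fun u v => by
    rw [← hm.hom, (by decide +kernel : ∀ u v : V27, mul (u, 0) (v, 0) = (u + v, 0)) u v]
  have h3 : ∀ g ∈ H, g ^ 3 = 1 → ∃ u, φ (u, 0) = g := by
    intro g hg h3
    obtain ⟨p, rfl⟩ := (hm.mem g).1 hg
    have : φ (mul (mul p p) p) = φ (0, 0) := by
      rw [hm.hom, hm.hom, ← pow_three', h3]; exact hA.zero.symm
    have := (by decide +kernel : ∀ p : V27 × W4, mul (mul p p) p = (0, 0) → p.2 = 0) p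
      (hm.inj this)
    exact ⟨p.1, by rw [← this]⟩
  have hT3 : ∀ g ∈ T, g ^ 3 = 1 := by
    intro g hg
    obtain ⟨p, rfl⟩ := (hm.mem g).1 (hTH hg)
    have h6 : φ p ^ 6 = 1 := by
      have := congrArg φ ((by decide +kernel : ∀ p : V27 × W4,
        mul (mul (mul p p) p) (mul (mul p p) p) = (0, 0)) p)
      simp only [hm.hom] at this
      rw [← show φ (0, 0) = 1 from hA.zero, ← this]
      simp only [pow_succ, pow_zero, one_mul, mul_assoc]
    have h27 : φ p ^ 27 = 1 := by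
      rw [← hT]; exact congrArg Subtype.val (pow_card_eq_one' (x := (⟨_, hg⟩ : T)))
    exact (pow_gcd_eq_one.2 ⟨h6, h27⟩ : φ p ^ Nat.gcd 6 27 = 1)
  have hi : Function.Injective fun u => φ (u, 0) := fun u v e => (Prod.ext_iff.1 (hm.inj e)).1
  have hTe : T = hA.hom.range := by
    refine eq_of_le_of_card_ge (fun g hg => h3 g (hTH hg) (hT3 g hg)) ?_
    rw [hT, ← Nat.card_congr (MonoidHom.ofInjective (f := hA.hom) hi).toEquiv]
    simp
  have hT' : ∀ g, g ∈ T ↔ ∃ u, φ (u, 0) = g := fun g => by rw [hTe]; rfl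
  have ht : TI H (SpT T) := by
    refine TI_of ?_ hC (fun t ht g hg => (hT' _).2 (h3 _ hg (by rw [conj_pow, hT3 t ht]; group)))
      fun g hg => hN ▸ mem_normalizer_fintype hg
    intro a ha b hb
    obtain ⟨u, rfl⟩ := (hT' _).1 ha
    obtain ⟨v, rfl⟩ := (hT' _).1 hb
    exact (hA u v).symm.trans (by rw [add_comm]; exact hA v u)
  refine eq_top_of_card_eq _ ?_
  rw [card_eq hm hT' ht, hm.card]
  rfl


/-- Let H₀ ≤ Sym(9) be generated by the 3-cycles (1 2 3), (4 5 6), (7 8 9) and the involutions (1 2)(4 5), (1 2)(7 8) (a group of order 108, elementary abelian of order 27 extended by a four-group). Let G be a finite group with a subgroup H ≅ H₀, and T ≤ H of order 27 (a Sylow 3-subgroup of H) with N_G(T) = H and C_G(t) ≤ H for every t ≠ 1 in T. Then G = H. -/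
theorem result {G : Type*} [Group G] [Finite G] (H : Subgroup G)
    (hH : Nonempty (↥H ≃* ↥(Subgroup.closure ({Equiv.swap (0 : Fin 9) 1 * Equiv.swap 1 2, Equiv.swap (3 : Fin 9) 4 * Equiv.swap 4 5, Equiv.swap (6 : Fin 9) 7 * Equiv.swap 7 8,
        Equiv.swap (0 : Fin 9) 1 * Equiv.swap 3 4, Equiv.swap (0 : Fin 9) 1 * Equiv.swap 6 7} : Set (Equiv.Perm (Fin 9))))))
    (T : Subgroup G) (hTH : T ≤ H) (hT : Nat.card T = 27) (hN : Subgroup.normalizer (T : Set G) = H)
    (hC : ∀ t ∈ T, t ≠ 1 → Subgroup.centralizer ({t} : Set G) ≤ H) : H = ⊤ := by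
  obtain ⟨e⟩ := hH
  set K := Subgroup.closure ({Equiv.swap (0 : Fin 9) 1 * Equiv.swap 1 2, Equiv.swap (3 : Fin 9) 4 * Equiv.swap 4 5, Equiv.swap (6 : Fin 9) 7 * Equiv.swap 7 8,
        Equiv.swap (0 : Fin 9) 1 * Equiv.swap 3 4, Equiv.swap (0 : Fin 9) 1 * Equiv.swap 6 7} : Set (Equiv.Perm (Fin 9))) with hK
  let ψ : K →* G := H.subtype.comp e.symm.toMonoidHom
  have ψi : Function.Injective ψ := H.subtype_injective.comp e.symm.injective
  let a : K := ⟨Equiv.swap (0 : Fin 9) 1 * Equiv.swap 1 2, subset_closure (by simp)⟩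
  let b : K := ⟨Equiv.swap (3 : Fin 9) 4 * Equiv.swap 4 5, subset_closure (by simp)⟩
  let c : K := ⟨Equiv.swap (6 : Fin 9) 7 * Equiv.swap 7 8, subset_closure (by simp)⟩
  let s : K := ⟨Equiv.swap (0 : Fin 9) 1 * Equiv.swap 3 4, subset_closure (by simp)⟩
  let t : K := ⟨Equiv.swap (0 : Fin 9) 1 * Equiv.swap 6 7, subset_closure (by simp)⟩
  have cm : ∀ x y : K, x.1 * y.1 = y.1 * x.1 → ψ x * ψ y = ψ y * ψ x := fun x y h => by
    rw [← map_mul, ← map_mul]; exact congrArg ψ (Subtype.ext h)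
  have pw : ∀ (x : K) (n : ℕ), x.1 ^ n = 1 → ψ x ^ n = 1 := fun x n h => by
    rw [← map_pow, ← ψ.map_one]; exact congrArg ψ (Subtype.ext h)
  have cj : ∀ (x y : K) (u : V27), x.1 * y.1 * x.1⁻¹ = f27 a.1 b.1 c.1 u →
      ψ x * ψ y * (ψ x)⁻¹ = f27 (ψ a) (ψ b) (ψ c) u := fun x y u h => by
    rw [← map_f27, ← map_inv, ← map_mul, ← map_mul]
    exact congrArg ψ (Subtype.ext (h.trans (map_f27 K.subtype a b c u).symm))
  have hA := AH_f27 (pw a 3 (by decide)) (pw b 3 (by decide)) (pw c 3 (by decide))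
    (cm a b (by decide)) (cm a c (by decide)) (cm b c (by decide))
  have hi : Function.Injective (f27 (ψ a) (ψ b) (ψ c)) := hA.inj fun u hu => by
    rw [← map_f27, ← ψ.map_one, ψi.eq_iff] at hu
    have := congrArg K.subtype hu
    rw [map_f27, map_one] at this
    exact (by decide +kernel : ∀ u : V27, f27 (Equiv.swap (0 : Fin 9) 1 * Equiv.swap 1 2)
      (Equiv.swap (3 : Fin 9) 4 * Equiv.swap 4 5) (Equiv.swap (6 : Fin 9) 7 * Equiv.swap 7 8) u = 1 →
      u = 0) u this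
  refine main (model hA hi (pw s 2 (by decide)) (pw t 2 (by decide)) (cm s t (by decide))
    (cj s a _ (by decide +kernel)) (cj s b _ (by decide +kernel)) (cj s c _ (by decide +kernel))
    (cj t a _ (by decide +kernel)) (cj t b _ (by decide +kernel)) (cj t c _ (by decide +kernel)) ?_)
    hTH hT hN hC
  have h1 : closure ({a, b, c, s, t} : Set K) = ⊤ := by
    apply map_injective K.subtype_injective
    rw [MonoidHom.map_closure, ← MonoidHom.range_eq_map, range_subtype]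
    simp only [Set.image_insert_eq, Set.image_singleton]
    rfl
  have h2 := congrArg (map ψ) h1
  rw [MonoidHom.map_closure, ← MonoidHom.range_eq_map] at h2
  simp only [Set.image_insert_eq, Set.image_singleton] at h2
  rw [h2, MonoidHom.range_comp, MonoidHom.range_eq_top.2 e.symm.surjective,
    ← MonoidHom.range_eq_map, range_subtype]

end Cfsg.Agent.S3701
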