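import Cfsg.Statements.S2050
import Cfsg.Agent.Lib.LyC.Three
import Cfsg.Agent.Lib.Schur.Sub
import Cfsg.Agent.Lib.Schur.Main
import Cfsg.Agent.S2047
import Cfsg.Agent.S2100

set_option autoImplicit false
open Cfsg

namespace Cfsg.Agent.S2050

/-- The Schur multiplier of the Lyons group (the finitely presented group of the definitions) is trivial; here the Schur multiplier is described through stem extensions, as in the definitions: surjective homomorphisms onto the group from a finite group, whose kernel is central in that finite group and contained in that finite group's commutator subgroup. -/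
theorem result : Cfsg.HasCyclicSchurMultiplier Cfsg.Spor.Ly 1 := by
  refine H60.hasCyclic_of_bounds H54.Ly.card (ps := [2, 3, 5]) (by decide +kernel) 1
    (H60.forall_mem_three (.zero ?_) (.zero ?_) (.zero ?_)) H60.lowB_one
  · refine H60.expB_of_sub _ (by rw [H60.LyC.index_C]; norm_num) H60.LyC.cov.stem
      (H60.perfect_of_simple (H60.LyC.simple_AA (by simp)) (N := 19958400) ?_ (by norm_num)) fun X _ _ τ h => ?_
    · have := H40.Alt.two_mul_card_AA (ι := Fin 9)
      rw [show (Fintype.card (Fin 9) + 2).factorial = 39916800 by decide] at this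
      omega
    · exact H60.LyC.cov.card_ker ▸ H72.AC.mult_big h.1 h.2.1 h.2.2 (Or.inr (by simp))
  · obtain ⟨ξ, h, hk, -⟩ := H60.LyC.exists_mcl
    refine H60.expB_of_sub _ (by rw [H60.LyC.index_C3]; norm_num) h
      (H60.perfect_of_simple H16.simple_sMcL H16.card_sMcL (by norm_num)) fun X _ _ τ h => ?_
    rw [hk, H60.LyC.card_x3]
    simpa using H78.Schur.card_ker_le S2047.result h
  · obtain ⟨e⟩ := H54.Ly.equivP
    have f := (MonoidHom.ofInjective H54.Ly.θ_inj).symm.trans e
    have hk : f.toMonoidHom.ker = ⊥ := (MonoidHom.ker_eq_bot_iff _).2 f.injective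
    have := H54.Ly.simple_range
    refine H60.expB_of_sub _ (by rw [H54.Ly.index]; norm_num) (ξ := f.toMonoidHom)
      ⟨f.surjective, hk.trans_le bot_le, hk.trans_le bot_le⟩
      (H60.perfect_of_simple f.symm.isSimpleGroup ((Nat.card_congr f.toEquiv).symm.trans H54.Ly.card_range)
        (by norm_num)) fun X _ _ τ h => ?_
    rw [hk]
    simpa using H78.Schur.card_ker_le (S2100.result (F := ZMod 5) (by simp)) h

end Cfsg.Agent.S2050
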