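import Mathlib
import Cfsg.Agent.Base
import Cfsg.Agent.Lib.FGS.FriendConfig
import Cfsg.Agent.Lib.Inv73.Transfer
import Cfsg.Agent.Lib.Core.GrpBasic
import Cfsg.Agent.Lib.Core.CoprimeBasic
import Cfsg.Statements.S4018

set_option autoImplicit false
open Cfsg

namespace Cfsg.Agent.S4018

/-- Let G be a finite group with an abelian Sylow 3-subgroup P such that the normalizer of P has order 4·#P, the centralizer C of P has order 2·#P, C meets each of its conjugates by elements outside its normalizer trivially, and every proper subgroup of G of even order has order dividing 4·#P. Then G is not simple. -/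
theorem result {G : Type*} [Group G] [Finite G]
    (P : Sylow 3 G) (hab : IsMulCommutative P)
    (hN : Nat.card (Subgroup.normalizer ((P : Subgroup G) : Set G)) = 4 * Nat.card P)
    (hC : Nat.card (Subgroup.centralizer (P : Set G)) = 2 * Nat.card P)
    (hTI : Cfsg.IsTISubset (Subgroup.centralizer (P : Set G) : Set G))
    (heven : ∀ H : Subgroup G, H ≠ ⊤ → 2 ∣ Nat.card H → Nat.card H ∣ 4 * Nat.card P) :
    ¬ IsSimpleGroup G := by
  intro hs
  set N := Subgroup.normalizer ((P : Subgroup G) : Set G) with hNdef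
  set C := Subgroup.centralizer (P : Set G) with hCdef
  have hCN : C ≤ N := Subgroup.centralizer_le_normalizer _
  have hPC : (P : Subgroup G) ≤ C := fun x hx y hy =>
    congrArg Subtype.val (hab.is_comm.comm (⟨y, hy⟩ : P) ⟨x, hx⟩)
  have hPpos : 0 < Nat.card P := Nat.card_pos
  have hPodd : ¬ 2 ∣ Nat.card P := by
    rw [P.card_eq_multiplicity]
    intro h
    have := Nat.prime_two.dvd_of_dvd_pow h
    omega
  have h4G : 4 ∣ Nat.card G := (Dvd.intro _ hN.symm).trans (Subgroup.card_subgroup_dvd_card N)
  have hnab : ¬ ∀ x y : G, x * y = y * x := by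
    intro h
    have : IsMulCommutative G := ⟨⟨h⟩⟩
    have hp : (Nat.card G).Prime := Group.is_simple_iff_prime_card.mp hs
    rcases (Nat.dvd_prime hp).mp h4G with h1 | h1
    · omega
    · rw [← h1] at hp
      exact absurd hp (by decide)
  have hcenter : ∀ x : G, x ≠ 1 → Subgroup.centralizer {x} ≠ ⊤ := by
    intro x hx h
    have hx' : x ∈ Subgroup.center G :=
      Subgroup.centralizer_eq_top_iff_subset.mp h (Set.mem_singleton x)
    rcases hs.eq_bot_or_eq_top_of_normal (Subgroup.center G) inferInstance with h1 | h1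
    · exact hx (by simpa [h1] using hx')
    · exact hnab fun a b => (Subgroup.mem_center_iff.mp (h1 ▸ Subgroup.mem_top b : b ∈ _)) a
  obtain ⟨b, hbC, hb⟩ := H1.exists_mem_orderOf_eq_prime (H := C) Nat.prime_two
    (hC ▸ Dvd.intro _ rfl)
  have hPidx : (P : Subgroup G).relIndex C = 2 := by
    have := H1.card_mul_relIndex_of_le hPC
    rw [hC, mul_comm 2] at this
    exact Nat.eq_of_mul_eq_mul_left hPpos this
  have hCidx : C.relIndex N = 2 := by
    have := H1.card_mul_relIndex_of_le hCN
    rw [hC, hN, show 4 * Nat.card P = 2 * Nat.card P * 2 by ring] at this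
    exact Nat.eq_of_mul_eq_mul_left (by omega) this
  have hinvP : ∀ u : G, orderOf u = 2 → u ∉ (P : Subgroup G) := fun u hu h =>
    hPodd (hu ▸ Subgroup.orderOf_dvd_natCard _ h)
  have hmul : ∀ {A B : Subgroup G}, A.relIndex B = 2 → ∀ x ∈ B, ∀ y ∈ B, x ∉ A → y ∉ A →
      x * y ∈ A := by
    intro A B h x hx y hy hxA hyA
    have := (Subgroup.mul_mem_iff_of_index_two (H := A.subgroupOf B) h (a := ⟨x, hx⟩)
      (b := ⟨y, hy⟩)).mpr (by simp [Subgroup.mem_subgroupOf, hxA, hyA])
    exact this
  have huniq : ∀ u ∈ C, orderOf u = 2 → u = b := by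
    intro u huC hu
    have h1 : b * u ∈ (P : Subgroup G) := hmul hPidx b hbC u huC (hinvP b hb) (hinvP u hu)
    have h2 : b * u * b = b * (b * u) := hbC _ h1
    have h3 : (b * u) ^ 2 = 1 := by
      rw [sq, ← mul_assoc, h2, ← mul_assoc, H79.mul_self_of_orderOf_eq_two hb, one_mul,
        H79.mul_self_of_orderOf_eq_two hu]
    by_contra hne
    have h4 : b * u ≠ 1 := fun h => hne (by
      rw [← H79.inv_eq_of_orderOf_eq_two hb]; exact eq_inv_of_mul_eq_one_right h)
    exact hinvP _ (orderOf_eq_prime h3 h4) h1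
  have hNC : Subgroup.normalizer (C : Set G) ≤ Subgroup.centralizer {b} := by
    intro g hg
    rw [Subgroup.mem_centralizer_singleton_iff]
    have := huniq _ ((Subgroup.mem_normalizer_iff.mp hg b).mp hbC)
      ((H79.orderOf_conj_eq g b).trans hb)
    calc g * b = g * b * g⁻¹ * g := by group
      _ = _ := by rw [this]
  have hNle : N ≤ Subgroup.centralizer {b} :=
    (H2.le_normalizer_centralizer (K := (P : Subgroup G)) le_rfl).trans hNC
  have hb1 := H79.ne_one_of_orderOf_eq_two hb
  have hNeq : N = Subgroup.centralizer {b} := by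
    apply Subgroup.eq_of_le_of_card_ge hNle
    rw [hN]
    refine Nat.le_of_dvd (by omega) (heven _ (hcenter b hb1) ?_)
    exact hb ▸ Subgroup.orderOf_dvd_natCard _ (Subgroup.mem_centralizer_singleton_iff.mpr rfl)
  have hmemN : ∀ x : G, x ∈ N ↔ x * b = b * x := fun x => by
    rw [hNeq, Subgroup.mem_centralizer_singleton_iff]
  have hodd : Odd N.index := by
    rw [← Nat.not_even_iff_odd, even_iff_two_dvd]
    intro h2
    have h8 : 2 ^ 3 ∣ Nat.card G := by
      rw [← N.card_mul_index, hN, show 2 ^ 3 = 4 * 2 by norm_num]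
      exact Nat.mul_dvd_mul (Dvd.intro _ rfl) h2
    obtain ⟨T, hT⟩ := Sylow.exists_subgroup_card_pow_prime (G := G) 2 h8
    have hTtop : T ≠ ⊤ := by
      rintro rfl
      have hG : IsPGroup 2 G := IsPGroup.of_card (n := 3) (by simpa using hT)
      have := hG.center_nontrivial
      obtain ⟨x, hx⟩ := exists_ne (1 : Subgroup.center G)
      refine hcenter x (fun h => hx (Subtype.ext h)) ?_
      exact Subgroup.centralizer_eq_top_iff_subset.mpr (by simp)
    have := heven T hTtop (by rw [hT]; decide)
    rw [hT, show 2 ^ 3 = 4 * 2 by norm_num] at this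
    exact hPodd (Nat.dvd_of_mul_dvd_mul_left (by norm_num) this)
  have hconj : ∀ u : G, orderOf u = 2 → IsConj b u := by
    intro u hu
    by_contra hn
    obtain ⟨K, hK, hKi, -⟩ := H73.thompson_transfer N C hodd hCidx u hu fun g hg => hn (by
      rw [← huniq _ hg ((H79.orderOf_conj_eq g u).trans hu)]
      exact (isConj_iff.mpr ⟨g, rfl⟩).symm)
    rcases hs.eq_bot_or_eq_top_of_normal K hK with h | h
    · rw [h, Subgroup.index_bot] at hKi
      omega
    · rw [h, Subgroup.index_top] at hKi
      omega
  have hall := H79.friend_config hb C (fun x hx => (hmemN x).mp (hCN hx)) hconj huniq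
    (fun x y hx hy hx' hy' => hmul hCidx x ((hmemN x).mpr hx) y ((hmemN y).mpr hy) hx' hy')
    (fun g y hy hgy hy1 => by
      by_contra hg
      exact hy1 (hTI g (fun h => hg (Subgroup.mem_centralizer_singleton_iff.mp (hNC h))) y hy hgy))
    (by
      intro u v hu hv huv
      have hw1 : u * v ≠ 1 := fun h => huv (by
        rw [← H79.inv_eq_of_orderOf_eq_two hv]; exact eq_inv_of_mul_eq_one_left h)
      set W := Subgroup.zpowers (u * v) with hW
      have huW : u ∈ Subgroup.normalizer (W : Set G) :=
        Subgroup.mem_normalizer_fintype fun y hy => by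
          rw [H79.invol_inverts_zpowers hu hv hy]
          exact W.inv_mem hy
      have hWtop : Subgroup.normalizer (W : Set G) ≠ ⊤ := by
        intro h
        rcases hs.eq_bot_or_eq_top_of_normal W (Subgroup.normalizer_eq_top_iff.mp h) with h1 | h1
        · exact hw1 (Subgroup.zpowers_eq_bot.mp h1)
        · exact H79.invol_not_mem_zpowers hu hv (by rw [← hW, h1]; trivial)
      have hd := heven _ hWtop (hu ▸ Subgroup.orderOf_dvd_natCard _ huW)
      have hd' : Nat.card W ∣ 4 * Nat.card P :=
        (Subgroup.card_dvd_of_le Subgroup.le_normalizer).trans hd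
      have hWne : Nat.card W ≠ 1 := by
        rw [Ne, Subgroup.card_eq_one]
        exact fun h => hw1 (Subgroup.zpowers_eq_bot.mp h)
      obtain ⟨q, hq, hqW⟩ := Nat.exists_prime_and_dvd hWne
      obtain ⟨y, hyW, hy⟩ := H1.exists_mem_orderOf_eq_prime hq hqW
      have hy1 : y ≠ 1 := by
        rintro rfl
        rw [orderOf_one] at hy
        exact hq.one_lt.ne hy
      refine ⟨y, hyW, hy1, ?_⟩
      rcases (Nat.Prime.dvd_mul hq).mp (hqW.trans hd') with h | h
      · have : q = 2 := (Nat.prime_dvd_prime_iff_eq hq Nat.prime_two).mp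
          (hq.dvd_of_dvd_pow (show q ∣ 2 ^ 2 from h))
        obtain ⟨g, hg⟩ := isConj_iff.mp (hconj y (hy.trans this)).symm
        exact ⟨g, hg ▸ hbC⟩
      · rw [P.card_eq_multiplicity] at h
        have h3 : q = 3 := (Nat.prime_dvd_prime_iff_eq hq Nat.prime_three).mp
          (hq.dvd_of_dvd_pow h)
        have hyp : IsPGroup 3 (Subgroup.zpowers y) :=
          IsPGroup.of_card (n := 1) (by rw [Nat.card_zpowers, hy, h3, pow_one])
        obtain ⟨Q, hQ⟩ := hyp.exists_le_sylow
        obtain ⟨g, hg⟩ := MulAction.exists_smul_eq G Q P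
        refine ⟨g, hPC ?_⟩
        rw [← hg]
        exact Subgroup.smul_mem_pointwise_smul y (MulAut.conj g) _
          (hQ (Subgroup.mem_zpowers y)))
  have hle : Subgroup.normalClosure {b} ≤ Subgroup.centralizer {b} := by
    refine Subgroup.closure_le _ |>.mpr fun x hx => ?_
    obtain ⟨a, ha, hx⟩ := Group.mem_conjugatesOfSet_iff.mp hx
    obtain ⟨g, rfl⟩ := isConj_iff.mp hx
    rw [Set.mem_singleton_iff.mp ha]
    exact Subgroup.mem_centralizer_singleton_iff.mpr
      (hall _ ((H79.orderOf_conj_eq g b).trans hb))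
  rcases hs.eq_bot_or_eq_top_of_normal (Subgroup.normalClosure {b}) inferInstance with h | h
  · exact hb1 (Subgroup.mem_bot.mp (h ▸ Subgroup.subset_normalClosure (Set.mem_singleton b)))
  · exact hcenter b hb1 (top_le_iff.mp (h ▸ hle))

end Cfsg.Agent.S4018
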