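import Cfsg.Statements.S3861
import Mathlib
import Cfsg.Agent.Lib.FGS.RealElt
import Cfsg.Agent.S0200

set_option autoImplicit false
open Cfsg

namespace Cfsg.Agent.S3861

open Subgroup
open scoped Pointwise commutatorElement

/-- A finite group G has no non-identity element of odd order that is conjugate to its inverse if and only if the Sylow 2-subgroups of G are normal. -/
theorem result {G : Type*} [Group G] [Finite G] (P : Sylow 2 G) : (∀ x : G, x ≠ 1 → Odd (orderOf x) → ¬ IsConj x x⁻¹) ↔ (P : Subgroup G).Normal := by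
  constructor
  · intro h
    by_contra hP
    have hO : IsPGroup 2 (Cfsg.pCore 2 G) := H1.isPGroup_pCore
    have h1 : (P : Subgroup G).map (QuotientGroup.mk' (Cfsg.pCore 2 G)) ≠ ⊥ := by
      intro h2
      rw [Subgroup.map_eq_bot_iff, QuotientGroup.ker_mk'] at h2
      apply hP
      rw [le_antisymm h2 (H1.pCore_le_sylow P)]
      infer_instance
    obtain ⟨t, -, ht⟩ := H9.exists_involution_of_isPGroup (P.isPGroup'.map _) h1
    obtain ⟨y, hy1, hy2, hy3⟩ := Cfsg.Agent.S0200.result t ht (fun N hN hN2 htN => by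
      have := H1.le_pCore hN2 htN
      rw [H1.pCore_quotient_pCore, mem_bot] at this
      exact H9.ne_one_of_orderOf_two ht this)
    obtain ⟨x, hx1, hx2, hx3⟩ := H77.exists_real_odd_of_quotient hO hy1 hy2
      (isConj_iff.mpr ⟨t, hy3⟩)
    exact h x hx1 hx2 hx3
  · intro hP x hx1 hodd hx
    obtain ⟨t, ⟨j, hj⟩, ht⟩ := H77.exists_two_elt_inverts hx
    have htP : t ∈ (P : Subgroup G) := H1.mem_of_coprime_index
      (by rw [hj]; exact (H4.coprime_index_sylow P).symm.pow_left j)
    have h1 := H77.inv_sq_mem_of_inverts htP ht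
    obtain ⟨k, hk⟩ := P.isPGroup' ⟨_, h1⟩
    have h2 : x ^ 2 ^ (k + 1) = 1 := by
      rw [pow_succ', pow_mul]; exact congrArg Subtype.val hk
    exact hx1 (orderOf_eq_one_iff.mp (Nat.Coprime.eq_one_of_dvd
      ((Nat.coprime_two_right.mpr hodd).pow_right _) (orderOf_dvd_of_pow_eq_one h2)))

end Cfsg.Agent.S3861
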