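import Cfsg.Statements.S3863
import Mathlib
import Cfsg.Agent.Lib.FGS.RealElt
import Cfsg.Agent.Lib.Core.HallSZ

set_option autoImplicit false
open Cfsg

namespace Cfsg.Agent.S3863

open Subgroup
open scoped Pointwise commutatorElement

/-- Let x be an element of the finite group G that is conjugate to its inverse. Then some 2-element conjugates x to its inverse; if the conjugacy class of x has odd size then x ^ 2 = 1; and x lies in, and is conjugate to its inverse inside, every normal subgroup of odd index. -/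
theorem result {G : Type*} [Group G] [Finite G] (x : G) (hx : IsConj x x⁻¹) : (∃ t : G, (∃ j : ℕ, orderOf t = 2 ^ j) ∧ t * x * t⁻¹ = x⁻¹) ∧ (Odd (Subgroup.centralizer ({x} : Set G)).index → x ^ 2 = 1) ∧ ∀ (N : Subgroup G) [N.Normal], Odd N.index → ∃ hxN : x ∈ N, IsConj (⟨x, hxN⟩ : N) (⟨x, hxN⟩ : N)⁻¹ := by
  obtain ⟨t, ⟨j, hj⟩, ht⟩ := H77.exists_two_elt_inverts hx
  refine ⟨⟨t, ⟨j, hj⟩, ht⟩, fun hodd => ?_, fun N _ hodd => ?_⟩
  · by_contra h2
    have h1 : t ∉ centralizer ({x} : Set G) := by
      intro h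
      rw [mem_centralizer_singleton_iff] at h
      rw [h, mul_inv_cancel_right] at ht
      exact h2 (by rw [sq]; exact mul_eq_one_iff_eq_inv.mpr ht)
    have h3 : t ^ 2 ∈ centralizer ({x} : Set G) := by
      rw [mem_centralizer_singleton_iff]
      have : t ^ 2 * x * (t ^ 2)⁻¹ = t * (t * x * t⁻¹) * t⁻¹ := by rw [sq]; group
      rw [ht, ← conj_inv, ht, inv_inv] at this
      exact mul_inv_eq_iff_eq_mul.mp this
    have h4 : t ∈ normalizer ((centralizer ({x} : Set G) : Subgroup G) : Set G) := by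
      apply H3.mem_normalizer_of_conj_mem
      intro c hc
      rw [mem_centralizer_singleton_iff] at hc ⊢
      have h5 : t⁻¹ * x * t = x⁻¹ := by
        have : x = t * x⁻¹ * t⁻¹ := by rw [← conj_inv, ht, inv_inv]
        conv_lhs => rw [this]
        group
      have h6 : c * x⁻¹ = x⁻¹ * c := (Commute.inv_right (show Commute c x from hc)).eq
      calc t * c * t⁻¹ * x = t * (c * (t⁻¹ * x * t)) * t⁻¹ := by group
        _ = t * ((t⁻¹ * x * t) * c) * t⁻¹ := by rw [h5, h6]
        _ = x * (t * c * t⁻¹) := by group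
    have h5 := H5.relIndex_sup_zpowers Nat.prime_two h4 h1 h3
    have h6 := relIndex_dvd_index_of_le
      (le_sup_left : centralizer ({x} : Set G) ≤ centralizer ({x} : Set G) ⊔ zpowers t)
    rw [h5] at h6
    exact (Nat.not_even_iff_odd.mpr hodd) (even_iff_two_dvd.mpr h6)
  · have htN : t ∈ N := H1.mem_of_coprime_index
      (by rw [hj]; exact (Nat.coprime_two_left.mpr hodd).pow_left j)
    have h1 := H77.inv_sq_mem_of_inverts htN ht
    have h2 := N.pow_index_mem x
    obtain ⟨k, hk⟩ := hodd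
    rw [hk, pow_succ, pow_mul, mul_mem_cancel_left (N.pow_mem h1 k)] at h2
    exact ⟨h2, isConj_iff.mpr ⟨⟨t, htN⟩, Subtype.ext ht⟩⟩

end Cfsg.Agent.S3863
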