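import Cfsg.Statements.S3345
import Cfsg.Agent.Lib.O8C.Main
import Cfsg.Agent.Lib.LargeExtra.Setting
import Cfsg.Agent.S3300

set_option autoImplicit false
open Cfsg

namespace Cfsg.Agent.S3345

open Subgroup H95 H80.O8 in
theorem result {G : Type*} [Group G] [Finite G]
    (hG : Cfsg.pResidual 2 G = ⊤) (t : G) (ht : orderOf t = 2)
    (C : Subgroup G) (hC : C = Subgroup.centralizer ({t} : Set G))
    (hF : Cfsg.IsExtraspecial 2 (Cfsg.generalizedFittingSubgroup C))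
    (hFcard : Nat.card (Cfsg.generalizedFittingSubgroup C) = 2 ^ 9)
    (e : C ⧸ Cfsg.pCore 2 C ≃* Equiv.Perm (Fin 3) × Equiv.Perm (Fin 3) × Equiv.Perm (Fin 3))
    (hcc : Subgroup.centralizer (((Cfsg.pCore 2 C).map C.subtype : Subgroup G) : Set G) ≤ (Cfsg.pCore 2 C).map C.subtype) :
    (∀ g : G, g * t * g⁻¹ * t⁻¹ ∈ Cfsg.oddCore G) ∨
      Nonempty (G ≃* Cfsg.Omega (ZMod 2) (Cfsg.quadFormPlus 4 (ZMod 2))) := by
  subst hC
  have := Fact.mk Nat.prime_two
  have h1 : generalizedFittingSubgroup (centralizer ({t} : Set G)) = pCore 2 _ :=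
    le_antisymm (H1.le_pCore (.of_card hFcard)) ((H1.pCore_le_fitting 2).trans le_sup_right)
  rw [h1] at hF hFcard
  have hE : IsExtraspecial 2 (Qd t) := isExtraspecial_of_equiv (equivMapOfInjective _ _ (subtype_injective _)) hF
  have hc : Nat.card (Qd t) = 2 ^ 9 := (card_map_of_injective (subtype_injective _)).trans hFcard
  let θ := e.toMonoidHom.comp (QuotientGroup.mk' (pCore 2 (centralizer ({t} : Set G))))
  have sj : Function.Surjective θ := e.surjective.comp (QuotientGroup.mk'_surjective _)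
  let χ := (Equiv.Perm.sign.comp (MonoidHom.fst _ _)).comp θ
  obtain ⟨g, h2, h3⟩ := Cfsg.Agent.S3300.result hG t ht _ rfl hE hcc 4 (by norm_num) hc (χ.ker.map (Subgroup.subtype _))
    (map_subtype_le _) (fun h hh => H68.cj_eq_of_mem_normalizer (mem_normalizer_of_finite (by
      rintro _ ⟨a, ha, rfl⟩
      exact ⟨_, χ.normal_ker.conj_mem a ha ⟨h, hh⟩, rfl⟩))) (by
    rw [relIndex, subgroupOf, comap_map_eq_self_of_injective (subtype_injective _), index_ker,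
      MonoidHom.range_eq_top.2 (((Equiv.Perm.sign_surjective _).comp Prod.fst_surjective).comp sj), card_top,
      Nat.card_eq_fintype_card, Fintype.card_units_int])
  refine .inr (Hyp.recog (z := t) (Lf := fun c γ => ∃ h, θ ⟨c, h⟩ = γ) ⟨H92.Smith.L3_of_pCore ht rfl hE hcc, hc,
    fun h => mem_cent_iff.1 h.1, fun h => ⟨_, mem_cent_iff.2 h, rfl⟩, fun γ => (sj γ).elim fun c k => ⟨c, c.2, k⟩, ?_,
    fun h k => h.2.symm.trans k.2, ⟨fun ⟨h, k⟩ => ⟨⟨_, h⟩, ?_, rfl⟩, ?_⟩, _, ⟨g, rfl⟩, h2, h3⟩)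
  · rintro c d _ _ ⟨h, rfl⟩ ⟨k, rfl⟩
    exact ⟨mul_mem h k, map_mul θ ⟨c, h⟩ ⟨d, k⟩⟩
  · exact (QuotientGroup.eq_one_iff _).1 (e.map_eq_one_iff.1 k)
  · rintro ⟨a, h, rfl⟩
    exact ⟨a.2, e.map_eq_one_iff.2 ((QuotientGroup.eq_one_iff _).2 h)⟩

end Cfsg.Agent.S3345
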