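import Cfsg.Agent.Base
import Cfsg.Statements.S0583
import Cfsg.Agent.Lib.Core.Fitting
import Cfsg.Agent.Lib.Transfer.Residual

set_option autoImplicit false
open Cfsg

namespace Cfsg.Agent.S0583

/-- In a finite group the Fitting subgroup is contained in the centralizer of each minimal normal subgroup. -/
theorem result {G : Type*} [Group G] [Finite G] (M : Subgroup G) [M.Normal] (hM : M ≠ ⊥) (hmin : ∀ K : Subgroup G, K.Normal → K ≤ M → K = ⊥ ∨ K = M) : Cfsg.fittingSubgroup G ≤ Subgroup.centralizer (M : Set G) := by
  refine H1.fitting_le fun N hN hnil => ?_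
  rw [← Subgroup.commutator_eq_bot_iff_le_centralizer]
  rcases hmin ⁅N, M⁆ inferInstance (Subgroup.commutator_le_right N M) with h | h
  · exact h
  · exfalso
    have hMN : M ≤ N := h ▸ Subgroup.commutator_le_left N M
    have h1 : M.subgroupOf N = ⊥ := by
      apply H4.eq_bot_of_le_commutator_of_isNilpotent
      rw [← Subgroup.map_le_map_iff_of_injective N.subtype_injective, Subgroup.map_commutator,
        Subgroup.map_subgroupOf_eq_of_le hMN, ← MonoidHom.range_eq_map, Subgroup.range_subtype, h]
    apply hM
    rw [← Subgroup.map_subgroupOf_eq_of_le hMN, h1, Subgroup.map_bot]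

end Cfsg.Agent.S0583
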