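import Cfsg.Statements.S3841
import Cfsg.Agent.Lib.BSE14.Cor2
import Cfsg.Agent.Lib.BSE14.Real
import Cfsg.Agent.Lib.BSE14.RankOneMod

set_option autoImplicit false
open Cfsg

namespace Cfsg.Agent.S3841

open Cfsg H13.Suz in
theorem real_lift {G : Type*} [Group G] [Finite G] {V : Type*} [AddCommGroup V] [Module (ZMod 2) V]
    [Module.Finite (ZMod 2) V] (ρ : Representation (ZMod 2) G V) (hρ : Function.Injective ρ) {Ω : Type*}
    [MulAction (G ⧸ oddCore G) Ω] [FaithfulSMul (G ⧸ oddCore G) Ω] {a : Ω} {t : G ⧸ oddCore G}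
    {Q : Subgroup (G ⧸ oddCore G)} (hS : IsRankOneSetup (G ⧸ oddCore G) Ω a t Q)
    (h2 : Rank2 (G ⧸ oddCore G)) {n : ℕ} (hn : Nat.card (Q0 Q) = 2 ^ n) :
    2 * n ≤ Module.finrank (ZMod 2) V ∧ ∃ w : G, orderOf w = 2 ∧ n ≤ H14.Mod2.rk ρ w := by
  obtain ⟨r, y, w, hr, hodd, hy, hw, hinv, hmin⟩ := H14.Real.exists_real hS h2 hn
  have hw1 : w ≠ 1 := by
    rintro rfl
    rw [one_mul, inv_one, mul_one, eq_inv_iff_mul_eq_one] at hinv
    exact H14.Real.sq_ne_one hr hodd hy hinv
  obtain ⟨w, hw1', hw', rfl⟩ := H14.BSE.lift_bar hw1 hw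
  obtain ⟨x, hx, e⟩ := H14.Real.lift_real (QuotientGroup.mk' (oddCore G)) (QuotientGroup.mk'_surjective _)
    hr hodd hy hw' hinv
  obtain ⟨d, hd0, hd1, hd2, hd3⟩ := H14.Mod2.exists_of_inverted ρ hρ hr hodd hx hw' e
  have := Nat.le_of_dvd hd0 (hmin d hd3)
  exact ⟨by omega, w, H14.BSE.orderOf_two hw1' hw', by omega⟩

/-- Let G be a finite group with a strongly embedded subgroup (a proper subgroup of even order meeting each of its conjugates by outside elements in a group of odd order), S a Sylow 2-subgroup of G, and V a finite-dimensional vector space over the field with two elements on which G acts linearly and faithfully through ρ. If S has order 2ᵏ then dim V ≥ 2k; and if Z(S) is elementary abelian of order 2ⁿ then for every nonidentity s ∈ S the image of ρ(s) − 1 has dimension at least n. -/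
theorem result {G : Type*} [Group G] [Finite G] (H : Subgroup G) (hH : Cfsg.IsStronglyEmbedded H) (S : Sylow 2 G) {V : Type*} [AddCommGroup V] [Module (ZMod 2) V] [Module.Finite (ZMod 2) V] (ρ : Representation (ZMod 2) G V) (hρ : Function.Injective ρ) : (∀ k : ℕ, Nat.card ↥(S : Subgroup G) = 2 ^ k → 2 * k ≤ Module.finrank (ZMod 2) V) ∧ ∀ n : ℕ, (∀ z ∈ (S : Subgroup G) ⊓ Subgroup.centralizer ((S : Subgroup G) : Set G), z ^ 2 = 1) → Nat.card ↥((S : Subgroup G) ⊓ Subgroup.centralizer ((S : Subgroup G) : Set G)) = 2 ^ n → ∀ s ∈ (S : Subgroup G), s ≠ 1 → n ≤ Module.finrank (ZMod 2) ↥(LinearMap.range (ρ s - 1)) := by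
  haveI : Fact (Nat.Prime 2) := ⟨Nat.prime_two⟩
  by_cases h2 : H13.Suz.Rank2 G
  · obtain ⟨_, _, -, a, t, hS⟩ := H14.BSE.exists_bar_sylow hH h2 S
    have h2' := H14.BSE.rank2_bar h2
    refine ⟨fun k hk => ?_, fun n hZ hn s hs hs1 => ?_⟩
    · rw [← H14.BSE.card_map_two S.isPGroup'] at hk
      by_cases h3 : k = 3
      · subst h3
        exact (real_lift ρ hρ hS h2' (n := 3) (H14.Real.card_Q0_of_eight hS h2' hk)).1
      have h4 := (H14.Real.four_le_card_Q0 hS h2').trans (Subgroup.card_le_of_le (H13.Suz.Q0_le _))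
      rw [hk] at h4
      have hk2 : 2 ≤ k := (Nat.pow_le_pow_iff_right (by norm_num : 1 < 2)).1 (show 2 ^ 2 ≤ 2 ^ k from h4)
      obtain ⟨r, hr, hodd, hd, hmin⟩ := H14.Mod2.exists_ppd (n := 2 * k) (by omega) (by omega)
      have h5 : r ∣ Nat.card G := by
        refine dvd_trans ?_ (Subgroup.card_quotient_dvd_card (Cfsg.oddCore G))
        rw [H40.RankOne.card_G hS, hk]
        exact (H14.Mod2.ppd_dvd_add_one (by omega) hr hd hmin).mul_left _
      haveI : Fact r.Prime := ⟨hr⟩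
      obtain ⟨y, hy⟩ := exists_prime_orderOf_dvd_card' r h5
      have hy1 : y ≠ 1 := fun e => hr.one_lt.ne (by rw [← hy, e, orderOf_one])
      exact (Nat.le_of_dvd (H14.Mod2.rk_pos ρ hρ hy1) (hmin _ (H14.Mod2.dvd_of_prime ρ hr hodd hy))).trans
        (Submodule.finrank_le _)
    · rw [← H14.BSE.card_map_two (S.isPGroup'.to_le inf_le_left),
        H14.BSE.map_center_eq S.isPGroup' hS hZ] at hn
      obtain ⟨-, w, hw, hle⟩ := real_lift ρ hρ hS h2' hn
      obtain ⟨m, hm⟩ := IsPGroup.iff_orderOf.mp S.isPGroup' ⟨s, hs⟩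
      rw [← Subgroup.orderOf_coe] at hm
      have h3 : 2 ∣ orderOf s := by
        rcases m with _ | m
        · exact absurd (orderOf_eq_one_iff.mp hm) hs1
        · exact hm ▸ dvd_pow_self 2 (Nat.succ_ne_zero m)
      obtain ⟨g, rfl⟩ := isConj_iff.mp
        (H42.SE.isConj hH (orderOf_pow_orderOf_div (orderOf_pos s).ne' h3) hw)
      exact hle.trans ((H14.Mod2.rk_conj_le ρ _ _).trans (H14.Mod2.rk_pow_le ρ _ _))
  · refine ⟨fun k hk => ?_, fun n hZ hn s hs hs1 => ?_⟩
    · rcases k with _ | k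
      · simp
      obtain ⟨z, hz⟩ := exists_prime_orderOf_dvd_card' (G := (S : Subgroup G)) 2
        (hk ▸ dvd_pow_self 2 (Nat.succ_ne_zero k))
      rw [← Subgroup.orderOf_coe] at hz
      have h1 : H41.RankOne (S : Subgroup G) := fun u v hu hv hc =>
        Subtype.ext (H14.BSE.rankOne_of_not_rank2 h2 u v (by rw [Subgroup.orderOf_coe, hu])
          (by rw [Subgroup.orderOf_coe, hv]) (congrArg Subtype.val hc))
      refine H14.Mod2.bound_rank_one ρ hρ (h1.uniqInv_of_isPGroup S.isPGroup') hk H1.odd_card_oddCore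
        (by rw [Subgroup.normalizer_eq_top]; exact le_top) z.2 (H14.BSE.of_orderOf_two hz).2 fun h => ?_
      have h3 := H14.BSE.cent_sup_of_not_rank2 h2 hz
      rw [sup_eq_left.mpr h] at h3
      obtain ⟨u, huH, hu⟩ := H42.SE.exists_involution hH
      obtain ⟨g, hg⟩ := isConj_iff.mp (H42.SE.isConj hH hz hu)
      have h4 : g * z = z * g := Subgroup.mem_centralizer_singleton_iff.mp (h3 ▸ Subgroup.mem_top g)
      rw [h4, mul_inv_cancel_right] at hg
      exact hH.1 (top_le_iff.mp (h3 ▸ H14.BSE.cent_le_of_se hH hz (hg ▸ huH)))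
    · have h3 : n ≤ 1 := by
        by_contra hc
        refine h2 (H14.BSE.rank2_of_four_le (fun x hx y hy => ?_) hZ ?_)
        · exact Subgroup.mem_centralizer_iff.mp (Subgroup.mem_inf.mp hy).2 x (Subgroup.mem_inf.mp hx).1
        rw [hn]
        exact lt_of_lt_of_le (by norm_num) (Nat.pow_le_pow_right two_pos (show 2 ≤ n by omega))
      exact h3.trans (H14.Mod2.rk_pos ρ hρ hs1)

end Cfsg.Agent.S3841
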