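import Mathlib
import Cfsg.Statements.S5126
import Cfsg.Agent.Lib.Fusion.ModelUnique
import Cfsg.Agent.Lib.Fusion.Constr
-- import your own Cfsg.Agent.* helpers here

set_option autoImplicit false
open Cfsg

namespace Cfsg.Agent.S5126

/-- In a saturated fusion system over a finite p-group S, the normalizer system of a fully normalized, centric, radical subgroup R is constrained, and in every model of that normalizer system the largest normal p-subgroup is the image of R. -/
theorem result {Ω : Type*} [Group Ω] {S : Subgroup Ω} [Finite S] (p : ℕ) [Fact p.Prime] (hS : IsPGroup p S) (F : Cfsg.FusionSystem S) (hF : F.IsSaturated p) (R : Subgroup Ω) (hRn : F.IsFullyNormalized R) (hRc : F.IsCentric R) (hRr : F.IsRadical p R) (E : Cfsg.FusionSystem (Cfsg.FusionSystem.normalizerIn S R)) (hE : F.IsNormalizerSystem R E) {G : Type*} [Group G] (ι : ↥(Cfsg.FusionSystem.normalizerIn S R) →* G) : E.IsConstrained p ∧ (E.IsModel p G ι → (Cfsg.pCore p G : Subgroup G) = (R.subgroupOf (Cfsg.FusionSystem.normalizerIn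 S R)).map ι) := by
  have hs := H90.isSaturated_of_isNormalizerSystem hS hF hRn hE
  have hRN := H90.le_normalizerIn hRn.1
  have hiff := H90.isNormalizerSystem_iff.1 hE
  have hn : E.IsNormal R := H90.isNormal_iff_map.2 ⟨hRN, fun P f hf => by
    obtain ⟨h1, h2, g, hg, e, hi⟩ := (hiff P f).1 hf
    refine ⟨g, (hiff _ g).2 ⟨sup_le h1 hRN, hg.homOn.mem_of_sup (fun x hx => e x hx ▸ h2 x hx)
      fun x hx => hRN (hi ▸ H90.mem_im_of_mem g hx), g, by rwa [sup_assoc, sup_idem],
      fun _ _ => rfl, hi⟩, e, hi⟩⟩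
  have hc : E.IsCentric R := H91.IsNormal.isCentric hn fun g hg =>
    H90.isCentric_self_le hRc ⟨hg.1.1, hg.2⟩
  have ha : E.autGroup R = F.autGroup R :=
    le_antisymm (H90.autGroup_mono (H90.sub_of_isNormalizerSystem hE) R) fun α hα =>
      (H90.mem_autGroup hRN).2 ((hiff _ _).2 (H90.nmap_iff.2 ⟨hRN, H90.extA R α,
        by rw [sup_idem]; exact (H90.mem_autGroup hRn.1).1 hα, fun _ _ => rfl,
        fun x hx => H90.extA_mem α hx⟩))
  have hr : E.IsRadical p R := H90.isRadical_iff.2 ⟨hRN, ha ▸ (H90.isRadical_iff.1 hRr).2⟩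
  refine ⟨⟨hs, R, hn, hc⟩, fun hG => ?_⟩
  rw [← H92.IsModel.imageAlong_core hG, le_antisymm (H90.IsNormal.le_of_centric_radical
    (hS.to_le (H90.normalizerIn_le S R)) (H91.isNormal_core E) hc hr) (le_sSup hn)]
  rfl

end Cfsg.Agent.S5126
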