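import Cfsg.Statements.S2378
import Mathlib
import Cfsg.Agent.Base
import Cfsg.Agent.Lib.Lang.Syl
import Cfsg.Agent.Lib.Weyl.PoinW
import Cfsg.Agent.Lib.Weyl.PoinWE8

set_option autoImplicit false
open Cfsg

namespace Cfsg.Agent.S2378

open H37 H37.P H38 Cfsg.Lie

/-- certificates -/
def cG2 : List SylC := [
  ⟨[], 1, [], [], []⟩,
  ⟨[], 1, [0, 1], [[[1], []], [[], [1]]], [-1, 1]⟩,
  ⟨[6, 9], 1, [0, 1], [[[1], []], [[], [1]]], [1, 1]⟩,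
  ⟨[6, 10], 1, [0], [[[1], [2, 1]]], [1, 1, 1]⟩,
  ⟨[], 1, [], [], [-1, 0, 0, 0, 1]⟩,
  ⟨[], 1, [], [], [-1, 0, 0, 0, 0, 1]⟩,
  ⟨[6, 7], 1, [0], [[[1], [1, 1]]], [1, -1, 1]⟩]

lemma chkG2 : sylAll chevG2 [2, 6] cG2 = true := by decide +kernel

/-- certificates -/
def cB2 : List SylC := [
  ⟨[], 1, [], [], []⟩,
  ⟨[], 1, [0, 1], [[[1], []], [[], [1]]], [-1, 1]⟩,
  ⟨[4, 7], 1, [0, 1], [[[1], []], [[], [1]]], [1, 1]⟩,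
  ⟨[], 1, [], [], [-1, 0, 0, 1]⟩,
  ⟨[4, 5], 1, [0], [[[1], [1, 1]]], [1, 0, 1]⟩]

lemma chkB2 : sylAll chevB2 [2, 4] cB2 = true := by decide +kernel

/-- certificates -/
def cD4 : List SylC := [
  ⟨[], 1, [], [], []⟩,
  ⟨[], 1, [0, 1, 2, 3], [[[1], [], [], []], [[], [1], [], []], [[], [], [1], []], [[], [], [], [1]]], [-1, 1]⟩,
  ⟨[12, 13, 18, 23], 1, [0, 1, 2, 3], [[[1], [], [], []], [[], [1], [], []], [[], [], [1], []], [[], [], [], [1]]], [1, 1]⟩,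
  ⟨[12, 16], 1, [1], [[[], [1], [1], [1, 1]]], [1, 1, 1]⟩,
  ⟨[12, 15, 16, 18], 1, [0, 2], [[[1], [1, 1], [], [1]], [[], [], [1], [0, 1]]], [1, 0, 1]⟩,
  ⟨[], 1, [], [], [-1, 0, 0, 0, 0, 1]⟩,
  ⟨[12, 13, 16, 23], 1, [0], [[[1], [1, -1], [], [1, -1]]], [1, -1, 1]⟩]

lemma chkD4 : sylAll chevD4 [2, 4, 4, 6] cD4 = true := by decide +kernel

/-- certificates -/
def cF4 : List SylC := [
  ⟨[], 1, [], [], []⟩,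
  ⟨[], 1, [0, 1, 2, 3], [[[1], [], [], []], [[], [1], [], []], [[], [], [1], []], [[], [], [], [1]]], [-1, 1]⟩,
  ⟨[24, 27, 32, 44], 1, [0, 1, 2, 3], [[[1], [], [], []], [[], [1], [], []], [[], [], [1], []], [[], [], [], [1]]], [1, 1]⟩,
  ⟨[24, 27, 34, 46], 1, [0, 1], [[[1], [], [1, 2], [0, 1]], [[], [1], [1, -1], [1]]], [1, 1, 1]⟩,
  ⟨[24, 25, 30, 43], 1, [0, 1], [[[1], [], [-1, -1], [0, -2]], [[], [1], [2], [1, 1]]], [1, 0, 1]⟩,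
  ⟨[], 1, [], [], [-1, 0, 0, 0, 0, 1]⟩,
  ⟨[24, 25, 28, 37], 1, [0, 1], [[[1], [], [-1, 2], [-1, 1]], [[], [1], [2, -1], [1]]], [1, -1, 1]⟩,
  ⟨[], 1, [], [], [-1, 0, 0, 0, 0, 0, 0, 1]⟩,
  ⟨[24, 29, 33, 40], 1, [0], [[[1], [1, -1], [1, -1, 1, 1], [1, 0, 1]]], [1, 0, 0, 0, 1]⟩,
  ⟨[], 1, [], [], [-1, 0, 0, 0, 0, 0, 0, 0, 0, 1]⟩,
  ⟨[], 1, [], [], [-1, 0, 0, 0, 0, 0, 0, 0, 0, 0, 1]⟩,
  ⟨[], 1, [], [], [-1, 0, 0, 0, 0, 0, 0, 0, 0, 0, 0, 1]⟩,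
  ⟨[24, 27, 35, 42], 1, [0], [[[1], [2, 1], [3, 2, 0, -1], [1, 1, 1]]], [1, 0, -1, 0, 1]⟩]

lemma chkF4 : sylAll chevF4 [2, 6, 8, 12] cF4 = true := by decide +kernel

/-- certificates -/
def cE6 : List SylC := [
  ⟨[], 1, [], [], []⟩,
  ⟨[], 1, [0, 1, 2, 3, 4, 5], [[[1], [], [], [], [], []], [[], [1], [], [], [], []], [[], [], [1], [], [], []], [[], [], [], [1], [], []], [[], [], [], [], [1], []], [[], [], [], [], [], [1]]], [-1, 1]⟩,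
  ⟨[37, 45, 57, 71], 1, [0, 1, 2, 4], [[[1], [], [], [-1], [], [-1]], [[], [1], [], [1], [], []], [[], [], [1], [1], [], [1]], [[], [], [], [], [1], []]], [1, 1]⟩,
  ⟨[36, 39, 48, 50, 56, 69], 1, [0, 1, 2], [[[1], [], [], [0, -1], [-1, -2], [0, -1]], [[], [1], [], [1], [1], [1, 1]], [[], [], [1], [1, 1], [1, 1], []]], [1, 1, 1]⟩,
  ⟨[36, 37, 41, 55], 1, [1, 3], [[[], [1], [1], [], [1, -1], [1, 1]], [[], [], [], [1], [], [0, -1]]], [1, 0, 1]⟩,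
  ⟨[39, 49, 58, 71], 1, [0], [[[1], [1, 1, 2, 1], [1, 0, 1, 1], [1, 0, 2, 1], [1, 1, 2, 1], [1, 1, 1]]], [1, 1, 1, 1, 1]⟩,
  ⟨[36, 37, 40, 46, 53, 60], 1, [0, 2], [[[1], [0, 1], [], [-1, 2], [0, 1], []], [[], [], [1], [1, -1], [], []]], [1, -1, 1]⟩,
  ⟨[], 1, [], [], [-1, 0, 0, 0, 0, 0, 0, 1]⟩,
  ⟨[37, 39, 55, 64, 68], 1, [0], [[[1], [0, 0, 1, 1], [1], [1, 0, 1], [1, 1, 1], []]], [1, 0, 0, 0, 1]⟩,
  ⟨[36, 38, 40, 45, 55, 63], 1, [0], [[[1], [1, -1, 0, 1, 0, -1], [1, -1, 0, 1, -1, -1], [1, -1, 1, 1, -1, -1], [0, -1, 1, 0, -1, -1], [0, -1, 1, 0, -1]]], [1, 0, 0, 1, 0, 0, 1]⟩,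
  ⟨[], 1, [], [], [-1, 0, 0, 0, 0, 0, 0, 0, 0, 0, 1]⟩,
  ⟨[], 1, [], [], [-1, 0, 0, 0, 0, 0, 0, 0, 0, 0, 0, 1]⟩,
  ⟨[36, 37, 48, 54, 61, 66], 1, [0], [[[1], [0, 0, 1], [1, 1, 1], [1, 1, 1, -1], [0, 0, 1], []]], [1, 0, -1, 0, 1]⟩]

lemma chkE6 : sylAll chevE6 [2, 5, 6, 8, 9, 12] cE6 = true := by decide +kernel

/-- certificates -/
def cE7 : List SylC := [
  ⟨[], 1, [], [], []⟩,
  ⟨[], 1, [0, 1, 2, 3, 4, 5, 6], [[[1], [], [], [], [], [], []], [[], [1], [], [], [], [], []], [[], [], [1], [], [], [], []], [[], [], [], [1], [], [], []], [[], [], [], [], [1], [], []], [[], [], [], [], [], [1], []], [[], [], [], [], [], [], [1]]], [-1, 1]⟩,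
  ⟨[63, 66, 73, 78, 87, 92, 125], 1, [0, 1, 2, 3, 4, 5, 6], [[[1], [], [], [], [], [], []], [[], [1], [], [], [], [], []], [[], [], [1], [], [], [], []], [[], [], [], [1], [], [], []], [[], [], [], [], [1], [], []], [[], [], [], [], [], [1], []], [[], [], [], [], [], [], [1]]], [1, 1]⟩,
  ⟨[65, 78, 88, 94, 103, 118], 1, [0, 1, 3], [[[1], [], [1, 1], [], [], [1, 1], [1]], [[], [1], [0, -1], [], [-1, -2], [-2, -2], [-2, -1]], [[], [], [], [1], [1, 1], [1, 1], [1, 1]]], [1, 1, 1]⟩,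
  ⟨[63, 67, 90, 102], 1, [0, 1], [[[1], [], [], [-1], [-2, 1], [-1, 1], [-1, -1]], [[], [1], [1], [2], [2, -1], [1, -1], [1]]], [1, 0, 1]⟩,
  ⟨[68, 75, 81, 89, 97, 113], 1, [0], [[[1], [2, 0, 1], [3, 0, 1, 1], [4, 0, 2, 1], [3, -1, 2], [1, -1, 1, -1], [0, -1, 0, -1]]], [1, 1, 1, 1, 1]⟩,
  ⟨[63, 64, 66, 72, 92, 99, 113], 1, [0, 1, 2], [[[1], [], [], [], [0, 1], [-1, 2], [-1, 1]], [[], [1], [], [1], [0, 1], [], []], [[], [], [1], [1], [1, -1], [1, -1], [1, -1]]], [1, -1, 1]⟩,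
  ⟨[66, 71, 85, 91, 105, 113], 1, [0], [[[1], [1, 1, 0, 2, 0, 1], [1, 0, -1, 1, 0, 1], [3, 1, 0, 3, 0, 3], [3, 1, 1, 3, 1, 3], [2, 1, 0, 2, 0, 2], [1, 0, 0, 1, 0, 1]]], [1, 1, 1, 1, 1, 1, 1]⟩,
  ⟨[63, 68, 78, 95, 125], 1, [6], [[[1, 0, 0, -1], [2, 1, 1, -1], [2, 1, 1, -1], [3, 2, 2, -1], [3, 2, 1, -1], [2, 1, 0, -1], [1]]], [1, 0, 0, 0, 1]⟩,
  ⟨[65, 66, 70, 85, 98, 125], 1, [1], [[[1, 1, 0, -1, 1, 1], [1], [2, 0, -1, 0, 1], [4, -1, -3, 2, 2, -2], [1, -3, -1, 2, -1, -3], [2, -3, -2, 3, 0, -3], [1, -2, -1, 2, 0, -2]]], [1, 0, 0, 1, 0, 0, 1]⟩,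
  ⟨[63, 64, 66, 73, 86, 88, 96], 1, [0], [[[1], [1, 1, -1, 1], [2, 0, -1, 1], [2, 1, -2, 2], [1, 2, -3, 2], [0, 2, -2, 1], [0, 1, -1]]], [1, -1, 1, -1, 1]⟩,
  ⟨[], 1, [], [], [-1, 0, 0, 0, 0, 0, 0, 0, 0, 0, 0, 1]⟩,
  ⟨[64, 70, 73, 94, 118, 120], 1, [6], [[[1, -1, -1], [1, -1, -1], [1, -2, -1], [2, -2, -2, -1], [2, -1, -1, -1], [2, 0, -1, -1], [1]]], [1, 0, -1, 0, 1]⟩,
  ⟨[], 1, [], [], [-1, 0, 0, 0, 0, 0, 0, 0, 0, 0, 0, 0, 0, 1]⟩,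
  ⟨[63, 65, 67, 70, 90, 105, 112], 1, [0], [[[1], [-1, 2, -1, 1, -2, 2], [0, 1, -1, 0, -2, 1], [0, 3, -2, 0, -3, 3], [0, 2, -2, 0, -2, 3], [0, 2, -1, 0, -2, 2], [0, 1, -1, 0, -1, 1]]], [1, -1, 1, -1, 1, -1, 1]⟩,
  ⟨[], 1, [], [], [-1, 0, 0, 0, 0, 0, 0, 0, 0, 0, 0, 0, 0, 0, 0, 1]⟩,
  ⟨[], 1, [], [], [-1, 0, 0, 0, 0, 0, 0, 0, 0, 0, 0, 0, 0, 0, 0, 0, 1]⟩,
  ⟨[], 1, [], [], [-1, 0, 0, 0, 0, 0, 0, 0, 0, 0, 0, 0, 0, 0, 0, 0, 0, 1]⟩,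
  ⟨[63, 67, 86, 87, 99, 108, 112], 1, [0], [[[1], [0, 0, -1, 1, 0, 1], [1, 1, 0, 1], [1, 1, -1, 2, 0, 1], [1, 1, -1, 1, -1], [1, 1, 0, 1, -1], [1, 1, 0, 0, -1]]], [1, 0, 0, -1, 0, 0, 1]⟩]

lemma chkE7 : sylAll chevE7 [2, 6, 8, 10, 12, 14, 18] cE7 = true := by decide +kernel

/-- certificates -/
def cE8 : List SylC := [
  ⟨[], 1, [], [], []⟩,
  ⟨[], 1, [0, 1, 2, 3, 4, 5, 6, 7], [[[1], [], [], [], [], [], [], []], [[], [1], [], [], [], [], [], []], [[], [], [1], [], [], [], [], []], [[], [], [], [1], [], [], [], []], [[], [], [], [], [1], [], [], []], [[], [], [], [], [], [1], [], []], [[], [], [], [], [], [], [1], []], [[], [], [], [], [], [], [], [1]]], [-1, 1]⟩,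
  ⟨[120, 123, 130, 147, 156, 161, 232, 233], 1, [0, 1, 2, 3, 4, 5, 6, 7], [[[1], [], [], [], [], [], [], []], [[], [1], [], [], [], [], [], []], [[], [], [1], [], [], [], [], []], [[], [], [], [1], [], [], [], []], [[], [], [], [], [1], [], [], []], [[], [], [], [], [], [1], [], []], [[], [], [], [], [], [], [1], []], [[], [], [], [], [], [], [], [1]]], [1, 1]⟩,
  ⟨[120, 123, 135, 153, 161, 209, 210, 231], 1, [0, 1, 2, 4], [[[1], [], [], [-1], [], [1, 1], [0, -1], []], [[], [1], [], [1, 1], [], [0, -1], [-1, -1], []], [[], [], [1], [1, -1], [], [-1, -1], [], [-1, -1]], [[], [], [], [], [1], [1, 1], [1, 1], [1, 1]]], [1, 1, 1]⟩,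
  ⟨[120, 123, 137, 149, 155, 178, 223, 226], 1, [0, 1, 2, 6], [[[1], [], [], [-1, 2], [0, 1], [-1], [], [1, 1]], [[], [1], [], [], [], [0, -1], [], []], [[], [], [1], [1, -2], [0, -1], [1], [], [-1]], [[], [], [], [2, 1], [2], [1, 1], [1], [1, -1]]], [1, 0, 1]⟩,
  ⟨[120, 125, 132, 144, 147, 164, 191, 216], 1, [0, 7], [[[1], [1, 1, 0, 1], [1, 0, 0, 1], [1, 0, -1, 1], [0, 0, -1], [0, 0, -1], [], []], [[], [0, -2, -1, -1], [1, -1, -2, -2], [2, -1, -1, -2], [2, -1, -1, -1], [2], [1, -1, -1], [1]]], [1, 1, 1, 1, 1]⟩,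
  ⟨[120, 122, 129, 130, 157, 160, 163, 175], 1, [0, 1, 2, 5], [[[1], [], [], [1], [0, 2], [], [1, -1], [-1]], [[], [1], [], [1, -1], [1, -1], [], [-1, 1], [0, 1]], [[], [], [1], [0, 1], [], [], [], []], [[], [], [], [], [], [1], [1], [1, -1]]], [1, -1, 1]⟩,
  ⟨[121, 136, 155, 177, 178, 202], 1, [0], [[[1], [1, 1, 2, 1], [2, 2, 2, 1, 1, 1], [3, 3, 4, 2, 1, 1], [2, 2, 3, 1, 1, 1], [1, 1, 2, 1, 1, 1], [1, 1, 2, 2, 2, 1], [0, 0, 1, 1, 1, 1]]], [1, 1, 1, 1, 1, 1, 1]⟩,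
  ⟨[120, 122, 128, 134, 143, 167, 194, 207], 1, [0, 7], [[[1], [0, 0, 0, 1], [0, -1, 0, 1], [0, -1, 0, 2], [0, -1, -1, 1], [0, -1, -1], [0, -1, -1], []], [[], [1, -1, 0, -2], [2, 0, -1, -2], [3, -1, -1, -3], [3, 0, 0, -2], [3, 0, 1, -1], [2, 1, 1, -1], [1]]], [1, 0, 0, 0, 1]⟩,
  ⟨[122, 123, 145, 151, 185, 224, 234], 1, [7], [[[2, 0, -1, 1, 0, -1], [2, -1, -2, 0, -1, -2], [3, -1, -2, 1, -1, -2], [4, -1, -3, 1, -1, -3], [4, 0, -2, 1, -1, -3], [3, 0, -1, 1, 0, -2], [2, 0, -1, 0, 0, -1], [1]]], [1, 0, 0, 1, 0, 0, 1]⟩,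
  ⟨[120, 121, 125, 129, 131, 149, 192, 218], 1, [0, 7], [[[1], [1, 1, -1, 1], [1, 1, -1, 1], [2, 1, -2, 2], [2, 0, -1, 1], [1, 1, -2, 1], [0, 1, -1], []], [[], [1, -2, 1, -1], [2, -2, 1, -2], [3, -3, 3, -3], [2, -2, 2, -2], [2, -2, 2, -1], [2, -1, 1], [1]]], [1, -1, 1, -1, 1]⟩,
  ⟨[], 1, [], [], [-1, 0, 0, 0, 0, 0, 0, 0, 0, 0, 0, 1]⟩,
  ⟨[120, 122, 129, 136, 156, 179, 191, 231], 1, [0, 1], [[[1], [], [-1, 2, 2, -2], [-1, 2, 1], [0, 0, 2], [-1, -1, 3], [0, -1, 2], [1, -1, 1, 1]], [[], [1], [2, -1, -2, 2], [3, -2, -1, 1], [1, 0, -1], [1, 1, -2], [0, 1, -1], [-1, 1, 0, -1]]], [1, 0, -1, 0, 1]⟩,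
  ⟨[], 1, [], [], [-1, 0, 0, 0, 0, 0, 0, 0, 0, 0, 0, 0, 0, 1]⟩,
  ⟨[121, 123, 149, 161, 170, 191, 232], 2, [7], [[[3, -2, 2, -1, 1, -1], [3, -1, 1, 0, 1], [4, -2, 2], [6, -2, 2], [5, -2, 1, -1], [4, -1, 1, -1, 0, 1], [3, -1, 0, 0, 0, 1], [2]]], [1, -1, 1, -1, 1, -1, 1]⟩,
  ⟨[120, 122, 128, 131, 138, 152, 167, 177], 1, [7], [[[2, -1, -1, 1, -1, 0, 0, -1], [2, 0, -1, 0, -1, 0, 0, -1], [3, 0, -2, 0, 0, 0, -1, -1], [4, 0, -3, 0, 0, -1, -1, -1], [3, 0, -2, 0, 0, -1, -1, -1], [2, 0, -1, 0, 0, -1, -1], [1, 0, 0, -1, 0, 0, -1], [1]]], [1, -1, 0, 1, -1, 1, 0, -1, 1]⟩,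
  ⟨[], 1, [], [], [-1, 0, 0, 0, 0, 0, 0, 0, 0, 0, 0, 0, 0, 0, 0, 0, 1]⟩,
  ⟨[], 1, [], [], [-1, 0, 0, 0, 0, 0, 0, 0, 0, 0, 0, 0, 0, 0, 0, 0, 0, 1]⟩,
  ⟨[120, 121, 123, 126, 153, 189, 196, 238], 3, [7], [[[1, 2, -2, 4, -1, 1], [2, 4, -1, 5, -2, -1], [3, 3, -3, 6, -3], [4, 5, -5, 10, -4, 1], [2, 4, -4, 8, -2, -1], [2, 4, -4, 5, -2, -1], [3, 3, -3, 3, -3], [3]]], [1, 0, 0, -1, 0, 0, 1]⟩,
  ⟨[], 1, [], [], [-1, 0, 0, 0, 0, 0, 0, 0, 0, 0, 0, 0, 0, 0, 0, 0, 0, 0, 0, 1]⟩,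
  ⟨[120, 122, 123, 129, 146, 164, 229, 236], 1, [7], [[[1, -1, 0, 0, 0, 0, 0, 1], [2, -1, -1, -1, 0, 0, 0, 1], [3, -1, -1, -1, 0, 0, -1, 1], [5, -1, -2, -2, 1, 1, -1, 1], [4, -1, -2, -1, 1, 1, -1, 1], [3, 0, -1, -1, 0, 1, 0, 1], [2, 0, 0, 0, 0, 0, 0, 1], [1]]], [1, 0, -1, 0, 1, 0, -1, 0, 1]⟩,
  ⟨[], 1, [], [], [-1, 0, 0, 0, 0, 0, 0, 0, 0, 0, 0, 0, 0, 0, 0, 0, 0, 0, 0, 0, 0, 1]⟩,
  ⟨[], 1, [], [], [-1, 0, 0, 0, 0, 0, 0, 0, 0, 0, 0, 0, 0, 0, 0, 0, 0, 0, 0, 0, 0, 0, 1]⟩,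
  ⟨[], 1, [], [], [-1, 0, 0, 0, 0, 0, 0, 0, 0, 0, 0, 0, 0, 0, 0, 0, 0, 0, 0, 0, 0, 0, 0, 1]⟩,
  ⟨[120, 126, 132, 137, 143, 151, 180, 181], 1, [7], [[[2, 1, -1, -1, -1, 0, 1], [2, 1, -1, -1, 0, 0, 1, -1], [3, 2, -1, -2, -1, 0, 1], [5, 2, -2, -3, -1, 1, 2, -1], [4, 1, -2, -2, 0, 1, 1, -1], [3, 1, -1, -2, 0, 0, 1], [2, 1, -1, -1, 0, 0, 1], [1]]], [1, 0, 0, 0, -1, 0, 0, 0, 1]⟩,
  ⟨[], 1, [], [], [-1, 0, 0, 0, 0, 0, 0, 0, 0, 0, 0, 0, 0, 0, 0, 0, 0, 0, 0, 0, 0, 0, 0, 0, 0, 1]⟩,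
  ⟨[], 1, [], [], [-1, 0, 0, 0, 0, 0, 0, 0, 0, 0, 0, 0, 0, 0, 0, 0, 0, 0, 0, 0, 0, 0, 0, 0, 0, 0, 1]⟩,
  ⟨[], 1, [], [], [-1, 0, 0, 0, 0, 0, 0, 0, 0, 0, 0, 0, 0, 0, 0, 0, 0, 0, 0, 0, 0, 0, 0, 0, 0, 0, 0, 1]⟩,
  ⟨[], 1, [], [], [-1, 0, 0, 0, 0, 0, 0, 0, 0, 0, 0, 0, 0, 0, 0, 0, 0, 0, 0, 0, 0, 0, 0, 0, 0, 0, 0, 0, 1]⟩,
  ⟨[], 1, [], [], [-1, 0, 0, 0, 0, 0, 0, 0, 0, 0, 0, 0, 0, 0, 0, 0, 0, 0, 0, 0, 0, 0, 0, 0, 0, 0, 0, 0, 0, 1]⟩,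
  ⟨[120, 121, 123, 133, 168, 176, 194, 221], 1, [0], [[[1], [2, -1, -1, 1, 1, 0, 0, -1], [3, -1, -1, 1, 0, -1, 1], [4, -2, -2, 2, 2, -1, 0, -1], [3, -1, -1, 2, 1, -2], [3, 0, -2, 1, 1, -2, 0, 1], [2, 0, -1, 1, 0, -2, 0, 1], [2, 1, -1, -1, -1, -1, 1, 1]]], [1, 1, 0, -1, -1, -1, 0, 1, 1]⟩]

lemma chkE8 : sylAll chevE8 [2, 8, 12, 14, 18, 20, 24, 30] cE8 = true := by decide +kernel


/-- Sylow subgroups for primes away from the characteristic and the Weyl group. Let `G` be the Chevalley group of type G₂, B₂, D₄, F₄, E₆, E₇ or E₈ over a field with `q` elements, with the degrees of its Weyl group listed beside the type (their product is the order of the Weyl group), and let `r` be a prime dividing the order of `G`, not dividing `q` and not dividing the order of the Weyl group. Let `d` be the multiplicative order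 of `q` modulo `r`, `a` the number of degrees divisible by `d`, and `m` the `r`-part of the value at `q` of the `d`-th cyclotomic polynomial. Then every Sylow `r`-subgroup of `G` is homocyclic: a direct product of `a` cyclic groups of order `m` (in particular abelian). -/
theorem result {F : Type*} [Field F] [Fintype F] {q : ℕ} (hq : Fintype.card F = q)
    (c : Cfsg.Lie.ChevalleyDatum × List ℕ)
    (hc : c ∈ [(Cfsg.Lie.chevG2, [2, 6]), (Cfsg.Lie.chevB2, [2, 4]), (Cfsg.Lie.chevD4, [2, 4, 4, 6]), (Cfsg.Lie.chevF4, [2, 6, 8, 12]),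
      (Cfsg.Lie.chevE6, [2, 5, 6, 8, 9, 12]), (Cfsg.Lie.chevE7, [2, 6, 8, 10, 12, 14, 18]), (Cfsg.Lie.chevE8, [2, 8, 12, 14, 18, 20, 24, 30])])
    (r : ℕ) [Fact r.Prime] (hrq : ¬ r ∣ q) (hrW : ¬ r ∣ c.2.prod) (hrG : r ∣ Nat.card ↥(c.1.group F)) (P : Sylow r ↥(c.1.group F)) :
    Nonempty (↥(P : Subgroup ↥(c.1.group F)) ≃*
      (Fin (c.2.filter (fun e => orderOf (q : ZMod r) ∣ e)).length →
        Multiplicative (ZMod (r ^ padicValNat r ((Polynomial.cyclotomic (orderOf (q : ZMod r)) ℤ).eval (q : ℤ)).natAbs)))) := by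
  simp only [List.mem_cons, List.not_mem_nil, or_false] at hc
  rcases hc with rfl | rfl | rfl | rfl | rfl | rfl | rfl
  · exact sylow_homocyclic (by simp) rsG2 smithG2 (by decide) (by decide) chkG2 hq
      ((H39.poinWG2 _ _).trans (by simp [mul_assoc])) r hrq hrW hrG P
  · exact sylow_homocyclic (by simp) rsB2 smithB2 (by decide) (by decide) chkB2 hq
      ((H39.poinWB2 _ _).trans (by simp [mul_assoc])) r hrq hrW hrG P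
  · exact sylow_homocyclic (by simp) rsD4 smithD4 (by decide) (by decide) chkD4 hq
      ((H39.poinWD4 _ _).trans (by simp [mul_assoc])) r hrq hrW hrG P
  · exact sylow_homocyclic (by simp) rsF4 smithF4 (by decide) (by decide) chkF4 hq
      ((H39.poinWF4 _ _).trans (by simp [mul_assoc])) r hrq hrW hrG P
  · exact sylow_homocyclic (by simp) rsE6 smithE6 (by decide) (by decide) chkE6 hq
      ((H39.poinWE6 _ _).trans (by simp [mul_assoc])) r hrq hrW hrG P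
  · exact sylow_homocyclic (by simp) rsE7 smithE7 (by decide) (by decide) chkE7 hq
      ((H39.poinWE7 _ _).trans (by simp [mul_assoc])) r hrq hrW hrG P
  · exact sylow_homocyclic (by simp) rsE8 smithE8 (by decide) (by decide) chkE8 hq
      ((H39.poinWE8 _ _).trans (by simp [mul_assoc])) r hrq hrW hrG P

end Cfsg.Agent.S2378
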