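import Mathlib
import Cfsg.Statements.S4450
import Cfsg.Agent.Lib.Glaub.Over
import Cfsg.Agent.Lib.Char.ExtMain
import Cfsg.Agent.S4448
import Cfsg.Agent.S4449
-- import your own Cfsg.Agent.* helpers here

set_option autoImplicit false
set_option linter.style.haveILetI false
open Cfsg

namespace Cfsg.Agent.S4450

theorem solv_of_comap {A B : Type*} [Group A] [Group B] (f : A →* B) (H : Subgroup A)
    (K : Subgroup B) [H.Normal] [K.Normal] (h : ∀ x, x ∈ H ↔ f x ∈ K)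
    (hs : Group.IsSolvable (B ⧸ K)) : Group.IsSolvable (A ⧸ H) := by
  refine Group.isSolvable_of_isSolvable_injective
    (f := QuotientGroup.map H K f fun x hx => (h x).1 hx) ?_
  rw [injective_iff_map_eq_one]
  intro q hq
  obtain ⟨x, rfl⟩ := QuotientGroup.mk_surjective q
  rw [QuotientGroup.eq_one_iff, h]
  exact (QuotientGroup.eq_one_iff _).1 hq

theorem solv_of_surj {A B : Type*} [Group A] [Group B] (f : A →* B) (hf : Function.Surjective f)
    (H : Subgroup A) (K : Subgroup B) [H.Normal] [K.Normal] (h : ∀ x, x ∈ H → f x ∈ K)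
    (hs : Group.IsSolvable (A ⧸ H)) : Group.IsSolvable (B ⧸ K) := by
  refine Group.isSolvable_of_surjective (f := QuotientGroup.map H K f h) ?_
  intro q
  obtain ⟨y, rfl⟩ := QuotientGroup.mk_surjective q
  obtain ⟨x, rfl⟩ := hf y
  exact ⟨(x : A ⧸ H), rfl⟩

/-- The conclusion. -/
def Over {Γ : Type*} [Group Γ] (G N : Subgroup Γ) [hG : G.Normal] [Fintype N] (hNG : N ≤ G)
    (θ : N → ℂ) : Prop :=
  ∃ χ : IrrCharacter G, classInner (fun n : N => (χ : G → ℂ) ⟨n, hNG n.2⟩) θ ≠ 0 ∧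
    ∀ (x : Γ) (g : G), (χ : G → ℂ) ⟨x * g * x⁻¹, hG.conj_mem g g.2 x⟩ = (χ : G → ℂ) g

/-- The case that `G` is a Hall subgroup. -/
theorem over_of_hall {Γ : Type*} [Group Γ] [Finite Γ] (G N : Subgroup Γ) [hG : G.Normal]
    [hN : N.Normal] [Fintype N] (hNG : N ≤ G) (hcop : (Nat.card G).Coprime G.index)
    (hsolv : Group.IsSolvable (Γ ⧸ G) ∨ Group.IsSolvable (G ⧸ N.subgroupOf G))
    {θ : N → ℂ} (hθ : IsIrrCharacter N θ)
    (hinv : ∀ (x : Γ) (n : N), θ ⟨x * n * x⁻¹, hN.conj_mem n n.2 x⟩ = θ n) : Over G N hNG θ := by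
  haveI : Fintype Γ := Fintype.ofFinite _
  haveI : Fintype G := Fintype.ofFinite _
  obtain ⟨S, hS⟩ := Subgroup.exists_right_complement'_of_coprime hcop
  have hc : Nat.card S = G.index := hS.symm.index_eq_card.symm
  have hinv' : ∀ s ∈ S, ∀ g g' : N, (g' : Γ) = s * g * s⁻¹ → θ g' = θ g := by
    intro s _ g g' e
    rw [← hinv s g]
    exact congrArg θ (Subtype.ext e)
  have key : ∃ χ : IrrCharacter G, classInner (fun n : N => (χ : G → ℂ) ⟨n, hNG n.2⟩) θ ≠ 0 ∧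
      (∀ s ∈ S, ∀ g g' : G, (g' : Γ) = s * g * s⁻¹ → (χ : G → ℂ) g' = (χ : G → ℂ) g) := by
    rcases hsolv with h | h
    · refine Cfsg.Agent.S4449.result G S N (fun s _ g hg => hG.conj_mem g hg s) hNG
        (fun g _ n hn => hN.conj_mem n hn g) (fun g _ n hn => hN.conj_mem n hn g) (hc ▸ hcop) ?_
        ⟨θ, hθ⟩ hinv'
      exact Group.isSolvable_of_surjective (f := hS.symm.QuotientMulEquiv.toMonoidHom)
        hS.symm.QuotientMulEquiv.surjective
    · refine Cfsg.Agent.S4448.result G S N (fun s _ g hg => hG.conj_mem g hg s) hNG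
        (fun g _ n hn => hN.conj_mem n hn g) ?_ h ⟨θ, hθ⟩ hinv'
      rw [hc]
      exact Nat.Coprime.coprime_dvd_left (Subgroup.index_dvd_card _) hcop
  obtain ⟨χ, h1, h2⟩ := key
  refine ⟨χ, h1, fun x g => ?_⟩
  obtain ⟨⟨k, s⟩, rfl⟩ := hS.2 x
  have h3 := h2 s s.2 g ⟨s * g * (s : Γ)⁻¹, hG.conj_mem g g.2 s⟩ rfl
  rw [← h3, ← H6.classFun_conj' (H6.irr_isClassFunction χ.2) ⟨s * g * (s : Γ)⁻¹, _⟩ k⁻¹]
  refine congrArg χ.1 (Subtype.ext ?_)
  simp [mul_assoc]

theorem over_up {Γ Δ : Type*} [Group Γ] [Group Δ] (π : Γ →* Δ)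
    (hπ : Function.Surjective π) (G N : Subgroup Γ) (G' N' : Subgroup Δ) [hG : G.Normal]
    [hG' : G'.Normal] [Fintype N] [Fintype N'] (hNG : N ≤ G) (hNG' : N' ≤ G')
    (h1 : ∀ x, x ∈ G ↔ π x ∈ G') (h2 : ∀ x, x ∈ N ↔ π x ∈ N') {θ : N' → ℂ}
    (h : Over G' N' hNG' θ) : Over G N hNG (fun n => θ ⟨π n, (h2 n).1 n.2⟩) := by
  obtain ⟨χ, hχ, hinv⟩ := h
  let f : G →* G' := (π.comp G.subtype).codRestrict G' fun x => (h1 x).1 x.2
  let f' : N →* N' := (π.comp N.subtype).codRestrict N' fun x => (h2 x).1 x.2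
  have hf : Function.Surjective f := by
    rintro ⟨y, hy⟩
    obtain ⟨x, rfl⟩ := hπ y
    exact ⟨⟨x, (h1 x).2 hy⟩, rfl⟩
  have hf' : Function.Surjective f' := by
    rintro ⟨y, hy⟩
    obtain ⟨x, rfl⟩ := hπ y
    exact ⟨⟨x, (h2 x).2 hy⟩, rfl⟩
  refine ⟨⟨_, H6.isIrrCharacter_comp_surjective f hf χ.2⟩, ?_, fun x g => ?_⟩
  · rw [← H6.classInner_comp_surjective f' hf'] at hχ
    exact hχ
  · refine Eq.trans ?_ (hinv (π x) (f g))
    refine congrArg χ.1 (Subtype.ext ?_)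
    change π (x * g * x⁻¹) = π x * π g * (π x)⁻¹
    simp

theorem coprime_orderOf_pow {M : Type*} [Group M] (x : M) (hx : orderOf x ≠ 0) (m : ℕ) :
    (orderOf (x ^ m ^ orderOf x)).Coprime m := by
  rcases Nat.eq_zero_or_pos m with rfl | hm
  · rw [zero_pow hx]; simp
  rw [orderOf_pow' x (pow_ne_zero _ hm.ne')]
  set o := orderOf x
  refine Nat.Coprime.symm (Nat.coprime_of_dvd fun p hp h1 h2 => ?_)
  have h3 : p ^ o.factorization p ∣ o.gcd (m ^ o) :=
    Nat.dvd_gcd (Nat.ordProj_dvd o p) ((pow_dvd_pow p (Nat.factorization_lt p hx).le).trans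
      (pow_dvd_pow_of_dvd h1 o))
  have h4 : p * p ^ o.factorization p ∣ o := by
    have := Nat.mul_dvd_mul h2 h3
    rwa [Nat.div_mul_cancel (Nat.gcd_dvd_left _ _)] at this
  rw [← pow_succ'] at h4
  exact Nat.pow_succ_factorization_not_dvd hx hp h4

/-- The case of a linear character of order prime to the index of `G`. -/
theorem over_of_hom_coprime {Γ : Type*} [Group Γ] [Finite Γ] (G N : Subgroup Γ) [hG : G.Normal]
    [hN : N.Normal] [Fintype N] (hNG : N ≤ G) (hcop : (G.index).Coprime (N.relIndex G))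
    (hsolv : Group.IsSolvable (Γ ⧸ G) ∨ Group.IsSolvable (G ⧸ N.subgroupOf G))
    (ν : N →* ℂˣ) (ho : (orderOf ν).Coprime G.index)
    (hinv : ∀ (x : Γ) (n : N), ν ⟨x * n * x⁻¹, hN.conj_mem n n.2 x⟩ = ν n) :
    Over G N hNG (fun n => (ν n : ℂ)) := by
  classical
  let K : Subgroup Γ := ν.ker.map N.subtype
  haveI hK : K.Normal := H31.normal_ker_map ν hinv
  have hKN : K ≤ N := Subgroup.map_subtype_le _
  let π := QuotientGroup.mk' K
  have hπ : Function.Surjective π := QuotientGroup.mk'_surjective K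
  have hc : ∀ H : Subgroup Γ, K ≤ H → (H.map π).comap π = H := fun H hH =>
    Subgroup.comap_map_eq_self (by rwa [QuotientGroup.ker_mk'])
  have h1 : ∀ x, x ∈ G ↔ π x ∈ G.map π := fun x => by
    conv_lhs => rw [← hc G (hKN.trans hNG)]
    rfl
  have h2 : ∀ x, x ∈ N ↔ π x ∈ N.map π := fun x => by
    conv_lhs => rw [← hc N hKN]
    rfl
  haveI : (G.map π).Normal := hG.map π hπ
  haveI hN' : (N.map π).Normal := hN.map π hπ
  haveI : Fintype (N.map π) := Fintype.ofFinite _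
  obtain ⟨θ, hθ, hθν⟩ := H31.exists_irr_descend (π.subgroupMap N) (π.subgroupMap_surjective N)
    (H6.isIrrCharacter_hom ν) (by
      intro z hz
      have : (z : Γ) ∈ K := (QuotientGroup.eq_one_iff _).1 (congrArg Subtype.val hz)
      obtain ⟨w, hw, hwz⟩ := this
      have : w = z := Subtype.ext hwz
      rw [← this, MonoidHom.mem_ker.1 hw, map_one])
  have hidx : (G.map π).index = G.index := Subgroup.index_map_eq _ hπ
    (by rw [QuotientGroup.ker_mk']; exact hKN.trans hNG)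
  have hcard : Nat.card (G.map π) = K.relIndex N * N.relIndex G := by
    rw [Subgroup.relIndex_mul_relIndex _ _ _ hKN hNG, ← Subgroup.relIndex_ker,
      QuotientGroup.ker_mk']
  have hKi : (K.relIndex N).Coprime G.index := by
    have : K.subgroupOf N = ν.ker :=
      Subgroup.comap_map_eq_self_of_injective N.subtype_injective _
    rw [Subgroup.relIndex, this, Subgroup.index_ker]
    refine Nat.coprime_of_dvd fun p hp h3 h4 => ?_
    haveI := Fact.mk hp
    haveI : Finite ν.range := Finite.of_surjective _ ν.rangeRestrict_surjective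
    obtain ⟨⟨_, y, rfl⟩, hy⟩ := exists_prime_orderOf_dvd_card' p h3
    have h5 : p ∣ orderOf ν := by
      rw [← hy, orderOf_dvd_iff_pow_eq_one]
      exact Subtype.ext ((H31.orderOf_hom_dvd_iff ν _).1 dvd_rfl y)
    exact hp.one_lt.ne' (Nat.eq_one_of_dvd_coprimes ho h5 h4)
  have := over_of_hall (G.map π) (N.map π) (Subgroup.map_mono hNG)
    (by rw [hidx, hcard]; exact Nat.Coprime.mul_left hKi hcop.symm) (θ := θ) (by
      rcases hsolv with h | h
      · exact Or.inl (solv_of_surj π hπ G _ (fun x hx => (h1 x).1 hx) h)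
      · exact Or.inr (solv_of_surj (π.subgroupMap G) (π.subgroupMap_surjective G) _ _
          (fun x hx => (h2 x).1 hx) h)) hθ (by
      rintro x ⟨_, n, hn, rfl⟩
      obtain ⟨x, rfl⟩ := hπ x
      have e1 := hθν ⟨n, hn⟩
      have e2 := hθν ⟨x * n * x⁻¹, hN.conj_mem n hn x⟩
      rw [hinv x ⟨n, hn⟩] at e2
      refine Eq.trans ?_ (e2.trans e1.symm)
      refine congrArg θ (Subtype.ext ?_)
      change π x * π n * (π x)⁻¹ = π (x * n * x⁻¹)
      simp)
  have h3 := over_up π hπ G N _ _ hNG _ h1 h2 this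
  convert h3 using 1
  funext n
  exact (hθν n).symm

/-- The case of a linear character. -/
theorem over_of_hom {Γ : Type*} [Group Γ] [Finite Γ] (G N : Subgroup Γ) [hG : G.Normal]
    [hN : N.Normal] [Fintype N] (hNG : N ≤ G) (hcop : (G.index).Coprime (N.relIndex G))
    (hsolv : Group.IsSolvable (Γ ⧸ G) ∨ Group.IsSolvable (G ⧸ N.subgroupOf G))
    (ν : N →* ℂˣ) (hinv : ∀ (x : Γ) (n : N), ν ⟨x * n * x⁻¹, hN.conj_mem n n.2 x⟩ = ν n) :
    Over G N hNG (fun n => (ν n : ℂ)) := by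
  classical
  have ho := H31.orderOf_hom_ne_zero ν
  obtain ⟨u, v, huv⟩ : IsCoprime ((G.index ^ orderOf ν : ℕ) : ℤ) ((N.relIndex G ^ orderOf ν : ℕ) : ℤ) :=
    Nat.isCoprime_iff_coprime.2 (Nat.Coprime.pow _ _ hcop)
  let ν₁ : N →* ℂˣ := (ν ^ G.index ^ orderOf ν) ^ u
  let ν₂ : N →* ℂˣ := (ν ^ N.relIndex G ^ orderOf ν) ^ v
  have h12 : ν₁ * ν₂ = ν := by
    have : ∀ {M : Type _} [Group M] (x : M) (a b : ℕ) (u v : ℤ), u * a + v * b = 1 →
        (x ^ a) ^ u * (x ^ b) ^ v = x := by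
      intro M _ x a b u v huv
      rw [← zpow_natCast x a, ← zpow_natCast x b, ← zpow_mul, ← zpow_mul, ← zpow_add, mul_comm _ u,
        mul_comm _ v, huv, zpow_one]
    exact this ν _ _ u v huv
  have hz : ∀ (x : N →* ℂˣ) (k : ℤ), orderOf (x ^ k) ∣ orderOf x := fun x k =>
    orderOf_dvd_of_mem_zpowers ⟨k, rfl⟩
  have ho1 : (orderOf ν₁).Coprime G.index :=
    Nat.Coprime.coprime_dvd_left (hz _ _) (coprime_orderOf_pow ν ho _)
  have ho2 : (orderOf ν₂).Coprime (N.relIndex G) :=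
    Nat.Coprime.coprime_dvd_left (hz _ _) (coprime_orderOf_pow ν ho _)
  have hinv1 : ∀ (x : Γ) (n : N), ν₁ ⟨x * n * x⁻¹, hN.conj_mem n n.2 x⟩ = ν₁ n := fun x n => by
    simp only [ν₁, MonoidHom.zpow_apply, MonoidHom.pow_apply, hinv]
  have hinv2 : ∀ (x : Γ) (n : N), ν₂ ⟨x * n * x⁻¹, hN.conj_mem n n.2 x⟩ = ν₂ n := fun x n => by
    simp only [ν₂, MonoidHom.zpow_apply, MonoidHom.pow_apply, hinv]
  obtain ⟨β, hβ, hβi⟩ := over_of_hom_coprime G N hNG hcop hsolv ν₁ ho1 hinv1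
  let f : N.subgroupOf G →* ℂˣ := ν₂.comp (Subgroup.subgroupOfEquivOfLe hNG).toMonoidHom
  have hof : orderOf f ∣ orderOf ν₂ := (H31.orderOf_hom_dvd_iff _ _).2 fun g =>
    (H31.orderOf_hom_dvd_iff ν₂ _).1 dvd_rfl _
  obtain ⟨μ, hμ, hμo⟩ := H31.exists_hom_ext_of_coprime f (fun g n => hinv2 g ⟨_, n.2⟩)
    (Nat.Coprime.coprime_dvd_right hof ho2.symm)
  have hμc : (N.subgroupOf G).index.Coprime (orderOf μ) := by
    rw [hμo]; exact Nat.Coprime.coprime_dvd_right hof ho2.symm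
  have hμi : ∀ (x : Γ) (g : G), μ ⟨x * g * x⁻¹, hG.conj_mem g g.2 x⟩ = μ g := by
    intro x g
    have := H31.hom_ext_unique (N := N.subgroupOf G)
      (F := μ.comp (MulAut.conjNormal x : MulAut G).toMonoidHom) (F' := μ) (fun n hn => by
        have e1 := hμ ⟨n, hn⟩
        have e2 := hμ ⟨⟨x * n * x⁻¹, hG.conj_mem n n.2 x⟩, hN.conj_mem n hn x⟩
        exact e2.trans ((hinv2 x ⟨n, hn⟩).trans e1.symm))
      (Nat.Coprime.coprime_dvd_right ((H31.orderOf_hom_dvd_iff _ _).2 fun g =>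
        (H31.orderOf_hom_dvd_iff μ _).1 dvd_rfl _) hμc) hμc
    exact DFunLike.congr_fun this g
  refine ⟨⟨_, H6.isIrrCharacter_mul_hom β.2 μ⟩, ?_, fun x g => ?_⟩
  · convert hβ using 1
    rw [H6.classInner_def, H6.classInner_def]
    congr 1
    refine Finset.sum_congr rfl fun n _ => ?_
    have e1 : μ ⟨n, hNG n.2⟩ = ν₂ n := hμ ⟨⟨n, hNG n.2⟩, n.2⟩
    change β.1 _ * (μ ⟨n, hNG n.2⟩ : ℂ) * _ = _
    rw [e1, ← h12, MonoidHom.mul_apply, Units.val_mul, map_mul, H6.conj_hom ν₂]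
    have : (ν₂ n : ℂ) * (ν₂⁻¹ n : ℂˣ) = 1 := by simp
    linear_combination (β.1 ⟨n, hNG n.2⟩ * (starRingEnd ℂ) (ν₁ n : ℂ)) * this
  · change β.1 _ * (μ _ : ℂ) = β.1 g * μ g
    rw [hβi, hμi]

/-- Let N ≤ G be normal subgroups of the finite group Γ with the index of G in Γ coprime to the index of N in G, and Γ/G or G/N solvable. Then for every irreducible character ϑ of N invariant under conjugation by Γ, the induced character ϑ^G has an irreducible constituent invariant under conjugation by Γ. -/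
theorem result {Γ : Type*} [Group Γ] [Fintype Γ] (G N : Subgroup Γ) [hG : G.Normal] [hN : N.Normal] [Fintype G] [Fintype N] (hNG : N ≤ G) (hcop : (G.index).Coprime (N.relIndex G)) (hsolv : Group.IsSolvable (Γ ⧸ G) ∨ Group.IsSolvable (G ⧸ N.subgroupOf G)) (θ : Cfsg.IrrCharacter N) (hinv : ∀ (x : Γ) (n : N), (θ : N → ℂ) ⟨x * n * x⁻¹, hN.conj_mem n n.2 x⟩ = (θ : N → ℂ) n) : ∃ χ : Cfsg.IrrCharacter G, Cfsg.classInner (fun n : N => (χ : G → ℂ) ⟨n, hNG n.2⟩) (θ : N → ℂ) ≠ 0 ∧ ∀ (x : Γ) (g : G), (χ : G → ℂ) ⟨x * g * x⁻¹, hG.conj_mem g g.2 x⟩ = (χ : G → ℂ) g := by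
  classical
  obtain ⟨Δ, _, _, π, τ, ν, h⟩ := H31.exists_centralExt N θ.2 hinv
  haveI : Fintype Δ := Fintype.ofFinite _
  haveI : Fintype (N.comap π) := Fintype.ofFinite _
  haveI : Fintype (G.comap π) := Fintype.ofFinite _
  haveI : Fintype ((N.comap π).subgroupOf (G.comap π)) := Fintype.ofFinite _
  have hle : N.comap π ≤ G.comap π := Subgroup.comap_mono hNG
  obtain ⟨β, hβ, hβi⟩ := over_of_hom (G.comap π) (N.comap π) hle (by
      rw [Subgroup.index_comap_of_surjective _ h.surj, Subgroup.relIndex_comap,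
        Subgroup.map_comap_eq_self_of_surjective h.surj]
      exact hcop) (by
      rcases hsolv with h1 | h1
      · exact Or.inl (solv_of_comap π _ G (fun x => Iff.rfl) h1)
      · exact Or.inr (solv_of_comap (π.subgroupComap G) _ (N.subgroupOf G) (fun x => Iff.rfl) h1))
    ν h.inv
  let M := (N.comap π).subgroupOf (G.comap π)
  have hν : IsIrrCharacter M (fun x : M => (ν ⟨(x : G.comap π), x.2⟩ : ℂ)) :=
    H7.isIrr_subgroupOf hle (H6.isIrrCharacter_hom ν)
  have hνi : ∀ (g : G.comap π) (n : M), (fun x : M => (ν ⟨(x : G.comap π), x.2⟩ : ℂ))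
      ⟨g * n * g⁻¹, (inferInstance : M.Normal).conj_mem (n : G.comap π) n.2 g⟩ =
      (fun x : M => (ν ⟨(x : G.comap π), x.2⟩ : ℂ)) n :=
    fun g n => congrArg Units.val (h.inv g ⟨_, n.2⟩)
  have h0 : ((fun x : M => (ν ⟨(x : G.comap π), x.2⟩ : ℂ)) * fun x : M => τ (x : G.comap π)) =
      fun x : M => θ.1 ⟨π (x : G.comap π), x.2⟩ := by
    funext x
    rw [← h.eq ⟨(x : G.comap π), x.2⟩, mul_comm]
    rfl
  have hprod : IsIrrCharacter M
      ((fun x : M => (ν ⟨(x : G.comap π), x.2⟩ : ℂ)) * fun x : M => τ (x : G.comap π)) := by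
    rw [h0]
    exact H7.isIrr_subgroupOf hle (h.isIrr_comp θ.2)
  have hβ' : classInner (fun x : M => β.1 x) (fun x : M => (ν ⟨(x : G.comap π), x.2⟩ : ℂ)) ≠ 0 := by
    rw [← H7.classInner_res_subgroupOf hle] at hβ
    exact hβ
  have h3 := (H31.gallagher_bijOn M hν hνi hprod
    (H6.isCharacter_restrict (G.comap π) (H6.irr_isCharacter h.irr)) (fun _ => rfl)).mapsTo
    (show β.1 ∈ _ from ⟨β.2,
      (H31.inner_indFun_ne_zero_iff _ _ (H6.irr_isClassFunction β.2)).2 hβ'⟩)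
  obtain ⟨e, he0, -, he⟩ := H31.exists_res_eq_of_invariant M hν hνi β.2 hβ'
  have h4 : ∀ x : M, β.1 x * τ (x : G.comap π) = e * θ.1 ⟨π (x : G.comap π), x.2⟩ := by
    intro x
    rw [he x, mul_assoc]
    exact congrArg _ (congrFun h0 x)
  obtain ⟨χ, hχ, hχπ⟩ := H31.exists_irr_descend (π.subgroupComap G) (h.surjective_res G) h3.1 (by
    intro z hz
    have hz' : π z = 1 := congrArg Subtype.val hz
    have e1 := h4 ⟨z, by change π z ∈ N; rw [hz']; exact N.one_mem⟩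
    have e2 := h4 1
    refine e1.trans (Eq.trans ?_ e2.symm)
    exact congrArg (fun t => (e : ℂ) * θ.1 t) (Subtype.ext (hz'.trans (map_one π).symm)))
  refine ⟨⟨χ, hχ⟩, ?_, fun x g => ?_⟩
  · have : (fun n : N => χ ⟨n, hNG n.2⟩) = (e : ℂ) • θ.1 := by
      funext n
      obtain ⟨y, hy⟩ := h.surj n
      have hyN : y ∈ N.comap π := by change π y ∈ N; rw [hy]; exact n.2
      have e1 := hχπ ⟨y, hle hyN⟩
      have e2 := h4 ⟨⟨y, hle hyN⟩, hyN⟩
      refine Eq.trans ?_ (e1.trans (e2.trans ?_))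
      · exact congrArg χ (Subtype.ext hy.symm)
      · exact congrArg (fun t => (e : ℂ) * θ.1 t) (Subtype.ext hy)
    change classInner (fun n : N => χ ⟨n, hNG n.2⟩) _ ≠ 0
    rw [this, H6.classInner_smul_left, H6.irr_inner_self θ.2, mul_one]
    exact_mod_cast he0.ne'
  · obtain ⟨x, rfl⟩ := h.surj x
    obtain ⟨g, rfl⟩ := h.surjective_res G g
    have e1 := hχπ g
    have e2 := hχπ ⟨x * g * x⁻¹, (inferInstance : (G.comap π).Normal).conj_mem g g.2 x⟩
    refine Eq.trans ?_ (e2.trans (Eq.trans ?_ e1.symm))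
    · refine congrArg χ (Subtype.ext ?_)
      change π x * π g * (π x)⁻¹ = π (x * g * x⁻¹)
      simp
    · change β.1 _ * τ (x * g * x⁻¹) = β.1 g * τ g
      rw [hβi, H6.irr_isClassFunction h.irr]

end Cfsg.Agent.S4450
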