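import Mathlib
import Cfsg.Statements.S0007
import Cfsg.Agent.Lib.Core.GrpBasic

set_option autoImplicit false
open Cfsg
open scoped Pointwise

namespace Cfsg.Agent.S0007

/-- Subgroups of coprime index: the intersection has index equal to the product of the indices, and every element is a product of an element of the first subgroup and an element of the second. -/
theorem result {G : Type*} [Group G] [Finite G] (H K : Subgroup G)
    (h : H.index.Coprime K.index) :
    (H ⊓ K).index = H.index * K.index ∧ ∀ g : G, ∃ x ∈ H, ∃ y ∈ K, g = x * y := by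
  have h1 : (H ⊓ K).index = H.index * K.index := by
    apply le_antisymm Subgroup.index_inf_le
    apply Nat.le_of_dvd (Nat.pos_of_ne_zero Subgroup.index_ne_zero_of_finite)
    exact h.mul_dvd_of_dvd_of_dvd (Subgroup.index_dvd_of_le inf_le_left)
      (Subgroup.index_dvd_of_le inf_le_right)
  refine ⟨h1, ?_⟩
  have h2 := H1.card_mul_set_mul_card_inf H K
  have h3 : Nat.card ((H : Set G) * (K : Set G) : Set G) = Nat.card G := by
    have e1 := (H ⊓ K).card_mul_index
    have e2 := H.card_mul_index
    have e3 := K.card_mul_index
    have hpos : 0 < Nat.card G := Nat.card_pos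
    apply Nat.eq_of_mul_eq_mul_right hpos
    calc Nat.card ((H : Set G) * (K : Set G) : Set G) * Nat.card G
        = Nat.card ((H : Set G) * (K : Set G) : Set G) * Nat.card (H ⊓ K : Subgroup G) *
            (H.index * K.index) := by rw [mul_assoc, ← h1, e1]
      _ = (Nat.card H * H.index) * (Nat.card K * K.index) := by rw [h2]; ring
      _ = Nat.card G * Nat.card G := by rw [e2, e3]
  have h4 : ((H : Set G) * (K : Set G) : Set G) = Set.univ := by
    apply Set.eq_of_subset_of_ncard_le (Set.subset_univ _)
    rw [Set.ncard_univ, ← h3]
    exact le_rfl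
  intro g
  have : g ∈ ((H : Set G) * (K : Set G) : Set G) := h4 ▸ Set.mem_univ g
  obtain ⟨x, hx, y, hy, rfl⟩ := this
  exact ⟨x, hx, y, hy, rfl⟩

end Cfsg.Agent.S0007
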