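import Mathlib
import Cfsg.Statements.S0019
import Cfsg.Agent.Lib.Core.Fitting
import Cfsg.Agent.Lib.Core.HallSZ

set_option autoImplicit false
open Cfsg

namespace Cfsg.Agent.S0019

universe u

open scoped Pointwise in
theorem aux {G : Type u} [Group G] [Finite G] (H₁ H₂ : Subgroup G)
    (h12 : ∀ g : G, ∃ x ∈ H₁, ∃ y ∈ H₂, g = x * y) {p : ℕ} [Fact p.Prime] {N : Subgroup G}
    (hN : IsPGroup p N) (hn : H₁ ≤ Subgroup.normalizer (N : Set G)) (hp : ¬ p ∣ H₂.index) :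
    N ≤ H₂.normalCore := by
  obtain ⟨t, -, ht⟩ := H3.exists_conj_le_of_isPGroup_of_not_dvd_relIndex (T := ⊤) (K := H₂) hN
    le_top (by rwa [Subgroup.relIndex_top_right])
  rw [H3.conj_smul_le_iff] at ht
  have h1 : N ≤ H₂ := by
    obtain ⟨x, hx, y, hy, hxy⟩ := h12 t⁻¹
    intro n hnN
    have h2 := ht _ (H3.conj_mem_of_mem_normalizer (hn hx) hnN)
    have h3 : t = y⁻¹ * x⁻¹ := by rw [← mul_inv_rev, ← hxy, inv_inv]
    have h4 : n = y * (t * (x * n * x⁻¹) * t⁻¹) * y⁻¹ := by rw [h3]; group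
    rw [h4]
    exact H₂.mul_mem (H₂.mul_mem hy h2) (H₂.inv_mem hy)
  intro n hnN g
  obtain ⟨x, hx, y, hy, hxy⟩ := h12 g⁻¹
  have h3 : g = y⁻¹ * x⁻¹ := by rw [← mul_inv_rev, ← hxy, inv_inv]
  have h4 : g * n * g⁻¹ = y⁻¹ * (x⁻¹ * n * x) * y := by rw [h3]; group
  rw [h4]
  exact H₂.mul_mem (H₂.mul_mem (H₂.inv_mem hy)
    (h1 (H3.conj_mem_of_mem_normalizer' (hn hx) hnN))) hy

theorem main (n : ℕ) : ∀ {G : Type u} [Group G] [Finite G], Nat.card G = n →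
    ∀ (H₁ H₂ H₃ : Subgroup G), Group.IsSolvable H₁ → Group.IsSolvable H₂ → Group.IsSolvable H₃ →
    (∀ g : G, ∃ x ∈ H₁, ∃ y ∈ H₂, g = x * y) → (∀ g : G, ∃ x ∈ H₁, ∃ y ∈ H₃, g = x * y) →
    H₂.index.Coprime H₃.index → Group.IsSolvable G := by
  induction n using Nat.strong_induction_on with
  | _ n ih =>
  intro G _ _ hG H₁ H₂ H₃ h₁ h₂ h₃ h12 h13 hcop
  have key : ∀ K : Subgroup G, K.Normal → K ≠ ⊥ → Group.IsSolvable K → Group.IsSolvable G := by
    intro K _ hK hs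
    refine H1.isSolvable_of_normal_of_quotient K hs ?_
    have hsurj := QuotientGroup.mk'_surjective K
    refine ih _ (hG ▸ H1.card_quotient_lt hK) rfl (H₁.map (QuotientGroup.mk' K))
      (H₂.map (QuotientGroup.mk' K)) (H₃.map (QuotientGroup.mk' K)) (H1.isSolvable_map h₁ _)
      (H1.isSolvable_map h₂ _) (H1.isSolvable_map h₃ _) (fun g => ?_) (fun g => ?_)
      (Nat.Coprime.coprime_dvd_left (Subgroup.index_map_dvd _ hsurj)
        (Nat.Coprime.coprime_dvd_right (Subgroup.index_map_dvd _ hsurj) hcop))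
    · obtain ⟨g, rfl⟩ := hsurj g
      obtain ⟨x, hx, y, hy, rfl⟩ := h12 g
      exact ⟨_, ⟨x, hx, rfl⟩, _, ⟨y, hy, rfl⟩, map_mul _ _ _⟩
    · obtain ⟨g, rfl⟩ := hsurj g
      obtain ⟨x, hx, y, hy, rfl⟩ := h13 g
      exact ⟨_, ⟨x, hx, rfl⟩, _, ⟨y, hy, rfl⟩, map_mul _ _ _⟩
  by_cases hb : H₁ = ⊥
  · have : H₂ = ⊤ := by
      rw [eq_top_iff]
      intro g _
      obtain ⟨x, hx, y, hy, rfl⟩ := h12 g
      rw [hb, Subgroup.mem_bot] at hx
      simpa [hx] using hy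
    subst this
    exact H1.isSolvable_of_mulEquiv Subgroup.topEquiv h₂
  have : Nontrivial H₁ := (Subgroup.nontrivial_iff_ne_bot H₁).mpr hb
  obtain ⟨p, hp, hne⟩ := H1.exists_pCore_ne_bot_of_isSolvable (G := H₁)
  have := Fact.mk hp
  have hN : pCoreOf p H₁ ≠ ⊥ := fun h =>
    hne ((Subgroup.map_eq_bot_iff_of_injective _ H₁.subtype_injective).mp h)
  by_cases hd : p ∣ H₂.index
  · have hd' : ¬ p ∣ H₃.index := fun h => hp.one_lt.ne' (Nat.eq_one_of_dvd_coprimes hcop hd h)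
    have := aux H₁ H₃ h13 (H1.isPGroup_pCoreOf H₁) (H1.le_normalizer_pCoreOf H₁) hd'
    exact key H₃.normalCore inferInstance (fun h => hN (le_bot_iff.mp (h ▸ this)))
      (H1.isSolvable_of_le h₃ (Subgroup.normalCore_le _))
  · have := aux H₁ H₂ h12 (H1.isPGroup_pCoreOf H₁) (H1.le_normalizer_pCoreOf H₁) hd
    exact key H₂.normalCore inferInstance (fun h => hN (le_bot_iff.mp (h ▸ this)))
      (H1.isSolvable_of_le h₂ (Subgroup.normalCore_le _))

/-- A finite group that factorises as H₁H₂ and as H₁H₃ with all three subgroups solvable and the indices of H₂ and H₃ coprime is solvable. -/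
theorem result {G : Type*} [Group G] [Finite G] (H₁ H₂ H₃ : Subgroup G)
    (h₁ : Group.IsSolvable H₁) (h₂ : Group.IsSolvable H₂) (h₃ : Group.IsSolvable H₃)
    (h12 : ∀ g : G, ∃ x ∈ H₁, ∃ y ∈ H₂, g = x * y) (h13 : ∀ g : G, ∃ x ∈ H₁, ∃ y ∈ H₃, g = x * y)
    (hcop : H₂.index.Coprime H₃.index) : Group.IsSolvable G := by
  exact main _ rfl H₁ H₂ H₃ h₁ h₂ h₃ h12 h13 hcop

end Cfsg.Agent.S0019
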