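import Mathlib
import Cfsg.Statements.S0006
import Cfsg.Agent.Lib.Core.Fitting
import Cfsg.Agent.Lib.Core.HallSZ
import Cfsg.Agent.S0007
import Cfsg.Agent.S0019
import Cfsg.Agent.S0144

set_option autoImplicit false
open Cfsg

namespace Cfsg.Agent.S0006

universe u

theorem main (n : ℕ) : ∀ {G : Type u} [Group G] [Finite G], Nat.card G = n →
    (∀ p : ℕ, p.Prime → ∃ H : Subgroup G, (∃ k, H.index = p ^ k) ∧ ¬ p ∣ Nat.card H) →
    Group.IsSolvable G := by
  induction n using Nat.strong_induction_on with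
  | _ n ih =>
  intro G _ _ hG h
  have hsub : ∀ p : ℕ, p.Prime → p ∣ Nat.card G → ∀ H : Subgroup G, (∃ k, H.index = p ^ k) →
      ¬ p ∣ Nat.card H → Group.IsSolvable H := by
    intro p hp hd H ⟨k, hk⟩ hH
    have hne : H ≠ ⊤ := by
      rintro rfl
      exact hH (by rwa [Subgroup.card_top])
    refine ih _ (hG ▸ H1.card_lt_of_ne_top hne) rfl fun q hq => ?_
    by_cases hpq : q = p
    · subst hpq
      exact ⟨⊤, ⟨0, by simp⟩, by rwa [Subgroup.card_top]⟩
    obtain ⟨K, ⟨l, hl⟩, hK⟩ := h q hq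
    refine ⟨K.subgroupOf H, ⟨l, ?_⟩, fun hd => hK (hd.trans (H3.card_subgroupOf_dvd K H))⟩
    have hc : K.index.Coprime H.index := by
      rw [hl, hk]
      exact Nat.coprime_pow_primes _ _ hq hp hpq
    have h1 := (Cfsg.Agent.S0007.result K H hc).1
    rw [← Subgroup.relIndex_mul_index (inf_le_right : K ⊓ H ≤ H), Subgroup.inf_relIndex_right,
      hl] at h1
    exact Nat.eq_of_mul_eq_mul_right (Nat.pos_of_ne_zero Subgroup.index_ne_zero_of_finite) h1
  by_cases h3 : ∃ p q r : ℕ, p.Prime ∧ q.Prime ∧ r.Prime ∧ p ∣ Nat.card G ∧ q ∣ Nat.card G ∧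
      r ∣ Nat.card G ∧ p ≠ q ∧ p ≠ r ∧ q ≠ r
  · obtain ⟨p, q, r, hp, hq, hr, dp, dq, dr, hpq, hpr, hqr⟩ := h3
    obtain ⟨H₁, ⟨k₁, hk₁⟩, h₁⟩ := h p hp
    obtain ⟨H₂, ⟨k₂, hk₂⟩, h₂⟩ := h q hq
    obtain ⟨H₃, ⟨k₃, hk₃⟩, h₃⟩ := h r hr
    refine Cfsg.Agent.S0019.result H₁ H₂ H₃ (hsub p hp dp H₁ ⟨_, hk₁⟩ h₁)
      (hsub q hq dq H₂ ⟨_, hk₂⟩ h₂) (hsub r hr dr H₃ ⟨_, hk₃⟩ h₃)
      (Cfsg.Agent.S0007.result H₁ H₂ ?_).2 (Cfsg.Agent.S0007.result H₁ H₃ ?_).2 ?_
    · rw [hk₁, hk₂]; exact Nat.coprime_pow_primes _ _ hp hq hpq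
    · rw [hk₁, hk₃]; exact Nat.coprime_pow_primes _ _ hp hr hpr
    · rw [hk₂, hk₃]; exact Nat.coprime_pow_primes _ _ hq hr hqr
  · push Not at h3
    have h2 : ∃ p q : ℕ, p.Prime ∧ q.Prime ∧ ∀ r : ℕ, r.Prime → r ∣ Nat.card G → r = p ∨ r = q := by
      by_cases h1 : ∃ p : ℕ, p.Prime ∧ p ∣ Nat.card G
      · obtain ⟨p, hp, dp⟩ := h1
        by_cases h2 : ∃ q : ℕ, q.Prime ∧ q ∣ Nat.card G ∧ p ≠ q
        · obtain ⟨q, hq, dq, hpq⟩ := h2
          refine ⟨p, q, hp, hq, fun r hr dr => ?_⟩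
          by_cases hpr : p = r
          · exact Or.inl hpr.symm
          · exact Or.inr (h3 p q r hp hq hr dp dq dr hpq hpr).symm
        · push Not at h2
          exact ⟨p, p, hp, hp, fun r hr dr => Or.inl (h2 r hr dr).symm⟩
      · push Not at h1
        exact ⟨2, 2, Nat.prime_two, Nat.prime_two, fun r hr dr => absurd dr (h1 r hr)⟩
    obtain ⟨p, q, hp, hq, h2⟩ := h2
    obtain ⟨a, m, hm, hma⟩ := Nat.exists_eq_pow_mul_and_not_dvd (Nat.card_pos (α := G)).ne' p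
      hp.one_lt.ne'
    have hm0 : m ≠ 0 := by
      rintro rfl
      exact hm (dvd_zero p)
    have hmq : m = q ^ (Nat.primeFactorsList m).length :=
      Nat.eq_prime_pow_of_unique_prime_dvd hm0 fun {d} hd hdm =>
        (h2 d hd (hma ▸ hdm.mul_left _)).resolve_left fun h => hm (h ▸ hdm)
    exact Cfsg.Agent.S0144.result p q a _ hp hq (hma.trans (by rw [← hmq]))

/-- Converse of Hall's Theorem: if for every prime p a finite group has a subgroup of index equal to the p-part of the group order (a Hall p-complement), then the group is solvable. -/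
theorem result {G : Type*} [Group G] [Finite G]
    (h : ∀ p : ℕ, p.Prime → ∃ H : Subgroup G, H.index = p ^ (Nat.card G).factorization p) :
    Group.IsSolvable G := by
  refine main _ rfl fun p hp => ?_
  obtain ⟨H, hH⟩ := h p hp
  refine ⟨H, ⟨_, hH⟩, fun hd => ?_⟩
  have h1 : p ^ ((Nat.card G).factorization p + 1) ∣ Nat.card G := by
    conv_rhs => rw [← H.index_mul_card, hH]
    rw [pow_succ]
    exact Nat.mul_dvd_mul_left _ hd
  exact Nat.pow_succ_factorization_not_dvd Nat.card_pos.ne' hp h1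

end Cfsg.Agent.S0006
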