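import Cfsg.Statements.S2278
import Cfsg.Agent.Lib.SLGen.Four
-- import your own Cfsg.Agent.* helpers here

set_option autoImplicit false
open Cfsg

namespace Cfsg.Agent.S2278

open H64.SLGen Matrix

theorem jordan_three {F : Type*} [Field F] : (jordan F 3).1 = !![1, 0, 0; 1, 1, 0; 0, 1, 1] := by
  ext i j; fin_cases i <;> fin_cases j <;> simp [jordan_coe, shift]

theorem jordan_three_inv {F : Type*} [Field F] :
    ((jordan F 3)⁻¹).1 = !![1, 0, 0; -1, 1, 0; 1, -1, 1] := by
  have : (jordan F 3).1 * !![1, 0, 0; -1, 1, 0; 1, -1, 1] = 1 := by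
    rw [jordan_three]; ext i j; fin_cases i <;> fin_cases j <;> simp [mul_apply, Fin.sum_univ_three]
  rw [← mul_one ((jordan F 3)⁻¹).1, ← this, ← mul_assoc, coe_inv_mul, one_mul]

theorem e0 {F : Type*} [Field F] : e F 3 0 = ![1, 0, 0] := by ext i; fin_cases i <;> simp [e]

theorem e2 {F : Type*} [Field F] : e F 3 (3 - 1) = ![0, 0, 1] := by ext i; fin_cases i <;> simp [e]

theorem inv_mem_submonoid {F : Type*} [Field F] [Fintype F] (T : Submonoid F) {a : F} (ha : a ∈ T)
    (h0 : a ≠ 0) : a⁻¹ ∈ T := by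
  have h := FiniteField.pow_card_sub_one_eq_one a h0
  have h2 : 1 < Fintype.card F := Fintype.one_lt_card
  have : a⁻¹ = a ^ (Fintype.card F - 2) := by
    refine inv_eq_of_mul_eq_one_right ?_
    rw [← pow_succ', show Fintype.card F - 2 + 1 = Fintype.card F - 1 by omega, h]
  exact this ▸ T.pow_mem ha _

theorem kappa {F : Type*} [Field F] [Fintype F] (p : ℕ) [CharP F p] (hp2 : p ≠ 2)
    {H : Subgroup (SpecialLinearGroup (Fin 3) F)} (hC : jordan F 3 ∈ H) {κ : F} (hκ : κ ≠ 0)
    (ht : Tr H (κ • ![1, 0, 0]) ![0, 0, 1]) : Tr H ![1, 0, 0] ![0, 0, 1] := by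
  have hpp : p.Prime := CharP.char_is_prime F p
  have c1 : ∀ r : F, Tr H (r • ![1, 0, 0]) ![0, 0, 1] → Tr H (r • ![1, 1, 0]) ![1, -1, 1] := by
    intro r h
    convert h.conj hC using 1
    · rw [jordan_three]; ext i; fin_cases i <;> simp [mulVec, dotProduct, Fin.sum_univ_three]
    · rw [jordan_three_inv]; ext i; fin_cases i <;> simp [vecMul, dotProduct, Fin.sum_univ_three]
  have c2 : ∀ r : F, Tr H (r • ![1, 1, 0]) ![1, -1, 1] → Tr H (r • ![1, 2, 1]) ![3, -2, 1] := by
    intro r h
    convert h.conj hC using 1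
    · rw [jordan_three]; ext i; fin_cases i <;> simp [mulVec, dotProduct, Fin.sum_univ_three]
      ring
    · rw [jordan_three_inv]; ext i
      fin_cases i <;> simp [vecMul, dotProduct, Fin.sum_univ_three] <;> norm_num
  have c3 : ∀ r : F, Tr H (r • ![1, 1, 0]) ![0, 0, 1] → Tr H (r • ![1, 2, 1]) ![1, -1, 1] := by
    intro r h
    convert h.conj hC using 1
    · rw [jordan_three]; ext i; fin_cases i <;> simp [mulVec, dotProduct, Fin.sum_univ_three]
      ring
    · rw [jordan_three_inv]; ext i; fin_cases i <;> simp [vecMul, dotProduct, Fin.sum_univ_three]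
  have c1' : ∀ r : F, Tr H (r • ![1, 1, 0]) ![1, -1, 1] → Tr H (r • ![1, 0, 0]) ![0, 0, 1] := by
    intro r h
    have := Tr.conj' (v := r • ![1, 0, 0]) (φ := ![1, -1, 1]) hC (by
      convert h using 1
      rw [jordan_three]; ext i; fin_cases i <;> simp [mulVec, dotProduct, Fin.sum_univ_three])
    convert this using 1
    rw [jordan_three]; ext i; fin_cases i <;> simp [vecMul, dotProduct, Fin.sum_univ_three]
  have RR : ∀ r r' : F, Tr H (r • ![1, 0, 0]) ![0, 0, 1] → Tr H (r' • ![1, 0, 0]) ![0, 0, 1] →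
      Tr H ((r * r') • ![1, 1, 0]) ![0, 0, 1] := by
    intro r r' h h'
    convert (c1 r h).comm h' (by simp [dotProduct, Fin.sum_univ_three]) using 1
    ext i; fin_cases i <;> simp [dotProduct, Fin.sum_univ_three, mul_comm]
  have SS : ∀ s s' : F, Tr H (s • ![1, 1, 0]) ![0, 0, 1] → Tr H (s' • ![1, 1, 0]) ![0, 0, 1] →
      Tr H ((s * s') • ![1, 0, 0]) ![0, 0, 1] := by
    intro s s' h h'
    apply c1'
    convert h.comm (c3 s' h') (by simp [dotProduct, Fin.sum_univ_three]) using 1
    ext i; fin_cases i <;> simp [dotProduct, Fin.sum_univ_three, mul_comm]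
  let T : Submonoid F :=
    { carrier := {a | ∀ r, Tr H (r • ![1, 0, 0]) ![0, 0, 1] → Tr H ((a * r) • ![1, 0, 0]) ![0, 0, 1]}
      mul_mem' := fun ha hb r hr => by rw [mul_assoc]; exact ha _ (hb r hr)
      one_mem' := fun r hr => by rwa [one_mul] }
  have h3 : κ ^ 3 ∈ T := fun r hr => by
    have := SS _ _ (RR _ _ ht ht) (RR _ _ ht hr)
    convert this using 2; ring
  suffices hk : κ ∈ T by
    have := inv_mem_submonoid T hk hκ κ ht
    rwa [inv_mul_cancel₀ hκ, one_smul] at this
  by_cases hp3 : p = 3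
  · subst hp3
    obtain ⟨n, -, hn⟩ := FiniteField.card F 3
    have h := FiniteField.pow_card κ
    obtain ⟨m, hm⟩ : ∃ m, (n : ℕ) = m + 1 := ⟨(n : ℕ) - 1, by have : 0 < (n : ℕ) := n.2; omega⟩
    rw [hn, hm, pow_succ', pow_mul] at h
    exact h ▸ T.pow_mem h3 _
  have hinv : Tr H (κ⁻¹ • ![1, 2, 1]) ![1, -1, 1] := by
    apply c3
    have := RR _ _ ht (inv_mem_submonoid T h3 (pow_ne_zero 3 hκ) κ ht)
    convert this using 2; field_simp
  have h6 : (6 : F) ≠ 0 := by
    intro h
    have h1 : p ∣ 2 * 3 := (CharP.cast_eq_zero_iff F p 6).mp (by exact_mod_cast h)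
    rcases (Nat.Prime.dvd_mul hpp).mp h1 with h | h
    · exact hp2 ((Nat.prime_dvd_prime_iff_eq hpp Nat.prime_two).mp h)
    · exact hp3 ((Nat.prime_dvd_prime_iff_eq hpp Nat.prime_three).mp h)
  have h2 : κ ^ 2 ∈ T := fun r hr => by
    have y := c2 r (c1 r hr)
    have y1 : Tr H ((r * κ) • ![1, 0, 0]) ![0, 1, -2 - 3 * κ] := by
      convert hinv.neg_left.conjT (ht.conjT y) using 1
      · ext i; fin_cases i <;> simp [dotProduct, Fin.sum_univ_three] <;> field_simp <;> ring
      · ext i; fin_cases i <;> simp [dotProduct, Fin.sum_univ_three] <;> field_simp <;> ring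
    have y2 : Tr H ((r * κ) • ![1, 0, 0]) ![0, 1, -2 + 3 * κ] := by
      convert (hinv.conjT (ht.neg_left.conjT y)).neg_left using 1
      · ext i; fin_cases i <;> simp [dotProduct, Fin.sum_univ_three] <;> field_simp <;> ring
      · ext i; fin_cases i <;> simp [dotProduct, Fin.sum_univ_three] <;> field_simp <;> ring
    have y3 : Tr H ((r * κ) • ![1, 0, 0]) ((6 * κ) • ![0, 0, 1]) := by
      convert y2.sub_right y1 using 1
      ext i; fin_cases i <;> simp; ring
    rw [← tr_smul_iff] at y3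
    obtain ⟨m, hm⟩ : ∃ m : ℕ, (m : F) * 6 = 1 := by
      refine ⟨6 ^ (Fintype.card F - 2), ?_⟩
      have h2 : 1 < Fintype.card F := Fintype.one_lt_card
      push_cast
      rw [← pow_succ, show Fintype.card F - 2 + 1 = Fintype.card F - 1 by omega,
        FiniteField.pow_card_sub_one_eq_one _ h6]
    convert y3.nsmul_left m using 1
    rw [smul_smul, smul_smul]
    congr 1
    linear_combination (-(κ ^ 2 * r)) * hm
  have := T.mul_mem h3 (inv_mem_submonoid T h2 (pow_ne_zero 2 hκ))
  convert this using 1; field_simp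

theorem subring_eq_top {F : Type*} [Field F] [Fintype F] (h2 : (2 : F) ≠ 0) {z : Fˣ}
    (hz : orderOf z = Fintype.card F - 1) (R : Subring F) (hR : ((z ^ 3 : Fˣ) : F) ∈ R) :
    R = ⊤ := by
  classical
  let K : Subfield F :=
    { R with
      inv_mem' := fun x hx => by
        by_cases h0 : x = 0
        · rw [h0, _root_.inv_zero]; exact R.zero_mem
        · exact inv_mem_submonoid R.toSubmonoid hx h0 }
  have hc : Fintype.card F = Fintype.card K ^ Module.finrank K F := Module.card_eq_pow_finrank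
  have h3 : 3 ≤ Fintype.card K := by
    have : ({0, 1, -1} : Finset K).card = 3 := by
      rw [Finset.card_eq_three]
      refine ⟨0, 1, -1, zero_ne_one, by simp, fun h => h2 ?_, rfl⟩
      have := congrArg (fun x : K => (x : F)) h
      simp only [OneMemClass.coe_one, NegMemClass.coe_neg] at this
      linear_combination this
    exact this ▸ Finset.card_le_univ _
  have h4 : orderOf (z ^ 3) ∣ Fintype.card K - 1 := by
    rw [orderOf_dvd_iff_pow_eq_one]
    have := FiniteField.pow_card_sub_one_eq_one (⟨_, hR⟩ : K)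
      (fun h => (z ^ 3).ne_zero (congrArg Subtype.val h))
    have h5 := congrArg (fun x : K => (x : F)) this
    exact Units.ext (by simpa using h5)
  have h5 : Fintype.card F - 1 ≤ 3 * (Fintype.card K - 1) := by
    have h6 : orderOf z ∣ 3 * (Fintype.card K - 1) := by
      rw [orderOf_dvd_iff_pow_eq_one, pow_mul]; exact orderOf_dvd_iff_pow_eq_one.mp h4
    exact hz ▸ Nat.le_of_dvd (by omega) h6
  have h7 : Module.finrank K F = 1 := by
    have hpos : 0 < Module.finrank K F := Module.finrank_pos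
    by_contra h
    have : Fintype.card K ^ 2 ≤ Fintype.card F :=
      hc ▸ Nat.pow_le_pow_right (by omega) (by omega)
    obtain ⟨k, hk⟩ : ∃ k, Fintype.card K = k + 3 := ⟨Fintype.card K - 3, by omega⟩
    rw [hk] at this h5
    have : (k + 3) ^ 2 ≤ 3 * (k + 2) + 1 := by omega
    nlinarith
  rw [h7, pow_one] at hc
  have h8 : Function.Bijective (Subtype.val : K → F) :=
    (Fintype.bijective_iff_injective_and_card _).mpr ⟨Subtype.val_injective, hc.symm⟩
  refine eq_top_iff.mpr fun x _ => ?_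
  obtain ⟨y, rfl⟩ := h8.2 x
  exact y.2


/-- Let F be a finite field. Then SL_3(F) is generated by two conjugate regular unipotent elements: there are u with u − 1 nilpotent and (u − 1)² ≠ 0, and g, such that u and g u g⁻¹ generate SL_3(F). -/
theorem result {F : Type*} [Field F] [Fintype F] :
    ∃ u g : Matrix.SpecialLinearGroup (Fin 3) F, IsNilpotent ((u : Matrix (Fin 3) (Fin 3) F) - 1) ∧ ((u : Matrix (Fin 3) (Fin 3) F) - 1) ^ (3 - 1) ≠ 0 ∧
      Subgroup.closure ({u, g * u * g⁻¹} : Set (Matrix.SpecialLinearGroup (Fin 3) F)) = ⊤ := by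
  obtain ⟨p, hp⟩ := CharP.exists F
  have hpp : p.Prime := CharP.char_is_prime F p
  have hreg := jordan_regular (F := F) (n := 3) (by omega)
  by_cases hp2 : p = 2
  · subst hp2
    have h2 : (2 : F) = 0 := CharP.cast_eq_zero F 2
    obtain ⟨a, -, hgen⟩ := exists_generator (F := F)
    let g : Matrix.SpecialLinearGroup (Fin 3) F := ⟨!![0, a, 1; 0, 1, 0; 1, 0, 0], by
      simp [det_fin_three]; linear_combination -h2⟩
    let v : Matrix.SpecialLinearGroup (Fin 3) F := ⟨!![1, 1, a; 0, 1, 1; 0, 0, 1], by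
      simp [det_fin_three]⟩
    have hg : g * jordan F 3 * g⁻¹ = v := by
      rw [mul_inv_eq_iff_eq_mul]
      refine Subtype.ext ?_
      change g.1 * (jordan F 3).1 = v.1 * g.1
      rw [jordan_three]
      ext i j; fin_cases i <;> fin_cases j <;> simp [g, v, mul_apply, Fin.sum_univ_three]
    refine ⟨jordan F 3, g, hreg.1, hreg.2, ?_⟩
    rw [hg]
    set H := Subgroup.closure {jordan F 3, v}
    have hC : jordan F 3 ∈ H := Subgroup.subset_closure (by simp)
    have hv : v ∈ H := Subgroup.subset_closure (by simp)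
    have ht : Tr H (e F 3 0) (e F 3 (3 - 1)) := by
      rw [e0, e2]
      refine Tr.of_mem (H.mul_mem hv hv) (by simp [dotProduct, Fin.sum_univ_three]) ?_
      change v.1 * v.1 = _
      ext i j
      fin_cases i <;> fin_cases j <;> simp [v, mul_apply, Fin.sum_univ_three, vecMulVec_apply] <;>
        first | linear_combination h2 | linear_combination a * h2
    have h1 := key (by omega) hC ht
    refine eq_top_of_paramRing (hι := by simp) (h1 := h1) (hgen _ ?_)
    have h3 : a - 1 ∈ paramRing H (by simp) h1 := by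
      refine mem_paramRing_of (i := 0) (j := 2) (by decide) ?_
      refine Tr.of_mem (H.mul_mem (H.mul_mem (h1 0 1 (by decide)).neg_left.mem hv)
        (h1 1 2 (by decide)).neg_left.mem) (by simp) ?_
      change (1 + vecMulVec _ _) * v.1 * (1 + vecMulVec _ _) = _
      ext i j
      fin_cases i <;> fin_cases j <;>
        simp [v, mul_apply, Fin.sum_univ_three, vecMulVec_apply, one_apply, sub_eq_add_neg, add_comm]
    simpa using (paramRing H (by simp) h1).add_mem h3 (Subring.one_mem _)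
  have h2 : (2 : F) ≠ 0 := fun h =>
    hp2 ((Nat.prime_dvd_prime_iff_eq hpp Nat.prime_two).mp
      ((CharP.cast_eq_zero_iff F p 2).mp (by exact_mod_cast h)))
  classical
  obtain ⟨z, hz⟩ := IsCyclic.exists_ofOrder_eq_natCard (α := Fˣ)
  rw [Nat.card_eq_fintype_card, Fintype.card_units] at hz
  have hz3 : (z : F) ^ 3 ≠ 1 := by
    intro h
    have h3 : orderOf z ∣ 3 := orderOf_dvd_iff_pow_eq_one.mpr (Units.ext (by simpa using h))
    have h4 : orderOf (-1 : Fˣ) ∣ orderOf z := by
      rw [hz, ← Fintype.card_units]; exact orderOf_dvd_card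
    have h5 : (-1 : Fˣ) ^ 3 = 1 := orderOf_dvd_iff_pow_eq_one.mp (h4.trans h3)
    have h6 := congrArg (fun x : Fˣ => (x : F)) h5
    simp only [Units.val_pow_eq_pow_val, Units.val_neg, Units.val_one] at h6
    exact h2 (by linear_combination -h6)
  obtain ⟨l, hl⟩ : ∃ l : F, l = z := ⟨_, rfl⟩
  have hl0 : l ≠ 0 := hl ▸ z.ne_zero
  have hl3 : l ^ 3 - 1 ≠ 0 := hl ▸ sub_ne_zero.mpr hz3
  have hl1 : 1 - l ≠ 0 := fun h => hl3 (by linear_combination (-(l ^ 2 + l + 1)) * h)
  obtain ⟨μ, hμ⟩ : ∃ μ : F, μ = (l ^ 2)⁻¹ := ⟨_, rfl⟩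
  obtain ⟨σ, hσ⟩ : ∃ σ : F, σ = 3 - 2 * l - μ := ⟨_, rfl⟩
  obtain ⟨κ, hκ⟩ : ∃ κ : F, κ = (1 - l) ^ 3 := ⟨_, rfl⟩
  have hκ0 : κ ≠ 0 := hκ ▸ pow_ne_zero 3 hl1
  let g : Matrix.SpecialLinearGroup (Fin 3) F :=
    ⟨!![1, l - 1, (l - 1) ^ 2; 0, l, l * (l - 1) + l * (μ - 1); 0, 0, l * μ], by
      simp [det_fin_three, hμ]; field_simp⟩
  let h : Matrix.SpecialLinearGroup (Fin 3) F := ⟨!![l, 0, 0; 0, μ, σ; 0, 0, l], by
      simp [det_fin_three, hμ]; field_simp⟩
  have ht0 : ![0, 0, 1] ⬝ᵥ (κ • ![1, 0, 0] : Fin 3 → F) = 0 := by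
    simp [dotProduct, Fin.sum_univ_three]
  let t := tv _ _ ht0
  have ht : t.1 = !![1, 0, κ; 0, 1, 0; 0, 0, 1] := by
    ext i j; fin_cases i <;> fin_cases j <;> simp [t, tv_coe, vecMulVec_apply]
  have hg : g * jordan F 3 * g⁻¹ = jordan F 3 * (t * h) := by
    rw [mul_inv_eq_iff_eq_mul]
    refine Subtype.ext ?_
    change g.1 * (jordan F 3).1 = (jordan F 3).1 * (t.1 * h.1) * g.1
    rw [jordan_three, ht]
    ext i j
    fin_cases i <;> fin_cases j <;> simp [g, h, mul_apply, Fin.sum_univ_three, hκ, hσ, hμ] <;>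
      field_simp <;> ring
  refine ⟨jordan F 3, g, hreg.1, hreg.2, ?_⟩
  rw [hg]
  set H := Subgroup.closure {jordan F 3, jordan F 3 * (t * h)}
  have hC : jordan F 3 ∈ H := Subgroup.subset_closure (by simp)
  have hth : t * h ∈ H := by
    have : jordan F 3 * (t * h) ∈ H := Subgroup.subset_closure (by simp)
    simpa using H.mul_mem (H.inv_mem hC) this
  have hc : Commute t h := by
    refine Subtype.ext ?_
    change t.1 * h.1 = h.1 * t.1
    rw [ht]
    ext i j; fin_cases i <;> fin_cases j <;> simp [h, mul_apply, Fin.sum_univ_three, mul_comm]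
  have hlμ : l - μ ≠ 0 := by
    rw [hμ]; intro h; apply hl3; field_simp at h; linear_combination h
  have hpow : ∀ k : ℕ, (h ^ k).1 =
      !![l ^ k, 0, 0; 0, μ ^ k, σ / (l - μ) * (l ^ k - μ ^ k); 0, 0, l ^ k] := by
    intro k
    induction k with
    | zero => ext i j; fin_cases i <;> fin_cases j <;> simp
    | succ k ih =>
      rw [pow_succ]
      change (h ^ k).1 * h.1 = _
      rw [ih]
      ext i j; fin_cases i <;> fin_cases j <;> simp [h, mul_apply, Fin.sum_univ_three, pow_succ]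
      field_simp; ring
  have hord : h ^ (Fintype.card F - 1) = 1 := by
    refine Subtype.ext ?_
    rw [hpow, FiniteField.pow_card_sub_one_eq_one l hl0,
      FiniteField.pow_card_sub_one_eq_one μ (hμ ▸ inv_ne_zero (pow_ne_zero 2 hl0))]
    ext i j; fin_cases i <;> fin_cases j <;> simp
  have hcop : Nat.Coprime (Fintype.card F - 1) p := by
    obtain ⟨n, -, hn⟩ := FiniteField.card F p
    rw [Nat.coprime_comm, Nat.Prime.coprime_iff_not_dvd hpp]
    intro hd
    have h3 : p ∣ Fintype.card F := hn ▸ dvd_pow_self p n.2.ne'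
    have h4 := Nat.dvd_sub h3 hd
    have : 1 < Fintype.card F := Fintype.one_lt_card
    rw [show Fintype.card F - (Fintype.card F - 1) = 1 by omega] at h4
    exact hpp.one_lt.ne' (Nat.dvd_one.mp h4)
  obtain ⟨htH, hhH⟩ := mem_of_mul_mem hc hcop (tv_pow_char p _ _ _) hord hth
  have h1 := key (by omega) hC (by rw [e0, e2]; exact kappa p hp2 hC hκ0 ⟨ht0, htH⟩)
  refine eq_top_of_paramRing (hι := by simp) (h1 := h1) ?_
  refine subring_eq_top h2 (z := z⁻¹) (by rw [orderOf_inv, hz]) _ ?_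
  have h3 := Tr.conj' (v := l⁻¹ • Pi.single 0 1) (φ := Pi.single 1 1) hhH (by
    convert h1 0 1 (by decide) using 1
    ext i; fin_cases i <;> simp [h, mulVec, dotProduct, Fin.sum_univ_three, hl0])
  have h4 := h3.comm (h1 1 2 (by decide)) (by simp)
  refine mem_paramRing_of (i := 0) (j := 2) (by decide) ?_
  convert h4 using 1
  rw [smul_smul]
  congr 1
  simp [h, vecMul, dotProduct, Fin.sum_univ_three, ← hl, hμ]
  field_simp

end Cfsg.Agent.S2278
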