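import Cfsg.Statements.S2279
import Cfsg.Agent.Lib.SLGen.Four
-- import your own Cfsg.Agent.* helpers here

set_option autoImplicit false
open Cfsg

namespace Cfsg.Agent.S2279
open H64.SLGen Matrix in

/-- Let F be a finite field with q elements and n ≥ 4. Then SL_n(F) is generated by two regular unipotent elements (elements u with u − 1 nilpotent and (u − 1)^(n−1) ≠ 0); if q is prime, the two can be taken conjugate in SL_n(F). -/
theorem result {F : Type*} [Field F] [Fintype F] (n : ℕ) (hn : 4 ≤ n) :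
    (∃ u v : Matrix.SpecialLinearGroup (Fin n) F, (IsNilpotent ((u : Matrix (Fin n) (Fin n) F) - 1) ∧ ((u : Matrix (Fin n) (Fin n) F) - 1) ^ (n - 1) ≠ 0) ∧ (IsNilpotent ((v : Matrix (Fin n) (Fin n) F) - 1) ∧ ((v : Matrix (Fin n) (Fin n) F) - 1) ^ (n - 1) ≠ 0) ∧
      Subgroup.closure ({u, v} : Set (Matrix.SpecialLinearGroup (Fin n) F)) = ⊤) ∧
    ((Fintype.card F).Prime → ∃ u g : Matrix.SpecialLinearGroup (Fin n) F, (IsNilpotent ((u : Matrix (Fin n) (Fin n) F) - 1) ∧ ((u : Matrix (Fin n) (Fin n) F) - 1) ^ (n - 1) ≠ 0) ∧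
      Subgroup.closure ({u, g * u * g⁻¹} : Set (Matrix.SpecialLinearGroup (Fin n) F)) = ⊤) := by
  obtain ⟨m, rfl⟩ : ∃ m, n = m + 4 := ⟨n - 4, by omega⟩
  constructor
  · obtain ⟨a, ha, hgen⟩ := exists_generator (F := F)
    obtain ⟨v, P, hP, hv, hH⟩ := exists_four m a ha
    refine ⟨jordan F (m + 4), v, jordan_regular (by omega),
      regular_of_conj (by omega) (by rw [hP]; exact sub_ne_zero.mpr ha.symm) hv, ?_⟩
    obtain ⟨h1, h2⟩ := hH (Subgroup.closure {jordan F (m + 4), v})
      (Subgroup.subset_closure (by simp)) (Subgroup.subset_closure (by simp))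
    exact eq_top_of_paramRing (hgen _ h2)
  · intro hq
    obtain ⟨v, P, hP, hv, hH⟩ := exists_four m (0 : F) zero_ne_one
    let g : Matrix.SpecialLinearGroup (Fin (m + 4)) F := ⟨P, by rw [hP, sub_zero]⟩
    have hg : g * jordan F (m + 4) * g⁻¹ = v := by
      rw [mul_inv_eq_iff_eq_mul]; exact Subtype.ext hv.symm
    refine ⟨jordan F (m + 4), g, jordan_regular (by omega), ?_⟩
    rw [hg]
    obtain ⟨h1, -⟩ := hH (Subgroup.closure {jordan F (m + 4), v})
      (Subgroup.subset_closure (by simp)) (Subgroup.subset_closure (by simp))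
    refine eq_top_of_paramRing (hι := by simp) (h1 := h1) ?_
    have : Fact (Nat.card F).Prime := ⟨by rwa [Nat.card_eq_fintype_card]⟩
    rcases (paramRing _ (by simp) h1).toAddSubgroup.eq_bot_or_eq_top_of_prime_card with h | h
    · have h2 : (1 : F) ∈ (paramRing _ (by simp) h1).toAddSubgroup := Subring.one_mem _
      rw [h] at h2
      exact absurd h2 (by simp)
    · refine eq_top_iff.mpr fun x _ => ?_
      have h2 : x ∈ (paramRing _ (by simp) h1).toAddSubgroup := h ▸ AddSubgroup.mem_top x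
      exact h2

end Cfsg.Agent.S2279
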