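import Mathlib
import Cfsg.Statements.S1573
import Cfsg.Agent.Lib.Leech.Orb

set_option autoImplicit false
open Cfsg

namespace Cfsg.Agent.S1573

theorem aux (v : Cfsg.leechLattice) (hv : v ∈ H16.Min) (k : ℤ) :
    {w : Cfsg.GolayPt → ℤ | w ∈ Cfsg.leechLattice ∧ Cfsg.sqNorm w = 32 ∧
      Cfsg.dotInt (v : Cfsg.GolayPt → ℤ) w = k}.ncard =
      ((H16.mclL.filter fun e => decide (e.1.1 = k)).map Prod.snd).sum := by
  obtain ⟨g, rfl⟩ := H16.exists_smul_U hv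
  rw [← H16.mcl_count (fun p _ => p = k), ← H16.ncard_leech_eq
    (fun w => Cfsg.sqNorm w = 32 ∧ Cfsg.dotInt ((g • H16.vU : Cfsg.leechLattice) : Cfsg.GolayPt → ℤ) w = k)]
  symm
  refine Set.ncard_congr (fun x _ => g • x) (fun x hx => ?_)
    (fun x y _ _ h => MulAction.injective g h) (fun y hy => ⟨g⁻¹ • y, ?_, smul_inv_smul g y⟩)
  · exact ⟨(H16.sqNorm_co0 g x).trans hx.1, (H16.dotInt_co0 g _ x).trans hx.2⟩
  · exact ⟨(H16.sqNorm_co0 _ y).trans hy.1, (H16.dotInt_co0_left g _ y).symm.trans hy.2⟩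

/-- Census of minimal vectors by inner product with a fixed minimal vector: 4600 have customary inner product −2, 47104 have −1, and 93150 are orthogonal. -/
theorem result (v : Cfsg.GolayPt → ℤ) (hv : v ∈ Cfsg.leechLattice) (hvn : Cfsg.sqNorm v = 32) : {w : Cfsg.GolayPt → ℤ | w ∈ Cfsg.leechLattice ∧ Cfsg.sqNorm w = 32 ∧ Cfsg.dotInt v w = -16}.ncard = 4600 ∧ {w : Cfsg.GolayPt → ℤ | w ∈ Cfsg.leechLattice ∧ Cfsg.sqNorm w = 32 ∧ Cfsg.dotInt v w = -8}.ncard = 47104 ∧ {w : Cfsg.GolayPt → ℤ | w ∈ Cfsg.leechLattice ∧ Cfsg.sqNorm w = 32 ∧ Cfsg.dotInt v w = 0}.ncard = 93150 := by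
  exact ⟨(aux ⟨v, hv⟩ hvn _).trans (by decide), (aux ⟨v, hv⟩ hvn _).trans (by decide),
    (aux ⟨v, hv⟩ hvn _).trans (by decide)⟩

end Cfsg.Agent.S1573
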