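import Mathlib
import Cfsg.Statements.S3776
import Cfsg.Agent.Lib.FGS.Shaw6
-- import your own Cfsg.Agent.* helpers here

set_option autoImplicit false
open Cfsg

namespace Cfsg.Agent.S3776

open Subgroup H76.Shaw H13.Hig

/-- Let G be a finite non-abelian 2-group with more than one involution admitting a solvable group of automorphisms that permutes its involutions transitively. Then the derived subgroup, the Frattini subgroup and the centre of G coincide and consist exactly of the elements x with x² = 1. -/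
theorem result {G : Type*} [Group G] [Finite G] (hG : IsPGroup 2 G) (hna : ¬ IsMulCommutative G) (htwo : ∃ x y : G, x ≠ y ∧ x ≠ 1 ∧ x ^ 2 = 1 ∧ y ≠ 1 ∧ y ^ 2 = 1) (hY : ∃ Y : Subgroup (MulAut G), Group.IsSolvable Y ∧ ∀ x y : G, x ≠ 1 → x ^ 2 = 1 → y ≠ 1 → y ^ 2 = 1 → ∃ a ∈ Y, a x = y) : commutator G = frattini G ∧ frattini G = Subgroup.center G ∧ ∀ x : G, x ∈ Subgroup.center G ↔ x ^ 2 = 1 := by
  obtain ⟨Y, _, hY⟩ := hY
  obtain ⟨x₀, y₀, hxy, hx1, hx2, hy1, hy2⟩ := htwo
  simp only [sq] at *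
  have h : Tr Y := ⟨hG, hY⟩
  obtain ⟨F, _, _, _, ξ, n, N, H⟩ := h.exists_hig (by
    letI := Fintype.ofFinite (Om G)
    rw [Nat.card_eq_fintype_card, Fintype.two_lt_card_iff]
    exact ⟨1, ⟨x₀, h.mem_Om.2 hx2⟩, ⟨y₀, h.mem_Om.2 hy2⟩, fun e => hx1 (congrArg Subtype.val e).symm,
      fun e => hy1 (congrArg Subtype.val e).symm, fun e => hxy (congrArg Subtype.val e)⟩)
  have na : ∃ x y : G, x * y ≠ y * x := by
    by_contra e
    push Not at e
    exact hna ⟨⟨e⟩⟩
  have h1 : frattini G ≤ Om G := (H5.frattini_eq_closure_sq hG).le.trans ((closure_le _).2 (by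
    rintro _ ⟨x, rfl⟩
    show x ^ 2 ∈ Om G
    rw [sq]
    exact H.sq_mem_Om na x))
  have h2 : Om G ≤ commutator G := H.Om_le (inv_top.commutator inv_top)
    fun e => hna ((commutator_eq_bot_iff G).1 e)
  have h3 := H5.commutator_le_frattini hG
  rw [H.center_eq na]
  exact ⟨le_antisymm h3 (h1.trans h2), le_antisymm h1 (h2.trans h3), fun x => h.mem_Om⟩

end Cfsg.Agent.S3776
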