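import Cfsg.Statements.S1322
import Mathlib
import Cfsg.Agent.Lib.PComp.Automizer
import Cfsg.Agent.S1301
import Cfsg.Agent.S0205

set_option autoImplicit false
open Cfsg

namespace Cfsg.Agent.S1322

/-- Let G be finite with L_{2'}(G) = E(G), t an involution and L ≤ C_G(t) a component of C_G(t). Then there is a component D of G with: L = D; or L < D and D = ⁅D, ⟨t⟩⁆; or tDt⁻¹ ≠ D and L is the layer of C_{D ⊔ tDt⁻¹}(t). -/
theorem result {G : Type*} [Group G] [Finite G] (hL2 : Cfsg.pLayer 2 G = Cfsg.layer G) (t : G) (ht : orderOf t = 2) (L : Subgroup G) (hLt : L ≤ Subgroup.centralizer ({t} : Set G)) (hL : Cfsg.IsComponent (L.subgroupOf (Subgroup.centralizer ({t} : Set G)))) : ∃ D : Subgroup G, Cfsg.IsComponent D ∧ (L = D ∨ (L < D ∧ D = ⁅D, Subgroup.zpowers t⁆) ∨ (D.map (MulAut.conj t).toMonoidHom ≠ D ∧ L = (Cfsg.layer ↥((D ⊔ D.map (MulAut.conj t).toMonoidHom) ⊓ Subgroup.centralizer ({t} : Set G))).map ((D ⊔ D.map (MulAut.conj t).toMonoidHom) ⊓ Subgroup.centralizer ({t} :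 Set G)).subtype)) := by
  have : Fact (Nat.Prime 2) := ⟨Nat.prime_two⟩
  have hLc : Cfsg.IsComponentOf L (Subgroup.centralizer ({t} : Set G)) := ⟨hLt, hL⟩
  have hq := H44.IsComponentOf.isQuasisimple hLc
  have hev : ¬ (Nat.card L).Coprime 2 := fun h =>
    H23.IsQuasisimple.not_isSolvable hq (Cfsg.Agent.S0205.result (Nat.coprime_two_right.mp h))
  have hK := H44.PComp.of_isComponentOf hLc hev
  have hP := H44.isPGroup_zpowers_of_orderOf ht
  have hK' : H44.PComp 2 L (⊤ ⊓ Subgroup.centralizer (Subgroup.zpowers t : Set G)) := by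
    rwa [top_inf_eq, H44.centralizer_zpowers]
  have hE : L ≤ H44.layerOf ⊤ := by
    rw [H44.layerOf_top, ← hL2]
    refine le_trans ?_ (Cfsg.Agent.S1301.result _ hP)
    rw [top_inf_eq] at hK'
    exact hK'.le_pLayerOf
  obtain ⟨D, hD, -, hle⟩ := hK'.exists_le_orbitJoin (le_top.trans Subgroup.le_normalizer) hE
  have hD' := H44.isComponentOf_top_iff.mp hD
  have ht2 : t ^ 2 = 1 := by rw [← ht]; exact pow_orderOf_eq_one t
  refine ⟨D, hD', ?_⟩
  by_cases h : t ∈ Subgroup.normalizer (D : Set G)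
  · rw [H44.orbitJoin_eq_of_le_normalizer (Subgroup.zpowers_le.mpr h)] at hle
    rcases H23.IsComponent.commutator_eq_self_or hD' (Subgroup.zpowers_le.mpr h) with h1 | h1
    · rcases hle.eq_or_lt with h2 | h2
      · exact Or.inl h2
      · exact Or.inr (Or.inl ⟨h2, h1.symm⟩)
    · rw [Subgroup.commutator_eq_bot_iff_le_centralizer, H44.centralizer_zpowers] at h1
      exact Or.inl (H44.IsComponentOf.eq_of_le hLc (H44.IsComponentOf.of_le hD h1 le_top) hle)
  · refine Or.inr (Or.inr ⟨fun h1 => h (H68.mem_normalizer_iff_cj.mpr h1), ?_⟩)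
    have hc : t ^ 2 ∈ Subgroup.centralizer (D : Set G) := by rw [ht2]; exact Subgroup.one_mem _
    have hn := Subgroup.centralizer_le_normalizer _ hc
    have h5 := H44.IsComponentOf.commutator_cj_pow hD (Subgroup.le_normalizer (Subgroup.mem_top t)) hn h
    have h6 := H44.eq_range_nrmHom hD'.2 two_pos h5 hc hK.pquasi.perfect hK.pquasi.ne_bot
      hK.subnIn inf_le_right hle hLt
    rw [← H44.orbitJoin_zpowers_two hn]
    change L = H44.layerOf _
    refine le_antisymm (H44.IsComponentOf.le_layerOf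
      (H44.IsComponentOf.of_le hLc (le_inf hle hLt) inf_le_right)) ?_
    rw [h6]
    exact H44.le_range_nrmHom_of_perfect (H23.IsComponent.commutator_self hD') two_pos h5 hc
      (H44.commutator_layerOf_self _) ((H44.layerOf_le _).trans inf_le_left)
      ((H44.layerOf_le _).trans inf_le_right)

end Cfsg.Agent.S1322
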