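import Cfsg.Statements.S1823
import Mathlib
import Cfsg.Agent.Base
import Cfsg.Agent.Lib.QT311.Main

set_option autoImplicit false
open Cfsg

namespace Cfsg.Agent.S1823

/-- A common nontrivial normal 2-subgroup for a pair of 2-local-type subgroups over a Sylow 2-subgroup of a simple QTKE-group. Let G be a non-abelian finite simple QTKE-group and T a Sylow 2-subgroup of G. Let M₀ and H be subgroups of G containing T with O₂(M₀) ≠ 1 and O₂(H) ≠ 1, such that T lies in a unique maximal subgroup of H. Let R be a nontrivial subgroup of T that is a Sylow 2-subgroup of O²(H)R and is normalized by M₀. Then some nontrivial subgroup R₀ of R is normalized by both M₀ and H (that is, R₀ is normal in ⟨M₀, H⟩). -/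
theorem result {G : Type*} [Group G] [Finite G] [IsSimpleGroup G]
    (hG : ¬ IsMulCommutative G) (hQ : Cfsg.IsQTKE G) (T : Sylow 2 G) (M₀ H : Subgroup G)
    (hM₀ : M₀ ∈ Cfsg.calHOver (T : Subgroup G)) (hH : H ∈ Cfsg.calHOver (T : Subgroup G))
    (hU : ∃! K : Subgroup ↥H, IsCoatom K ∧ (T : Subgroup G).subgroupOf H ≤ K)
    (R : Subgroup G) (hR : R ≠ ⊥) (hRT : R ≤ (T : Subgroup G))
    (hRS : ∃ P : Sylow 2 ↥(Cfsg.oddGenerated H ⊔ R),
      (P : Subgroup ↥(Cfsg.oddGenerated H ⊔ R)) = R.subgroupOf (Cfsg.oddGenerated H ⊔ R))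
    (hRM : M₀ ≤ Subgroup.normalizer (R : Set G)) :
    ∃ R₀ : Subgroup G, R₀ ≠ ⊥ ∧ R₀ ≤ R ∧ M₀ ⊔ H ≤ Subgroup.normalizer (R₀ : Set G) := by
  obtain ⟨K, ⟨hK, hTK⟩, huniq⟩ := hU
  have e : Cfsg.oddGenerated H = (pResidual 2 H).map H.subtype := by
    apply le_antisymm
    · exact (Subgroup.closure_le _).2 fun x hx => H69.mem_res hx.1 (Nat.coprime_two_right.2 hx.2)
    · exact H69.res_le_iff.2 fun x hx ho => Subgroup.subset_closure ⟨hx, Nat.coprime_two_right.1 ho⟩
  obtain ⟨P, hP⟩ := hRS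
  have hS := H69.isSylowIn_map_subtype P
  rw [hP, Subgroup.map_subgroupOf_eq_of_le le_sup_right, e] at hS
  refine H92.Q3.common (N := K.map H.subtype) hQ.2.2 T hM₀.2 hH.2 hH.1 (fun h => hK.1 ?_) (fun X hX => ?_)
    hR hRT hS hRM
  · refine top_le_iff.1 fun x _ => ?_
    obtain ⟨y, hy, e⟩ := h x.2
    rwa [← show y = x from Subtype.ext e]
  · rcases eq_top_or_exists_le_coatom (X.subgroupOf H) with h | ⟨K', hK', h⟩
    · exact Or.inl (Subgroup.subgroupOf_eq_top.1 h)
    · right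
      rw [huniq K' ⟨hK', (Subgroup.comap_mono hX).trans h⟩] at h
      exact fun x hx => ⟨⟨x, hx.2⟩, h hx.1, rfl⟩

end Cfsg.Agent.S1823
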