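import Cfsg.Statements.S4221
import Mathlib
import Cfsg.Agent.Lib.ZD.BW
import Cfsg.Agent.Lib.Design.Sharp
import Cfsg.Agent.Lib.Invol.Dihedral

set_option autoImplicit false
open Cfsg

namespace Cfsg.Agent.S4221

open MulAction Subgroup

set_option linter.unusedSectionVars false

variable {G α : Type*} [Group G] [Finite G] [Fintype α] [DecidableEq α] [MulAction G α]

/-- the hypotheses -/
structure Hyp (G α : Type*) [Group G] [MulAction G α] : Prop where
  tr : ∀ x y : Fin 4 → α, Function.Injective x → Function.Injective y → ∃ g : G, ∀ i, g • x i = y i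
  odd : ∀ x : Fin 4 → α, Function.Injective x → Odd (Nat.card (stabilizer G x))
  faith : ∀ g : G, (∀ p : α, g • p = p) → g = 1

/-- fixed points -/
def Fx (α : Type*) [Fintype α] [DecidableEq α] [MulAction G α] (s : G) : Finset α :=
  Finset.univ.filter fun p => s • p = p

omit [Finite G] in
theorem mem_Fx {s : G} {p : α} : p ∈ Fx α s ↔ s • p = p := by simp [Fx]

omit [Finite G] [Fintype α] [DecidableEq α] in
theorem mem_st {x : Fin 4 → α} {g : G} : g ∈ stabilizer G x ↔ ∀ i, g • x i = x i :=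
  funext_iff

omit [Finite G] [Fintype α] [DecidableEq α] in
theorem mem_st4 {a b c d : α} {g : G} :
    g ∈ stabilizer G ![a, b, c, d] ↔ g • a = a ∧ g • b = b ∧ g • c = c ∧ g • d = d := by
  rw [mem_st]
  simp [Fin.forall_fin_succ]

omit [Finite G] [Fintype α] [DecidableEq α] in
theorem card_orb (D : Subgroup G) (x : α) (S : Finset α) (h1 : ∀ g ∈ D, g • x ∈ S)
    (h2 : ∀ y ∈ S, ∃ g ∈ D, g • x = y) :
    Nat.card D = S.card * Nat.card ↥(D ⊓ stabilizer G x) := by
  have e : orbit D x = S := by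
    ext y
    exact ⟨fun ⟨g, hg⟩ => hg ▸ h1 g g.2, fun hy => let ⟨g, hg, e⟩ := h2 y hy; ⟨⟨g, hg⟩, e⟩⟩
  have e2 : (D ⊓ stabilizer G x).subgroupOf D = stabilizer D x := by
    ext g; simp [mem_subgroupOf, mem_stabilizer_iff, Subgroup.smul_def]
  rw [← (stabilizer D x).index_mul_card, index_stabilizer, e, Set.ncard_coe_finset, ← e2,
    Nat.card_congr (subgroupOfEquivOfLe inf_le_left).toEquiv]

omit [Finite G] [Fintype α] [DecidableEq α] in
theorem fix_of_odd {g : G} (h : Odd (orderOf g)) {p : α} (e : g • g • p = p) : g • p = p := by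
  obtain ⟨k, hk⟩ := h
  have h2 : ∀ k : ℕ, (g ^ (2 * k)) • p = p := by
    intro k
    induction k with
    | zero => simp
    | succ k ih => rw [mul_add, pow_add, mul_smul, mul_one, sq, mul_smul, e, ih]
  have := congrArg (· • p) (pow_orderOf_eq_one g)
  simp only [hk, pow_succ', mul_smul, one_smul, h2 k] at this
  exact this

omit [Finite G] [Fintype α] [DecidableEq α] in
theorem inv_inv' {s : G} (hs : s * s = 1) (p : α) : s • s • p = p := by
  rw [← mul_smul, hs, one_smul]

omit [Finite G] [Fintype α] [DecidableEq α] in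
theorem card_st_conj {x y : Fin 4 → α} {g : G} (h : ∀ i, g • x i = y i) :
    Nat.card (stabilizer G x) = Nat.card (stabilizer G y) := by
  rw [← show g • x = y from funext h, stabilizer_smul_eq_stabilizer_map_conj,
    card_map_of_injective (MulAut.conj g).injective]

namespace Hyp

variable (H : Hyp G α)
include H

omit [Finite G] [Fintype α] [DecidableEq α] in
theorem odd_ord {x : Fin 4 → α} (hx : Function.Injective x) {g : G} (hg : g ∈ stabilizer G x) :
    Odd (orderOf g) :=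
  (H.odd x hx).of_dvd_nat (orderOf_dvd_natCard _ hg)

omit [Fintype α] [DecidableEq α] in
theorem conj0 {y : Fin 4 → α} (hy : Function.Injective y) {π : Fin 4 → Fin 4} {s t : G}
    (hs : s * s = 1) (ht : t * t = 1) (es : ∀ i, s • y i = y (π i)) (et : ∀ i, t • y i = y (π i)) :
    ∃ k ∈ stabilizer G y, k * s = t * k ∧ ∀ r, Commute r s → Commute r t → Commute r k := by
  have hm : s * t ∈ stabilizer G y := mem_st.2 fun i => by
    rw [mul_smul, et, es, ← et, ← et, inv_inv' ht]
  obtain ⟨m, e⟩ := H9.exists_pow_conj_of_odd hs ht (H.odd_ord hy hm)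
  exact ⟨(s * t) ^ m, pow_mem hm m, by rw [← mul_inv_eq_iff_eq_mul, e],
    fun r a b => (a.mul_right b).pow_right m⟩

omit [Fintype α] [DecidableEq α] in
theorem conj1 {x y : Fin 4 → α} (hx : Function.Injective x) (hy : Function.Injective y)
    {π : Fin 4 → Fin 4} {s t : G} (hs : s * s = 1) (ht : t * t = 1)
    (es : ∀ i, s • x i = x (π i)) (et : ∀ i, t • y i = y (π i)) :
    ∃ g : G, (∀ i, g • x i = y i) ∧ g * s = t * g := by
  obtain ⟨g, hg⟩ := H.tr x y hx hy
  obtain ⟨k, hk, e, -⟩ := H.conj0 hy (π := π) (s := g * s * g⁻¹) (t := t)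
    (by rw [conj_mul, hs, mul_one, mul_inv_cancel]) ht
    (fun i => by rw [← hg, mul_smul, inv_smul_smul, mul_smul, es, hg]) et
  refine ⟨k * g, fun i => by rw [mul_smul, hg, mem_st.1 hk], ?_⟩
  rw [← mul_assoc, ← e]
  group

omit [Fintype α] [DecidableEq α] in
theorem conj2 {x y : Fin 4 → α} (hx : Function.Injective x) (hy : Function.Injective y)
    {π ρ : Fin 4 → Fin 4} {s r : G} (hs : s * s = 1) (hr : r * r = 1) (hc : Commute s r)
    (es : ∀ i, s • x i = x (π i)) (et : ∀ i, s • y i = y (π i))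
    (er : ∀ i, r • x i = x (ρ i)) (er' : ∀ i, r • y i = y (ρ i)) :
    ∃ g : G, (∀ i, g • x i = y i) ∧ g * s = s * g ∧ g * r = r * g := by
  obtain ⟨g, hg, e1⟩ := H.conj1 hx hy hs hs es et
  have c1 : Commute s g := e1.symm
  obtain ⟨k, hk, e, e2⟩ := H.conj0 hy (π := ρ) (s := g * r * g⁻¹) (t := r)
    (by rw [conj_mul, hr, mul_one, mul_inv_cancel]) hr
    (fun i => by rw [← hg, mul_smul, inv_smul_smul, mul_smul, er, hg]) er'
  refine ⟨k * g, fun i => by rw [mul_smul, hg, mem_st.1 hk],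
    ((e2 s ((c1.mul_right hc).mul_right c1.inv_right) hc).mul_right c1).symm, ?_⟩
  rw [← mul_assoc, ← e]
  group

theorem fix_le {s : G} (hs : s * s = 1) (h1 : s ≠ 1) : (Fx α s).card ≤ 3 := by
  by_contra h
  obtain ⟨u, hu, hu4⟩ := Finset.exists_subset_card_eq (show 4 ≤ (Fx α s).card by omega)
  let e : Fin 4 ≃ u := (Finset.equivFinOfCardEq hu4).symm
  have := H.odd_ord (x := fun i => (e i : α)) (Subtype.val_injective.comp e.injective) (g := s)
    (mem_st.2 fun i => mem_Fx.1 (hu (e i).2))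
  rw [orderOf_eq_prime (p := 2) (by rw [sq, hs]) h1] at this
  exact absurd this (by decide)

omit [Fintype α] [DecidableEq α] in
theorem exists_inv {x : Fin 4 → α} (hx : Function.Injective x) {π : Fin 4 → Fin 4}
    (hπ : ∀ i, π (π i) = i) {g : G} (hg : ∀ i, g • x i = x (π i)) :
    ∃ k : ℕ, g ^ k * g ^ k = 1 ∧ ∀ i, g ^ k • x i = x (π i) := by
  have hm : g * g ∈ stabilizer G x := mem_st.2 fun i => by rw [mul_smul, hg, hg, hπ]
  obtain ⟨k, hk⟩ := H.odd_ord hx hm
  refine ⟨2 * k + 1, by rw [← Commute.mul_pow (Commute.refl g), ← hk, pow_orderOf_eq_one],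
    fun i => ?_⟩
  rw [pow_succ, mul_smul, hg, pow_mul, sq]
  exact mem_st.1 (pow_mem hm k) _

end Hyp

/-- a point moved by `s` outside a given orbit of `s` -/
structure TA (s : G) (h w : α) : Prop where
  h1 : s • h ≠ h
  h2 : s • w ≠ w
  h3 : w ≠ h
  h4 : w ≠ s • h

omit [Finite G] [Fintype α] [DecidableEq α] in
theorem TA.inj {s : G} (hs : s * s = 1) {h w : α} (t : TA s h w) :
    Function.Injective ![h, s • h, w, s • w] :=
  H26.inj4 t.h1.symm t.h3.symm (fun e => t.h4 (by rw [e, inv_inv' hs])) t.h4.symm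
    (fun e => t.h3 (smul_left_cancel s e).symm) t.h2.symm

omit [Finite G] [Fintype α] [DecidableEq α] in
theorem patA {s : G} (hs : s * s = 1) (h w : α) :
    ∀ i, s • ![h, s • h, w, s • w] i = ![h, s • h, w, s • w] (![1, 0, 3, 2] i) := by
  intro i
  fin_cases i <;> simp [inv_inv' hs]

omit [Finite G] in
theorem exists_TA {s : G} (hn : (Fx α s).card + 3 ≤ Fintype.card α) {h : α} (h1 : s • h ≠ h) :
    ∃ w, TA s h w := by
  by_contra hc
  have : (Finset.univ : Finset α) ⊆ Fx α s ∪ {h, s • h} := by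
    intro w _
    by_contra hw
    simp only [Finset.mem_union, mem_Fx, Finset.mem_insert, Finset.mem_singleton, not_or] at hw
    exact hc ⟨w, h1, hw.1, hw.2.1, hw.2.2⟩
  have h2 := (Finset.card_le_card this).trans (Finset.card_union_le _ _)
  have h3 : ({h, s • h} : Finset α).card ≤ 2 := Finset.card_le_two
  rw [Finset.card_univ] at h2
  omega

omit [Finite G] in
theorem exists_moved {s : G} (hn : (Fx α s).card < Fintype.card α) : ∃ h : α, s • h ≠ h := by
  by_contra hc
  push Not at hc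
  rw [Finset.eq_univ_of_forall (fun p => mem_Fx.2 (hc p)), Finset.card_univ] at hn
  omega

omit [Finite G] in
theorem conj_data {g s t : G} (e : g * s = t * g) : (Fx α s).card = (Fx α t).card ∧
    Nat.card (centralizer ({s} : Set G)) = Nat.card (centralizer ({t} : Set G)) := by
  have e' : t = g * s * g⁻¹ := by rw [e, mul_inv_cancel_right]
  refine ⟨Finset.card_bij (fun p _ => g • p) (fun p hp => ?_) (fun p _ q _ e => smul_left_cancel g e)
    fun q hq => ⟨g⁻¹ • q, ?_, smul_inv_smul g q⟩, ?_⟩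
  · rw [mem_Fx, ← mul_smul, ← e, mul_smul, mem_Fx.1 hp]
  · rw [mem_Fx, eq_inv_smul_iff, ← mul_smul, e, mul_smul, smul_inv_smul, mem_Fx.1 hq]
  · refine Nat.card_congr ⟨fun x => ⟨g * x * g⁻¹, ?_⟩, fun x => ⟨g⁻¹ * x * g, ?_⟩,
      fun x => Subtype.ext (by group), fun x => Subtype.ext (by group)⟩
    · rw [mem_centralizer_singleton_iff, e', conj_mul, conj_mul,
        mem_centralizer_singleton_iff.1 x.2]
    · have := mem_centralizer_singleton_iff.1 x.2
      rw [mem_centralizer_singleton_iff]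
      calc g⁻¹ * x * g * s = g⁻¹ * (x * (g * s * g⁻¹)) * g := by group
        _ = g⁻¹ * (g * s * g⁻¹ * x) * g := by rw [← e', this]
        _ = s * (g⁻¹ * x * g) := by group

omit [Finite G] [Fintype α] [DecidableEq α] in
theorem smul_comm_of {g s : G} (h : g ∈ centralizer ({s} : Set G)) (p : α) :
    s • g • p = g • s • p := by
  rw [← mul_smul, ← mem_centralizer_singleton_iff.1 h, mul_smul]

namespace Hyp

variable (H : Hyp G α) (hn : 8 ≤ Fintype.card α)
include H hn

theorem conj_all {s t : G} (hs : s * s = 1) (s1 : s ≠ 1) (ht : t * t = 1) (t1 : t ≠ 1) :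
    ∃ g : G, g * s = t * g := by
  have a := H.fix_le hs s1
  have b := H.fix_le ht t1
  obtain ⟨h, h1⟩ := exists_moved (α := α) (s := s) (by omega)
  obtain ⟨h', h1'⟩ := exists_moved (α := α) (s := t) (by omega)
  obtain ⟨w, hw⟩ := exists_TA (by omega) h1
  obtain ⟨w', hw'⟩ := exists_TA (by omega) h1'
  obtain ⟨g, -, e⟩ := H.conj1 (hw.inj hs) (hw'.inj ht) hs ht (patA hs h w) (patA ht h' w')
  exact ⟨g, e⟩

theorem card0 {s : G} (hs : s * s = 1) (s1 : s ≠ 1) {h : α} (h1 : s • h ≠ h) :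
    Nat.card (centralizer ({s} : Set G)) = (Fintype.card α - (Fx α s).card) *
      Nat.card ↥(centralizer ({s} : Set G) ⊓ stabilizer G h) := by
  have a := H.fix_le hs s1
  rw [← Finset.card_compl]
  refine card_orb _ _ _ (fun g hg => ?_) fun y hy => ?_
  · rw [Finset.mem_compl, mem_Fx, smul_comm_of hg]
    exact fun e => h1 (smul_left_cancel g e)
  · rw [Finset.mem_compl, mem_Fx] at hy
    obtain ⟨w, hw⟩ := exists_TA (by omega) h1
    obtain ⟨w', hw'⟩ := exists_TA (by omega) hy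
    obtain ⟨g, e1, e⟩ := H.conj1 (hw.inj hs) (hw'.inj hs) hs hs (patA hs h w) (patA hs y w')
    exact ⟨g, mem_centralizer_singleton_iff.2 e, e1 0⟩

omit hn in
theorem cardA {s : G} (hs : s * s = 1) {h w : α} (t : TA s h w) {X : Subgroup G}
    (hX : ∀ g, g ∈ X ↔ g • h = h ∧ g • s • h = s • h ∧ g • w = w ∧ g • s • w = s • w) :
    Nat.card ↥(centralizer ({s} : Set G) ⊓ stabilizer G h) = (Fintype.card α - (Fx α s).card - 2) *
      Nat.card ↥(X ⊓ centralizer ({s} : Set G)) := by
  have e1 : (((Fx α s)ᶜ.erase h).erase (s • h)).card = Fintype.card α - (Fx α s).card - 2 := by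
    rw [Finset.card_erase_of_mem, Finset.card_erase_of_mem, Finset.card_compl]
    · omega
    · rw [Finset.mem_compl, mem_Fx]; exact t.h1
    · rw [Finset.mem_erase, Finset.mem_compl, mem_Fx, inv_inv' hs]
      exact ⟨t.h1, t.h1.symm⟩
  have e2 : X ⊓ centralizer ({s} : Set G) =
      centralizer ({s} : Set G) ⊓ stabilizer G h ⊓ stabilizer G w := by
    ext g
    simp only [mem_inf, hX, mem_stabilizer_iff]
    exact ⟨fun a => ⟨⟨a.2, a.1.1⟩, a.1.2.2.1⟩, fun a => ⟨⟨a.1.2,
      by rw [← smul_comm_of a.1.1, a.1.2], a.2, by rw [← smul_comm_of a.1.1, a.2]⟩, a.1.1⟩⟩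
  rw [← e1, e2]
  refine card_orb _ _ _ (fun g hg => ?_) fun y hy => ?_
  · have hh : g • h = h := hg.2
    simp only [Finset.mem_erase, Finset.mem_compl, mem_Fx]
    refine ⟨fun e => t.h4 (smul_left_cancel g ?_), fun e => t.h3 (smul_left_cancel g ?_),
      fun e => t.h2 (smul_left_cancel g ?_)⟩
    · rw [e, ← smul_comm_of hg.1, hh]
    · rw [e, hh]
    · rw [← smul_comm_of hg.1, e]
  · simp only [Finset.mem_erase, Finset.mem_compl, mem_Fx] at hy
    have t' : TA s h y := ⟨t.h1, hy.2.2, hy.2.1, hy.1⟩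
    obtain ⟨g, e1, e⟩ := H.conj1 (t.inj hs) (t'.inj hs) hs hs (patA hs h w) (patA hs h y)
    exact ⟨g, ⟨mem_centralizer_singleton_iff.2 e, e1 0⟩, e1 2⟩

omit hn in
theorem cardB {s : G} (hs : s * s = 1) {h p q : α} (h1 : s • h ≠ h) (hp : s • p = p)
    (hq : s • q = q) (hpq : p ≠ q) {X : Subgroup G}
    (hX : ∀ g, g ∈ X ↔ g • h = h ∧ g • s • h = s • h ∧ g • p = p ∧ g • q = q) :
    Nat.card ↥(centralizer ({s} : Set G) ⊓ stabilizer G h) = (Fx α s).card * (((Fx α s).card - 1) *
      Nat.card ↥(X ⊓ centralizer ({s} : Set G))) := by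
  have tr : ∀ p' q' : α, s • p' = p' → s • q' = q' → p' ≠ q' →
      ∃ g ∈ centralizer ({s} : Set G) ⊓ stabilizer G h, g • p = p' ∧ g • q = q' := by
    have inj : ∀ p q : α, s • p = p → s • q = q → p ≠ q → Function.Injective ![h, s • h, p, q] :=
      fun p q hp hq hpq => H26.inj4 h1.symm (fun e => h1 (e ▸ hp)) (fun e => h1 (e ▸ hq))
        (fun e => h1 (by rw [← inv_inv' hs h, e, hp, hp]))
        (fun e => h1 (by rw [← inv_inv' hs h, e, hq, hq])) hpq
    have pat : ∀ p q : α, s • p = p → s • q = q →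
        ∀ i, s • ![h, s • h, p, q] i = ![h, s • h, p, q] (![1, 0, 2, 3] i) := by
      intro p q hp hq i
      fin_cases i <;> simp [inv_inv' hs, hp, hq]
    intro p' q' hp' hq' hpq'
    obtain ⟨g, e1, e⟩ := H.conj1 (inj p q hp hq hpq) (inj p' q' hp' hq' hpq') hs hs
      (pat p q hp hq) (pat p' q' hp' hq')
    exact ⟨g, ⟨mem_centralizer_singleton_iff.2 e, e1 0⟩, e1 2, e1 3⟩
  have e2 : X ⊓ centralizer ({s} : Set G) =
      centralizer ({s} : Set G) ⊓ stabilizer G h ⊓ stabilizer G p ⊓ stabilizer G q := by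
    ext g
    simp only [mem_inf, hX, mem_stabilizer_iff]
    exact ⟨fun a => ⟨⟨⟨a.2, a.1.1⟩, a.1.2.2.1⟩, a.1.2.2.2⟩, fun a => ⟨⟨a.1.1.2,
      by rw [← smul_comm_of a.1.1.1, a.1.1.2], a.1.2, a.2⟩, a.1.1.1⟩⟩
  rw [e2, card_orb _ p (Fx α s), card_orb _ q ((Fx α s).erase p),
    Finset.card_erase_of_mem (mem_Fx.2 hp)]
  · intro g hg
    have hh : g • p = p := hg.2
    rw [Finset.mem_erase, mem_Fx, smul_comm_of hg.1.1, hq]
    exact ⟨fun e => hpq (smul_left_cancel g (hh.trans e.symm)), rfl⟩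
  · intro y hy
    rw [Finset.mem_erase, mem_Fx] at hy
    obtain ⟨g, hg, e1, e2⟩ := tr p y hp hy.2 hy.1.symm
    exact ⟨g, ⟨hg, e1⟩, e2⟩
  · intro g hg
    rw [mem_Fx, smul_comm_of hg.1, hp]
  · intro y hy
    rw [mem_Fx] at hy
    by_cases hyp : y = p
    · exact ⟨1, one_mem _, by rw [one_smul, hyp]⟩
    · obtain ⟨g, hg, e1, -⟩ := tr y p hy hp hyp
      exact ⟨g, hg, e1⟩

omit hn in
theorem fixpair {s r : G} (hs : s * s = 1) (s1 : s ≠ 1) (hr : r * r = 1) (hc : Commute s r)
    {p y : α} (hp : s • p = p) (hp' : r • p ≠ p) (hy : s • y = y) (hy' : r • y ≠ y) :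
    y = p ∨ y = r • p := by
  by_contra h
  rw [not_or] at h
  have f : ∀ p : α, s • p = p → s • r • p = r • p := fun p hp => by
    rw [← mul_smul, hc.eq, mul_smul, hp]
  have h4 : ({p, r • p, y, r • y} : Finset α).card = 4 :=
    Finset.card_eq_four.2 ⟨_, _, _, _, hp'.symm, Ne.symm h.1,
      fun e => h.2 (by rw [e, inv_inv' hr]), Ne.symm h.2,
      fun e => h.1 (smul_left_cancel r e).symm, hy'.symm, rfl⟩
  have := Finset.card_le_card (show ({p, r • p, y, r • y} : Finset α) ⊆ Fx α s by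
    intro z hz
    simp only [Finset.mem_insert, Finset.mem_singleton] at hz
    rw [mem_Fx]
    rcases hz with rfl | rfl | rfl | rfl
    exacts [hp, f p hp, hy, f y hy])
  have := H.fix_le hs s1
  omega

omit [Fintype α] [DecidableEq α] H hn in
theorem mem_norm {x : Fin 4 → α} {π : Fin 4 → Fin 4} {s : G} (hs : s * s = 1)
    (e : ∀ i, s • x i = x (π i)) : s ∈ normalizer (stabilizer G x : Set G) := by
  refine mem_normalizer_fintype fun g hg => mem_st.2 fun i => ?_
  rw [inv_eq_of_mul_eq_one_right hs, mul_smul, mul_smul, e, mem_st.1 hg, ← e, inv_inv' hs]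

omit [DecidableEq α] in
theorem exists_four : ∃ (a b : G) (x0 x1 x2 x3 : α), Function.Injective ![x0, x1, x2, x3] ∧
    a * a = 1 ∧ b * b = 1 ∧ Commute a b ∧ (a • x0 = x1 ∧ a • x1 = x0 ∧ a • x2 = x2 ∧ a • x3 = x3) ∧
    (b • x0 = x0 ∧ b • x1 = x1 ∧ b • x2 = x3 ∧ b • x3 = x2) := by
  obtain ⟨y⟩ : Nonempty (Fin 4 ↪ α) :=
    Function.Embedding.nonempty_of_card_le (by rw [Fintype.card_fin]; omega)
  have ex : ∀ π : Fin 4 → Fin 4, (∀ i, π (π i) = i) → ∃ s : G, s * s = 1 ∧ ∀ i, s • y i = y (π i) := by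
    intro π hπ
    obtain ⟨g, hg⟩ := H.tr y (fun i => y (π i)) y.injective
      (y.injective.comp (Function.LeftInverse.injective hπ))
    obtain ⟨k, h1, h2⟩ := H.exists_inv y.injective hπ hg
    exact ⟨_, h1, h2⟩
  obtain ⟨a, ha, ea⟩ := ex ![1, 0, 2, 3] (by decide)
  obtain ⟨b, hb, eb⟩ := ex ![0, 1, 3, 2] (by decide)
  obtain ⟨k, hc, ec⟩ := H.exists_inv y.injective (π := ![1, 0, 3, 2]) (by decide) (g := a * b)
    (fun i => by rw [mul_smul, eb, ea]; congr 1; revert i; decide)
  have hac : Commute a ((a * b) ^ k) := by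
    have h1 : a * (a * b) * a⁻¹ = (a * b)⁻¹ := by
      rw [← mul_assoc, ha, one_mul, mul_inv_rev, inv_eq_of_mul_eq_one_right hb]
    have h2 : a * (a * b) ^ k * a⁻¹ = (a * b) ^ k := by
      rw [← conj_pow, h1, inv_pow, inv_eq_of_mul_eq_one_right hc]
    exact mul_inv_eq_iff_eq_mul.1 h2
  refine ⟨a, a * (a * b) ^ k, y 0, y 1, y 2, y 3, ?_, ha, ?_, (Commute.refl a).mul_right hac,
    ⟨ea 0, ea 1, ea 2, ea 3⟩, ?_⟩
  · convert y.injective
    funext i
    fin_cases i <;> rfl
  · rw [← sq, hac.mul_pow, sq, sq, ha, hc, one_mul]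
  · simp only [mul_smul (a), ec, ea]
    exact ⟨rfl, rfl, rfl, rfl⟩

theorem arith {n f z c1 c2 c3 c4 c5 c6 m w1 w2 v : ℕ} (hf : 2 ≤ f) (hf' : f ≤ 3) (hn : 8 ≤ n)
    (h1 : z = (n - f) * ((n - f - 2) * c1)) (h2 : z = (n - f) * (f * ((f - 1) * c2)))
    (h3 : z = (n - f) * (f * ((f - 1) * c3))) (h4 : z = (n - f) * ((n - f - 2) * c4))
    (h5 : z = (n - f) * ((n - f - 2) * c5)) (h6 : z = (n - f) * ((n - f - 2) * c6))
    (e1 : m * w2 ^ 2 = c2 * c3 * c1) (e2 : m * w1 ^ 2 = c4 * c5 * c6)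
    (v1 : v = (n - f - 4) * w1) (v2 : v = 2 * (2 * w2)) (hc : 0 < c1) :
    n = 11 ∧ f = 3 ∧ (c1 = 1 → m = 1) := by
  obtain ⟨r, rfl⟩ : ∃ r, n = r + 4 + f := ⟨n - f - 4, by omega⟩
  have r0 : 0 < r := by omega
  rw [Nat.add_sub_cancel] at h1 h2 h3 h4 h5 h6 v1
  rw [show r + 4 - 2 = r + 2 from rfl] at h1 h4 h5 h6
  rw [Nat.add_sub_cancel] at v1
  have can : ∀ {a b : ℕ}, (r + 4) * a = (r + 4) * b → a = b := fun h =>
    Nat.eq_of_mul_eq_mul_left (by omega) h
  have can2 : ∀ {a b : ℕ}, (r + 2) * a = (r + 2) * b → a = b := fun h =>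
    Nat.eq_of_mul_eq_mul_left (by omega) h
  obtain rfl : c4 = c1 := can2 (can (h4.symm.trans h1))
  obtain rfl : c5 = c4 := can2 (can (h5.symm.trans h1))
  obtain rfl : c6 = c5 := can2 (can (h6.symm.trans h1))
  obtain rfl : c3 = c2 := Nat.eq_of_mul_eq_mul_left (by omega)
    (Nat.eq_of_mul_eq_mul_left (by omega) (can (h3.symm.trans h2)))
  have k1 := can (h1.symm.trans h2)
  have k2 : (4 * c3) ^ 2 = (r * c6) ^ 2 := by
    apply Nat.eq_of_mul_eq_mul_left hc
    calc c6 * (4 * c3) ^ 2 = 16 * (c3 * c3 * c6) := by ring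
      _ = m * (2 * (2 * w2)) ^ 2 := by rw [← e1]; ring
      _ = r ^ 2 * (m * w1 ^ 2) := by rw [← v2, v1]; ring
      _ = c6 * (r * c6) ^ 2 := by rw [e2]; ring
  have k3 : 4 * c3 = r * c6 := Nat.pow_left_injective (by norm_num) k2
  have k4 : 4 * (r + 2) = f * (f - 1) * r := by
    apply Nat.eq_of_mul_eq_mul_left hc
    calc c6 * (4 * (r + 2)) = 4 * ((r + 2) * c6) := by ring
      _ = f * (f - 1) * (4 * c3) := by rw [k1]; ring
      _ = c6 * (f * (f - 1) * r) := by rw [k3]; ring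
  have : f = 2 ∨ f = 3 := by omega
  rcases this with rfl | rfl
  · omega
  · refine ⟨by omega, rfl, fun h => ?_⟩
    rw [h] at e2
    exact Nat.eq_one_of_mul_eq_one_right e2

omit hn in
theorem c1_eq_one {s : G} (hs : s * s = 1) {h w : α} (t : TA s h w) (hn : Fintype.card α = 11)
    (hf : (Fx α s).card = 3) {g : G} (hg : g ∈ centralizer ({s} : Set G))
    (e : g ∈ stabilizer G ![h, s • h, w, s • w]) : g = 1 := by
  have ho := H.odd_ord (t.inj hs) e
  have ho2 : Odd (orderOf (g * g)) := ho.of_dvd_nat (by rw [← sq]; exact orderOf_pow_dvd 2)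
  rw [mem_st4] at e
  set R : Finset α := (Fx α s)ᶜ \ {h, s • h, w, s • w} with hR
  have c4 : ({h, s • h, w, s • w} : Finset α).card = 4 :=
    Finset.card_eq_four.2 ⟨_, _, _, _, t.h1.symm, t.h3.symm,
      fun e => t.h4 (by rw [e, inv_inv' hs]), t.h4.symm,
      fun e => t.h3 (smul_left_cancel s e).symm, t.h2.symm, rfl⟩
  have cR : R.card = 4 := by
    rw [hR, Finset.card_sdiff_of_subset, Finset.card_compl, hn, hf, c4]
    intro z hz
    simp only [Finset.mem_insert, Finset.mem_singleton] at hz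
    rw [Finset.mem_compl, mem_Fx]
    rcases hz with rfl | rfl | rfl | rfl
    exacts [t.h1, by rw [inv_inv' hs]; exact t.h1.symm, t.h2, by rw [inv_inv' hs]; exact t.h2.symm]
  have mR : ∀ z, z ∈ R ↔ s • z ≠ z ∧ z ≠ h ∧ z ≠ s • h ∧ z ≠ w ∧ z ≠ s • w := fun z => by
    simp only [hR, Finset.mem_sdiff, Finset.mem_compl, mem_Fx, Finset.mem_insert,
      Finset.mem_singleton, not_or]
  have gR : ∀ z ∈ R, g • z ∈ R := fun z hz => by
    rw [mR] at hz ⊢
    rw [smul_comm_of hg]
    exact ⟨fun a => hz.1 (smul_left_cancel g a), fun a => hz.2.1 (smul_left_cancel g (a.trans e.1.symm)),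
      fun a => hz.2.2.1 (smul_left_cancel g (a.trans e.2.1.symm)),
      fun a => hz.2.2.2.1 (smul_left_cancel g (a.trans e.2.2.1.symm)),
      fun a => hz.2.2.2.2 (smul_left_cancel g (a.trans e.2.2.2.symm))⟩
  have sR : ∀ z ∈ R, s • z ∈ R := fun z hz => by
    rw [mR] at hz ⊢
    rw [inv_inv' hs]
    exact ⟨hz.1.symm, fun a => hz.2.2.1 (by rw [← a, inv_inv' hs]),
      fun a => hz.2.1 (smul_left_cancel s a), fun a => hz.2.2.2.2 (by rw [← a, inv_inv' hs]),
      fun a => hz.2.2.2.1 (smul_left_cancel s a)⟩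
  have fixR : ∀ u ∈ R, g • u = u := by
    intro u hu
    have su := ((mR u).1 hu).1
    by_contra h1
    have h2 : g • u ≠ s • u := fun a => h1 (fix_of_odd ho (by
      rw [a, ← smul_comm_of hg, a, inv_inv' hs]))
    have sv := ((mR _).1 (gR u hu)).1
    have c4 : ({u, s • u, g • u, s • g • u} : Finset α).card = 4 :=
      Finset.card_eq_four.2 ⟨_, _, _, _, su.symm, Ne.symm h1,
        fun e => h2 (by rw [e, inv_inv' hs, ← e]), h2.symm,
        fun e => h1 (smul_left_cancel s e).symm, sv.symm, rfl⟩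
    have eR : ({u, s • u, g • u, s • g • u} : Finset α) = R :=
      Finset.eq_of_subset_of_card_le (by
        intro z hz
        simp only [Finset.mem_insert, Finset.mem_singleton] at hz
        rcases hz with rfl | rfl | rfl | rfl
        exacts [hu, sR _ hu, gR _ hu, sR _ (gR _ hu)]) (by rw [cR, c4])
    have := gR _ (gR u hu)
    rw [← eR] at this
    simp only [Finset.mem_insert, Finset.mem_singleton] at this
    rcases this with a | a | a | a
    · exact h1 (fix_of_odd ho a)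
    · refine h1 (fix_of_odd ho ?_)
      rw [← mul_smul]
      refine fix_of_odd ho2 ?_
      rw [mul_smul g g u, a, mul_smul, ← smul_comm_of hg, ← smul_comm_of hg, a, inv_inv' hs]
    · exact h1 (smul_left_cancel g a)
    · rw [smul_comm_of hg] at a
      exact h2 (smul_left_cancel g a)
  have fixM : ∀ u : α, s • u ≠ u → g • u = u := by
    intro u hu
    by_cases h1 : u ∈ R
    · exact fixR u h1
    · rw [mR] at h1
      by_contra h2
      exact h1 ⟨hu, fun a => h2 (a ▸ e.1), fun a => h2 (a ▸ e.2.1), fun a => h2 (a ▸ e.2.2.1),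
        fun a => h2 (a ▸ e.2.2.2)⟩
  refine H.faith g fun p => by_contra fun hp => ?_
  have sp : s • p = p := by_contra fun a => hp (fixM p a)
  have sq' : s • g • p = g • p := by rw [smul_comm_of hg, sp]
  have sr : s • g • g • p = g • g • p := by rw [smul_comm_of hg, sq']
  have pr : g • g • p ≠ p := fun a => hp (fix_of_odd ho a)
  have qr : g • g • p ≠ g • p := fun a => hp (smul_left_cancel g a)
  have eF : ({p, g • p, g • g • p} : Finset α) = Fx α s :=
    Finset.eq_of_subset_of_card_le (by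
      intro z hz
      simp only [Finset.mem_insert, Finset.mem_singleton] at hz
      rw [mem_Fx]
      rcases hz with rfl | rfl | rfl
      exacts [sp, sq', sr]) (by
      rw [hf, Finset.card_eq_three.2 ⟨_, _, _, Ne.symm hp, pr.symm, qr.symm, rfl⟩])
  have g3 : g • g • g • p = p := by
    have : g • g • g • p ∈ Fx α s := by rw [mem_Fx, smul_comm_of hg, sr]
    rw [← eF] at this
    simp only [Finset.mem_insert, Finset.mem_singleton] at this
    rcases this with a | a | a
    · exact a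
    · exact absurd (smul_left_cancel g a) pr
    · exact absurd (smul_left_cancel g a) qr
  have nf : ∀ {u v : α}, s • u = u → s • v ≠ v → u ≠ v := fun a b c => b (c ▸ a)
  have ssw : s • s • w ≠ s • w := by rw [inv_inv' hs]; exact t.h2.symm
  obtain ⟨k, hk⟩ := H.tr ![p, g • p, g • g • p, h] ![p, g • p, h, g • g • p]
    (H26.inj4 (Ne.symm hp) pr.symm (nf sp t.h1) qr.symm (nf sq' t.h1) (nf sr t.h1))
    (H26.inj4 (Ne.symm hp) (nf sp t.h1) pr.symm (nf sq' t.h1) qr.symm (nf sr t.h1).symm)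
  have k0 : k • p = p := hk 0
  have k1 : k • g • p = g • p := hk 1
  have k2 : k • g • g • p = h := hk 2
  have fixk : ∀ u : α, s • u ≠ u → u ≠ h → (g * (k * g * k⁻¹)) • u = u := by
    intro u hu huh
    have : g • k⁻¹ • u = k⁻¹ • u := by
      refine fixM _ fun a => ?_
      rw [← mem_Fx, ← eF] at a
      simp only [Finset.mem_insert, Finset.mem_singleton, inv_smul_eq_iff] at a
      rcases a with a | a | a
      · exact nf sp hu (by rw [a, k0])
      · exact nf sq' hu (by rw [a, k1])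
      · exact huh (a.trans k2)
    rw [mul_smul, mul_smul, mul_smul, this, smul_inv_smul, fixM u hu]
  obtain ⟨u, hu⟩ : R.Nonempty := by rw [← Finset.card_pos]; omega
  rw [mR] at hu
  have ho3 := H.odd_ord (x := ![s • h, w, s • w, u]) (H26.inj4 t.h4.symm
    (fun e => t.h3 (smul_left_cancel s e).symm) hu.2.2.1.symm t.h2.symm hu.2.2.2.1.symm
    hu.2.2.2.2.symm) (g := g * (k * g * k⁻¹)) (mem_st4.2 ⟨fixk _ (by
      rw [inv_inv' hs]; exact t.h1.symm) t.h1, fixk _ t.h2 t.h3,
      fixk _ ssw (fun e => t.h4 (by rw [← e, inv_inv' hs])), fixk _ hu.1 hu.2.1⟩)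
  have a1 : (g * (k * g * k⁻¹)) • p = g • g • p := by
    rw [mul_smul, mul_smul, mul_smul, inv_smul_eq_iff.2 k0.symm, k1]
  have k3 : k • h = g • g • p := hk 3
  have a2 : (g * (k * g * k⁻¹)) • g • g • p = p := by
    rw [mul_smul, mul_smul, mul_smul, inv_smul_eq_iff.2 k3.symm, fixM h t.h1, k3, g3]
  exact pr (a1.symm.trans (fix_of_odd ho3 (by rw [a1, a2])))

theorem main : Fintype.card α = 11 ∧
    ∀ x : Fin 4 → α, Function.Injective x → Nat.card (stabilizer G x) = 1 := by
  obtain ⟨a, b, x0, x1, x2, x3, inj, ha, hb, hab, ⟨a0, a1, a2, a3⟩, b0, b1, b2, b3⟩ :=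
    H.exists_four hn
  have n01 : x0 ≠ x1 := inj.ne (show (0 : Fin 4) ≠ 1 by decide)
  have n02 : x0 ≠ x2 := inj.ne (show (0 : Fin 4) ≠ 2 by decide)
  have n12 : x1 ≠ x2 := inj.ne (show (1 : Fin 4) ≠ 2 by decide)
  have n23 : x2 ≠ x3 := inj.ne (show (2 : Fin 4) ≠ 3 by decide)
  have hc : a * b * (a * b) = 1 := by rw [← sq, hab.mul_pow, sq, sq, ha, hb, one_mul]
  have c0 : (a * b) • x0 = x1 := by rw [mul_smul, b0, a0]
  have c1 : (a * b) • x1 = x0 := by rw [mul_smul, b1, a1]
  have c2 : (a * b) • x2 = x3 := by rw [mul_smul, b2, a3]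
  have a1' : a ≠ 1 := fun e => n01 (by rw [← a0, e, one_smul])
  have b1' : b ≠ 1 := fun e => n23 (by rw [← b2, e, one_smul])
  have c1' : a * b ≠ 1 := fun e => n01 (by rw [← c0, e, one_smul])
  have ab : a ≠ b := fun e => n01 (by rw [← a0, e, b0])
  obtain ⟨g1, e1⟩ := H.conj_all hn ha a1' hb b1'
  obtain ⟨g2, e2⟩ := H.conj_all hn ha a1' hc c1'
  obtain ⟨fb, zb⟩ := conj_data (α := α) e1
  obtain ⟨fc, zc⟩ := conj_data (α := α) e2
  have f3 := H.fix_le ha a1'
  have sub23 : ({x2, x3} : Finset α) ⊆ Fx α a := by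
    intro z hz
    simp only [Finset.mem_insert, Finset.mem_singleton] at hz
    rw [mem_Fx]
    rcases hz with rfl | rfl
    exacts [a2, a3]
  have f2 : 2 ≤ (Fx α a).card := by
    have := Finset.card_le_card sub23
    rwa [Finset.card_pair n23] at this
  have ba : ∀ p : α, b • a • p = a • b • p := fun p => by rw [← mul_smul, ← hab.eq, mul_smul]
  have m0 : a • x0 ≠ x0 := by rw [a0]; exact n01.symm
  have m2 : b • x2 ≠ x2 := by rw [b2]; exact n23.symm
  obtain ⟨y, hy, hy'⟩ : ∃ y : α, (a * b) • y = y ∧ a • y ≠ y := by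
    by_contra h
    push Not at h
    have := Finset.card_le_card (show Fx α (a * b) ⊆ Fx α a \ {x2, x3} by
      intro z hz
      rw [mem_Fx] at hz
      simp only [Finset.mem_sdiff, mem_Fx, Finset.mem_insert, Finset.mem_singleton, not_or]
      refine ⟨h z hz, fun e => n23 ?_, fun e => n23 ?_⟩
      · rw [← c2, ← e, hz]
      · rw [e, mul_smul, b3, a2] at hz; exact hz)
    rw [Finset.card_sdiff_of_subset sub23, Finset.card_pair n23] at this
    omega
  set R : Finset α := (Fx α a)ᶜ \ {x0, x1, y, a • y} with hR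
  have hay : (a * b) • a • y = a • y := by
    rw [← mul_smul, ((Commute.refl a).mul_right hab).symm.eq, mul_smul, hy]
  have cR : R.card = Fintype.card α - (Fx α a).card - 4 := by
    have nf : ∀ {u v : α}, (a * b) • u = u → (a * b) • v ≠ v → v ≠ u := fun a b c => b (c ▸ a)
    have k0 : (a * b) • x0 ≠ x0 := by rw [c0]; exact n01.symm
    have k1 : (a * b) • x1 ≠ x1 := by rw [c1]; exact n01
    rw [hR, Finset.card_sdiff_of_subset, Finset.card_compl,
      Finset.card_eq_four.2 ⟨_, _, _, _, n01, nf hy k0, nf hay k0, nf hy k1, nf hay k1, hy'.symm, rfl⟩]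
    intro z hz
    simp only [Finset.mem_insert, Finset.mem_singleton] at hz
    rw [Finset.mem_compl, mem_Fx]
    rcases hz with rfl | rfl | rfl | rfl
    exacts [m0, by rw [a1]; exact n01, hy', by rw [inv_inv' ha]; exact hy'.symm]
  have mR : ∀ z, z ∈ R ↔ a • z ≠ z ∧ b • z ≠ z ∧ a • b • z ≠ z := fun z => by
    simp only [hR, Finset.mem_sdiff, Finset.mem_compl, mem_Fx, Finset.mem_insert,
      Finset.mem_singleton, not_or]
    refine and_congr_right fun h => ⟨fun k => ⟨fun e => ?_, fun e => ?_⟩, fun k => ?_⟩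
    · rcases H.fixpair hb b1' ha hab.symm b0 m0 e h with e' | e'
      · exact k.1 e'
      · exact k.2.1 (e'.trans a0)
    · rcases H.fixpair hc c1' ha ((Commute.refl a).mul_right hab).symm hy hy'
        (by rw [mul_smul, e]) h with e' | e'
      · exact k.2.2.1 e'
      · exact k.2.2.2 e'
    · exact ⟨fun e => k.1 (e ▸ b0), fun e => k.1 (e ▸ b1), fun e => k.2 (by rw [e, ← mul_smul, hy]),
        fun e => k.2 (by rw [e, ← mul_smul, hay])⟩
  have injC : ∀ z ∈ R, Function.Injective ![z, a • z, b • z, a • b • z] := fun z hz => by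
    rw [mR] at hz
    exact H26.inj4 hz.1.symm hz.2.1.symm hz.2.2.symm
      (fun e => hz.2.2 (by rw [← e, inv_inv' ha])) (fun e => hz.2.1 (smul_left_cancel a e).symm)
      (fun e => hz.1 (smul_left_cancel b (by rw [ba, ← e])))
  have patB : ∀ z : α, ∀ i, b • ![z, a • z, b • z, a • b • z] i =
      ![z, a • z, b • z, a • b • z] (![2, 3, 0, 1] i) := by
    intro z i
    fin_cases i <;> simp [inv_inv' hb, ba]
  obtain ⟨h, hh⟩ : R.Nonempty := by rw [← Finset.card_pos]; omega
  obtain ⟨h1, h2, h3⟩ := (mR h).1 hh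
  have v1 := card_orb (centralizer ({a} : Set G) ⊓ centralizer ({b} : Set G)) h R
    (fun g hg => by
      rw [mR, smul_comm_of hg.2, smul_comm_of hg.1, smul_comm_of hg.1]
      exact ⟨fun e => h1 (smul_left_cancel g e), fun e => h2 (smul_left_cancel g e),
        fun e => h3 (smul_left_cancel g e)⟩)
    (fun z hz => by
      obtain ⟨g, k1, k2, k3⟩ := H.conj2 (injC h hh) (injC z hz) ha hb hab (patA ha h (b • h))
        (patA ha z (b • z)) (patB h) (patB z)
      exact ⟨g, ⟨mem_centralizer_singleton_iff.2 k2, mem_centralizer_singleton_iff.2 k3⟩, k1 0⟩)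
  have aC : a ∈ centralizer ({a} : Set G) ⊓ centralizer ({b} : Set G) :=
    ⟨mem_centralizer_singleton_iff.2 rfl, mem_centralizer_singleton_iff.2 hab.eq⟩
  have bC : b ∈ centralizer ({a} : Set G) ⊓ centralizer ({b} : Set G) :=
    ⟨mem_centralizer_singleton_iff.2 hab.eq.symm, mem_centralizer_singleton_iff.2 rfl⟩
  have v2 := card_orb (centralizer ({a} : Set G) ⊓ centralizer ({b} : Set G)) x0 {x0, x1}
    (fun g hg => by
      rw [Finset.mem_insert, Finset.mem_singleton, ← a0]
      exact H.fixpair hb b1' ha hab.symm b0 m0 (by rw [smul_comm_of hg.2, b0])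
        (by rw [smul_comm_of hg.1]; exact fun e => m0 (smul_left_cancel g e)))
    (fun z hz => by
      rw [Finset.mem_insert, Finset.mem_singleton] at hz
      rcases hz with rfl | rfl
      exacts [⟨1, one_mem _, one_smul _ _⟩, ⟨a, aC, a0⟩])
  have v3 := card_orb (centralizer ({a} : Set G) ⊓ centralizer ({b} : Set G) ⊓ stabilizer G x0) x2
    {x2, x3}
    (fun g hg => by
      rw [Finset.mem_insert, Finset.mem_singleton, ← b2]
      exact H.fixpair ha a1' hb hab a2 m2 (by rw [smul_comm_of hg.1.1, a2])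
        (by rw [smul_comm_of hg.1.2]; exact fun e => m2 (smul_left_cancel g e)))
    (fun z hz => by
      rw [Finset.mem_insert, Finset.mem_singleton] at hz
      rcases hz with rfl | rfl
      exacts [⟨1, one_mem _, one_smul _ _⟩, ⟨b, ⟨bC, b0⟩, b2⟩])
  rw [v3, Finset.card_pair n01, Finset.card_pair n23,
    show centralizer ({a} : Set G) ⊓ centralizer ({b} : Set G) ⊓ stabilizer G x0 ⊓ stabilizer G x2 =
      stabilizer G ![x0, x1, x2, x3] ⊓ centralizer ({a} : Set G) ⊓ centralizer ({b} : Set G) by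
    ext g
    rw [mem_inf, mem_inf, mem_inf, mem_inf, mem_inf, mem_st4]
    exact ⟨fun k => ⟨⟨⟨k.1.2, by rw [← a0, ← smul_comm_of k.1.1.1, show g • x0 = x0 from k.1.2], k.2,
      by rw [← b2, ← smul_comm_of k.1.1.2, show g • x2 = x2 from k.2]⟩, k.1.1.1⟩, k.1.1.2⟩,
      fun k => ⟨⟨⟨k.1.2, k.2⟩, k.1.1.1⟩, k.1.1.2.2.1⟩⟩] at v2
  rw [cR, show centralizer ({a} : Set G) ⊓ centralizer ({b} : Set G) ⊓ stabilizer G h =
      stabilizer G ![h, a • h, b • h, a • b • h] ⊓ centralizer ({a} : Set G) ⊓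
        centralizer ({b} : Set G) by
    ext g
    rw [mem_inf, mem_inf, mem_inf, mem_inf, mem_st4]
    exact ⟨fun k => ⟨⟨⟨k.2, by rw [← smul_comm_of k.1.1, show g • h = h from k.2],
      by rw [← smul_comm_of k.1.2, show g • h = h from k.2],
      by rw [← smul_comm_of k.1.1, ← smul_comm_of k.1.2, show g • h = h from k.2]⟩, k.1.1⟩, k.1.2⟩,
      fun k => ⟨⟨k.1.2, k.2⟩, k.1.1.1⟩⟩] at v1
  have w2 := H24.ZD.card_four ha hb hab.eq a1' b1' ab (H.odd _ inj)
    (mem_norm (π := ![1, 0, 2, 3]) ha (fun i => by fin_cases i <;> simp [a0, a1, a2, a3]))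
    (mem_norm (π := ![0, 1, 3, 2]) hb (fun i => by fin_cases i <;> simp [b0, b1, b2, b3]))
  have w1 := H24.ZD.card_four ha hb hab.eq a1' b1' ab (H.odd _ (injC h hh))
    (mem_norm ha (patA ha h (b • h))) (mem_norm hb (patB h))
  obtain ⟨g, hg⟩ := H.tr _ _ (injC h hh) inj
  rw [card_st_conj hg] at w1
  have tc : TA (a * b) x0 x2 := ⟨by rw [c0]; exact n01.symm, by rw [c2]; exact n23.symm, n02.symm,
    by rw [c0]; exact n12.symm⟩
  have k1 := H.card0 hn hc c1' tc.h1
  rw [H.cardA hc tc (X := stabilizer G ![x0, x1, x2, x3]) (fun g => by rw [mem_st4, c0, c2]),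
    ← zc, ← fc] at k1
  have k2 := H.card0 hn ha a1' m0
  rw [H.cardB ha m0 a2 a3 n23 (X := stabilizer G ![x0, x1, x2, x3])
    (fun g => by rw [mem_st4, a0])] at k2
  have k3 := H.card0 hn hb b1' m2
  rw [H.cardB hb m2 b0 b1 n01 (X := stabilizer G ![x0, x1, x2, x3])
    (fun g => by rw [mem_st4, b2]; tauto), ← zb, ← fb] at k3
  have ic := injC h hh
  have k4 := H.card0 hn ha a1' h1
  rw [H.cardA ha (w := b • h) ⟨h1, (ic.ne (show (3 : Fin 4) ≠ 2 by decide)), h2,
    (ic.ne (show (2 : Fin 4) ≠ 1 by decide))⟩ (fun g => mem_st4)] at k4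
  have k5 := H.card0 hn hb b1' h2
  rw [H.cardA hb (w := a • h) ⟨h2, by rw [ba]; exact (ic.ne (show (3 : Fin 4) ≠ 1 by decide)), h1,
    (ic.ne (show (1 : Fin 4) ≠ 2 by decide))⟩ (X := stabilizer G ![h, a • h, b • h, a • b • h])
    (fun g => by rw [mem_st4, ba]; tauto), ← zb, ← fb] at k5
  have h3' : (a * b) • h ≠ h := by rwa [mul_smul]
  have cah : (a * b) • a • h = b • h := by rw [mul_smul, ba, inv_inv' ha]
  have k6 := H.card0 hn hc c1' h3'
  rw [H.cardA hc (w := a • h) ⟨h3', by rw [cah]; exact (ic.ne (show (2 : Fin 4) ≠ 1 by decide)), h1,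
    by rw [mul_smul]; exact (ic.ne (show (1 : Fin 4) ≠ 3 by decide))⟩
    (X := stabilizer G ![h, a • h, b • h, a • b • h])
    (fun g => by rw [mem_st4, cah, mul_smul]; tauto), ← zc, ← fc] at k6
  obtain ⟨r1, r2, r3⟩ := H.arith hn f2 f3 hn k1 k2 k3 k4 k5 k6 w2 w1 v1 v2 Nat.card_pos
  refine ⟨r1, fun x hx => ?_⟩
  obtain ⟨g, hg⟩ := H.tr _ _ hx inj
  rw [card_st_conj hg]
  refine r3 (card_eq_one.2 (eq_bot_iff.2 fun g hg => ?_))
  exact H.c1_eq_one hc tc r1 (fc ▸ r2) hg.2 (by rw [c0, c2]; exact hg.1)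

end Hyp

omit [Finite G] [Fintype α] [DecidableEq α] in
theorem st_emb (x : Fin 4 ↪ α) : stabilizer G x = stabilizer G (x : Fin 4 → α) := by
  ext g
  rw [mem_st, mem_stabilizer_iff, DFunLike.ext_iff]
  rfl

omit [Finite G] [DecidableEq α] in
theorem card_emb (hG : IsMultiplyPretransitive G α 4) (x : Fin 4 ↪ α) :
    Nat.card G = (Fintype.card α).descFactorial 4 * Nat.card (stabilizer G (x : Fin 4 → α)) := by
  classical
  have : IsPretransitive G (Fin 4 ↪ α) := hG
  rw [← st_emb, ← (stabilizer G x).index_mul_card, index_stabilizer_of_transitive,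
    Nat.card_eq_fintype_card, Fintype.card_embedding_eq, Fintype.card_fin]

omit [Finite G] [Fintype α] [DecidableEq α] in
theorem fixTriv (hG : IsMultiplyPretransitive G α 4) (x : Fin 4 ↪ α)
    (h : Nat.card (stabilizer G (x : Fin 4 → α)) = 1) : H17.FixTriv G α 4 := fun y => by
  obtain ⟨g, hg⟩ := H26.multi_iff_fun.1 hG y x y.injective x.injective
  rw [st_emb, ← card_eq_one, card_st_conj hg, h]

/-- Let `G` be a `4`-fold transitive permutation group on a finite set of `n` points in which the pointwise stabilizer of some four distinct points has odd order. Then `n = 4` or `n = 5` with `G` the full symmetric group, or `n = 6` or `n = 7` with `G` the alternating group, or `n = 11` and `G` has order `7920`. -/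
theorem result {α : Type*} [Fintype α] [DecidableEq α] (G : Subgroup (Equiv.Perm α)) (hG : MulAction.IsMultiplyPretransitive G α 4) (x : Fin 4 ↪ α) (hodd : Odd (Nat.card (MulAction.stabilizer G x))) : ((Fintype.card α = 4 ∨ Fintype.card α = 5) ∧ G = ⊤) ∨ ((Fintype.card α = 6 ∨ Fintype.card α = 7) ∧ G = alternatingGroup α) ∨ (Fintype.card α = 11 ∧ Nat.card G = 7920) := by
  have tr := H26.multi_iff_fun.1 hG
  have ex : stabilizer G x = stabilizer G (x : Fin 4 → α) := by
    ext g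
    rw [mem_st, mem_stabilizer_iff, DFunLike.ext_iff]
    rfl
  have H : Hyp G α := ⟨tr, fun y hy => by
    obtain ⟨g, hg⟩ := tr x y x.injective hy
    rwa [← card_st_conj hg, ← ex], fun g hg => Subtype.ext (Equiv.ext hg)⟩
  have h4 : 4 ≤ Fintype.card α := by simpa using Fintype.card_le_of_embedding x
  have hc := card_emb hG x
  rw [ex] at hodd
  have hi := G.index_mul_card
  rw [Nat.card_perm, Nat.card_eq_fintype_card (α := α), hc] at hi
  by_cases hn : 8 ≤ Fintype.card α
  · obtain ⟨h1, h2⟩ := H.main hn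
    right; right
    refine ⟨h1, ?_⟩
    rw [hc, h2 x x.injective, h1]
    rfl
  have : Fintype.card α = 4 ∨ Fintype.card α = 5 ∨ Fintype.card α = 6 ∨ Fintype.card α = 7 := by
    omega
  obtain ⟨k, hk⟩ := hodd
  rcases this with e | e | e | e
  · refine Or.inl ⟨Or.inl e, index_eq_one.1 ?_⟩
    rw [e, show Nat.descFactorial 4 4 = 24 from rfl, show Nat.factorial 4 = 24 from rfl] at hi
    exact Nat.eq_one_of_mul_eq_one_right (n := Nat.card (stabilizer G (x : Fin 4 → α))) (by nlinarith)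
  · refine Or.inl ⟨Or.inr e, index_eq_one.1 ?_⟩
    rw [e, show Nat.descFactorial 5 4 = 120 from rfl, show Nat.factorial 5 = 120 from rfl] at hi
    exact Nat.eq_one_of_mul_eq_one_right (n := Nat.card (stabilizer G (x : Fin 4 → α))) (by nlinarith)
  · refine Or.inr (Or.inl ⟨Or.inl e, Equiv.Perm.eq_alternatingGroup_of_index_eq_two ?_⟩)
    rw [e, show Nat.descFactorial 6 4 = 360 from rfl, show Nat.factorial 6 = 720 from rfl, hk] at hi
    have h1 : G.index * (2 * k + 1) = 2 := by nlinarith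
    have h2 : 2 * k + 1 ≤ 2 := Nat.le_of_dvd (by norm_num) (Dvd.intro_left _ h1)
    obtain rfl : k = 0 := by omega
    omega
  · refine Or.inr (Or.inl ⟨Or.inr e, Equiv.Perm.eq_alternatingGroup_of_index_eq_two ?_⟩)
    rw [e, show Nat.descFactorial 7 4 = 840 from rfl, show Nat.factorial 7 = 5040 from rfl, hk] at hi
    have h1 : G.index * (2 * k + 1) = 6 := by nlinarith
    have h2 : 2 * k + 1 ≤ 6 := Nat.le_of_dvd (by norm_num) (Dvd.intro_left _ h1)
    have : k = 0 ∨ k = 1 ∨ k = 2 := by omega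
    rcases this with rfl | rfl | rfl
    · have := H17.sharp4_degree (G := G) hG (fixTriv hG x hk) h4
      omega
    · omega
    · omega

end Cfsg.Agent.S4221
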