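import Cfsg.Statements.S5054
import Mathlib
import Cfsg.Agent.Base
import Cfsg.Agent.Lib.Root.Gen

set_option autoImplicit false
open Cfsg

namespace Cfsg.Agent.S5054

/-- Let G be a finite group generated by a non-degenerate conjugacy class D of root involutions. Then for every d ∈ D and every x ∈ D with dx of odd order greater than 1, G is generated by x together with the members of D different from d that commute with d and have product with d in D; and the graph on D joining two different commuting members whose product lies in D is connected. -/
theorem result {G : Type*} [Group G] [Finite G] {D : Set G} (hD : Cfsg.IsNondegenerateRootInvolutionSet D)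
    (hcl : Cfsg.IsRootInvolutionClass D) :
    (∀ d ∈ D, ∀ x ∈ Cfsg.oddPartners D d, Subgroup.closure (Cfsg.productPartners D d ∪ {x}) = ⊤) ∧
    Cfsg.IsConnectedSet (Cfsg.ProdAdj D) D := by
  obtain ⟨hc, h4⟩ := H89.nondeg_data hD hcl
  have h := H89.ri_of hD.1
  refine ⟨fun d hd x hx => ?_, H89.RI.ec_all _ D rfl h hc h4⟩
  rw [H89.oddPartners_eq] at hx
  rw [eq_top_iff, ← hD.1.generates, Subgroup.closure_le]
  exact h.subset_closure_pp hc h4 hd hx.1 hx.2 (hD.1.generates ▸ le_top)
    (fun e he k => Subgroup.subset_closure (Or.inl ((h.mem_pp_iff hd).2 ⟨he, k⟩)))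
    (Subgroup.subset_closure (Or.inr rfl))

end Cfsg.Agent.S5054
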