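import Cfsg.Statements.S3157
import Cfsg.Agent.Lib.CH2.SgF

set_option autoImplicit false
open Cfsg

namespace Cfsg.Agent.S3157

/-- Let T be a non-abelian group of order 64 admitting automorphisms ρ of order 3 and x of order 2 with x ρ x⁻¹ = ρ⁻¹ (so they generate a symmetric group of degree 3), where ρ fixes only the identity. Then T is isomorphic to a Sylow 2-subgroup of the projective special linear group of dimension 3 over the field with 4 elements, and the subgroup of fixed points of x is dihedral of order 8 or quaternion of order 8. -/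
theorem result {T : Type*} [Group T] [Finite T] (hT : Nat.card T = 64) (hna : ¬ IsMulCommutative T) (ρ x : MulAut T) (hρ : orderOf ρ = 3) (hx : orderOf x = 2)
    (hxr : x * ρ * x⁻¹ = ρ⁻¹) (hfp : ∀ y : T, ρ y = y → y = 1) (C : Subgroup T) (hC : ∀ y : T, y ∈ C ↔ x y = y) :
    (∃ (F : Type) (_ : Field F) (_ : Fintype F), Fintype.card F = 4 ∧
        ∃ S : Sylow 2 (Matrix.ProjectiveSpecialLinearGroup (Fin 3) F), Nonempty (T ≃* ↥(S : Subgroup (Matrix.ProjectiveSpecialLinearGroup (Fin 3) F)))) ∧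
      (Nonempty (↥C ≃* DihedralGroup 4) ∨ Nonempty (↥C ≃* QuaternionGroup 2)) := by
  letI := Fintype.ofFinite (GaloisField 2 2)
  have hF : Fintype.card (GaloisField 2 2) = 4 := H22.Sg.card_galois (n := 2) two_ne_zero
  have h3 : ρ ^ 3 = 1 := by rw [← hρ, pow_orderOf_eq_one]
  have h2 : x * x = 1 := by rw [← sq, ← hx, pow_orderOf_eq_one]
  have h4 : ρ * x = x * (ρ * ρ) := by
    calc ρ * x = ρ * x * ρ ^ 3 := by rw [h3, mul_one]
      _ = ρ * (x * ρ * x⁻¹) * x * (ρ * ρ) := by simp [pow_succ, mul_assoc]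
      _ = _ := by rw [hxr, mul_inv_cancel, one_mul]
  obtain ⟨⟨e⟩, h8, a, b, hab⟩ := H22.Sg.main_s3 hT (by by_contra! h1; exact hna ⟨⟨h1⟩⟩) h3 hfp
    (fun y => congrArg (fun β : MulAut T => β y) h2) (fun y => congrArg (fun β : MulAut T => β y) h4) hF hC
  haveI : Fact (Nat.Prime 2) := ⟨Nat.prime_two⟩
  obtain ⟨e'⟩ := H22.Sg.unitri_equiv_sylow (F := GaloisField 2 2) default
  exact ⟨⟨_, inferInstance, inferInstance, hF, default, ⟨e.trans e'⟩⟩, H22.Sg.d8_or_q8 h8 hab⟩

end Cfsg.Agent.S3157
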