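import Cfsg.Statements.S2127
import Mathlib
import Cfsg.Agent.Lib.Ree.Aut

set_option autoImplicit false
open Cfsg

namespace Cfsg.Agent.S2127

/-- Outer automorphisms of the small Ree groups: for q = 3^(2m+1) with m ≥ 1 the outer automorphism group of ²G₂(q) has order 2m + 1 (field automorphisms only). -/
theorem result {K : Type*} [Field K] [Fintype K] {m : ℕ} (hm : 1 ≤ m) (hK : Fintype.card K = 3 ^ (2 * m + 1)) : Nat.card (Cfsg.Out ↥(Cfsg.Lie.twistedG2 K (3 ^ m))) = 2 * m + 1 := by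
  have := H40.Ree.charP_three hK
  have hq := H40.Ree.three_lt_card hm hK
  let S := H40.Ree.lieModel hK
  have : Fact (Nat.Prime 3) := ⟨Nat.prime_three⟩
  rw [← H67.card_ringAut (F := K) (p := 3) (H40.Ree.natCard_eq hK)]
  symm
  refine Nat.card_congr (Equiv.ofBijective
    ((QuotientGroup.mk' (Cfsg.Inn _)).comp S.fieldAutHom) ⟨?_, ?_⟩)
  · rw [injective_iff_map_eq_one]
    intro φ hφ
    obtain ⟨g, hg⟩ := (QuotientGroup.eq_one_iff _).1 hφ
    exact (S.eq_one_of_fieldAut_eq_conj hg).2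
  · intro y
    obtain ⟨α, rfl⟩ := QuotientGroup.mk_surjective y
    obtain ⟨g, φ, rfl⟩ := S.exists_eq_conj_mul_fieldAut hq α
    refine ⟨φ, ?_⟩
    rw [QuotientGroup.mk_mul, (QuotientGroup.eq_one_iff (N := Cfsg.Inn _) _).2 ⟨g, rfl⟩, one_mul]
    rfl

end Cfsg.Agent.S2127
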