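import Mathlib
import Cfsg.Agent.Lib.LargeExtra.Types
import Cfsg.Statements.S3763
-- import your own Cfsg.Agent.* helpers here

set_option autoImplicit false
open Cfsg

namespace Cfsg.Agent.S3763


/-- Let E be an extraspecial 2-group of order 2^(2n+1). Then the largest elementary abelian subgroups of E have order 2^n or 2^(n+1); and two extraspecial 2-groups of the same order whose largest elementary abelian subgroups have the same order are isomorphic. -/
theorem result {E : Type*} [Group E] [Finite E] (hE : Cfsg.IsExtraspecial 2 E) (n : ℕ) (hn : Nat.card E = 2 ^ (2 * n + 1)) : ((Cfsg.PRankLE 2 n E ∧ ¬ Cfsg.PRankLE 2 (n - 1) E) ∨ (Cfsg.PRankLE 2 (n + 1) E ∧ ¬ Cfsg.PRankLE 2 n E)) ∧ ∀ (E' : Type*) [Group E'] [Finite E'], Cfsg.IsExtraspecial 2 E' → Nat.card E' = Nat.card E → (∀ k : ℕ, Cfsg.PRankLE 2 k E ↔ Cfsg.PRankLE 2 k E') → Nonempty (E ≃* E') := by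
  obtain ⟨z, hz, V, _, _, _, P, m', hq, hm, hV, hcV, hc⟩ := H95.exists_pres_of_extraspecial hE
  obtain rfl : n = m' := by
    have := Nat.pow_right_injective le_rfl (hn.symm.trans hc)
    omega
  constructor
  · by_cases h : H66.IsPlusType P.q
    · right
      simp only [P.rank_of_plus hq hV h]
      omega
    · left
      simp only [P.rank_of_not_plus hq hV h]
      omega
  · intro E' _ _ hE' hc' hr
    obtain ⟨z', hz', V', _, _, _, P', m', hq', -, hV', -, hc''⟩ := H95.exists_pres_of_extraspecial hE'
    obtain rfl : n = m' := by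
      have := Nat.pow_right_injective le_rfl (hn.symm.trans (hc'.symm.trans hc''))
      omega
    obtain ⟨Φ, hΦ⟩ := H66.exists_equiv_of_isPlusType_iff hq hq' hV hV' (by
      have := hr n
      by_cases h : H66.IsPlusType P.q <;> by_cases h' : H66.IsPlusType P'.q
      · simp [h, h']
      · rw [P.rank_of_plus hq hV h, P'.rank_of_not_plus hq' hV' h'] at this
        omega
      · rw [P.rank_of_not_plus hq hV h, P'.rank_of_plus hq' hV' h'] at this
        omega
      · simp [h, h'])
    obtain ⟨φ, -⟩ := P.exists_equiv P' Φ hΦ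
    exact ⟨φ⟩


end Cfsg.Agent.S3763
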