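import Mathlib
import Cfsg.Agent.Base
import Cfsg.Agent.Lib.FGS.Kazarin
import Cfsg.Agent.Lib.Core.Hall
import Cfsg.Agent.Lib.Core.Fitting
import Cfsg.Statements.S4034

set_option autoImplicit false
open Cfsg

namespace Cfsg.Agent.S4034

theorem solv_of_index {G : Type*} [Group G] [Finite G] {p : ℕ} (hp : p.Prime)
    (h : IsPGroup p (G ⧸ Cfsg.solvableRadical G)) : Group.IsSolvable G := by
  haveI := Fact.mk hp
  haveI : Group.IsNilpotent (G ⧸ Cfsg.solvableRadical G) := h.isNilpotent
  haveI : Group.IsSolvable (G ⧸ Cfsg.solvableRadical G) := IsNilpotent.to_isSolvable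
  haveI : Group.IsSolvable (Cfsg.solvableRadical G) := H1.isSolvable_solvableRadical
  exact Group.isSolvable_of_ker_le_range (Cfsg.solvableRadical G).subtype
    (QuotientGroup.mk' (Cfsg.solvableRadical G)) (by simp)

/-- Let G be a finite group and p a prime. Every conjugacy class of p-regular elements of G (elements of order prime to p) has p-power size if and only if G has an abelian p-complement, i.e. an abelian subgroup of order prime to p and p-power index. -/
theorem result {G : Type*} [Group G] [Finite G] {p : ℕ} (hp : p.Prime) :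
    (∀ x : G, (orderOf x).Coprime p → ∃ k : ℕ, (ConjClasses.mk x).carrier.ncard = p ^ k) ↔
    (∃ H : Subgroup G, IsMulCommutative H ∧ ¬ p ∣ Nat.card H ∧ ∃ k : ℕ, H.index = p ^ k) := by
  haveI := Fact.mk hp
  simp only [H80.ncard_carrier_mk]
  constructor
  · intro h
    have hsolv : Group.IsSolvable G := by
      apply solv_of_index hp
      intro q
      obtain ⟨g, rfl⟩ := QuotientGroup.mk_surjective q
      have : H35.IsPElt p (g : G ⧸ Cfsg.solvableRadical G) := by
        rw [H35.isPElt_mk_iff]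
        obtain ⟨k, hk⟩ := h (H35.pReg p g)
          ((Nat.Prime.coprime_iff_not_dvd hp).2 (H35.not_dvd_orderOf_pReg p g)).symm
        exact H80.kazarin hp hk
      exact H35.isPElt_iff_pow.1 this
    obtain ⟨H, hH⟩ := H3.exists_isPiHall (G := G) ({p}ᶜ)
    rw [H3.isPiHall_compl_singleton_iff hp] at hH
    have hnd : ¬ p ∣ Nat.card H := (Nat.Prime.coprime_iff_not_dvd hp).1 hH.1.symm
    refine ⟨H, ⟨⟨fun x y => ?_⟩⟩, hnd, hH.2⟩
    have hc : ∀ z : H, (orderOf (z : G)).Coprime p := fun z =>
      Nat.Coprime.coprime_dvd_left (H1.orderOf_dvd_card_of_mem z.2) hH.1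
    obtain ⟨a, ha⟩ := h x (hc x)
    obtain ⟨b, hb⟩ := h y (hc y)
    have h1 := H80.commutator_mem_pCore_of_cs_eq_pow ha hb
    have h2 : (x : G) * y * (x : G)⁻¹ * (y : G)⁻¹ ∈ H :=
      H.mul_mem (H.mul_mem (H.mul_mem x.2 y.2) (H.inv_mem x.2)) (H.inv_mem y.2)
    have h3 := (H35.isPElt_of_mem H1.isPGroup_pCore h1).eq_one_of_not_dvd
      (H35.not_dvd_orderOf_of_mem hnd h2)
    apply Subtype.ext
    simp only [Subgroup.coe_mul]
    rw [mul_inv_eq_one, mul_inv_eq_iff_eq_mul] at h3
    exact h3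
  · rintro ⟨H, hc, hnd, k, hk⟩
    have hcs : ∀ x ∈ H, ∃ a, (Subgroup.centralizer ({x} : Set G)).index = p ^ a := by
      intro x hx
      have hle : H ≤ Subgroup.centralizer ({x} : Set G) := by
        intro y hy
        rw [H80.mem_Cx]
        exact congrArg Subtype.val (hc.is_comm.comm (⟨y, hy⟩ : H) ⟨x, hx⟩)
      exact H80.eq_pow_of_dvd_pow hp (hk ▸ Subgroup.index_dvd_of_le hle)
    have hsolv : Group.IsSolvable G := by
      apply solv_of_index hp
      have hle : H ≤ Cfsg.solvableRadical G := fun x hx => by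
        obtain ⟨a, ha⟩ := hcs x hx
        exact H80.kazarin hp ha
      obtain ⟨b, hb⟩ := H80.eq_pow_of_dvd_pow hp (hk ▸ Subgroup.index_dvd_of_le hle)
      exact IsPGroup.of_card hb
    have hH : Cfsg.IsPiHall ({p}ᶜ) H := by
      rw [H3.isPiHall_compl_singleton_iff hp]
      exact ⟨((Nat.Prime.coprime_iff_not_dvd hp).2 hnd).symm, k, hk⟩
    intro x hx
    have hK : Cfsg.IsPiSubgroup ({p}ᶜ) (Subgroup.zpowers x) := by
      rw [H1.isPiSubgroup_compl_singleton_iff, Nat.card_zpowers]; exact hx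
    obtain ⟨g, hg⟩ := H3.exists_conj_le_of_isPiHall hH hK
    have := hcs _ (hg (H1.conj_mem_conj_smul (Subgroup.mem_zpowers x)))
    rwa [H80.cs_conj] at this

end Cfsg.Agent.S4034
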