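import Mathlib
import Cfsg.Statements.S4033
import Cfsg.Agent.Lib.CIT.Ito2
import Cfsg.Agent.S4034

set_option autoImplicit false
set_option linter.style.haveILetI false
open Cfsg

namespace Cfsg.Agent.S4033


/-- Let G be a finite group and p a prime, and suppose the conjugacy classes of p-regular elements of G (elements of order prime to p) have exactly two distinct sizes. Then either G has an abelian p-complement (an abelian subgroup of order prime to p and p-power index), or there are a prime q ≠ p, a Sylow p-subgroup P, a Sylow q-subgroup Q and a central subgroup A such that PQ is a normal subgroup of order #P·#Q and G is the internal direct product PQ × A. -/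
theorem result {G : Type*} [Group G] [Finite G] {p : ℕ} (hp : p.Prime)
    (h2 : Set.ncard (Set.range fun x : {x : G // (orderOf x).Coprime p} => (ConjClasses.mk (x : G)).carrier.ncard) = 2) :
    (∃ H : Subgroup G, IsMulCommutative H ∧ ¬ p ∣ Nat.card H ∧ ∃ k : ℕ, H.index = p ^ k) ∨
    (∃ (q : ℕ) (_ : Fact q.Prime) (P : Sylow p G) (Q : Sylow q G) (A : Subgroup G), q ≠ p ∧
        A ≤ Subgroup.center G ∧ Nat.card ↥((P : Subgroup G) ⊔ (Q : Subgroup G)) = Nat.card P * Nat.card Q ∧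
        ((P : Subgroup G) ⊔ (Q : Subgroup G)).Normal ∧
        ((P : Subgroup G) ⊔ (Q : Subgroup G)) ⊓ A = ⊥ ∧ ((P : Subgroup G) ⊔ (Q : Subgroup G)) ⊔ A = ⊤) := by
  open Subgroup H80 H35 H69 H32 in
  haveI := Fact.mk hp
  simp only [ncard_carrier_mk] at h2
  obtain ⟨k, hk⟩ : ∃ k, ∀ x : G, ¬ p ∣ orderOf x → cs⟦x⟧ = 1 ∨ cs⟦x⟧ = k := by
    obtain ⟨a, b, -, e⟩ := Set.ncard_eq_two.1 h2
    have m : ∀ x : G, ¬ p ∣ orderOf x → cs⟦x⟧ = a ∨ cs⟦x⟧ = b := fun x hx =>
      (e ▸ ⟨⟨x, (hp.coprime_iff_not_dvd.2 hx).symm⟩, rfl⟩ : cs⟦x⟧ ∈ ({a, b} : Set ℕ))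
    rcases m 1 not_dvd_orderOf_one with e | e <;> rw [cs_one] at e <;> subst e
    · exact ⟨b, m⟩
    · exact ⟨a, fun x hx => (m x hx).symm⟩
  by_cases two : ∀ q : ℕ, ∃ r : ℕ, r.Prime ∧ r ≠ p ∧ r ≠ q ∧ r ∣ (center G).index
  · obtain ⟨a, rfl⟩ := TB.pow ⟨hp, hk, two⟩
    refine .inl ((S4034.result hp).1 fun x hx => ?_)
    rw [ncard_carrier_mk]
    exact (hk x (hp.coprime_iff_not_dvd.1 hx.symm)).elim (fun e => ⟨0, e⟩) fun e => ⟨a, e⟩
  push Not at two
  obtain ⟨q, hq⟩ := two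
  by_cases hq' : q.Prime ∧ q ≠ p
  swap
  · refine .inl ((S4034.result hp).1 fun x _ => ?_)
    rw [ncard_carrier_mk]
    exact ⟨_, Nat.eq_prime_pow_of_unique_prime_dvd (cs_ne_zero x) fun {r} hr rd => by_contra fun rp =>
      hq r hr rp (fun e => hq' ⟨e ▸ hr, e ▸ rp⟩) (rd.trans (cs_dvd_index_center x))⟩
  obtain ⟨hq1, qp⟩ := hq'
  haveI := Fact.mk hq1
  let A : Subgroup G :=
    { carrier := {z | z ∈ center G ∧ ¬ p ∣ orderOf z ∧ ¬ q ∣ orderOf z}
      mul_mem' := fun {a b} ha hb => ⟨mul_mem ha.1 hb.1, not_dvd_orderOf_mul ha.2.1 hb.2.1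
        (mem_center_iff.1 hb.1 a), not_dvd_orderOf_mul ha.2.2 hb.2.2 (mem_center_iff.1 hb.1 a)⟩
      one_mem' := ⟨one_mem _, not_dvd_orderOf_one, not_dvd_orderOf_one⟩
      inv_mem' := fun {a} ha => ⟨inv_mem ha.1, by rw [orderOf_inv]; exact ha.2⟩ }
  have hA : A ≤ center G := fun _ h => h.1
  haveI : A.Normal := ⟨fun a ha g => by rwa [mem_center_iff.1 ha.1 g, mul_inv_cancel_right]⟩
  have c1 : ∀ r : ℕ, r.Prime → r ∣ Nat.card A → r ≠ p ∧ r ≠ q := fun r hr hd => by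
    haveI := Fact.mk hr
    obtain ⟨z, hz⟩ := exists_prime_orderOf_dvd_card' r hd
    rw [← Subgroup.orderOf_coe] at hz
    exact ⟨fun e => z.2.2.1 (by rw [hz, e]), fun e => z.2.2.2 (by rw [hz, e])⟩
  have c2 : ∀ r : ℕ, r.Prime → r ∣ A.index → r = p ∨ r = q := fun r hr hd => by
    haveI := Fact.mk hr
    by_contra hh
    push Not at hh
    obtain ⟨u, -, u1, u2⟩ := exists_pElt_not_mem (p := r) (Z := A) (M := ⊤) (by rwa [relIndex_top_right])
    exact u1 ⟨u2.mem_of_index (hq r hr hh.1 hh.2), not_dvd_of_pElt hp hr hh.1 u2,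
      not_dvd_of_pElt hq1 hr hh.2 u2⟩
  obtain ⟨L, hL⟩ := exists_right_complement'_of_coprime (N := A) (Nat.coprime_of_dvd fun r hr a b =>
    (c2 r hr b).elim (c1 r hr a).1 (c1 r hr a).2)
  haveI : L.Normal := ⟨fun a ha g => by
    obtain ⟨⟨z, l⟩, rfl⟩ := hL.2 g
    have : (z : G) * l * a * ((z : G) * l)⁻¹ = z * (l * a * (l : G)⁻¹) * (z : G)⁻¹ := by group
    simp only
    rw [this, ← mem_center_iff.1 z.2.1, mul_inv_cancel_right]
    exact mul_mem (mul_mem l.2 ha) (inv_mem l.2)⟩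
  obtain ⟨P⟩ : Nonempty (Sylow p G) := inferInstance
  obtain ⟨Q⟩ : Nonempty (Sylow q G) := inferInstance
  have hP : (P : Subgroup G) ≤ L := fun x hx => (isPElt_of_mem P.isPGroup' hx).mem_of_index
    fun e => (c1 p hp (hL.index_eq_card ▸ e)).1 rfl
  have hQ : (Q : Subgroup G) ≤ L := fun x hx => (isPElt_of_mem Q.isPGroup' hx).mem_of_index
    fun e => (c1 q hq1 (hL.index_eq_card ▸ e)).2 rfl
  have c3 : ∀ (B : Subgroup G) (r : ℕ), r.Prime → r ∣ B.relIndex L → r = p ∨ r = q := fun B r hr hd =>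
    c2 r hr (hL.symm.index_eq_card ▸ hd.trans (relIndex_dvd_card B L))
  have e : (P : Subgroup G) ⊔ Q = L := le_antisymm (sup_le hP hQ) (by_contra fun hn => by
    obtain ⟨r, hr, hd⟩ := Nat.exists_prime_and_dvd (mt relIndex_eq_one.1 hn)
    rcases c3 _ r hr hd with rfl | rfl
    · exact (isSylowIn_of_le P hP).not_dvd_relIndex_of_le le_sup_left (sup_le hP hQ) hd
    · exact (isSylowIn_of_le Q hQ).not_dvd_relIndex_of_le le_sup_right (sup_le hP hQ) hd)
  refine .inr ⟨q, ⟨hq1⟩, P, Q, A, qp, hA, ?_, e ▸ inferInstance, e ▸ hL.symm.disjoint.eq_bot,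
    e ▸ hL.symm.sup_eq_top⟩
  rw [e]
  refine Nat.dvd_antisymm ?_ (Nat.Coprime.mul_dvd_of_dvd_of_dvd
    (IsPGroup.coprime_card_of_ne p q qp.symm _ _ P.isPGroup' Q.isPGroup')
    (card_dvd_of_le hP) (card_dvd_of_le hQ))
  rw [← card_mul_index ((P : Subgroup G).subgroupOf L), H69.card_subgroupOf hP]
  refine Nat.mul_dvd_mul_left _ ?_
  have e1 : (P : Subgroup G).relIndex L = q ^ _ := Nat.eq_prime_pow_of_unique_prime_dvd
    index_ne_zero_of_finite fun {r} hr hd => (c3 _ r hr hd).resolve_left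
      fun e => (isSylowIn_of_le P hP).not_dvd_relIndex (e ▸ hd)
  have e2 := (relIndex_dvd_card (P : Subgroup G) L).trans (card_subgroup_dvd_card L)
  change (P : Subgroup G).relIndex L ∣ _
  rw [e1] at e2 ⊢
  rw [Q.card_eq_multiplicity]
  exact pow_dvd_pow _ ((hq1.pow_dvd_iff_le_factorization Nat.card_pos.ne').1 e2)

end Cfsg.Agent.S4033
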