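import Mathlib
import Cfsg.Agent.Base
import Cfsg.Agent.Lib.FGS.DirFactor
import Cfsg.Statements.S4035

set_option autoImplicit false
open Cfsg

namespace Cfsg.Agent.S4035

/-- Let G be a finite group and p a prime such that p divides the size of no conjugacy class of p-regular elements (elements of order prime to p). Then G is the internal direct product of a Sylow p-subgroup P and a normal subgroup H of order prime to p: P is normal, P ⊓ H = 1 and PH = G. -/
theorem result {G : Type*} [Group G] [Finite G] {p : ℕ} [Fact p.Prime]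
    (h : ∀ x : G, (orderOf x).Coprime p → ¬ p ∣ (ConjClasses.mk x).carrier.ncard) (P : Sylow p G) :
    (P : Subgroup G).Normal ∧ ∃ H : Subgroup G, H.Normal ∧ ¬ p ∣ Nat.card H ∧
      (P : Subgroup G) ⊓ H = ⊥ ∧ (P : Subgroup G) ⊔ H = ⊤ := by
  have hp : p.Prime := Fact.out
  simp only [H80.ncard_carrier_mk] at h
  have h' : ∀ y : G, ¬ p ∣ orderOf y → ¬ p ∣ (Subgroup.centralizer ({y} : Set G)).index :=
    fun y hy => h y ((Nat.Prime.coprime_iff_not_dvd hp).2 hy).symm
  haveI hP := H79.sylow_normal_of_not_dvd_cs h' P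
  refine ⟨hP, H79.exists_normal_compl_of_centralizes P ?_⟩
  intro q y hq hne hy
  obtain ⟨Q, hQ⟩ := H80.not_dvd_cs_iff.1 (h' y (H79.not_dvd_orderOf_of_isPElt_ne hp hq hne hy))
  haveI := Sylow.unique_of_normal P hP
  rw [Subsingleton.elim P Q]
  exact H80.le_Cx_iff.1 hQ

end Cfsg.Agent.S4035
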