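import Mathlib
import Cfsg.Agent.Lib.InvChar.IGrp
import Cfsg.Agent.S0061
import Cfsg.Agent.S0483
import Cfsg.Agent.S0486
import Cfsg.Agent.S0516
import Cfsg.Statements.S3214

set_option autoImplicit false
open Cfsg

namespace Cfsg.Agent.S3214

/-- Let G be a finite non-abelian simple group in which the centralizer of every involution has a normal 2-complement. Then G is isomorphic to PSL₂(q) for some prime power q > 3, to a Suzuki group Sz(2ⁿ) with n ≥ 3 odd, to the alternating group A₇, or to PSL₃(4). -/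
theorem result {G : Type*} [Group G] [Finite G] [IsSimpleGroup G]
    (hG : ¬ IsMulCommutative G)
    (hI : ∀ t : G, orderOf t = 2 → Cfsg.HasNormalPComplement 2 ↥(Subgroup.centralizer ({t} : Set G))) :
    (∃ (F : Type) (_ : Field F) (_ : Fintype F), 3 < Fintype.card F ∧
        Nonempty (G ≃* Matrix.ProjectiveSpecialLinearGroup (Fin 2) F)) ∨
      Cfsg.Lie.IsoSuzuki G ∨ Nonempty (G ≃* ↥(alternatingGroup (Fin 7))) ∨
      (∃ (F : Type) (_ : Field F) (_ : Fintype F), Fintype.card F = 4 ∧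
        Nonempty (G ≃* Matrix.ProjectiveSpecialLinearGroup (Fin 3) F)) := by
  have hna := H14.BSE.not_comm_of hG
  have h2 := H32.index_ne_two_of_simple hna
  have hns : ¬ Group.IsSolvable G := fun h => hG ⟨⟨(IsSimpleGroup.comm_iff_isSolvable.2 h)⟩⟩
  have hO : pPrimeCore 2 G = ⊥ := (IsSimpleGroup.eq_bot_or_eq_top_of_normal _
    inferInstance).resolve_right fun e => hns (Cfsg.Agent.S0205.result (by
      have := H1.odd_card_oddCore (G := G)
      rwa [show oddCore G = ⊤ from e, Subgroup.card_top] at this))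
  have hI' : H72.IGrp G := hI
  suffices h : H32.CIT G ∨ _ by
    refine h.elim (fun h => ?_) id
    rcases h.classify hna with ⟨F, i1, i2, ⟨n, hn, h⟩, e⟩ | ⟨F, i1, i2, ho, -, ⟨e⟩⟩ | h | h
    · refine Or.inl ⟨F, i1, i2, ?_, e⟩
      have := Nat.pow_le_pow_right (n := 2) (by norm_num) hn
      omega
    · refine Or.inl ⟨F, i1, i2, ?_, ⟨e⟩⟩
      by_contra hc
      have h1 := H10.card_PSL_two (F := F)
      have h2 := Fintype.one_lt_card (α := F)
      rw [Nat.card_eq_fintype_card (α := F), show Fintype.card F = 3 by obtain ⟨c, hc⟩ := ho; omega,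
        ← Nat.card_congr e.toEquiv] at h1
      exact hns (Cfsg.Agent.S0061.result 2 3 2 Nat.prime_two Nat.prime_three (by
        norm_num at h1; omega))
    · exact Or.inr (Or.inr (Or.inr h))
    · exact Or.inr (Or.inl h)
  by_cases h3 : PRankLE 2 2 G
  swap
  · exact Or.inl (hI'.cit_of_rank hO h2 h3)
  obtain ⟨S⟩ : Nonempty (Sylow 2 G) := inferInstance
  haveI : Fintype (GaloisField 2 4) := Fintype.ofFinite _
  have hF : Fintype.card (GaloisField 2 4) = 16 := by
    rw [← Nat.card_eq_fintype_card, GaloisField.card 2 4 (by decide)]; rfl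
  obtain ⟨P⟩ : Nonempty (Sylow 2 (PSU 3 (GaloisField 2 4) 4)) := inferInstance
  rcases Cfsg.Agent.S0516.result hG h3 S hF P with ⟨n, hn, e⟩ | h | h | h
  · haveI : Group.IsPerfect G := ⟨(IsSimpleGroup.eq_bot_or_eq_top_of_normal _ inferInstance).resolve_left
      fun e => hG (by rwa [commutator_eq_bot_iff] at e)⟩
    have e0 : G ≃* G ⧸ oddCore G :=
      ((QuotientGroup.quotientMulEquivOfEq (show oddCore G = ⊥ from hO)).trans
        QuotientGroup.quotientBot).symm
    rcases Cfsg.Agent.S0483.result S n hn e with ⟨F, i1, i2, -, h, ⟨e1⟩⟩ | ⟨⟨e1⟩⟩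
    · exact Or.inr (Or.inl ⟨F, i1, i2, h, ⟨e0.trans e1⟩⟩)
    · exact Or.inr (Or.inr (Or.inr (Or.inl ⟨e0.trans e1⟩)))
  · exact absurd (H41.qw_of (Or.inl h)) (hI'.not_qw h2 S)
  · exact absurd (H41.qw_of (Or.inr h)) (hI'.not_qw h2 S)
  · obtain ⟨e⟩ := Cfsg.Agent.S0486.result hF S P h
    obtain ⟨H, hH⟩ := H72.se_psu34 hF
    exact Or.inl (hI'.cit_of_se hna (H72.se_comap_equiv e hH))

end Cfsg.Agent.S3214
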