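import Cfsg.Statements.S2238
import Cfsg.Agent.Lib.Suzuki.Partition

set_option autoImplicit false
open Cfsg

namespace Cfsg.Agent.S2238

/-- The partition of the Suzuki group: with q = 2^(2m+1), m ≥ 1, r = 2^m and the Suzuki group realised as the stabiliser in SL₄ of the Suzuki–Tits ovoid, every non-identity element lies in exactly one subgroup that is either a Sylow 2-subgroup or a cyclic subgroup of order q − 1, q + 2r + 1 or q − 2r + 1. -/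
theorem result {F : Type*} [Field F] [Fintype F] {m : ℕ} (hm : 1 ≤ m) (hF : Fintype.card F = 2 ^ (2 * m + 1)) (g : ↥(Cfsg.Sz F m)) (hg : g ≠ 1) :
    ∃! U : Subgroup ↥(Cfsg.Sz F m), ((∃ P : Sylow 2 ↥(Cfsg.Sz F m), U = (P : Subgroup ↥(Cfsg.Sz F m))) ∨
      (IsCyclic ↥U ∧ Nat.card ↥U ∈ ({2 ^ (2 * m + 1) - 1, 2 ^ (2 * m + 1) + 2 ^ (m + 1) + 1, 2 ^ (2 * m + 1) - 2 ^ (m + 1) + 1} : Set ℕ))) ∧ g ∈ U := by
  haveI : H14.Sz.SzF F m := ⟨hm, hF⟩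
  let S := H14.Sz.stdModel F m
  rw [← hF]
  have key : ∀ U : Subgroup ↥(Cfsg.Sz F m), ((∃ P : Sylow 2 ↥(Cfsg.Sz F m), U = P) ∨
      (IsCyclic ↥U ∧ Nat.card ↥U ∈ ({Fintype.card F - 1, Fintype.card F + 2 ^ (m + 1) + 1,
        Fintype.card F - 2 ^ (m + 1) + 1} : Set ℕ))) ↔
      (∃ x, U = (S.conj x).U) ∨ (∃ x, U = (S.conj x).H) ∨ S.IsTorus U := by
    intro U
    constructor
    · rintro (⟨P, rfl⟩ | ⟨h1, h2 | h2⟩)
      · obtain ⟨x, hx⟩ := S.exists_conj_U_eq P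
        exact Or.inl ⟨x, hx.symm⟩
      · exact Or.inr (Or.inl (S.eq_conj_H_of_card h2))
      · exact Or.inr (Or.inr (H14.Sz.Model.isTorus_of_card h2))
    · rintro (⟨x, rfl⟩ | ⟨x, rfl⟩ | h)
      · exact Or.inl ⟨(S.conj x).sylow, rfl⟩
      · exact Or.inr ⟨inferInstance, Or.inl (S.conj x).card_H⟩
      · exact Or.inr ⟨h.isCyclic, Or.inr h.card_cases⟩
  simp only [key]
  rcases S.trichotomy g with ⟨x, hx⟩ | ⟨x, hx⟩ | h
  · refine ⟨_, ⟨Or.inl ⟨x, rfl⟩, hx⟩, ?_⟩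
    rintro V ⟨⟨y, rfl⟩ | ⟨y, rfl⟩ | h, hV⟩
    · exact S.conj_U_eq_of_mem hV ((S.conj x).U_le_B hx) hg
    · exact absurd ((S.conj x).eq_one_of_mem_U_of_mem_H hx hV) hg
    · exact absurd ((S.conj x).U_le_B hx) ((h.free hV hg).not_mem_conj_B x)
  · refine ⟨_, ⟨Or.inr (Or.inl ⟨x, rfl⟩), hx⟩, ?_⟩
    rintro V ⟨⟨y, rfl⟩ | ⟨y, rfl⟩ | h, hV⟩
    · exact absurd ((S.conj y).eq_one_of_mem_U_of_mem_H hV hx) hg
    · rw [← (S.conj y).centralizer_eq_H hV hg, (S.conj x).centralizer_eq_H hx hg]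
    · exact absurd ((S.conj x).H_le_B hx) ((h.free hV hg).not_mem_conj_B x)
  · have h' : S.Free g := h
    refine ⟨_, ⟨Or.inr (Or.inr h'.isTorus), Subgroup.mem_centralizer_singleton_iff.2 rfl⟩, ?_⟩
    rintro V ⟨⟨y, rfl⟩ | ⟨y, rfl⟩ | hT, hV⟩
    · exact absurd ((S.conj y).U_le_B hV) (h'.not_mem_conj_B y)
    · exact absurd ((S.conj y).H_le_B hV) (h'.not_mem_conj_B y)
    · exact (hT.centralizer_eq hV hg).symm

end Cfsg.Agent.S2238
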