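import Cfsg.Statements.S5249
import Cfsg.Agent.Lib.Fusion.Control
import Cfsg.Agent.S0664
-- import your own Cfsg.Agent.* helpers here

set_option autoImplicit false
open Cfsg

namespace Cfsg.Agent.S5249

/-- Let p be an odd prime, G a finite group in which Qd(p) (the natural semidirect product of an elementary abelian group of order p² by SL₂(p)) is not involved, and P a Sylow p-subgroup of G. Then the fusion system of G on P is a solvable fusion system. -/
theorem result {G : Type*} [Group G] [Finite G] {p : ℕ} [Fact p.Prime] (hp : p ≠ 2) (hqd : ¬ Cfsg.Involves ↥(Cfsg.qd p) G) (P : Sylow p G) : (Cfsg.groupFusionSystem (P : Subgroup G)).IsSolvableSystem := by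
  intro R hR hne _ E hE
  have hq := H91.Quot.of_factor hR hE
  have hS := hq.isPGroup P.isPGroup'
  have hW := H92.isCharPFunctor_ZJ.{u_1} p
  have h := H92.isNormal_of_glauberman hW
    (fun L _ _ T hc hf => by
      rw [H92.iF_ZJ]
      exact Cfsg.Agent.S0664.result hp hf hc T) hS
    (hq.isSaturated P.isPGroup' (H93.isSaturated_groupFusionSystem P))
    fun h => hqd ((H92.hasSec_iff_involves (H93.groupFusionSystem_isRealizedBy _)
      ⟨P, (Subgroup.range_subtype _).symm⟩).1 (h.of_quot hq))
  refine fun hc => H92.iF_ne_bot hW hS (H92.quot_ne_bot hq fun h' => hne ?_)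
    (le_bot_iff.1 (hc ▸ H91.IsNormal.le_core' h))
  exact le_antisymm hR.1 (H91.IsFactor.ker hE ▸ h')

end Cfsg.Agent.S5249
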