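import Cfsg.Statements.S1953
import Mathlib
import Cfsg.Agent.Base
import Cfsg.Agent.Lib.Tech58.FusCtrl
import Cfsg.Agent.Lib.Fusion.QdFree
import Cfsg.Agent.Lib.Fusion.Solv
import Cfsg.Agent.Lib.Thompson.SL2Sub
import Cfsg.Agent.Lib.PGroup.Basic
import Cfsg.Agent.S5249

set_option autoImplicit false
open Cfsg

namespace Cfsg.Agent.S1953

open Subgroup
open scoped Pointwise MatrixGroups

/-- The natural action of `SL₂(p)` on pairs. -/
def act {p : ℕ} (m : SL(2, ZMod p)) (v : Multiplicative (ZMod p × ZMod p)) :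
    Multiplicative (ZMod p × ZMod p) :=
  Multiplicative.ofAdd (m 0 0 * v.toAdd.1 + m 0 1 * v.toAdd.2, m 1 0 * v.toAdd.1 + m 1 1 * v.toAdd.2)

theorem act_one {p : ℕ} (v : Multiplicative (ZMod p × ZMod p)) : act 1 v = v := by
  simp [act]

theorem act_mul {p : ℕ} (m n : SL(2, ZMod p)) (v : Multiplicative (ZMod p × ZMod p)) :
    act (m * n) v = act m (act n v) := by
  simp only [act, Matrix.SpecialLinearGroup.coe_mul, Matrix.mul_apply, Fin.sum_univ_two,
    toAdd_ofAdd]
  congr 2 <;> ring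

theorem act_inj {p : ℕ} {m n : SL(2, ZMod p)} (h : ∀ v, act m v = act n v) : m = n := by
  have h1 := h (Multiplicative.ofAdd (1, 0))
  have h2 := h (Multiplicative.ofAdd (0, 1))
  simp [act] at h1 h2
  ext i j
  fin_cases i <;> fin_cases j <;> simp [h1, h2]

theorem section_of_gSec {G : Type*} [Group G] [Finite G] {p : ℕ} [Fact p.Prime] {X : Subgroup G}
    (h : H92.GSec X (H92.qdA p)) : ∃ (H K : Subgroup G) (_ : (K.subgroupOf H).Normal),
      centralizer (X : Set G) ≤ K ∧ K ≤ H ∧ H ≤ normalizer (X : Set G) ∧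
      Nonempty ((↥H ⧸ K.subgroupOf H) ≃* SL(2, ZMod p)) := by
  obtain ⟨π, -, h2, h3⟩ := h
  let Γ : Subgroup (G × SL(2, ZMod p)) :=
    { carrier := {g | g.1 ∈ normalizer (X : Set G) ∧ ∀ x ∈ X, π (g.1 * x * g.1⁻¹) = act g.2 (π x)}
      one_mem' := ⟨one_mem _, fun x _ => by simp [act_one]⟩
      mul_mem' := fun {a b} ha hb => ⟨mul_mem ha.1 hb.1, fun x hx => by
        rw [Prod.snd_mul, act_mul, ← hb.2 x hx, ← ha.2 _ (H3.conj_mem_of_mem_normalizer hb.1 hx)]
        simp [mul_assoc]⟩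
      inv_mem' := fun {a} ha => ⟨inv_mem ha.1, fun x hx => by
        have := ha.2 _ (H3.conj_mem_of_mem_normalizer' ha.1 hx)
        rw [show a.1 * (a.1⁻¹ * x * a.1) * a.1⁻¹ = x by group] at this
        rw [this, ← act_mul]
        simp [act_one]⟩ }
  let f : Γ →* G := (MonoidHom.fst _ _).comp Γ.subtype
  have hf : Function.Injective f := by
    intro a b e
    refine Subtype.ext (Prod.ext e (act_inj fun v => ?_))
    obtain ⟨x, hx, rfl⟩ := h2 v
    rw [← a.2.2 x hx, ← b.2.2 x hx]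
    exact congrArg (fun g => π (g * x * g⁻¹)) e
  let ρ : f.range →* SL(2, ZMod p) :=
    ((MonoidHom.snd _ _).comp Γ.subtype).comp (MonoidHom.ofInjective hf).symm.toMonoidHom
  have hρ : ∀ a : Γ, ρ ⟨f a, a, rfl⟩ = a.1.2 := fun a =>
    congrArg (fun b : Γ => b.1.2) ((MonoidHom.ofInjective hf).symm_apply_apply a)
  have hs : Function.Surjective ρ := by
    rw [← MonoidHom.range_eq_top, eq_top_iff, ← H24.closure_upT_loT_zmod, closure_le]
    rintro _ (rfl | rfl)
    · obtain ⟨g, hg⟩ := h3 _ (Or.inl rfl)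
      exact ⟨_, hρ ⟨(g, H24.upT 1), H3.mem_normalizer_of_conj_mem fun x hx => (hg x hx).1,
        fun x hx => by rw [(hg x hx).2]; simp [act, H24.upT, H64.SL2.mk]⟩⟩
    · obtain ⟨g, hg⟩ := h3 _ (Or.inr rfl)
      exact ⟨_, hρ ⟨(g, H24.loT 1), H3.mem_normalizer_of_conj_mem fun x hx => (hg x hx).1,
        fun x hx => by rw [(hg x hx).2]; simp [act, H24.loT, H64.SL2.mk]⟩⟩
  have he : (ρ.ker.map f.range.subtype).subgroupOf f.range = ρ.ker :=
    comap_map_eq_self_of_injective (subtype_injective _) _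
  haveI hn : ((ρ.ker.map f.range.subtype).subgroupOf f.range).Normal := by
    rw [he]; infer_instance
  refine ⟨f.range, ρ.ker.map f.range.subtype, hn, fun c hc => ?_, map_subtype_le _,
    ?_, ⟨(QuotientGroup.quotientMulEquivOfEq he).trans
      (QuotientGroup.quotientKerEquivOfSurjective ρ hs)⟩⟩
  · exact ⟨_, hρ ⟨(c, 1), centralizer_le_normalizer _ hc, fun x hx => by
      rw [act_one, ← hc x hx, mul_inv_cancel_right]⟩, rfl⟩
  · rintro _ ⟨a, rfl⟩
    exact a.2.1

/-- Let p be an odd prime and P a Sylow p-subgroup of the finite group G, and suppose that for no p-subgroup Q of G does N_G(Q)/C_G(Q) have a section isomorphic to SL₂(p). Call a subgroup Q of P centric-radical when Z(Q) is a Sylow p-subgroup of C_G(Q) and the only normal subgroup X of N_G(Q) containing Q·C_G(Q) such that the index of Q·C_G(Q) in X is a power of p is Q·C_G(Q) itself (that is, N_G(Q)/Q·C_G(Q) has no nontrivial normal p-subgroup). Then there is a centric-radical subgroup Q of P contained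 in every centric-radical subgroup of P; it is normal in P, and N_G(Q) controls strong fusion in P: whenever a subgroup A of P has g A g⁻¹ ≤ P, the element g is a product h c with h in N_G(Q) and c centralizing A. -/
theorem result {G : Type*} [Group G] [Finite G] {p : ℕ} [Fact p.Prime] (hp : p ≠ 2) (P : Sylow p G)
    (hfree : ∀ Q : Subgroup G, IsPGroup p ↥Q → ¬ ∃ (H K : Subgroup G) (_ : (K.subgroupOf H).Normal),
      Subgroup.centralizer (Q : Set G) ≤ K ∧ K ≤ H ∧ H ≤ Subgroup.normalizer (Q : Set G) ∧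
      Nonempty ((↥H ⧸ K.subgroupOf H) ≃* Matrix.SpecialLinearGroup (Fin 2) (ZMod p)))
    (cr : Subgroup G → Prop)
    (hcr : ∀ Q : Subgroup G, cr Q ↔ (Q ≤ (P : Subgroup G) ∧
      (∃ R : Sylow p ↥(Subgroup.centralizer (Q : Set G)),
        (R : Subgroup ↥(Subgroup.centralizer (Q : Set G))).map (Subgroup.centralizer (Q : Set G)).subtype = Q ⊓ Subgroup.centralizer (Q : Set G)) ∧
      ∀ X : Subgroup G, X ≤ Subgroup.normalizer (Q : Set G) →
        (∀ n ∈ Subgroup.normalizer (Q : Set G), X.map (MulAut.conj n).toMonoidHom = X) →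
        Q ⊔ Subgroup.centralizer (Q : Set G) ≤ X → (∃ k : ℕ, (Q ⊔ Subgroup.centralizer (Q : Set G)).relIndex X = p ^ k) →
        X = Q ⊔ Subgroup.centralizer (Q : Set G))) :
    ∃ Q : Subgroup G, cr Q ∧ (∀ R : Subgroup G, cr R → Q ≤ R) ∧ (∀ x ∈ (P : Subgroup G), Q.map (MulAut.conj x).toMonoidHom = Q) ∧
      ∀ A : Subgroup G, A ≤ (P : Subgroup G) → ∀ g : G, A.map (MulAut.conj g).toMonoidHom ≤ (P : Subgroup G) →
        ∃ h ∈ Subgroup.normalizer (Q : Set G), ∃ c ∈ Subgroup.centralizer (A : Set G), g = h * c := by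
  have hqd : ¬ Involves (qd p) G := fun h => by
    obtain ⟨X, hX, h⟩ := H92.exists_gSec_of_involves P h
    exact hfree X (P.isPGroup'.to_le hX) (section_of_gSec h)
  have hF := H93.isSaturated_groupFusionSystem P
  have hcon := ((H91.isSolvableSystem_iff P.isPGroup' hF).1
    (Cfsg.Agent.S5249.result hp hqd P)).isConstrained P.isPGroup' hF
  set Q := (groupFusionSystem (P : Subgroup G)).core with hQ
  have hc : (P : Subgroup G) ⊓ centralizer (Q : Set G) ≤ Q := (H91.isConstrained_iff_core.1 hcon).2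
  have hQn := H91.isNormal_core (groupFusionSystem (P : Subgroup G))
  obtain ⟨hQP, hctrl⟩ := H58.isNormal_group_iff.1 hQn
  rw [H58.ctrl_top_iff] at hctrl
  have hPN : (P : Subgroup G) ≤ normalizer (Q : Set G) :=
    H90.le_normalizer_of_stronglyClosed (H91.IsNormal.stronglyClosed' hQn)
  have hsyl : H93.Syl p (P : Subgroup G) (normalizer (Q : Set G)) :=
    (H93.syl_top P).mono hPN le_top
  refine ⟨Q, (hcr Q).2 ⟨hQP, ?_, fun X hXN hXinv hCX ⟨k, hk⟩ => ?_⟩, fun R hR => ?_,
    fun x hx => H3.conj_smul_eq_self_iff.2 (hPN hx), hctrl⟩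
  · obtain ⟨R, hR⟩ := (hsyl.inf_normal (centralizer_le_normalizer _)
      fun k hk x hx => H93.conj_mem_centralizer hk hx).exists_sylow
    refine ⟨R, ?_⟩
    rw [hR, subgroupOf_map_subtype, inf_assoc, inf_idem]
    exact le_antisymm (le_inf hc inf_le_right) (inf_le_inf_right _ hQP)
  · have hXc : ∀ k ∈ normalizer (Q : Set G), ∀ x ∈ X, k * x * k⁻¹ ∈ X := fun k hk x hx =>
      (hXinv k hk).le ⟨x, hx, rfl⟩
    set R := (P : Subgroup G) ⊓ X with hR
    have hX : X ≤ R ⊔ (Q ⊔ centralizer (Q : Set G)) := by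
      obtain ⟨R', hR'⟩ := (hsyl.inf_normal hXN hXc).exists_sylow
      rw [← relIndex_eq_one]
      have h1 : (R ⊔ (Q ⊔ centralizer (Q : Set G))).relIndex X ∣ p ^ k :=
        hk ▸ relIndex_dvd_of_le_left _ le_sup_right
      obtain ⟨j, -, hj⟩ := (Nat.dvd_prime_pow Fact.out).1 h1
      rcases j with _ | j
      · simpa using hj
      · refine absurd ?_ R'.not_dvd_index
        rw [hR']
        exact (Dvd.intro_left _ (by rw [hj, pow_succ])).trans
          (relIndex_dvd_of_le_left X (le_sup_left : R ≤ R ⊔ (Q ⊔ centralizer (Q : Set G))))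
    have hQR : Q ≤ R := le_inf hQP (le_sup_left.trans hCX)
    have hRn : (groupFusionSystem (P : Subgroup G)).IsNormal R := by
      refine H58.isNormal_group_iff.2 ⟨inf_le_left, H58.ctrl_top_iff.2 fun A hA n hn => ?_⟩
      obtain ⟨h, hh, c, hc', rfl⟩ := hctrl A hA n hn
      have hAh : ∀ a ∈ A, h * c * a * (h * c)⁻¹ = h * a * h⁻¹ := fun a ha => by
        rw [mul_assoc h c, ← hc' a ha]; group
      have hB : (A ⊔ Q).map (MulAut.conj h).toMonoidHom ≤ (P : Subgroup G) := by
        rw [Subgroup.map_sup]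
        refine sup_le ?_ ?_
        · rintro _ ⟨a, ha, rfl⟩
          exact (hAh a ha ▸ hn ⟨a, ha, rfl⟩ : h * a * h⁻¹ ∈ (P : Subgroup G))
        · rintro _ ⟨a, ha, rfl⟩
          exact hQP (H3.conj_mem_of_mem_normalizer hh ha)
      obtain ⟨d, hd, hd'⟩ := hsyl.exists_conj_of_le_sup (centralizer_le_normalizer _)
        (fun k hk x hx => H93.conj_mem_centralizer hk hx)
        (X := ((A ⊔ Q) ⊔ R).map (MulAut.conj h).toMonoidHom)
        ((P.isPGroup'.to_le (sup_le (sup_le hA hQP) inf_le_left)).map _) (by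
          rw [Subgroup.map_sup]
          refine sup_le (hB.trans le_sup_left) ?_
          rintro _ ⟨r, hr, rfl⟩
          exact (sup_le (inf_le_left.trans le_sup_left) (sup_le_sup_right hQP _))
            (hX (hXc h hh r hr.2)))
      obtain ⟨z, hz, e⟩ := H90.exists_conj_of_fix_centric P.isPGroup' hF
        (H91.IsNormal.isCentric hQn hc) (P := (A ⊔ Q).map (MulAut.conj h).toMonoidHom)
        (fun q hq => ⟨h⁻¹ * q * h, mem_sup_right (H3.conj_mem_of_mem_normalizer' hh hq), by
          simp [mul_assoc]⟩) (σ := H90.cj d)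
        (H90.map_group.2 ⟨hB, fun x hx => hd' x (map_mono le_sup_left hx), d, fun _ _ => rfl⟩)
        (fun x hx => by rw [H90.cj_apply, ← hd x hx, mul_inv_cancel_right])
      refine ⟨z⁻¹ * d * h, H3.mem_normalizer_of_conj_mem fun r hr => ?_,
        (z⁻¹ * d * h)⁻¹ * (h * c), fun a ha => ?_, by group⟩
      · have h1 : d * (h * r * h⁻¹) * d⁻¹ ∈ R := ⟨hd' _ ⟨r, mem_sup_right hr, rfl⟩,
          hXc d (centralizer_le_normalizer _ hd) _ (hXc h hh r hr.2)⟩
        have h2 := R.mul_mem (R.mul_mem (R.inv_mem (hQR hz.1)) h1) (hQR hz.1)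
        convert h2 using 1
        group
      · have h1 : d * (h * a * h⁻¹) * d⁻¹ = z * (h * a * h⁻¹) * z⁻¹ :=
          e _ ⟨a, mem_sup_left ha, rfl⟩
        calc a * ((z⁻¹ * d * h)⁻¹ * (h * c))
            = h⁻¹ * d⁻¹ * (d * (h * a * h⁻¹) * d⁻¹) * z * h * c := by group
          _ = h⁻¹ * d⁻¹ * z * h * (a * c) := by rw [h1]; group
          _ = _ := by rw [hc' a ha]; group
    exact le_antisymm (hX.trans (sup_le ((H91.IsNormal.le_core' hRn).trans le_sup_left) le_rfl)) hCX
  · obtain ⟨hRP, ⟨T, hT⟩, hrad⟩ := (hcr R).1 hR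
    by_contra hne
    obtain ⟨x, hx, hxR, -, hxN⟩ := H5.exists_mem_normalizer_of_lt
      (P.isPGroup'.to_le (sup_le hRP hQP)) (K := R)
      (lt_of_le_of_ne le_sup_left fun h => hne (le_sup_right.trans h.ge))
    obtain ⟨r, hr, q, hq, rfl⟩ := (H3.mem_sup_iff_of_le_normalizer' (hRP.trans hPN)).1 hx
    have hqN : q ∈ normalizer (R : Set G) := by
      simpa using mul_mem (inv_mem (le_normalizer hr)) hxN
    have hNC : normalizer (R : Set G) ≤
        normalizer ((R ⊔ centralizer (R : Set G) : Subgroup G) : Set G) :=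
      (le_inf le_rfl (fun k hk => H3.mem_normalizer_of_conj_mem fun x hx =>
        H93.conj_mem_centralizer hk hx)).trans (normalizer_inf_normalizer_le_normalizer_sup _ _)
    have h1 := hrad ((R ⊔ centralizer (R : Set G)) ⊔ (Q ⊓ normalizer (R : Set G)))
      (sup_le (sup_le le_normalizer (centralizer_le_normalizer _)) inf_le_right) (fun n hn => by
        obtain ⟨h, hh, c, hc', rfl⟩ := hctrl R hRP n
          ((H3.conj_smul_eq_self_iff.2 hn).le.trans hRP)
        have hhN : h ∈ normalizer (R : Set G) := by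
          simpa using mul_mem hn (inv_mem (centralizer_le_normalizer _ hc'))
        refine H3.conj_smul_eq_self_iff.2 (mul_mem ?_
          (le_normalizer (mem_sup_left (mem_sup_right hc'))))
        exact normalizer_inf_normalizer_le_normalizer_sup _ _
          ⟨hNC hhN, inf_normalizer_le_normalizer_inf ⟨hh, le_normalizer hhN⟩⟩)
      le_sup_left (by
        rw [H3.relIndex_sup_left_of_le_normalizer (inf_le_right.trans hNC)]
        obtain ⟨j, hj⟩ := IsPGroup.iff_card.1 (P.isPGroup'.to_le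
          (inf_le_left.trans hQP : Q ⊓ normalizer (R : Set G) ≤ P))
        obtain ⟨i, -, hi⟩ := (Nat.dvd_prime_pow Fact.out).1 (hj ▸ relIndex_dvd_card
          (R ⊔ centralizer (R : Set G)) (Q ⊓ normalizer (R : Set G)))
        exact ⟨i, hi⟩)
    have h2 : q ∈ R ⊔ centralizer (R : Set G) := h1 ▸ mem_sup_right ⟨hq, hqN⟩
    obtain ⟨s, hs, c, hc', rfl⟩ := (H3.mem_sup_iff_of_le_normalizer'
      (fun k hk => H3.mem_normalizer_of_conj_mem fun x hx =>
        H93.conj_mem_centralizer (le_normalizer hk) hx)).1 h2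
    have hcP : c ∈ (P : Subgroup G) := by
      simpa using (P : Subgroup G).mul_mem ((P : Subgroup G).inv_mem (hRP hs)) (hQP hq)
    have h3 := (hT ▸ H93.syl_map_subtype T).eq_of_le
      (P.isPGroup'.to_inf_left (K := centralizer (R : Set G))) inf_le_right
      (inf_le_inf_right _ hRP)
    have h4 : c ∈ R ⊓ centralizer (R : Set G) := h3 ▸ ⟨hcP, hc'⟩
    exact hxR (R.mul_mem hr (R.mul_mem hs h4.1))

end Cfsg.Agent.S1953
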