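import Mathlib
import Cfsg.Statements.S1534
import Cfsg.Agent.Base
import Cfsg.Agent.Lib.PF.H53_Feit

set_option autoImplicit false
open Cfsg

namespace Cfsg.Agent.S1534


/-- Let G be a finite group and K a nontrivial nilpotent subgroup whose underlying set is a TI-subset of G, properly contained in its set normaliser N, with C_G(k) ≤ K for every non-identity k ∈ K; let e be the index of K in N and S the set of irreducible characters χ of N with χ k ≠ χ 1 for some k ∈ K. Then one of: S has exactly one member, Nat.card K = e + 1 and K is an elementary abelian p-group for some prime p; or K is a Sylow 2-subgroup of G (Nat.card K is the largest power of 2 dividing Nat.card G) and [K : [K,K]] < 4e²; or (S, N minus 1, induction to G) is coherent. -/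
theorem result {G : Type*} [Group G] [Fintype G] (K : Subgroup G) (hK1 : K ≠ ⊥) (hnil : Group.IsNilpotent K) (hTI : Cfsg.IsTISubset (K : Set G)) (hlt : K < Subgroup.normalizer (K : Set G)) (hC : ∀ k ∈ K, k ≠ 1 → Subgroup.centralizer ({k} : Set G) ≤ K) [Fintype ↥(Subgroup.normalizer (K : Set G))] : (Nat.card {χ : ↥(Subgroup.normalizer (K : Set G)) → ℂ // Cfsg.IsIrrCharacter ↥(Subgroup.normalizer (K : Set G)) χ ∧ ∃ k : ↥(Subgroup.normalizer (K : Set G)), (k : G) ∈ K ∧ χ k ≠ χ 1} = 1 ∧ Nat.card K = (K.subgroupOf (Subgroup.normalizer (K : Set G))).index + 1 ∧ ∃ p : ℕ, p.Prime ∧ Cfsg.IsElementaryAbelian p K) ∨ (Nat.card K = 2 ^ (Nat.card G).factorization 2 ∧ (⁅K, K⁆.subgroupOf K).index < 4 * (K.subgroupOf (Subgroup.normalizer (K : Set G))).index ^ 2) ∨ Cfsg.IsCoherent {χ : ↥(Subgroup.normalizer (K : Set G)) → ℂ | Cfsg.IsIrrCharacter ↥(Subgroup.normalizer (K : Set G)) χ ∧ ∃ k : ↥(Subgroup.normalizer (K : Set G)), (k : G) ∈ K ∧ χ k ≠ χ 1} {1}ᶜ (fun α => Cfsg.indFun (Subgroup.normalizer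 (K : Set G)) α) := by
  have hF := H53.frobKer_normalizer hK1 hlt hC
  have hF' := H53.frobKer_subgroupOf hF
  have hT := H51.NormedTI.of_isTISubset hTI rfl hlt.le
  have e := H53.frob_setOf_eq hF' hF'.norm le_rfl
  have h0 := H51.relIndex_pos K (Subgroup.normalizer (K : Set G))
  by_cases hc : Nat.card K = K.relIndex (Subgroup.normalizer (K : Set G)) + 1
  · obtain ⟨p, pp, hd⟩ := Nat.exists_prime_and_dvd (n := Nat.card K) (by omega)
    refine Or.inl ⟨?_, hc, p, pp, H53.frob_elem_of_card hF hc pp hd⟩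
    have h1 := H53.frob_card_one hF' (by
      rw [Nat.card_congr (Subgroup.subgroupOfEquivOfLe hlt.le).toEquiv,
        Subgroup.relIndex_top_right]; exact hc)
    rw [← Nat.card_eq_finsetCard, ← Finset.coe_sort_coe, ← e] at h1
    exact h1
  right
  by_cases h : ⁅K, K⁆ = ⊥ ∨
      4 * K.relIndex (Subgroup.normalizer (K : Set G)) ^ 2 + 1 < (⁅K, K⁆).relIndex K ∨
      ¬ ∃ p m : ℕ, p.Prime ∧ Nat.card K = p ^ m
  · have h := H53.isCoherent_feit_ind hF hT hc h
    rw [← e] at h
    exact Or.inr h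
  push Not at h
  obtain ⟨h1, h2, p, m, pp, h3⟩ := h
  have hab : ¬ ∀ a ∈ K, ∀ b ∈ K, a * b = b * a := fun h => h1 (H51.commutator_eq_bot_of_comm h)
  by_cases hp : p = 2
  · subst hp
    have hodd : Odd (K.relIndex (Subgroup.normalizer (K : Set G))) :=
      Nat.not_even_iff_odd.1 fun h => hab (H53.frob_comm_of_even hF h)
    have : Fact (Nat.Prime 2) := ⟨pp⟩
    obtain ⟨P, hP⟩ := H53.exists_sylow_eq h3 hodd.not_two_dvd_nat
    refine Or.inl ⟨by rw [← hP]; exact P.card_eq_multiplicity, ?_⟩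
    obtain ⟨a, -, ha⟩ := (Nat.dvd_prime_pow pp).1 (h3 ▸ Subgroup.relIndex_dvd_card ⁅K, K⁆ K)
    have h4 : 1 < K.relIndex (Subgroup.normalizer (K : Set G)) := H53.one_lt_relIndex hlt.not_ge
    change (⁅K, K⁆).relIndex K < 4 * K.relIndex (Subgroup.normalizer (K : Set G)) ^ 2
    generalize K.relIndex (Subgroup.normalizer (K : Set G)) = n at hodd h2 h4
    rw [ha] at h2 ⊢
    by_contra h5
    have h6 : 2 ^ a = 4 * n ^ 2 ∨ 2 ^ a = 4 * n ^ 2 + 1 := by omega
    rcases h6 with h6 | h6
    · have h7 : n ∣ 2 ^ a := by rw [h6]; exact Dvd.dvd.mul_left (dvd_pow_self n two_ne_zero) 4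
      have := Nat.eq_one_of_dvd_coprimes (Nat.Coprime.pow_right a (Nat.coprime_two_right.2 hodd))
        dvd_rfl h7
      omega
    · rcases Nat.eq_zero_or_pos a with rfl | h7
      · have : 0 < n ^ 2 := by positivity
        omega
      · have : 2 ∣ 2 ^ a := dvd_pow_self 2 h7.ne'
        omega
  · have hodd : Odd (Nat.card K) := by
      rw [h3]
      exact (pp.odd_of_ne_two hp).pow
    have h := H53.isCoherent_sibley (H53.frob_odd hF hodd hab) hF hT hF.norm le_rfl hK1
    rw [← e] at h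
    exact Or.inr h

end Cfsg.Agent.S1534
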