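import Mathlib
import Cfsg.Statements.S5164
-- import your own Cfsg.Agent.* helpers here

set_option autoImplicit false
open Cfsg

namespace Cfsg.Agent.S5164

/-- a subgroup of index 1 or `p` in a finite `p`-group contains all commutators -/
theorem comm_mem_of_index {P : Type*} [Group P] [Finite P] {p : ℕ} [hp : Fact p.Prime]
    (hP : IsPGroup p P) (H : Subgroup P) (hH : H.index < p ^ 2) (a b : P) :
    a * b * a⁻¹ * b⁻¹ ∈ H := by
  obtain ⟨k, hk⟩ := hP.index H
  have hk2 : k < 2 := by
    rw [hk] at hH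
    exact (Nat.pow_lt_pow_iff_right hp.out.one_lt).mp hH
  interval_cases k
  · rw [pow_zero, Subgroup.index_eq_one] at hk
    rw [hk]; trivial
  · rw [pow_one] at hk
    obtain ⟨m, hm⟩ := IsPGroup.iff_card.mp hP
    have hm0 : m ≠ 0 := by
      rintro rfl
      have := H.index_dvd_card
      rw [hm, hk, pow_zero, Nat.dvd_one] at this
      exact hp.out.ne_one this
    have : H.Normal := Subgroup.normal_of_index_eq_minFac_card (by
      rw [hm, hk, hp.out.pow_minFac hm0])
    have : IsCyclic (P ⧸ H) := isCyclic_of_prime_card (p := p) hk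
    rw [← QuotientGroup.eq_one_iff]
    let := IsCyclic.commGroup (α := P ⧸ H)
    have := mul_comm (QuotientGroup.mk a : P ⧸ H) (QuotientGroup.mk b)
    simp only [QuotientGroup.mk_mul, QuotientGroup.mk_inv]
    rw [this]; group

theorem not_comm_of_elements {G : Type*} [Group G] [Finite G] {p : ℕ} [hp : Fact p.Prime]
    (S : Sylow p G) (a b : G) (k : ℕ) (ha : a ^ p ^ k = 1) (hb : b ^ p ^ k = 1) (m : ℕ)
    (hab : b * a * b⁻¹ = a ^ m) (hne : a * b ≠ b * a) : ¬ IsMulCommutative S := by
  intro hc
  have hz : ∀ c : G, c ^ p ^ k = 1 → IsPGroup p (Subgroup.zpowers c) := fun c hc =>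
    IsPGroup.of_card_dvd_pow (n := k) (by
      rw [Nat.card_zpowers]; exact orderOf_dvd_of_pow_eq_one hc)
  have hn : Subgroup.zpowers b ≤ Subgroup.normalizer (Subgroup.zpowers a : Set G) := by
    rw [Subgroup.zpowers_le]
    apply Subgroup.mem_normalizer_fintype
    rintro _ ⟨j, rfl⟩
    refine ⟨m * j, ?_⟩
    show a ^ ((m : ℤ) * j) = b * a ^ j * b⁻¹
    rw [← conj_zpow, hab, zpow_mul, zpow_natCast]
  obtain ⟨T, hT⟩ := ((hz a ha).to_sup_of_normal_left' (hz b hb) hn).exists_le_sylow
  obtain ⟨g, rfl⟩ := MulAction.exists_smul_eq G T S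
  have haT : a ∈ (T : Subgroup G) := hT (Subgroup.mem_sup_left (Subgroup.mem_zpowers a))
  have hbT : b ∈ (T : Subgroup G) := hT (Subgroup.mem_sup_right (Subgroup.mem_zpowers b))
  have h1 : ∀ c ∈ (T : Subgroup G), g * c * g⁻¹ ∈ ((g • T : Sylow p G) : Subgroup G) := by
    intro c hc
    rw [Sylow.coe_subgroup_smul]
    exact ⟨c, hc, rfl⟩
  have h2 := hc.is_comm.comm ⟨_, h1 a haT⟩ ⟨_, h1 b hbT⟩
  have h3 : (g * a * g⁻¹) * (g * b * g⁻¹) = (g * b * g⁻¹) * (g * a * g⁻¹) :=
    congrArg Subtype.val h2
  apply hne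
  calc a * b = g⁻¹ * ((g * a * g⁻¹) * (g * b * g⁻¹)) * g := by group
    _ = b * a := by rw [h3]; group

theorem not_comm_of_small {α : Type} [Fintype α] [DecidableEq α] {n p : ℕ} [hp : Fact p.Prime]
    (hn : Fintype.card α ≤ n) (S : Sylow p (alternatingGroup (Fin n)))
    (a b : Equiv.Perm α) (hsa : Equiv.Perm.sign a = 1) (hsb : Equiv.Perm.sign b = 1)
    (k : ℕ) (ha : a ^ p ^ k = 1) (hb : b ^ p ^ k = 1) (m : ℕ)
    (hab : b * a * b⁻¹ = a ^ m) (hne : a * b ≠ b * a) : ¬ IsMulCommutative S := by
  classical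
  obtain ⟨ι⟩ : Nonempty (α ↪ Fin n) :=
    Function.Embedding.nonempty_of_card_le (by simpa using hn)
  let f := Equiv.Perm.extendDomainHom (Equiv.ofInjective ι.1 ι.2)
  have hf : Function.Injective f := Equiv.Perm.extendDomainHom_injective _
  have hs : ∀ c : Equiv.Perm α, Equiv.Perm.sign c = 1 → f c ∈ alternatingGroup (Fin n) := by
    intro c hc
    rw [Equiv.Perm.mem_alternatingGroup, ← hc]
    exact Equiv.Perm.sign_extendDomain c _
  refine not_comm_of_elements S ⟨f a, hs a hsa⟩ ⟨f b, hs b hsb⟩ k ?_ ?_ m ?_ ?_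
  · apply Subtype.ext
    show f a ^ p ^ k = 1
    rw [← map_pow, ha, map_one]
  · apply Subtype.ext
    show f b ^ p ^ k = 1
    rw [← map_pow, hb, map_one]
  · apply Subtype.ext
    show f b * f a * (f b)⁻¹ = f a ^ m
    rw [← map_pow, ← hab, map_mul, map_mul, map_inv]
  · intro h
    have h' : f a * f b = f b * f a := congrArg Subtype.val h
    rw [← map_mul, ← map_mul] at h'
    exact hne (hf h')

theorem sign_eq_one_of_odd {α : Type} [Fintype α] [DecidableEq α] (a : Equiv.Perm α) (N : ℕ)
    (hN : Odd N) (h : a ^ N = 1) : Equiv.Perm.sign a = 1 := by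
  have h1 : Equiv.Perm.sign a ^ N = 1 := by rw [← map_pow, h, map_one]
  rcases Int.units_eq_one_or (Equiv.Perm.sign a) with h2 | h2
  · exact h2
  · rw [h2, hN.neg_one_pow] at h1
    exact absurd h1 (by decide)

/-- For n ≥ 6 and a prime p, a nontrivial Sylow p-subgroup of the alternating group of degree n is abelian if and only if n < p². -/
theorem result (n p : ℕ) (hn : 6 ≤ n) [Fact p.Prime] (S : Sylow p (alternatingGroup (Fin n))) (hS : (S : Subgroup (alternatingGroup (Fin n))) ≠ ⊥) : IsMulCommutative S ↔ n < p ^ 2 := by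
  have hp : p.Prime := Fact.out
  constructor
  · intro hc
    by_contra hlt
    push Not at hlt
    rcases hp.eq_two_or_odd' with rfl | hodd
    · refine not_comm_of_small (α := Fin 6) (by simpa using hn) S
        (Equiv.swap 0 1 * Equiv.swap 1 2 * Equiv.swap 2 3 * Equiv.swap 4 5)
        (Equiv.swap 0 2 * Equiv.swap 4 5) (by decide) (by decide) 2 (by decide) (by decide) 3
        (by decide) (by decide) hc
    · have : NeZero (p ^ 2) := ⟨pow_ne_zero _ hp.ne_zero⟩
      have hp2 : ((p : ZMod (p ^ 2))) ^ 2 = 0 := by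
        rw [← Nat.cast_pow, ZMod.natCast_self]
      have hpow : ∀ j : ℕ, (1 + (p : ZMod (p ^ 2))) ^ j = 1 + j * p := by
        intro j
        induction j with
        | zero => simp
        | succ j ih => rw [pow_succ _ j, ih]; push_cast; linear_combination (j : ZMod (p ^ 2)) * hp2
      let u : (ZMod (p ^ 2))ˣ := ⟨1 + p, 1 - p, by linear_combination -hp2, by linear_combination -hp2⟩
      let a : Equiv.Perm (ZMod (p ^ 2)) := Equiv.addLeft 1
      let b : Equiv.Perm (ZMod (p ^ 2)) := u.mulLeft
      have hap : ∀ (j : ℕ) (x : ZMod (p ^ 2)), (a ^ j) x = j + x := by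
        intro j
        induction j with
        | zero => simp
        | succ j ih =>
          intro x
          rw [pow_succ a j, Equiv.Perm.mul_apply, ih]
          show (j : ZMod (p ^ 2)) + (1 + x) = _
          push_cast; ring
      have hbp : ∀ (j : ℕ) (x : ZMod (p ^ 2)), (b ^ j) x = (1 + p) ^ j * x := by
        intro j
        induction j with
        | zero => simp
        | succ j ih =>
          intro x
          rw [pow_succ b j, Equiv.Perm.mul_apply, ih]
          show (1 + (p : ZMod (p ^ 2))) ^ j * ((1 + p) * x) = _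
          ring
      have ha : a ^ p ^ 2 = 1 := by
        ext x; rw [hap, ZMod.natCast_self]; simp
      have hb : b ^ p ^ 2 = 1 := by
        ext x; rw [hbp, hpow, ZMod.natCast_self]; simp
      refine not_comm_of_small (α := ZMod (p ^ 2)) (by simpa using hlt) S a b
        (sign_eq_one_of_odd a _ hodd.pow ha) (sign_eq_one_of_odd b _ hodd.pow hb) 2 ha hb (1 + p)
        ?_ ?_ hc
      · rw [mul_inv_eq_iff_eq_mul]
        ext x
        rw [Equiv.Perm.mul_apply, Equiv.Perm.mul_apply, hap]
        show (1 + (p : ZMod (p ^ 2))) * (1 + x) = _ + (1 + p) * x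
        push_cast; ring
      · intro h
        have h0 := congrArg (fun c : Equiv.Perm (ZMod (p ^ 2)) => c 0) h
        have h1 : (1 : ZMod (p ^ 2)) + (1 + p) * 0 = (1 + p) * (1 + 0) := h0
        have h2 : ((p : ℕ) : ZMod (p ^ 2)) = 0 := by linear_combination -h1
        rw [ZMod.natCast_eq_zero_iff] at h2
        have := Nat.le_of_dvd hp.pos h2
        have h3 := hp.one_lt
        nlinarith
  · intro hlt
    refine ⟨⟨fun a b => ?_⟩⟩
    have key : a * b * a⁻¹ * b⁻¹ = 1 := by
      ext x
      have h1 : (MulAction.stabilizer S x).index < p ^ 2 := by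
        rw [MulAction.index_stabilizer]
        refine lt_of_le_of_lt ?_ hlt
        simpa using Set.ncard_le_ncard (Set.subset_univ (MulAction.orbit S x))
      have h2 := comm_mem_of_index S.isPGroup' _ h1 a b
      exact congrArg Fin.val h2
    calc a * b = (a * b * a⁻¹ * b⁻¹) * (b * a) := by group
      _ = b * a := by rw [key, one_mul]

end Cfsg.Agent.S5164
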