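import Cfsg.Statements.S4733
import Mathlib
import Cfsg.Agent.Base
import Cfsg.Agent.Lib.Block.QuotRank

set_option autoImplicit false
open Cfsg

namespace Cfsg.Agent.S4733

/-- Let p be a prime, M a maximal ideal of the algebraic integers containing p, and B a p-block of the finite group G with k irreducible characters and p-regular rank l (the number of irreducible Brauer characters). Then l ≤ k, and the following are equivalent: B has defect 0; k = l = 1; k = l. -/
theorem result {G : Type*} [Group G] [Finite G] (p : ℕ) [Fact p.Prime] (M : Ideal Cfsg.AlgInt) (hM : Cfsg.IsPModular p M) (B : Set (Cfsg.IrrCharacter G)) (hB : Cfsg.IsPBlock M B) : Cfsg.blockRank p B ≤ Nat.card B ∧ (Cfsg.blockDefect p B = 0 ↔ (Nat.card B = 1 ∧ Cfsg.blockRank p B = 1)) ∧ (Cfsg.blockDefect p B = 0 ↔ Nat.card B = Cfsg.blockRank p B) := by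
  classical
  letI := Fintype.ofFinite G
  haveI := H33.isMaximal_of hM
  obtain ⟨χ, hχ, h0⟩ := H84.exists_height_zero (p := p) (H84.block_nonempty hB)
  have h1 : blockDefect p B = 0 → Nat.card B = 1 ∧ blockRank p B = 1 := fun h =>
    ⟨by rw [(H33.blockDefect_eq_zero_iff_singleton hM hB hχ).mp h, Nat.card_unique],
      H84.blockRank_eq_one_of_defect_zero hM hB h⟩
  have h2 : Nat.card B = blockRank p B → blockDefect p B = 0 := fun h => by
    have hs : ∑ ψ ∈ H84.bset B, H84.contr p B (ψ : G → ℂ) ψ =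
        ∑ ψ ∈ H84.bset B, (p : ℤ) ^ blockDefect p B := by
      apply Int.cast_injective (α := ℂ)
      rw [Int.cast_sum, Finset.sum_congr rfl fun ψ hψ =>
        H84.cast_contr (H84.mem_bset.mp hψ) (H84.irr_gen ψ), ← Finset.mul_sum,
        ← H84.blockRank_eq_sum hM hB, Finset.sum_const, H84.card_bset, h]
      simp [mul_comm]
    have h3 := (Finset.sum_eq_sum_iff_of_le fun ψ hψ =>
      H84.contr_self_le hM hB (H84.mem_bset.mp hψ)).mp hs χ (H84.mem_bset.mpr hχ)
    have h4 := (H84.not_pow_height_succ_dvd_contr_iff hM hB hχ hχ).mpr h0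
    rw [h0, zero_add, pow_one, h3] at h4
    by_contra hne
    exact h4 (dvd_pow_self _ hne)
  exact ⟨H84.blockRank_le_card B, ⟨h1, fun h => h2 (h.1.trans h.2.symm)⟩,
    ⟨fun h => (h1 h).1.trans (h1 h).2.symm, h2⟩⟩

end Cfsg.Agent.S4733
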