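import Cfsg.Statements.S2477
import Cfsg.Agent.Lib.EltOrd.Alt
-- import your own Cfsg.Agent.* helpers here

set_option autoImplicit false
open Cfsg

namespace Cfsg.Agent.S2477

def tab : ℕ → List (ℕ × ℕ)
  | 0 => [(0, 1)]
  | 1 => [(0, 1)]
  | 2 => [(0, 1), (1, 2)]
  | 3 => [(0, 1), (0, 3), (1, 2)]
  | 4 => [(0, 1), (0, 2), (0, 3), (1, 2), (1, 4)]
  | 5 => [(0, 1), (0, 2), (0, 3), (0, 5), (1, 2), (1, 4), (1, 6)]
  | 6 => [(0, 1), (0, 2), (0, 3), (0, 4), (0, 5), (1, 2), (1, 4), (1, 6)]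
  | 7 => [(0, 1), (0, 2), (0, 3), (0, 4), (0, 5), (0, 6), (0, 7), (1, 2), (1, 4), (1, 6), (1, 10), (1, 12)]
  | 8 => [(0, 1), (0, 2), (0, 3), (0, 4), (0, 5), (0, 6), (0, 7), (0, 15), (1, 2), (1, 4), (1, 6), (1, 8), (1, 10), (1, 12)]
  | 9 => [(0, 1), (0, 2), (0, 3), (0, 4), (0, 5), (0, 6), (0, 7), (0, 9), (0, 10), (0, 12), (0, 15), (1, 2), (1, 4), (1, 6), (1, 8), (1, 10), (1, 12), (1, 14), (1, 20)]
  | 10 => [(0, 1), (0, 2), (0, 3), (0, 4), (0, 5), (0, 6), (0, 7), (0, 8), (0, 9), (0, 10), (0, 12), (0, 15), (0, 21), (1, 2), (1, 4), (1, 6), (1, 8), (1, 10), (1, 12), (1, 14), (1, 20), (1, 30)]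
  | _ => []

theorem tab_zero : ∀ k ∈ List.range 11, (0, 1) ∈ tab k := by decide

theorem tab_step : ∀ k ∈ List.range 11, ∀ a ∈ List.range 11, 2 ≤ a → a ≤ k →
    ∀ x ∈ tab (k - a), ((x.1 + a + 1) % 2, Nat.lcm a x.2) ∈ tab k := by decide +kernel

theorem mem_tab (c : Multiset ℕ) : ∀ k, k ≤ 10 → c.sum ≤ k → (∀ a ∈ c, 2 ≤ a) →
    ((c.sum + c.card) % 2, c.lcm) ∈ tab k := by
  induction c using Multiset.induction_on with
  | empty => intro k hk _ _; simpa using tab_zero k (by simp; omega)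
  | cons a s ih =>
    intro k hk h1 h2
    rw [Multiset.sum_cons] at h1
    have h3 := ih (k - a) (by omega) (by omega) (fun b hb => h2 b (by simp [hb]))
    have h4 := tab_step k (by simp; omega) a (by simp; omega) (h2 a (by simp)) (by omega) _ h3
    rw [Multiset.sum_cons, Multiset.card_cons, Multiset.lcm_cons]
    have e : (a + s.sum + (s.card + 1)) % 2 = ((s.sum + s.card) % 2 + a + 1) % 2 := by omega
    rw [e]
    exact h4

theorem tab_ten : ∀ x ∈ tab 10, x.1 = 0 → x.2 ∈ [1, 2, 3, 4, 5, 6, 7, 8, 9, 10, 12, 15, 21] := by decide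

/-- The set of element orders of the alternating group of degree 10 is {1, 2, 3, 4, 5, 6, 7, 8, 9, 10, 12, 15, 21}. -/
theorem result : Set.range (orderOf : alternatingGroup (Fin 10) → ℕ) = {1, 2, 3, 4, 5, 6, 7, 8, 9, 10, 12, 15, 21} := by
  ext m
  rw [H64.mem_range_orderOf_alt_iff]
  constructor
  · rintro ⟨c, h1, h2, h3, rfl⟩
    have := tab_ten _ (mem_tab c 10 le_rfl h1 h2) (Nat.even_iff.1 h3)
    simpa using this
  · intro h
    simp only [Set.mem_insert_iff, Set.mem_singleton_iff] at h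
    rcases h with rfl | rfl | rfl | rfl | rfl | rfl | rfl | rfl | rfl | rfl | rfl | rfl | rfl
    · exact ⟨0, by decide, by decide, by decide, by decide⟩
    · exact ⟨{2, 2}, by decide, by decide, by decide, by decide⟩
    · exact ⟨{3}, by decide, by decide, by decide, by decide⟩
    · exact ⟨{4, 2}, by decide, by decide, by decide, by decide⟩
    · exact ⟨{5}, by decide, by decide, by decide, by decide⟩
    · exact ⟨{6, 2}, by decide, by decide, by decide, by decide⟩
    · exact ⟨{7}, by decide, by decide, by decide, by decide⟩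
    · exact ⟨{8, 2}, by decide, by decide, by decide, by decide⟩
    · exact ⟨{9}, by decide, by decide, by decide, by decide⟩
    · exact ⟨{5, 2, 2}, by decide, by decide, by decide, by decide⟩
    · exact ⟨{4, 3, 2}, by decide, by decide, by decide, by decide⟩
    · exact ⟨{5, 3}, by decide, by decide, by decide, by decide⟩
    · exact ⟨{7, 3}, by decide, by decide, by decide, by decide⟩

end Cfsg.Agent.S2477
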