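import Cfsg.Statements.S2982
import Mathlib
import Cfsg.Agent.Base
import Cfsg.Agent.Lib.Push.MP21
import Cfsg.Agent.S2985
import Cfsg.Agent.S2987

set_option autoImplicit false
open Cfsg

namespace Cfsg.Agent.S2982

open Subgroup H69 H68.Push H68B H59.MP

/-- Pushing up for minimal parabolic groups. Let G be a finite p-minimal group (a Sylow p-subgroup T is not normal and lies in exactly one maximal subgroup) of characteristic p (C_G(O_p(G)) ≤ O_p(G)). Suppose that no nontrivial characteristic subgroup of the Baumann subgroup B(T) is normal in G and that Ω₁(Z(T)) is not normal in G. Then G has a set of B(T)-blocks with the block structure of the local C*(G,T)-Theorem, every block E with E/O_p(E) alternating of degree 2m+1 (p = 2) has 2m+1 = 2ⁿ+1, and C*(G,T) = (C*(G,T) ∩ ⟨blocks⟩)·T. -/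
theorem result {G : Type*} [Group G] [Finite G] {p : ℕ} [Fact p.Prime] (hmin : Cfsg.IsPMinimal p G) (hG : Subgroup.centralizer (Cfsg.pCore p G : Set G) ≤ Cfsg.pCore p G) (T : Sylow p G) (hchar : ∀ C : Subgroup G, C ≤ Cfsg.baumannSubgroupOf p (T : Subgroup G) → C ≠ ⊥ → (C.subgroupOf (Cfsg.baumannSubgroupOf p (T : Subgroup G))).Characteristic → ¬ C.Normal) (hz : ¬ (Cfsg.omegaOneCenter p (T : Subgroup G)).Normal) : ∃ 𝓑 : Set (Subgroup G), Cfsg.HasBaumannBlockStructure p (T : Subgroup G) 𝓑 ∧ (∀ E ∈ 𝓑, ∀ m : ℕ, Nonempty (↥E ⧸ Cfsg.pCore p ↥E ≃* ↥(alternatingGroup (Fin (2 * m + 1)))) → ∃ n : ℕ, 2 * m + 1 = 2 ^ n + 1) ∧ Cfsg.cStarOf p (T : Subgroup G) = (Cfsg.cStarOf p (T : Subgroup G) ⊓ sSup 𝓑) ⊔ (T : Subgroup G) := by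
  obtain ⟨M, -, h⟩ := exists_pm hmin T
  have h1 : ∀ C : Subgroup (baumannSubgroupOf p (T : Subgroup G)), C.Characteristic → C ≠ ⊥ →
      𝐍(C.map (baumannSubgroupOf p (T : Subgroup G)).subtype) ≤ M := fun C hC h0 =>
    h.max _ (H2.le_normalizer_map_subtype_of_characteristic (le_normalizer_bau _) C) fun e =>
      hchar _ (map_subtype_le C) (mt map_subtype_eq_bot_iff.1 h0)
        (by rwa [subgroupOf_map_subtype']) (normal_iff_top_le_normalizer.2 e.ge)
  have h2 : 𝐂(omegaOneCenter p (T : Subgroup G)) ≤ M := h.max _ (le_cent_oc _) fun e =>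
    hz (normal_iff_top_le_normalizer.2 (e.ge.trans (centralizer_le_normalizer _)))
  obtain ⟨P, W, _, _, _, _, _, _, θ, π, y, 𝓔, s⟩ := exists_su h hG
    (fun e => h.ne_top (top_le_iff.1 (e.trans h2))) fun e => h.ne_top (top_le_iff.1 (e.trans (by
      rw [← J_bau]
      refine h1 _ H24.thompsonSubgroup_characteristic fun e => hz ?_
      have h3 := (oc_le_ocJ (p := p) (T : Subgroup G)).trans (oc_le _)
      rw [← J_bau, thompsonSubgroupOf, e, Subgroup.map_bot, le_bot_iff] at h3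
      rw [h3]
      infer_instance)))
  refine Sv.struct ⟨s, fun L hL C hC e => ?_, h2, fun E hE => S2985.result hG T E hE,
    fun E F hE hs hF => (S2987.result hG E ⟨T, hE⟩ (sn_top_iff.1 hs)).2.2.2 F ⟨T, hF⟩⟩
    (sup_le h2 (iSup_le fun C => ?_))
  · by_contra h0
    exact hL (e.trans (h1 C hC h0))
  · rw [← map_subgroupOf_eq_of_le C.2.1]
    exact h1 _ C.2.2.2 fun e => C.2.2.1 (by rw [← map_subgroupOf_eq_of_le C.2.1, e, Subgroup.map_bot])

end Cfsg.Agent.S2982
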