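import Mathlib
import Cfsg.Statements.S4355
import Cfsg.Agent.Lib.FGS83.Syl

set_option autoImplicit false
open Cfsg

namespace Cfsg.Agent.S4355

open Subgroup

variable {G : Type*} [Group G] [Finite G]

/-- A 2-element with odd class size that is conjugate to its inverse is an involution or 1. -/
theorem sq_eq_one_of_inverted {x g : G}
    (hx : ¬ 2 ∣ (Subgroup.centralizer ({x} : Set G)).index) (hg : g * x * g⁻¹ = x⁻¹) :
    x * x = 1 := by
  by_contra hne
  apply hx
  let C := Subgroup.centralizer ({x} : Set G)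
  let E : Subgroup G :=
    { carrier := {u | u * x * u⁻¹ = x ∨ u * x * u⁻¹ = x⁻¹}
      one_mem' := by simp
      mul_mem' := by
        intro a b ha hb
        have key : a * b * x * (a * b)⁻¹ = a * (b * x * b⁻¹) * a⁻¹ := by group
        have key2 : a * x⁻¹ * a⁻¹ = (a * x * a⁻¹)⁻¹ := by group
        simp only [Set.mem_ofPred_eq] at ha hb ⊢
        rw [key]
        rcases hb with hb | hb <;> rw [hb]
        · exact ha
        · rw [key2]
          rcases ha with ha | ha <;> rw [ha] <;> simp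
      inv_mem' := by
        intro a ha
        simp only [Set.mem_ofPred_eq] at ha ⊢
        rcases ha with ha | ha
        · left
          calc a⁻¹ * x * a⁻¹⁻¹ = a⁻¹ * (a * x * a⁻¹) * a⁻¹⁻¹ := by rw [ha]
            _ = x := by group
        · right
          have : x = a * x⁻¹ * a⁻¹ := by
            have := congrArg (·⁻¹) ha
            simp only [inv_inv] at this
            calc x = (a * x * a⁻¹)⁻¹ := this.symm
              _ = _ := by group
          calc a⁻¹ * x * a⁻¹⁻¹ = a⁻¹ * (a * x⁻¹ * a⁻¹) * a⁻¹⁻¹ := by rw [← this]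
            _ = x⁻¹ := by group }
  have memE : ∀ u, u ∈ E ↔ (u * x * u⁻¹ = x ∨ u * x * u⁻¹ = x⁻¹) := fun u => Iff.rfl
  have memC : ∀ u, u ∈ C ↔ u * x * u⁻¹ = x := by
    intro u
    rw [Subgroup.mem_centralizer_singleton_iff, mul_inv_eq_iff_eq_mul]
  have hxx : x ≠ x⁻¹ := fun h => hne (by nth_rewrite 2 [h]; simp)
  have hCE : C ≤ E := fun u hu => (memE u).2 (Or.inl ((memC u).1 hu))
  have h2 : C.relIndex E = 2 := by
    rw [Subgroup.relIndex_eq_two_iff]
    refine ⟨g, (memE g).2 (Or.inr hg), ?_⟩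
    intro b hb
    have key : b * g * x * (b * g)⁻¹ = (b * x * b⁻¹)⁻¹ := by
      calc b * g * x * (b * g)⁻¹ = b * (g * x * g⁻¹) * b⁻¹ := by group
        _ = _ := by rw [hg]; group
    rw [memC, memC, key]
    rcases (memE b).1 hb with hb | hb
    · rw [hb]; right; exact ⟨rfl, fun h => hxx h.symm⟩
    · rw [hb]; left; exact ⟨by simp, fun h => hxx h.symm⟩
  rw [← h2]
  exact Subgroup.relIndex_dvd_index_of_le hCE

theorem comm_of_sq
    (h : ∀ x : G, (∃ k : ℕ, orderOf x = 2 ^ k) → ¬ 2 ∣ (Subgroup.centralizer ({x} : Set G)).index)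
    (T : Sylow 2 G) {s t : G} (hs : s ∈ T) (ht : t ∈ T) (hs2 : s * s = 1) (ht2 : t * t = 1) :
    s * t = t * s := by
  have hs' : s⁻¹ = s := inv_eq_of_mul_eq_one_right hs2
  have ht' : t⁻¹ = t := inv_eq_of_mul_eq_one_right ht2
  have h1 := sq_eq_one_of_inverted (g := s)
    (h (s * t) (H83.exists_orderOf_eq_pow_of_mem_sylow T (mul_mem hs ht)))
    (by rw [mul_inv_rev, hs', ht', ← mul_assoc, hs2, one_mul])
  have h2 : (s * t)⁻¹ = s * t := inv_eq_of_mul_eq_one_right h1
  rw [← h2, mul_inv_rev, hs', ht']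

theorem decomp
    (h : ∀ x : G, (∃ k : ℕ, orderOf x = 2 ^ k) → ¬ 2 ∣ (Subgroup.centralizer ({x} : Set G)).index)
    (T : Sylow 2 G) {x y : G} (hx : x ∈ T) (hy : y ∈ T) (hc : y * (x * x) = (x * x) * y) :
    ∃ (T' : Sylow 2 G) (u z : G), y ∈ T' ∧ u ∈ T' ∧ u * u = 1 ∧ x = u * z ∧ y * z = z * y := by
  have hxp := H83.exists_orderOf_eq_pow_of_mem_sylow T hx
  let C := Subgroup.centralizer ({x * x} : Set G)
  have hC0 : Subgroup.centralizer ({x} : Set G) ≤ C := by
    intro u hu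
    rw [Subgroup.mem_centralizer_singleton_iff] at hu ⊢
    rw [← mul_assoc, hu, mul_assoc, hu, mul_assoc]
  have hC : ¬ 2 ∣ C.index := fun hd => h x hxp (hd.trans (Subgroup.index_dvd_of_le hC0))
  obtain ⟨S, -, hS⟩ := H83.exists_sylow_between (p := 2) IsPGroup.of_bot bot_le (h x hxp)
  obtain ⟨T', hT', hT'C⟩ := H83.exists_sylow_between (p := 2) (T := (T : Subgroup G) ⊓ C)
    T.isPGroup'.to_inf_left inf_le_right hC
  obtain ⟨c, hc', hcS⟩ := H83.exists_mem_smul_eq (hS.trans hC0) hT'C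
  have hxS : ∀ w ∈ S, w * x = x * w := fun w hw =>
    Subgroup.mem_centralizer_singleton_iff.mp (hS hw)
  have hxS' : x ∈ S := H83.mem_sylow_of_comm S hxp hxS
  have hxC : x ∈ C := hC0 (Subgroup.mem_centralizer_singleton_iff.mpr rfl)
  have hyC : y ∈ C := Subgroup.mem_centralizer_singleton_iff.mpr hc
  have hxT' : x ∈ T' := hT' ⟨hx, hxC⟩
  have hyT' : y ∈ T' := hT' ⟨hy, hyC⟩
  have hz : ∀ w ∈ T', w * (c * x * c⁻¹) = (c * x * c⁻¹) * w := by
    intro w hw
    rw [← hcS, H83.mem_sylow_smul_iff] at hw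
    have := hxS _ hw
    calc w * (c * x * c⁻¹) = c * (c⁻¹ * w * c * x) * c⁻¹ := by group
      _ = c * (x * (c⁻¹ * w * c)) * c⁻¹ := by rw [this]
      _ = _ := by group
  have hzT : c * x * c⁻¹ ∈ T' := by
    rw [← hcS, H83.mem_sylow_smul_iff]
    simpa [mul_assoc] using hxS'
  have hzz : (c * x * c⁻¹) * (c * x * c⁻¹) = x * x := by
    have := Subgroup.mem_centralizer_singleton_iff.mp hc'
    calc (c * x * c⁻¹) * (c * x * c⁻¹) = c * (x * x) * c⁻¹ := by group
      _ = x * x := by rw [this]; group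
  refine ⟨T', x * (c * x * c⁻¹)⁻¹, c * x * c⁻¹, hyT', mul_mem hxT' (inv_mem hzT), ?_, by group,
    hz y hyT'⟩
  set z := c * x * c⁻¹ with hzdef
  have hxz : x * z = z * x := hz x hxT'
  have hxz' : z⁻¹ * x = x * z⁻¹ := by
    calc z⁻¹ * x = z⁻¹ * (x * z) * z⁻¹ := by group
      _ = x * z⁻¹ := by rw [hxz]; group
  calc x * z⁻¹ * (x * z⁻¹) = x * (z⁻¹ * x) * z⁻¹ := by group
    _ = (x * x) * (z * z)⁻¹ := by rw [hxz']; group
    _ = 1 := by rw [hzz]; group

theorem pow_two_pow_succ (x : G) (k : ℕ) : (x * x) ^ 2 ^ k = x ^ 2 ^ (k + 1) := by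
  rw [← pow_two, ← pow_mul, pow_succ']

theorem inv_comm
    (h : ∀ x : G, (∃ k : ℕ, orderOf x = 2 ^ k) → ¬ 2 ∣ (Subgroup.centralizer ({x} : Set G)).index)
    (k : ℕ) : ∀ (T : Sylow 2 G) (x a : G), x ∈ T → a ∈ T → a * a = 1 → x ^ 2 ^ k = 1 →
      a * x = x * a := by
  induction k with
  | zero => intro T x a _ _ _ hx; simp at hx; simp [hx]
  | succ k ih =>
    intro T x a hx ha ha2 hk
    have h1 := ih T (x * x) a (mul_mem hx hx) ha ha2 (by rw [pow_two_pow_succ, hk])
    obtain ⟨T', u, z, haT, huT, hu2, rfl, hz⟩ := decomp h T hx ha h1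
    have := comm_of_sq h T' haT huT ha2 hu2
    rw [← mul_assoc, this, mul_assoc, hz, mul_assoc]

theorem all_comm
    (h : ∀ x : G, (∃ k : ℕ, orderOf x = 2 ^ k) → ¬ 2 ∣ (Subgroup.centralizer ({x} : Set G)).index)
    (k : ℕ) : ∀ (T : Sylow 2 G) (x y : G), x ∈ T → y ∈ T → x ^ 2 ^ k = 1 → y * x = x * y := by
  induction k with
  | zero => intro T x a _ _ hx; simp at hx; simp [hx]
  | succ k ih =>
    intro T x y hx hy hk
    have h1 := ih T (x * x) y (mul_mem hx hx) hy (by rw [pow_two_pow_succ, hk])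
    obtain ⟨T', u, z, hyT, huT, hu2, rfl, hz⟩ := decomp h T hx hy h1
    obtain ⟨j, hj⟩ := H83.exists_orderOf_eq_pow_of_mem_sylow T' hyT
    have := inv_comm h j T' y u hyT huT hu2 (by rw [← hj, pow_orderOf_eq_one])
    rw [← mul_assoc, ← this, mul_assoc, hz, mul_assoc]

/-- If every element of 2-power order of a finite group has a conjugacy class of odd size, then the Sylow 2-subgroups of the group are abelian. -/
theorem result {G : Type*} [Group G] [Finite G]
    (h : ∀ x : G, (∃ k : ℕ, orderOf x = 2 ^ k) → ¬ 2 ∣ (Subgroup.centralizer ({x} : Set G)).index) (P : Sylow 2 G) :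
    IsMulCommutative P := by
  refine ⟨⟨fun x y => Subtype.ext ?_⟩⟩
  obtain ⟨j, hj⟩ := H83.exists_orderOf_eq_pow_of_mem_sylow P y.2
  exact all_comm h j P y x y.2 x.2 (by rw [← hj, pow_orderOf_eq_one])

end Cfsg.Agent.S4355
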