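import Mathlib
import Cfsg.Statements.S0038
import Cfsg.Agent.Lib.Core.Frobenius
import Cfsg.Agent.Lib.Core.Fitting
import Cfsg.Agent.Lib.BG.Api.Core
import Cfsg.Agent.S0035
import Cfsg.Agent.S0042
import Cfsg.Agent.S0001
import Cfsg.Agent.Base

set_option autoImplicit false
open Pointwise
open Cfsg

namespace Cfsg.Agent.S0038

open Subgroup

theorem aux {G : Type*} [Group G] [Finite G] (H : Subgroup G) (hH : Cfsg.IsFrobeniusComplement H) :
    IsComplement' (fittingSubgroup G) H ∧ (Nat.card (fittingSubgroup G)).Coprime (Nat.card H) := by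
  obtain ⟨N, h1, hN, hc⟩ := Cfsg.Agent.S0035.result H hH
  obtain ⟨N', h1', -, hnil⟩ := Cfsg.Agent.S0042.result H hH
  obtain rfl : N' = N := SetLike.coe_injective (h1'.trans h1.symm)
  have hN1 : N' ≠ ⊥ := by
    rintro rfl
    exact hH.2.1 (by simpa using hc.sup_eq_top)
  have hs := (H2.isFrobeniusComplement_iff_semiregular hc hN1 hH.1).1 hH
  have hn : H ≤ normalizer (N' : Set G) := by simp [normalizer_eq_top]
  have hle : N' ≤ fittingSubgroup G := H1.le_fitting hnil
  have hF : fittingSubgroup G = N' := by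
    refine le_antisymm ?_ hle
    have h2 := H45.meet_center_nil (K := N') (H := fittingSubgroup G) inferInstance
      ⟨hle, by simp [normalizer_eq_top]⟩ hN1
    obtain ⟨⟨k, hk⟩, hk1⟩ := ne_bot_iff_exists_ne_one.1 h2
    have hk1' : k ≠ 1 := fun e => hk1 (Subtype.ext e)
    have h3 := H2.sup_inf_centralizer_le_of_semiregular hn hs hk.1 hk1'
    rw [hc.sup_eq_top, top_inf_eq] at h3
    intro x hx
    apply h3
    rw [mem_centralizer_singleton_iff]
    exact (hk.2 x hx)
  rw [hF]
  exact ⟨hc, (H2.coprime_of_semiregular hn hs).symm⟩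

/-- All Frobenius complements of a finite group are conjugate to one another. -/
theorem result {G : Type*} [Group G] [Finite G] (H H₀ : Subgroup G)
    (hH : Cfsg.IsFrobeniusComplement H) (hH₀ : Cfsg.IsFrobeniusComplement H₀) :
    ∃ g : G, MulAut.conj g • H₀ = H := by
  obtain ⟨h1, h2⟩ := aux H hH
  obtain ⟨h3, -⟩ := aux H₀ hH₀
  refine Cfsg.Agent.S0001.result (fittingSubgroup G) ?_ (Or.inl inferInstance) H₀ H h3 h1
  rw [h1.symm.index_eq_card]
  exact h2

end Cfsg.Agent.S0038
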