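import Cfsg.Statements.S0214
import Mathlib
import Cfsg.Agent.Lib.Invol.StronglyEmbedded
import Cfsg.Agent.Lib.Invol.BaerSuzuki

set_option autoImplicit false
open Cfsg

namespace Cfsg.Agent.S0214

/-- Let H be a proper subgroup of the finite group G and P a nontrivial Sylow 2-subgroup of H. Then H is strongly embedded in G if and only if N_G(X) ≤ H for every nontrivial subgroup X of P. -/
theorem result {G : Type*} [Group G] [Finite G] (H : Subgroup G) (hH : H ≠ ⊤) (P : Sylow 2 ↥H) (hP : (P : Subgroup ↥H) ≠ ⊥) : Cfsg.IsStronglyEmbedded H ↔ (∀ X : Subgroup ↥H, X ≤ (P : Subgroup ↥H) → X ≠ ⊥ → Subgroup.normalizer ((X.map H.subtype : Subgroup G) : Set G) ≤ H) := by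
  have heven : Even (Nat.card H) := by
    obtain ⟨t, -, ht⟩ := H9.exists_involution_of_isPGroup P.isPGroup' hP
    rw [even_iff_two_dvd, ← ht]
    exact orderOf_dvd_natCard t
  constructor
  · intro h X hXP hX g hg
    obtain ⟨t, htX, ht⟩ := H9.exists_involution_of_isPGroup (P.isPGroup'.to_le hXP) hX
    refine H9.IsStronglyEmbedded.mem_of_conj_mem h t.2 (by rw [Subgroup.orderOf_coe, ht]) ?_
    have := (Subgroup.mem_normalizer_iff.1 hg t).1 ⟨t, htX, rfl⟩
    exact Subgroup.map_subtype_le X this
  · intro h
    -- the normalizer of any nontrivial `2`-subgroup of `H` lies in `H`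
    have hN : ∀ D : Subgroup G, D ≤ H → IsPGroup 2 D → D ≠ ⊥ →
        Subgroup.normalizer (D : Set G) ≤ H := by
      intro D hDH hD hne n hn
      obtain ⟨k, hk⟩ := H9.exists_conj_mem_sylow P (Q := D.subgroupOf H) hD.comap_subtype
      let X : Subgroup H := (D.subgroupOf H).map (MulAut.conj k).toMonoidHom
      have hXmem : ∀ y : G, y ∈ X.map H.subtype ↔ (k : G)⁻¹ * y * k ∈ D := by
        intro y
        constructor
        · rintro ⟨z, hz, rfl⟩
          exact (H9.mem_map_conj_iff (H := D.subgroupOf H)).1 hz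
        · intro hy
          have hyH : y ∈ H := by
            have := mul_mem (mul_mem k.2 (hDH hy)) (inv_mem k.2)
            simpa [mul_assoc] using this
          exact ⟨⟨y, hyH⟩, H9.mem_map_conj_iff.2 hy, rfl⟩
      have hX := h X (by
        rintro _ ⟨q, hq, rfl⟩
        exact hk q hq) (by
        intro hX
        apply hne
        rw [eq_bot_iff]
        intro d hd
        have : (k : G) * d * (k : G)⁻¹ ∈ X.map H.subtype := (hXmem _).2 (by simpa [mul_assoc] using hd)
        rw [hX, Subgroup.map_bot, Subgroup.mem_bot] at this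
        simpa using this)
      have : (k : G) * n * (k : G)⁻¹ ∈ H := by
        apply hX
        rw [Subgroup.mem_normalizer_iff]
        intro y
        rw [hXmem, hXmem, (Subgroup.mem_normalizer_iff.1 hn)]
        apply iff_of_eq
        congr 1
        group
      have := mul_mem (mul_mem (inv_mem k.2) this) k.2
      simpa [mul_assoc] using this
    refine H9.isStronglyEmbedded_iff.2 ⟨hH, heven, fun t ht ho g hg => ?_⟩
    let K : Subgroup G := H ⊓ H.comap (MulAut.conj g).toMonoidHom
    have htK : t ∈ K := ⟨ht, hg⟩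
    obtain ⟨D₀, hD₀⟩ := (H9.isPGroup_zpowers_of_mul_self (x := (⟨t, htK⟩ : K))
      (Subtype.ext (H9.mul_self_of_orderOf_two ho))).exists_le_sylow
    obtain ⟨T, hT⟩ := D₀.exists_comap_subtype_eq
    set D : Subgroup G := (T : Subgroup G) ⊓ K with hD
    have htD : t ∈ D := by
      have := hD₀ (Subgroup.mem_zpowers _)
      rw [← hT] at this
      exact ⟨this, htK⟩
    have hDp : IsPGroup 2 D := T.isPGroup'.to_inf_left
    have hDne : D ≠ ⊥ := fun h => H9.ne_one_of_orderOf_two ho (by rwa [h, Subgroup.mem_bot] at htD)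
    have hNK : Subgroup.normalizer (D : Set G) ≤ K := by
      refine le_inf (hN D (inf_le_right.trans inf_le_left) hDp hDne) ?_
      intro n hn
      apply hN (D.map (MulAut.conj g).toMonoidHom)
      · rintro _ ⟨d, hd, rfl⟩
        exact hd.2.2
      · exact hDp.map _
      · rwa [Ne, Subgroup.map_eq_bot_iff_of_injective _ (MulAut.conj g).injective]
      · exact Subgroup.le_normalizer_map _ ⟨n, hn, rfl⟩
    have hDT : D = T := by
      by_contra hne
      obtain ⟨n, hnT, hnD, hn⟩ := H9.exists_mem_normalizer_of_lt T.isPGroup'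
        (lt_of_le_of_ne inf_le_left hne)
      exact hnD ⟨hnT, hNK hn⟩
    have hTK : (T : Subgroup G) ≤ K := hDT ▸ inf_le_right
    have hTH : (T : Subgroup G) ≤ H := hTK.trans inf_le_left
    have hgTH : ((g • T : Sylow 2 G) : Subgroup G) ≤ H := by
      rintro _ ⟨d, hd, rfl⟩
      exact (hTK hd).2
    obtain ⟨k, hk⟩ := MulAction.exists_smul_eq H ((g • T).subtype hgTH) (T.subtype hTH)
    rw [Sylow.smul_subtype] at hk
    have hk2 : ((k : G) * g) • T = T := by
      rw [mul_smul]
      exact Sylow.subtype_injective hk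
    rw [hDT] at hNK
    have := hNK (Sylow.smul_eq_iff_mem_normalizer.1 hk2)
    simpa using mul_mem (inv_mem k.2) this.1

end Cfsg.Agent.S0214
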