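import Cfsg.Statements.S0228
import Mathlib
import Cfsg.Agent.Lib.Invol.Count

set_option autoImplicit false
open Cfsg

namespace Cfsg.Agent.S0228

/-- A group of order 12 in which no involution is central is isomorphic to the alternating group on four letters. -/
theorem result {G : Type*} [Group G] [Finite G] (hG : Nat.card G = 12) (hz : ∀ z : G, orderOf z = 2 → z ∉ Subgroup.center G) : Nonempty (G ≃* alternatingGroup (Fin 4)) := by
  have : Fact (Nat.Prime 3) := ⟨by norm_num⟩
  obtain ⟨P, hP⟩ := Sylow.exists_subgroup_card_pow_prime (G := G) 3 (n := 1) (by rw [hG]; norm_num)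
  rw [pow_one] at hP
  have hPi : P.index = 4 := by
    have := P.index_mul_card
    rw [hP, hG] at this
    omega
  have hcore : P.normalCore = ⊥ := by
    by_contra hne
    have hle := P.normalCore_le
    have hc : Nat.card P.normalCore ∣ 3 := hP ▸ Subgroup.card_dvd_of_le hle
    rcases (Nat.dvd_prime Nat.prime_three).1 hc with h1 | h1
    · exact hne (Subgroup.card_eq_one.1 h1)
    have heq : P.normalCore = P := Subgroup.eq_of_le_of_card_ge hle (by rw [h1, hP])
    have hnorm : P.Normal := heq ▸ inferInstance
    obtain ⟨S, hS⟩ := Sylow.exists_subgroup_card_pow_prime (G := G) 2 (n := 2)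
      (by rw [hG]; norm_num)
    have hScomm := IsPGroup.isMulCommutative_of_card_eq_prime_sq hS
    have hcyc : IsCyclic P := isCyclic_of_prime_card hP
    let f : S →* MulAut P := (MulAut.conjNormal (H := P)).comp S.subtype
    have h2 : f.ker.index ∣ 2 := by
      rw [Subgroup.index_ker]
      have := Subgroup.card_subgroup_dvd_card f.range
      rwa [IsCyclic.card_mulAut, hP] at this
    have h3 := f.ker.index_mul_card
    rw [hS] at h3
    have h4 : Even (Nat.card f.ker) := by
      rcases (Nat.dvd_prime Nat.prime_two).1 h2 with h | h <;> rw [h] at h3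
      · exact ⟨2, by omega⟩
      · exact ⟨1, by omega⟩
    obtain ⟨z, hzk, hzo⟩ := (H9.even_card_iff_exists_involution _).1 h4
    apply hz z (by rw [Subgroup.orderOf_coe, hzo])
    have hC : Subgroup.centralizer ({(z : G)} : Set G) = ⊤ := by
      apply Subgroup.eq_top_of_card_eq
      apply Nat.dvd_antisymm (Subgroup.card_subgroup_dvd_card _)
      rw [hG]
      refine Nat.Coprime.mul_dvd_of_dvd_of_dvd (m := 3) (n := 4) (by norm_num) ?_ ?_
      · rw [← hP]
        apply Subgroup.card_dvd_of_le
        intro a ha
        have := congrArg Subtype.val (MulEquiv.congr_fun (MonoidHom.mem_ker.1 hzk) ⟨a, ha⟩)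
        rw [Subgroup.mem_centralizer_singleton_iff]
        exact (mul_inv_eq_iff_eq_mul.1 this).symm
      · rw [show 4 = 2 ^ 2 from rfl, ← hS]
        apply Subgroup.card_dvd_of_le
        intro a ha
        rw [Subgroup.mem_centralizer_singleton_iff]
        exact congrArg Subtype.val (hScomm.is_comm.comm ⟨a, ha⟩ z)
    rw [Subgroup.mem_center_iff]
    intro g
    exact Subgroup.mem_centralizer_singleton_iff.1 (hC ▸ Subgroup.mem_top g)
  have e : G ⧸ P ≃ Fin 4 := Finite.equivFinOfCardEq hPi
  let φ : G →* Equiv.Perm (Fin 4) :=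
    e.permCongrHom.toMonoidHom.comp (MulAction.toPermHom G (G ⧸ P))
  have hφ : Function.Injective φ := by
    refine e.permCongrHom.injective.comp ?_
    rw [← MonoidHom.ker_eq_bot_iff, ← Subgroup.normalCore_eq_ker, hcore]
  have hr : φ.range = alternatingGroup (Fin 4) := by
    apply Equiv.Perm.eq_alternatingGroup_of_index_eq_two
    have := φ.range.index_mul_card
    rw [← Nat.card_congr (MonoidHom.ofInjective hφ).toEquiv, hG, Nat.card_perm, Nat.card_fin] at this
    norm_num [Nat.factorial] at this
    omega
  exact ⟨(MonoidHom.ofInjective hφ).trans (MulEquiv.subgroupCongr hr)⟩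

end Cfsg.Agent.S0228
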