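import Cfsg.Statements.S0340
import Cfsg.Agent.Lib.Zass.EvenTwoPoint
import Cfsg.Agent.S0344
import Cfsg.Agent.S0738
import Cfsg.Agent.S0885
import Cfsg.Agent.S0731
import Cfsg.Agent.S0727
import Cfsg.Agent.S0347

set_option autoImplicit false
open Cfsg

namespace Cfsg.Agent.S0340

/-- Classification of Zassenhaus groups, simple case, order-level form: a finite simple Zassenhaus group is
isomorphic to `PSL₂(F)` for some finite field `F` or is simple of Suzuki order. -/
theorem result {G Ω : Type*} [Group G] [Finite G] [MulAction G Ω]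
    [Finite Ω] (hZ : Cfsg.IsZassenhausGroup G Ω) [IsSimpleGroup G] :
    (∃ (F : Type) (_ : Field F) (_ : Fintype F), Nonempty (G ≃* Matrix.ProjectiveSpecialLinearGroup (Fin 2) F)) ∨ Cfsg.IsSuzuki G := by
  classical
  letI := Fintype.ofFinite Ω
  have h := H13.Zass.pre_of hZ
  have h4 := h.four_le_card
  rw [Nat.card_eq_fintype_card] at h4
  obtain ⟨a⟩ : Nonempty Ω := Fintype.card_pos_iff.1 (by omega)
  obtain ⟨b, hb⟩ := h.exists_ne a
  obtain ⟨K, hK⟩ := h.exists_isKer a
  have hKc := hK.card_add_one hb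
  rw [Nat.card_eq_fintype_card (α := Ω)] at hKc
  rcases Nat.even_or_odd (Nat.card ↥(MulAction.stabilizer G a ⊓ MulAction.stabilizer G b)) with he | ho
  · obtain ⟨F, _, _, -, hF⟩ := Cfsg.Agent.S0344.result hZ hb.symm he
    exact Or.inl ⟨F, inferInstance, inferInstance, hF⟩
  rcases Cfsg.Agent.S0885.result hZ hb.symm (Fintype.card Ω - 1) _ (by omega) rfl ho K
      hK.le_stabilizer hKc hK.fix with h1 | ⟨h1, h2, -⟩
  swap
  · exact Or.inr (Cfsg.Agent.S0347.result hZ a K hK.le_stabilizer hK.normal_subgroupOf h1 h2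
      hK.existsUnique)
  left
  obtain ⟨hab, p, f, hp, -, hf⟩ := Cfsg.Agent.S0738.result hZ hb.symm
    (by rw [Nat.sub_sub] at h1; exact h1) K hK.le_stabilizer hK.normal_subgroupOf hK.existsUnique
  rcases Cfsg.Agent.S0731.result hZ a K hK.le_stabilizer hK.normal_subgroupOf hab hK.existsUnique
    with ⟨h3, -⟩ | ⟨F, _, _, -, hF⟩
  swap
  · exact ⟨F, inferInstance, inferInstance, hF⟩
  have hle : Nat.card Ω - 2 ≤ Nat.card ↥(MulAction.stabilizer G a ⊓ MulAction.stabilizer G b) := by
    obtain ⟨c, -, hca, hcb, -⟩ := h.exists_two_more hb.symm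
    rw [← H27.ZData.card_compl_pair hb]
    let φ : ↥(MulAction.stabilizer G a ⊓ MulAction.stabilizer G b) → {x : Ω | x ≠ a ∧ x ≠ b} :=
      fun g => ⟨(g : G) • c, fun e => hca (smul_left_cancel (g : G) (e.trans g.2.1.symm)),
        fun e => hcb (smul_left_cancel (g : G) (e.trans g.2.2.symm))⟩
    refine Nat.card_le_card_of_surjective φ ?_
    rintro ⟨d, hda, hdb⟩
    obtain ⟨g, h1, h2, h3⟩ := H26.trans3_iff.1 h3 a b c a b d hb.symm hca.symm hcb.symm hb.symm
      hda.symm hdb.symm
    exact ⟨⟨g, h1, h2⟩, Subtype.ext h3⟩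
  have hdvd := (H27.ZData.of_zassenhaus hZ).card_stab2_dvd hb
  have heq := le_antisymm (Nat.le_of_dvd (by rw [Nat.card_eq_fintype_card]; omega) hdvd) hle
  rw [heq, Nat.card_eq_fintype_card, hf] at ho
  have hf0 : f ≠ 0 := by
    rintro rfl
    simp at hf
    omega
  have hp2 : p = 2 := by
    rcases hp.eq_two_or_odd' with e | e
    · exact e
    · exfalso
      obtain ⟨k, hk⟩ := (e.pow : Odd (p ^ f))
      obtain ⟨l, hl⟩ := ho
      omega
  subst hp2
  obtain ⟨F, _, _, hF, ⟨e⟩⟩ := Cfsg.Agent.S0727.result (Nat.one_le_iff_ne_zero.2 hf0) hf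
    (MulAction.toPermHom G Ω).range (H13.Zass.range_three_trans h3) (H13.Zass.range_sharp h)
  refine ⟨F, inferInstance, inferInstance, ⟨?_⟩⟩
  have := h.faithful
  have hsurj : Function.Surjective
      (Matrix.ProjectiveSpecialLinearGroup.toPGL (n := Fin 2) (R := F)) := by
    apply Matrix.ProjectiveSpecialLinearGroup.toPGL_surj_of_roots
    intro r
    have hc : (Nat.card Fˣ).Coprime 2 := by
      rw [Nat.card_units, Nat.card_eq_fintype_card, hF, Nat.coprime_two_right]
      obtain ⟨l, hl⟩ := ho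
      exact ⟨l, by omega⟩
    obtain ⟨k, hk⟩ := (powCoprime hc).surjective r
    exact ⟨k, by simpa using hk⟩
  exact ((MonoidHom.ofInjective (f := MulAction.toPermHom G Ω) MulAction.toPerm_injective).trans
    e).trans (MulEquiv.ofBijective _
      ⟨Matrix.ProjectiveSpecialLinearGroup.toPGL_injective, hsurj⟩).symm

end Cfsg.Agent.S0340
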