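import Cfsg.Statements.S0349
import Cfsg.Agent.S1175
import Cfsg.Agent.S0222
import Cfsg.Agent.Lib.BN.Basic
import Cfsg.Agent.Lib.PGroup.Basic
import Cfsg.Agent.Lib.RankOne.OddInv

set_option autoImplicit false
open Cfsg

namespace Cfsg.Agent.S0349

/-- Let a finite simple group have a (B,N)-pair of rank one which is strongly split (`B = U (B ⊓ N)` with `U` nilpotent,
normal in `B` and meeting `N` trivially), with `[G : B]` and `|B ⊓ N|` odd. Then the group is isomorphic to `PSL₂(F)` with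
`|F|` a power of `2`, or is simple of Suzuki order, or is isomorphic to `PSU₃` realised over a field with `q²` elements,
`q = 2^n`, `n ≥ 2`. -/
theorem result {G : Type*} [Group G] [Finite G] [IsSimpleGroup G]
    (P : Cfsg.BNPair G) (hrank : P.rank = 1) (U : Subgroup G) (hUB : U ≤ P.B)
    (hUn : (U.subgroupOf P.B).Normal) (hUnil : Group.IsNilpotent U) (hsplit : U ⊔ (P.B ⊓ P.N) = P.B)
    (hdisj : U ⊓ P.N = ⊥) (hind : Odd P.B.index) (hH : Odd (Nat.card ↥(P.B ⊓ P.N))) :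
    (∃ (F : Type) (_ : Field F) (_ : Fintype F), (∃ n : ℕ, Fintype.card F = 2 ^ n) ∧ Nonempty (G ≃* Matrix.ProjectiveSpecialLinearGroup (Fin 2) F)) ∨
      Cfsg.IsSuzuki G ∨
      (∃ (F : Type) (_ : Field F) (_ : Fintype F) (n : ℕ), 2 ≤ n ∧ Fintype.card F = (2 ^ n) ^ 2 ∧
        Nonempty (G ≃* Cfsg.PSU 3 F (2 ^ n))) := by
  classical
  have : Fact (Nat.Prime 2) := ⟨Nat.prime_two⟩
  obtain ⟨s, hs⟩ := Nat.card_eq_one_iff_exists.1 hrank
  have hsB : (s : G) ∉ P.B := H13.BN.gen_not_mem s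
  have hBtop : P.B ≠ ⊤ := fun h => hsB (h ▸ Subgroup.mem_top _)
  have hcore : ∀ z : G, (∀ g : G, g⁻¹ * z * g ∈ P.B) → z = 1 := by
    intro z hz
    rcases (P.B.normalCore_normal).eq_bot_or_eq_top with h | h
    · have : z ∈ P.B.normalCore := fun g => by simpa using hz g⁻¹
      rwa [h, Subgroup.mem_bot] at this
    · exact absurd (top_le_iff.1 (h ▸ P.B.normalCore_le)) hBtop
  have hW : ∀ w : H13.BN.Weyl P, w = 1 ∨ w = H13.BN.gen P s := by
    intro w
    obtain ⟨l, rfl⟩ := (H13.BN.invGen P).wp_surjective w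
    induction l with
    | nil => exact Or.inl rfl
    | cons a l ih =>
      rw [H13.wp_cons, hs a]
      rcases ih with ih | ih
      · right; rw [ih, mul_one]
      · left; rw [ih, (H13.BN.invGen P).sq]
  have key : ∀ g : G, g ∉ P.B → g ∈ H13.BN.cell P (H13.BN.gen P s) := by
    intro g hg
    obtain ⟨w, hw⟩ := H13.BN.exists_mem_cell (P := P) g
    rcases hW w with rfl | rfl
    · exact absurd ((H13.BN.mem_cell_one P).1 hw) hg
    · exact hw
  have hconj : ∀ b ∈ P.B, ∀ u ∈ U, b * u * b⁻¹ ∈ U := fun b hb u hu =>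
    hUn.conj_mem ⟨u, hUB hu⟩ hu ⟨b, hb⟩
  have hdec : ∀ b ∈ P.B, ∃ u ∈ U, ∃ h ∈ P.B ⊓ P.N, b = u * h := by
    intro b hb
    have h1 : (⟨b, hb⟩ : P.B) ∈ U.subgroupOf P.B ⊔ (P.B ⊓ P.N).subgroupOf P.B := by
      rw [← Subgroup.subgroupOf_sup hUB inf_le_left, hsplit, Subgroup.subgroupOf_self]; trivial
    obtain ⟨u, hu, h, hh, e⟩ := Subgroup.mem_sup_of_normal_left.1 h1
    exact ⟨u, hu, h, hh, (congrArg Subtype.val e).symm⟩
  have hform : ∀ g : G, g ∉ P.B → ∃ u ∈ U, ∃ b ∈ P.B, g = u * s * b := by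
    intro g hg
    obtain ⟨x, hx, y, hy, e⟩ := H13.BN.exists_eq_of_mem_cell (H13.BN.coe_mem_cell_gen P s) (key g hg)
    obtain ⟨u, hu, h, hh, rfl⟩ := hdec x hx
    have h1 := P.conj_mem _ (P.N.inv_mem (P.subset s.2)) h hh
    exact ⟨u, hu, (s : G)⁻¹ * h * (s : G)⁻¹⁻¹ * y, P.B.mul_mem h1 hy, by rw [e]; group⟩
  have hfix : ∀ z ∈ U, (∀ u ∈ U, z * u = u * z) → z ≠ 1 → ∀ g : G, g⁻¹ * z * g ∈ P.B → g ∈ P.B := by
    intro z hz hzc hz1 g hg
    by_contra hgB
    obtain ⟨u, hu, b, hb, rfl⟩ := hform g hgB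
    have h1 : (s : G)⁻¹ * z * s ∈ P.B := by
      have := P.B.mul_mem (P.B.mul_mem hb hg) (P.B.inv_mem hb)
      rwa [show b * ((u * s * b)⁻¹ * z * (u * s * b)) * b⁻¹ = (s : G)⁻¹ * (u⁻¹ * (z * u)) * s by group,
        hzc u hu, inv_mul_cancel_left] at this
    refine hz1 (hcore z fun x => ?_)
    by_cases hx : x ∈ P.B
    · exact P.B.mul_mem (P.B.mul_mem (P.B.inv_mem hx) (hUB hz)) hx
    · obtain ⟨u', hu', b', hb', rfl⟩ := hform x hx
      have := P.B.mul_mem (P.B.mul_mem (P.B.inv_mem hb') h1) hb'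
      rwa [show (u' * s * b')⁻¹ * z * (u' * s * b') = b'⁻¹ * ((s : G)⁻¹ * (u'⁻¹ * (z * u')) * s) * b' by group,
        hzc u' hu', inv_mul_cancel_left]
  have hidx : Odd U.index := by
    rw [← Subgroup.relIndex_mul_index hUB]
    refine Odd.mul (hH.of_dvd_nat ?_) hind
    have h1 : U.subgroupOf P.B ⊔ (P.B ⊓ P.N).subgroupOf P.B = ⊤ := by
      rw [← Subgroup.subgroupOf_sup hUB inf_le_left, hsplit, Subgroup.subgroupOf_self]
    have h2 := Subgroup.relIndex_sup_left ((P.B ⊓ P.N).subgroupOf P.B) (U.subgroupOf P.B)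
    rw [h1, Subgroup.relIndex_top_right] at h2
    rw [Subgroup.relIndex, h2, ← Nat.card_congr (Subgroup.subgroupOfEquivOfLe
      (inf_le_left : P.B ⊓ P.N ≤ P.B)).toEquiv]
    exact Subgroup.relIndex_dvd_card _ _
  have hG2 : 2 ∣ Nat.card G := by
    by_contra h
    have hodd : Odd (Nat.card G) := Nat.odd_iff.2 (by omega)
    obtain ⟨k, hk⟩ := hodd
    have h1 : (s : G) = ((s : G) * s) ^ (k + 1) := by
      rw [← sq, ← pow_mul, show 2 * (k + 1) = (2 * k + 1) + 1 by ring, ← hk, pow_succ, pow_card_eq_one',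
        one_mul]
    exact hsB (h1 ▸ P.B.pow_mem (P.sq_mem _ s.2) _)
  have hU2 : 2 ∣ Nat.card U := by
    rw [← U.card_mul_index] at hG2
    exact (Nat.prime_two.dvd_mul.1 hG2).resolve_right hidx.not_two_dvd_nat
  obtain ⟨T⟩ : Nonempty (Sylow 2 U) := inferInstance
  have hTn : (T : Subgroup U).Normal := by
    have h03 := (Group.isNilpotent_of_finite_tfae (G := U)).out 0 3
    exact h03.1 hUnil 2 ‹_› T
  have hT : (T : Subgroup U) ≠ ⊥ := by
    intro e
    have h1 := T.card_eq_multiplicity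
    rw [e, Subgroup.card_bot] at h1
    have h2 : 0 < (Nat.card U).factorization 2 := Nat.prime_two.factorization_pos_of_dvd Nat.card_pos.ne' hU2
    have := Nat.one_lt_pow h2.ne' Nat.one_lt_two
    omega
  have hZ := H5.inf_center_ne_bot_of_nilpotent (T : Subgroup U) hT
  have hZp : IsPGroup 2 ↥((T : Subgroup U) ⊓ Subgroup.center U) := T.isPGroup'.to_le inf_le_left
  obtain ⟨n, hn⟩ := IsPGroup.iff_card.1 hZp
  have hn0 : n ≠ 0 := by
    rintro rfl
    exact hZ (Subgroup.card_eq_one.1 hn)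
  obtain ⟨z, hz⟩ := exists_prime_orderOf_dvd_card' (G := ↥((T : Subgroup U) ⊓ Subgroup.center U)) 2
    (hn ▸ dvd_pow_self 2 hn0)
  have hzo : orderOf ((z : U) : G) = 2 := by rw [Subgroup.orderOf_coe, Subgroup.orderOf_coe, hz]
  have hzc : ∀ u ∈ U, ((z : U) : G) * u = u * (z : U) := fun u hu =>
    congrArg Subtype.val (Subgroup.mem_center_iff.1 z.2.2 ⟨u, hu⟩).symm
  have hzT : (z : U) ∈ (T : Subgroup U) := z.2.1
  have hzU : ((z : U) : G) ∈ U := (z : U).2
  generalize hy : ((z : U) : G) = y at hzo hzc hzU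
  have hy1 : y ≠ 1 := by rintro rfl; simp at hzo
  have hy2 : y * y = 1 := by rw [← sq, ← hzo, pow_orderOf_eq_one]
  have hcard : Nat.card ((T : Subgroup U).map U.subtype) = 2 ^ (Nat.card G).factorization 2 := by
    rw [Subgroup.card_subtype, T.card_eq_multiplicity, ← U.card_mul_index,
      Nat.factorization_mul Nat.card_pos.ne' Subgroup.index_ne_zero_of_finite, Finsupp.add_apply,
      Nat.factorization_eq_zero_of_not_dvd hidx.not_two_dvd_nat, add_zero]
  obtain ⟨H, hSE⟩ := Cfsg.Agent.S1175.result P.B hBtop y hzo (hUB hzU)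
    ⟨Sylow.ofCard _ hcard, ⟨z, hzT, hy⟩, by
      rintro _ ⟨x, -, rfl⟩
      exact (hzc x x.2).symm⟩
    (fun g hg => (P.B.inv_mem_iff).1 (hfix y hzU hzc hy1 g⁻¹ (by simpa using hg)))
    (fun g hc hne x hx => by
      have h1 : g * y * g⁻¹ ∈ P.B := hfix y hzU hzc hy1 _ (by
        rw [mul_assoc, hc.eq, inv_mul_cancel_left]; exact hUB hzU)
      have hg : g ∈ P.B := (P.B.inv_mem_iff).1 (hfix y hzU hzc hy1 g⁻¹ (by simpa using h1))
      have hm : y * (g * y * g⁻¹) ∈ U := U.mul_mem hzU (hconj g hg y hzU)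
      refine hfix _ hm (fun u hu => ?_) (fun e => hne ?_) x ?_
      · have h2 := hzc _ (hconj g⁻¹ (P.B.inv_mem hg) u hu)
        calc y * (g * y * g⁻¹) * u = y * g * (y * (g⁻¹ * u * g⁻¹⁻¹)) * g⁻¹ := by group
          _ = (y * u) * (g * y * g⁻¹) := by rw [h2]; group
          _ = _ := by rw [hzc u hu]; group
      · calc g * y * g⁻¹ = (y * y) * (g * y * g⁻¹) := by rw [hy2, one_mul]
          _ = y := by rw [mul_assoc, e, mul_one]
      · rw [mul_assoc, Subgroup.mem_centralizer_iff.1 hx _ rfl, inv_mul_cancel_left]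
        exact hUB hm)
  have hna : ∃ a b : G, a * b ≠ b * a := ⟨y, s, fun e => hsB (hfix y hzU hzc hy1 s (by
    rw [mul_assoc, e, inv_mul_cancel_left]; exact hUB hzU))⟩
  rcases Cfsg.Agent.S0222.result hna H hSE with ⟨F, _, _, hc, -, e⟩ | h | ⟨F, _, _, q, hq, hq2, hq4, e⟩
  · obtain ⟨n, -, hn⟩ := FiniteField.card F 2
    exact Or.inl ⟨F, _, _, ⟨n, hn⟩, e⟩
  · exact Or.inr (Or.inl h)
  · obtain ⟨p, hp⟩ := CharP.exists F
    obtain ⟨k, hpp, hk⟩ := FiniteField.card F p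
    have h1 : 2 ∣ p ^ (k : ℕ) := by rw [← hk, hq]; exact dvd_pow (even_iff_two_dvd.1 hq2) two_ne_zero
    have h2 : 2 = p := (Nat.prime_dvd_prime_iff_eq Nat.prime_two hpp).1 (Nat.prime_two.dvd_of_dvd_pow h1)
    subst h2
    obtain ⟨m, -, rfl⟩ := (Nat.dvd_prime_pow Nat.prime_two).1
      (show q ∣ 2 ^ (k : ℕ) by rw [← hk, hq]; exact dvd_pow_self q two_ne_zero)
    refine Or.inr (Or.inr ⟨F, _, _, m, ?_, hq, e⟩)
    by_contra hm
    have : m = 0 ∨ m = 1 := by omega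
    rcases this with rfl | rfl <;> omega

end Cfsg.Agent.S0349
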