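import Cfsg.Statements.S0421
import Mathlib
import Cfsg.Agent.Base
import Cfsg.Agent.Lib.Ord.M12C

set_option autoImplicit false
open scoped Pointwise
open Cfsg

namespace Cfsg.Agent.S0421

/-- Simple groups of order 95040 are all isomorphic to the concrete Mathieu group of degree 12. -/
theorem result {G : Type*} [Group G] [Finite G] (hG : Cfsg.IsM12 G) (d : Finset Cfsg.GolayPt) (hd : d ∈ Cfsg.dodecads) : Nonempty (G ≃* ↥(MulAction.stabilizer Cfsg.M24 d)) := by
  haveI := hG.1
  obtain ⟨e⟩ := H17.Ord.M12.isoM12 hG.2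
  obtain ⟨f⟩ := H15.stab_dodecad_equiv hd
  exact ⟨(e.trans f.symm).trans
    { toFun := fun x => ⟨⟨x.1, x.2.1⟩, x.2.2⟩
      invFun := fun x => ⟨x.1.1, x.1.2, x.2⟩
      left_inv := fun _ => rfl
      right_inv := fun _ => rfl
      map_mul' := fun _ _ => rfl }⟩

end Cfsg.Agent.S0421
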