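import Cfsg.Statements.S0422
import Mathlib
import Cfsg.Agent.Base
import Cfsg.Agent.Lib.Ord.M24F
import Cfsg.Agent.Lib.Ord.M24J
import Cfsg.Agent.Lib.Ord.M24P
import Cfsg.Agent.Lib.Ord.M24Z

set_option autoImplicit false
open Cfsg

namespace Cfsg.Agent.S0422

/-- Simple groups of order 244823040 are all isomorphic to the concrete largest Mathieu group. -/
theorem result {G : Type*} [Group G] [Finite G] (hG : Cfsg.IsM24 G) : Nonempty (G ≃* Cfsg.M24) := by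
  obtain ⟨_, h⟩ := hG
  open H17.Ord.M24 in
  obtain ⟨P, ⟨B⟩, hC⟩ := exists23 h
  obtain ⟨Q, ⟨A⟩, hA⟩ := H17.Ord.M24.exists11 h B hC
  obtain ⟨⟨R, ⟨D⟩, hc⟩, S, ⟨E⟩, hc7⟩ := H17.Ord.M24.B57.cen57_of h B hC A hA
    (fun D hc => H17.Ord.M24.not192 h B hC A hA D hc)
    fun D hc _ E hc7 => H17.Ord.M24.not624 h B hC A hA D hc E hc7
  exact H17.Ord.M24.Main.iso h ⟨P, Q, R, S, B, A, D, E, hC, hA, hc, hc7⟩

end Cfsg.Agent.S0422
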