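import Cfsg.Statements.S0504
import Mathlib
import Cfsg.Agent.Lib.CompW.Key2
import Cfsg.Agent.Lib.CompW.KeyFT
import Cfsg.Agent.Lib.CompW.KeySE
import Cfsg.Agent.Lib.CompW.Scn

set_option autoImplicit false
open Cfsg

namespace Cfsg.Agent.S0504

/-- Let G be a finite group containing an elementary abelian subgroup of order 8, with no nontrivial normal subgroup of
odd order, not of component type, and with a Sylow 2-subgroup whose commuting graph of Klein four-subgroups is
connected. Then every 2-local subgroup H of G satisfies C_H(O₂(H)) ≤ O₂(H). -/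
theorem result {G : Type*} [Group G] [Finite G]
    (h3 : ¬ Cfsg.PRankLE 2 2 G) (hO : Cfsg.oddCore G = ⊥) (hc : ¬ Cfsg.IsComponentType G) (S : Sylow 2 G)
    (hS : Cfsg.IsFourConnected (S : Subgroup G)) : Cfsg.IsCharacteristicTwoType G := by

  have hL : ∀ t : G, orderOf t = 2 → Cfsg.pLayerOf 2 (Subgroup.centralizer ({t} : Set G)) = ⊥ := by
    intro t ht
    rw [H44.pLayerOf_eq_bot_iff', ← H44.isPConstrained_iff_pLayer_eq_bot,
      H23.isPConstrained_iff_layer_eq_bot]
    by_contra hne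
    exact hc ⟨t, ht, H23.hasComponent_iff.2 hne⟩
  have hO' : Cfsg.pPrimeCore 2 G = ⊥ := hO
  have hcore : ∀ t : G, orderOf t = 2 → H44.coreOf 2 (Subgroup.centralizer ({t} : Set G)) = ⊥ := by
    intro t ht
    have h := H3.CW.core_le_of_constrained (H3.CW.sft2 G) (H3.CW.seCore G)
      (fun t _ => (H3.CW.ft G).coreOf _) hL (H68.sylowIn_top S)
      (H3.CW.conn_of_isFourConnected hS (H3.CW.not_pRankLE_sylow h3 (H68.sylowIn_top S))) ht
    rwa [hO', le_bot_iff] at h
  constructor
  · obtain ⟨A, hA⟩ := H3.CW.exists_eak_of_not_pRankLE_top h3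
    have h1 : A ≠ ⊥ := H43.ne_bot_of_pow_le (by norm_num) hA.2
    have := H68.dvd_card_of_isPGroup_of_ne_bot (H43.ea_isPGroup hA.1) h1 (le_top : A ≤ ⊤)
    rw [Subgroup.card_top] at this
    exact even_iff_two_dvd.2 this
  · intro T hT hT1
    obtain ⟨z, hzT, hz, hz2⟩ := H44.exists_central_orderOf hT hT1
    obtain ⟨h1, h2⟩ := H3.CW.local_of_pLayerOf_eq_bot (hL z hz2) hT hz
    have h4 : Subgroup.centralizer (T : Set G) ≤ Subgroup.centralizer ({z} : Set G) :=
      H43.centralizer_le_centralizer_singleton hzT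
    rw [inf_eq_right.2 h4] at h1 h2
    rw [hcore z hz2, le_bot_iff, ← H44.coreOf_normalizer hT] at h2
    rw [← H44.pLayerOf_normalizer hT] at h1
    exact H44.charP_iff.2 ⟨H44.pLayerOf_eq_bot_iff'.1 h1, H44.coreOf_eq_bot_iff.1 h2⟩

end Cfsg.Agent.S0504
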