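import Mathlib
import Cfsg.Statements.S0556
import Cfsg.Agent.Lib.Solv.Primitive
import Cfsg.Agent.Lib.Core.Frattini
import Cfsg.Agent.S0035
import Cfsg.Agent.S0034
import Cfsg.Agent.S0023
-- import your own Cfsg.Agent.* helpers here

set_option autoImplicit false
open Cfsg Pointwise

namespace Cfsg.Agent.S0556

open Subgroup Pointwise in
private theorem aux {G : Type*} [Group G] [Finite G] (A : Subgroup G) (hA : IsCoatom A)
    (hs : Group.IsSolvable A) (hF : Cfsg.IsFrobeniusComplement A) :
    ∃ K : Subgroup G, K.Normal ∧ IsMulCommutative K ∧ K ⊔ A = ⊤ := by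
  obtain ⟨K, -, hK, hc⟩ := Cfsg.Agent.S0035.result A hF
  have hK0 : K ≠ ⊥ := by
    rintro rfl
    exact hF.2.1 (by simpa using hc.sup_eq_top)
  have hmin : ∀ L : Subgroup G, L ≤ K → L ≠ ⊥ → A ≤ normalizer (L : Set G) → L = K := by
    intro L hLK hL0 hAL
    have h1 : A ⊔ L = ⊤ := H21.sup_eq_top_of_isCoatom_of_not_le hA fun h =>
      hL0 (le_bot_iff.1 (hc.disjoint.eq_bot ▸ le_inf hLK h))
    have h2 := H3.sup_inf_assoc_of_le_normalizer hAL hLK
    rw [sup_comm, h1, top_inf_eq, inf_comm, hc.disjoint.eq_bot, sup_bot_eq] at h2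
    exact h2.symm
  have hcop : (Nat.card A).Coprime (Nat.card K) := by
    have h1 := (Cfsg.Agent.S0034.result A hF).2
    rw [hc.index_eq_card] at h1
    have h2 : Nat.card K ≡ 1 [MOD Nat.card A] := h1
    exact Nat.Coprime.symm ((Nat.ModEq.gcd_eq h2).trans (Nat.coprime_one_left _))
  obtain ⟨p, hp, hpd⟩ := Nat.exists_prime_and_dvd ((Subgroup.one_lt_card_iff_ne_bot K).2 hK0).ne'
  haveI := Fact.mk hp
  obtain ⟨P, hP⟩ := Cfsg.Agent.S0023.result A K le_normalizer_of_normal hcop (Or.inl hs) p
  have hPK := hmin _ (map_subtype_le (P : Subgroup K)) (by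
    rw [Ne, Subgroup.map_eq_bot_iff_of_injective _ K.subtype_injective]
    exact P.ne_bot_of_dvd_card hpd) hP
  have hKp : IsPGroup p K := hPK ▸ P.isPGroup'.map _
  haveI := hKp.isNilpotent
  refine ⟨K, hK, ?_, hc.sup_eq_top⟩
  apply H3.isMulCommutative_of_commutator_eq_bot
  by_contra h0
  exact (H3.commutator_self_lt_of_isSolvable inferInstance hK0).ne
    (hmin _ (Subgroup.commutator_le_left _ _) h0 le_normalizer_of_normal)

open Subgroup in
private theorem aux2 {G : Type*} [Group G] (A K : Subgroup G) [K.Normal] [IsMulCommutative A]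
    [IsMulCommutative K] (h : K ⊔ A = ⊤) : derivedSeries G 2 = ⊥ := by
  have h1 : ⁅(⊤ : Subgroup G), A⁆ ≤ K := by
    rw [← h]
    refine H2.commutator_sup_le le_normalizer_of_normal le_normalizer_of_normal
      (commutator_le_left _ _) ?_
    rw [H3.commutator_eq_bot_of_isMulCommutative]
    exact bot_le
  have h2 : ⁅K ⊔ A, (⊤ : Subgroup G)⁆ ≤ K := by
    refine H2.commutator_sup_le le_normalizer_of_normal le_normalizer_of_normal
      (commutator_le_left _ _) ?_
    rwa [Subgroup.commutator_comm]
  rw [h] at h2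
  rw [eq_bot_iff, ← H3.commutator_eq_bot_of_isMulCommutative K]
  exact Subgroup.commutator_mono h2 h2

/-- If a finite group has a maximal subgroup that is abelian, then the third term of its derived series is trivial (so the group is solvable of derived length at most three). -/
theorem result {G : Type*} [Group G] [Finite G] (A : Subgroup G) (hA : IsCoatom A) [IsMulCommutative A] : derivedSeries G 3 = ⊥ := by
  by_cases hn : A.Normal
  · have h1 := H1.commutator_le_of_isCoatom_of_normal hA
    have h2 : derivedSeries G 2 = ⊥ := by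
      rw [eq_bot_iff, ← H3.commutator_eq_bot_of_isMulCommutative A]
      exact Subgroup.commutator_mono h1 h1
    rw [derivedSeries_succ, h2, Subgroup.commutator_bot_left]
  have hNA : Subgroup.normalizer (A : Set G) = A := by
    by_contra hne
    exact hn (Subgroup.normalizer_eq_top_iff.1
      (hA.2 _ (lt_of_le_of_ne Subgroup.le_normalizer (Ne.symm hne))))
  have hZA : Subgroup.center G ≤ A := hNA ▸ Subgroup.center_le_normalizer _
  set f := QuotientGroup.mk' (Subgroup.center G) with hf
  have hA' := H21.isCoatom_map_mk' hA hZA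
  have hcm : (A.map f).comap f = A := by
    rw [Subgroup.comap_map_eq, QuotientGroup.ker_mk', sup_eq_left.2 hZA]
  have hF : Cfsg.IsFrobeniusComplement (A.map f) := by
    refine ⟨fun h0 => hn ?_, hA'.1, fun g hg => ?_⟩
    · rw [← hcm, h0]; infer_instance
    · obtain ⟨g, rfl⟩ := QuotientGroup.mk'_surjective _ g
      have hgA : g ∉ A := fun h => hg (Subgroup.mem_map_of_mem _ h)
      rw [eq_bot_iff]
      rintro x ⟨hx1, hx2⟩
      obtain ⟨x, rfl⟩ := QuotientGroup.mk'_surjective _ x
      have h1 : x ∈ A := hcm ▸ hx1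
      have h2 : x ∈ MulAut.conj g • A := by
        rw [← hcm, ← H1.comap_conj_smul]
        exact hx2
      rw [Subgroup.mem_bot, QuotientGroup.mk'_apply, QuotientGroup.eq_one_iff]
      have h3 : A ⊔ MulAut.conj g • A = ⊤ := by
        refine H21.sup_eq_top_of_isCoatom_of_not_le hA fun h => hgA ?_
        rw [← hNA, H1.mem_normalizer_iff_conj_smul_eq]
        exact Subgroup.eq_of_le_of_card_ge h (H1.card_conj_smul g A).ge
      haveI : IsMulCommutative (MulAut.conj g • A : Subgroup G) := Subgroup.map_isMulCommutative _ _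
      have h4 : A ⊔ MulAut.conj g • A ≤ Subgroup.centralizer {x} :=
        sup_le ((Subgroup.le_centralizer _).trans (Subgroup.centralizer_le (by simpa using h1)))
          ((Subgroup.le_centralizer _).trans (Subgroup.centralizer_le (Set.singleton_subset_iff.2 h2)))
      rw [Subgroup.mem_center_iff]
      intro y
      exact ((Subgroup.mem_centralizer_iff.1 (h4 (h3 ▸ Subgroup.mem_top y))) x rfl).symm
  haveI : IsMulCommutative (A.map f) := Subgroup.map_isMulCommutative _ _
  obtain ⟨K, hK, hKc, hKA⟩ := aux _ hA' (H2.isSolvable_of_isMulCommutative this) hF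
  have h1 := aux2 _ K hKA
  rw [← map_derivedSeries_eq (QuotientGroup.mk'_surjective (Subgroup.center G)),
    Subgroup.map_eq_bot_iff, QuotientGroup.ker_mk'] at h1
  rw [derivedSeries_succ, Subgroup.commutator_eq_bot_iff_le_centralizer]
  exact h1.trans (Subgroup.center_le_centralizer _)

end Cfsg.Agent.S0556
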