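import Cfsg.Statements.S0655
import Mathlib
import Cfsg.Agent.Lib.ZJ.Abstract

set_option autoImplicit false
open Cfsg

namespace Cfsg.Agent.S0655

/-- In a p-group the intersection of all elementary abelian subgroups of largest order is the subgroup generated by the elements of order dividing p in the centre (equivalently the centralizer) of the elementary-version Thompson subgroup. -/
theorem result {S : Type*} [Group S] [Finite S] {p : ℕ} [Fact p.Prime] (hS : IsPGroup p S) : sInf (Cfsg.maxElementaryAbelianSubgroups p S) = Cfsg.omegaCenterThompson p S ∧ Cfsg.omegaCenterThompson p S = Cfsg.omegaOne p (Subgroup.centralizer (Cfsg.thompsonSubgroup p S : Set S)) := by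
  refine ⟨?_, ?_⟩
  · rw [← H24.maxEA_top, H25.ZJ.sInf_maxEA, H24.omegaCenterThompson_eq]
  · rw [H24.omegaCenterThompson_eq, ← H24.omegaOne_centralizer_thompson_eq, top_inf_eq,
      H24.thompsonSubgroupOf_top]

end Cfsg.Agent.S0655
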