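import Cfsg.Statements.S0737
import Mathlib
import Cfsg.Agent.Lib.H4.HalfTrans
import Cfsg.Agent.Lib.Perm.MinNormal
import Cfsg.Agent.Lib.Perm.Basic
import Cfsg.Agent.S0205

set_option autoImplicit false
open Cfsg

namespace Cfsg.Agent.S0737

open MulAction in
theorem pairs {α : Type*} [DecidableEq α] {G : Type*} [Group G] [MulAction G α]
    (h2 : IsPretransitive G (Set.powersetCard α 2)) {a b c d : α} (hab : a ≠ b) (hcd : c ≠ d) :
    ∃ g : G, (g • a = c ∧ g • b = d) ∨ (g • a = d ∧ g • b = c) := by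
  obtain ⟨g, hg⟩ := h2.exists_smul_eq (Set.powersetCard.ofCard (Finset.card_pair hab))
    (Set.powersetCard.ofCard (Finset.card_pair hcd))
  have h := congrArg Subtype.val hg
  rw [Set.powersetCard.coe_smul] at h
  simp only [Set.powersetCard.val_ofCard, Finset.smul_finset_insert, Finset.smul_finset_singleton] at h
  have h' : ({g • a, g • b} : Set α) = {c, d} := by simpa using congrArg (fun s : Finset α => (s : Set α)) h
  exact ⟨g, Set.pair_eq_pair_iff.1 h'⟩

/-- A non-trivial 2-homogeneous permutation group that is not doubly transitive has odd order and degree `p^f ≡ 3 (mod 4)`, and is permutation-isomorphic to a group of semi-affine transformations `x ↦ a φ(x) + b` of the field with `p^f` elements containing all translations. -/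
theorem result {α : Type*} [Fintype α] [DecidableEq α] (G : Subgroup (Equiv.Perm α)) (hne : G ≠ ⊥) (h2 : MulAction.IsPretransitive G (Set.powersetCard α 2)) (hn2 : ¬ MulAction.IsMultiplyPretransitive G α 2) : Odd (Nat.card G) ∧ ∃ (p f : ℕ) (_ : Fact p.Prime), p ≠ 2 ∧ Fintype.card α = p ^ f ∧ p ^ f % 4 = 3 ∧ ∃ e : α ≃ GaloisField p f, (∀ g : G, e.symm.trans (((g : Equiv.Perm α)).trans e) ∈ Cfsg.semiaffineGroup (GaloisField p f)) ∧ ∀ b : GaloisField p f, ∃ g : G, ∀ x : α, e ((g : Equiv.Perm α) x) = e x + b := by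
  classical
  have hodd : Odd (Nat.card G) := by
    rw [← Nat.not_even_iff_odd, even_iff_two_dvd]
    intro h
    obtain ⟨t, ht⟩ := exists_prime_orderOf_dvd_card' 2 h
    obtain ⟨a, ha⟩ : ∃ a : α, t • a ≠ a := by
      by_contra hc
      push Not at hc
      have : t = 1 := eq_of_smul_eq_smul (α := α) fun a => by rw [hc, one_smul]
      rw [this, orderOf_one] at ht
      omega
    have htt : t • t • a = a := by rw [← mul_smul, ← pow_two, ← ht, pow_orderOf_eq_one, one_smul]
    have key : ∀ c d : α, c ≠ d → ∃ g : G, g • a = c ∧ g • t • a = d := by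
      intro c d hcd
      obtain ⟨g, hg | hg⟩ := pairs h2 ha.symm hcd
      · exact ⟨g, hg⟩
      · exact ⟨g * t, by rw [mul_smul, hg.2], by rw [mul_smul, htt, hg.1]⟩
    refine hn2 (H26.multi_iff_fun.2 fun x y hx hy => ?_)
    obtain ⟨g, hg⟩ := key (x 0) (x 1) (hx.ne (by decide))
    obtain ⟨k, hk⟩ := key (y 0) (y 1) (hy.ne (by decide))
    refine ⟨k * g⁻¹, fun i => ?_⟩
    fin_cases i
    · simp only [Fin.zero_eta, mul_smul]
      rw [← hg.1, inv_smul_smul, hk.1]
    · simp only [Fin.mk_one, mul_smul]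
      rw [← hg.2, inv_smul_smul, hk.2]
  refine ⟨hodd, ?_⟩
  haveI := Cfsg.Agent.S0205.result hodd
  haveI : Nontrivial G := (Subgroup.nontrivial_iff_ne_bot G).2 hne
  obtain ⟨N, hNn, hN0, -, hmin⟩ := H26.exists_minNormal_le (⊤ : Subgroup G) top_ne_bot
  have hc : IsMulCommutative N := by
    rcases hmin ⁅N, N⁆ inferInstance (Subgroup.commutator_le_self N) with h | h
    · exact Subgroup.le_centralizer_iff_isMulCommutative.1
        (Subgroup.commutator_eq_bot_iff_le_centralizer.1 h)
    · exact absurd h (Group.IsSolvable.commutator_lt_of_ne_bot hN0).ne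
  obtain ⟨p, hp, hNp⟩ := H26.minNormal_elementary N hN0 hmin hc
  haveI := Fact.mk hp
  obtain ⟨⟨n₀, hn₀⟩, hn1⟩ := Subgroup.ne_bot_iff_exists_ne_one.1 hN0
  obtain ⟨ω, hω⟩ : ∃ a : α, n₀ • a ≠ a := by
    by_contra hc
    push Not at hc
    exact hn1 (Subtype.ext (eq_of_smul_eq_smul (α := α) fun a => by rw [hc]; rfl))
  haveI : MulAction.IsPretransitive N α := ⟨fun c d => by
    by_cases hcd : c = d
    · exact ⟨1, by rw [hcd, one_smul]⟩
    obtain ⟨g, hg | hg⟩ := pairs h2 hω.symm hcd
    · refine ⟨⟨_, hNn.conj_mem n₀ hn₀ g⟩, ?_⟩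
      change (g * n₀ * g⁻¹) • c = d
      rw [← hg.1, ← hg.2, mul_smul, inv_smul_smul, mul_smul]
    · refine ⟨⟨_, hNn.conj_mem _ (N.inv_mem hn₀) g⟩, ?_⟩
      change (g * n₀⁻¹ * g⁻¹) • c = d
      rw [← hg.1, ← hg.2, mul_smul, inv_smul_smul, mul_smul, inv_smul_smul]⟩
  have hreg := H26.stabilizer_eq_bot_of_comm N hc ω
  have hinj : ∀ m ∈ N, ∀ n ∈ N, m • ω = n • ω → m = n := by
    intro m hm n hn h
    have : (⟨n⁻¹ * m, N.mul_mem (N.inv_mem hn) hm⟩ : N) ∈ MulAction.stabilizer N ω := by
      change (n⁻¹ * m) • ω = ω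
      rw [mul_smul, h, inv_smul_smul]
    rw [hreg, Subgroup.mem_bot] at this
    exact (inv_mul_eq_one.1 (congrArg Subtype.val this)).symm
  letI : CommGroup N := { (inferInstance : Group N) with mul_comm := hc.is_comm.comm }
  let D := MulAction.stabilizer G ω
  letI : DistribMulAction D (Additive N) :=
    { smul := fun d v => Additive.ofMul (MulAut.conjNormal (d : G) v.toMul)
      one_smul := fun v => by
        change Additive.ofMul (MulAut.conjNormal (1 : G) v.toMul) = v
        rw [map_one]; rfl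
      mul_smul := fun a b v => by
        change Additive.ofMul (MulAut.conjNormal ((a : G) * b) v.toMul) = _
        rw [map_mul]; rfl
      smul_zero := fun a => congrArg Additive.ofMul (map_one (MulAut.conjNormal (H := N) (a : G)))
      smul_add := fun a v w =>
        congrArg Additive.ofMul (map_mul (MulAut.conjNormal (H := N) (a : G)) v.toMul w.toMul) }
  have hsm : ∀ (d : D) (v : Additive N), (((d • v).toMul : N) : G) = d * v.toMul * (d : G)⁻¹ :=
    fun _ _ => rfl
  let c : Additive N ≃ α := Equiv.ofBijective (fun v => (v.toMul : G) • ω) ⟨fun v w h =>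
    Additive.toMul.injective (Subtype.ext (hinj _ v.toMul.2 _ w.toMul.2 h)), fun x => by
      obtain ⟨n, hn⟩ := MulAction.exists_smul_eq N ω x
      exact ⟨Additive.ofMul n, hn⟩⟩
  have hc0 : c 0 = ω := one_smul G ω
  have hcd : ∀ (d : D) (v : Additive N), c (d • v) = (d : G) • c v := by
    intro d v
    change (d * v.toMul * (d : G)⁻¹ : G) • ω = (d : G) • (v.toMul : G) • ω
    rw [mul_smul, mul_smul, show (d : G)⁻¹ • ω = ω from (D.inv_mem d.2)]
  have hca : ∀ v w : Additive N, c (v + w) = (v.toMul : G) • c w := fun v w =>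
    mul_smul (v.toMul : G) (w.toMul : G) ω
  haveI : FaithfulSMul D (Additive N) := ⟨fun {a b} h => Subtype.ext
    (eq_of_smul_eq_smul (α := α) fun x => by
      obtain ⟨v, rfl⟩ := c.surjective x
      rw [← hcd, ← hcd, h])⟩
  haveI : Nontrivial N := (Subgroup.nontrivial_iff_ne_bot N).2 hN0
  obtain ⟨F, _, e, he⟩ := H4.exists_field_of_halfTrans (D := D) (V := Additive N)
    (hodd.of_dvd_nat D.card_subgroup_dvd_card) hp
    (fun v => Additive.toMul.injective (Subtype.ext (hNp _ v.toMul.2))) (by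
      intro a b ha hb
      obtain ⟨g, hg | hg⟩ := pairs h2 (hc0 ▸ c.injective.ne ha.symm) (hc0 ▸ c.injective.ne hb.symm)
      · exact ⟨⟨g, hg.1⟩, Or.inl (c.injective (by rw [hcd]; exact hg.2))⟩
      · refine ⟨⟨((-b).toMul : G) * g, ?_⟩, Or.inr (c.injective ?_)⟩
        · change (_ * g) • ω = ω
          rw [mul_smul, hg.1, ← hca, neg_add_cancel, hc0]
        · rw [hcd]
          change (_ * g) • c a = _
          rw [mul_smul, hg.2]
          rfl)
  have hNp' : IsPGroup p N := fun n => ⟨1, Subtype.ext (by simpa using hNp n n.2)⟩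
  obtain ⟨f, hf⟩ := IsPGroup.iff_card.1 hNp'
  have hcard : Fintype.card α = p ^ f := by
    rw [← Nat.card_eq_fintype_card, ← Nat.card_congr c, ← hf]
    rfl
  have hf0 : f ≠ 0 := by
    rintro rfl
    exact hN0 (Subgroup.card_eq_one.1 hf)
  have hNodd : Odd (p ^ f) := hf ▸ hodd.of_dvd_nat N.card_subgroup_dvd_card
  have hp2 : p ≠ 2 := by
    rintro rfl
    exact (Nat.not_even_iff_odd.2 hNodd) (Nat.even_pow.2 ⟨even_two, hf0⟩)
  have hmod : p ^ f % 4 = 3 := by
    let s : Set.powersetCard α 2 := Set.powersetCard.ofCard (Finset.card_pair hω)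
    have h1 : Odd ((p ^ f).choose 2) := by
      refine hodd.of_dvd_nat ?_
      rw [← hcard, ← Nat.card_eq_fintype_card, ← Set.powersetCard.card,
        ← MulAction.index_stabilizer_of_transitive G s]
      exact Subgroup.index_dvd_card _
    obtain ⟨m, hm⟩ := hNodd
    rw [hm, Nat.choose_two_right, Nat.add_sub_cancel, mul_comm 2 m, ← mul_assoc,
      Nat.mul_div_cancel _ two_pos] at h1
    obtain ⟨k, hk⟩ := Nat.Odd.of_mul_right h1
    omega
  haveI : Finite F := Finite.of_equiv _ e.symm.toEquiv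
  haveI := Fintype.ofFinite F
  haveI := Fintype.ofFinite (GaloisField p f)
  let r : F ≃+* GaloisField p f := FiniteField.ringEquivOfCardEq (by
    rw [← Nat.card_eq_fintype_card, ← Nat.card_eq_fintype_card, GaloisField.card p f hf0,
      Nat.card_congr e.toEquiv, ← hf]
    rfl)
  refine ⟨p, f, inferInstance, hp2, hcard, hmod, (c.symm.trans e.symm.toEquiv).trans r.toEquiv,
    fun g => ?_, fun b => ?_⟩
  · obtain ⟨v, hv⟩ := c.surjective (g • ω)
    have hd : ((-v).toMul : G) * g ∈ D := by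
      change (_ * g) • ω = ω
      rw [mul_smul, ← hv, ← hca, neg_add_cancel, hc0]
    obtain ⟨u, σ, hu, h⟩ := he ⟨_, hd⟩
    refine ⟨Units.mk0 (r u) (by simpa using hu), r (e.symm v), (r.symm.trans σ).trans r, fun x => ?_⟩
    obtain ⟨y, rfl⟩ := r.surjective x
    have h1 : g • c (e y) = c (v + e (u * σ y)) := by
      rw [hca, ← h, hcd, ← mul_smul]
      simp
    have h2 : (g : Equiv.Perm α) (c (e y)) = c (v + e (u * σ y)) := h1
    simp [h2, add_comm]
  · refine ⟨(e (r.symm b)).toMul, fun x => ?_⟩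
    obtain ⟨v, rfl⟩ := c.surjective x
    have h2 : (((e (r.symm b)).toMul : G) : Equiv.Perm α) (c v) = c (e (r.symm b) + v) :=
      (hca _ _).symm
    simp [h2, add_comm]

end Cfsg.Agent.S0737
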