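import Cfsg.Statements.S0820
import Mathlib
import Cfsg.Agent.Lib.ClGeo.Transv

set_option autoImplicit false
open Cfsg

namespace Cfsg.Agent.S0820

open Matrix

theorem exists_lift {F : Type*} [Field F] [Fintype F] (hF : Fintype.card F = 4)
    (x : Matrix.ProjectiveSpecialLinearGroup (Fin 3) F) (hx : orderOf x = 2) :
    ∃ B : Matrix.SpecialLinearGroup (Fin 3) F, (B : Matrix.ProjectiveSpecialLinearGroup (Fin 3) F) = x ∧
      Cfsg.IsTransvection (B : Matrix (Fin 3) (Fin 3) F) := by
  obtain ⟨A, rfl⟩ := QuotientGroup.mk_surjective x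
  have h2 : (A : Matrix.ProjectiveSpecialLinearGroup (Fin 3) F) ^ 2 = 1 := by
    rw [← hx, pow_orderOf_eq_one]
  have h1 : (A : Matrix.ProjectiveSpecialLinearGroup (Fin 3) F) ≠ 1 := by
    intro h
    rw [h, orderOf_one] at hx
    omega
  have hc : A ^ 2 ∈ Subgroup.center (Matrix.SpecialLinearGroup (Fin 3) F) := by
    rw [← QuotientGroup.eq_one_iff, QuotientGroup.mk_pow, h2]
  obtain ⟨r, hr, hA⟩ := Matrix.SpecialLinearGroup.mem_center_iff.mp hc
  have h3 : ((A ^ 3 : Matrix.SpecialLinearGroup (Fin 3) F) :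
      Matrix.ProjectiveSpecialLinearGroup (Fin 3) F) = A := by
    rw [QuotientGroup.mk_pow, pow_succ, h2, one_mul]
  have h6 : (A ^ 3) * (A ^ 3) = 1 := by
    apply Subtype.ext
    have : A ^ 3 * A ^ 3 = (A ^ 2) ^ 3 := by group
    rw [this, Matrix.SpecialLinearGroup.coe_pow, ← hA, ← map_pow]
    simp only [Fintype.card_fin] at hr
    rw [hr, map_one, Matrix.SpecialLinearGroup.coe_one]
  refine ⟨A ^ 3, h3, ?_⟩
  have hne : A ^ 3 ≠ 1 := by
    intro h
    rw [h] at h3
    exact h1 h3.symm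
  generalize A ^ 3 = B at h6 hne
  have hchar : (2 : F) = 0 := by
    have := FiniteField.cast_card_eq_zero F
    rw [hF] at this
    have h4 : (2 : F) * 2 = 0 := by rw [← this]; norm_num
    exact mul_self_eq_zero.mp h4
  have hB : (B : Matrix (Fin 3) (Fin 3) F) * B = 1 := by
    rw [← Matrix.SpecialLinearGroup.coe_mul, h6, Matrix.SpecialLinearGroup.coe_one]
  have hsq : ((B : Matrix (Fin 3) (Fin 3) F) - 1) * ((B : Matrix (Fin 3) (Fin 3) F) - 1) = 0 := by
    have : ((B : Matrix (Fin 3) (Fin 3) F) - 1) * ((B : Matrix (Fin 3) (Fin 3) F) - 1) =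
        (2 : F) • (1 - (B : Matrix (Fin 3) (Fin 3) F)) := by
      rw [sub_mul, mul_sub, mul_sub, hB, two_smul]
      simp only [mul_one, one_mul]
      abel
    rw [this, hchar, zero_smul]
  refine ⟨?_, hsq⟩
  have h7 := Matrix.rank_add_rank_le_card_of_mul_eq_zero hsq
  have h8 : ((B : Matrix (Fin 3) (Fin 3) F) - 1).rank ≠ 0 := by
    intro h
    unfold Matrix.rank at h
    rw [Submodule.finrank_eq_zero, LinearMap.range_eq_bot] at h
    apply hne
    apply Subtype.ext
    rw [Matrix.SpecialLinearGroup.coe_one, ← sub_eq_zero]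
    apply Matrix.toLin'.injective
    rw [map_zero]; exact h
  simp only [Fintype.card_fin] at h7
  omega

/-- Any two elements of order 2 of PSL_3(4) are conjugate. -/
theorem result {F : Type*} [Field F] [Fintype F] (hF : Fintype.card F = 4) (x y : Matrix.ProjectiveSpecialLinearGroup (Fin 3) F) (hx : orderOf x = 2) (hy : orderOf y = 2) : IsConj x y := by
  obtain ⟨A, rfl, hA⟩ := exists_lift hF x hx
  obtain ⟨B, rfl, hB⟩ := exists_lift hF y hy
  exact (QuotientGroup.mk' (Subgroup.center _)).map_isConj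
    (H30.isConj_of_isTransvection (by simp) A B hA hB)

end Cfsg.Agent.S0820
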