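import Cfsg.Statements.S0981
import Mathlib
import Cfsg.Agent.Lib.H4.CITOrd

set_option autoImplicit false
open Cfsg

namespace Cfsg.Agent.S0981

/-- A simple group of order 4080 is isomorphic to the projective special linear group of dimension 2 over the field with 16 elements. -/
theorem result {G : Type*} [Group G] [Finite G] [IsSimpleGroup G] (h : Nat.card G = 4080) {F : Type*} [Field F] [Fintype F] (hF : Fintype.card F = 16) : Nonempty (G ≃* Matrix.ProjectiveSpecialLinearGroup (Fin 2) F) := by
  have hG := H36.not_comm_of_not_prime (G := G) (by rw [h]; norm_num)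
  refine H4.Sv.psl2_of_cit hG (H4.Sv.cit_4080 hG h) (by omega) fun q hq => ?_
  rw [h] at hq
  rw [hF]
  have h1 : Nat.gcd 2 (q - 1) ≤ 2 := Nat.gcd_le_left _ (by norm_num)
  have h2 : q < 21 := by
    by_contra h3
    have := Nat.mul_le_mul (Nat.mul_le_mul (show 21 ≤ q by omega) (show 20 ≤ q - 1 by omega))
      (show 22 ≤ q + 1 by omega)
    omega
  interval_cases q <;> simp_all

end Cfsg.Agent.S0981
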