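import Cfsg.Statements.S0989
import Mathlib
import Cfsg.Agent.Lib.H4.SylRules
import Cfsg.Agent.Lib.FGS.OrderTypeFrob

set_option autoImplicit false
open Cfsg

namespace Cfsg.Agent.S0989

/-- In the symmetric group on p or p + 1 letters, p a prime, the normalizer of a Sylow p-subgroup has order p * (p - 1). -/
theorem result {α : Type*} [Fintype α] [DecidableEq α] (p : ℕ) [Fact p.Prime] (hα : Fintype.card α = p ∨ Fintype.card α = p + 1) (P : Sylow p (Equiv.Perm α)) : Nat.card ↥(Subgroup.normalizer ((P : Subgroup (Equiv.Perm α)) : Set (Equiv.Perm α))) = p * (p - 1) := by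
  have hp : p.Prime := Fact.out
  have hp2 := hp.two_le
  have hc : Nat.card (Equiv.Perm α) = p * ((p - 1).factorial * (Fintype.card α).choose p) := by
    rw [Nat.card_eq_fintype_card, Fintype.card_perm, ← mul_assoc, Nat.mul_factorial_pred hp.ne_zero]
    rcases hα with h | h
    · simp [h]
    · rw [h, Nat.choose_succ_self_right, Nat.factorial_succ, mul_comm]
  have hd : ¬ p ∣ (p - 1).factorial * (Fintype.card α).choose p := by
    rw [hp.dvd_mul, hp.dvd_factorial]
    rintro (h1 | h1)
    · omega
    · rcases hα with h | h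
      · simp [h] at h1; omega
      · rw [h, Nat.choose_succ_self_right, Nat.dvd_add_self_left] at h1
        simp at h1; omega
  have hQ : ∀ Q : Sylow p (Equiv.Perm α), Nat.card Q = p := fun Q => by
    have := H36.card_sylow_eq_pow Q (k := 1) (by rw [hc]; simp) (by
      rw [hc, pow_two, Nat.mul_dvd_mul_iff_left hp.pos]; exact hd)
    simpa using this
  have h1 := H78.OrderType.card_orderOf_eq_prime hQ
  have h2 := Equiv.Perm.card_of_cycleType_singleton (α := α) hp2 (by omega)
  have h3 : Nat.card {x : Equiv.Perm α // orderOf x = p} =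
      (p - 1).factorial * (Fintype.card α).choose p := by
    rw [← h2, Nat.card_eq_fintype_card, Fintype.card_subtype]
    congr 1
    refine Finset.filter_congr fun x _ => ⟨fun h => ?_, fun h => ?_⟩
    · have h4 := Equiv.Perm.isCycle_of_prime_order' (h ▸ hp) (by omega : _ < 2 * orderOf x)
      rw [h4.cycleType, ← h4.orderOf, h]
    · rw [← Equiv.Perm.lcm_cycleType, h]; simp
  have h4 := H36.card_eq_sylow_mul P
  rw [hc, ← h3, h1] at h4
  exact (Nat.eq_of_mul_eq_mul_left (Nat.card_pos (α := Sylow p (Equiv.Perm α)))
    (by rw [← h4]; ring)).symm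

end Cfsg.Agent.S0989
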