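import Cfsg.Statements.S1005
import Mathlib
import Cfsg.Agent.Lib.H4.G168

set_option autoImplicit false
open Cfsg

namespace Cfsg.Agent.S1005

/-- In a simple group of order 168 every element has order 1, 2, 3, 4 or 7; there are exactly 21 elements of order 2, and any two of them are conjugate. -/
theorem result {G : Type*} [Group G] [Finite G] [IsSimpleGroup G] (h : Nat.card G = 168) : (∀ g : G, orderOf g = 1 ∨ orderOf g = 2 ∨ orderOf g = 3 ∨ orderOf g = 4 ∨ orderOf g = 7) ∧ Nat.card {g : G // orderOf g = 2} = 21 ∧ ∀ s t : G, orderOf s = 2 → orderOf t = 2 → IsConj s t := by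
  refine ⟨H4.G168.orderOf_cases h, ?_, fun s t => H4.G168.isConj_two h⟩
  obtain ⟨t, ht⟩ := exists_prime_orderOf_dvd_card' (G := G) 2 (by rw [h]; norm_num)
  have h1 := H9.card_isConj_mul_card_centralizer t
  rw [H4.G168.card_cent_two h ht, h] at h1
  rw [Nat.card_congr (Equiv.subtypeEquivRight (q := fun g => IsConj t g) fun g =>
    ⟨fun hg => H4.G168.isConj_two h ht hg, fun hg => (H35.orderOf_eq_of_isConj hg).symm.trans ht⟩)]
  omega

end Cfsg.Agent.S1005
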