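import Cfsg.Statements.S1006
import Mathlib
import Cfsg.Agent.Lib.H4.G168

set_option autoImplicit false
open Cfsg

namespace Cfsg.Agent.S1006

open Subgroup in
theorem isConj_of_card {G : Type*} [Group G] [Finite G] {n : ℕ} {s t : G} (hs : orderOf s = n)
    (ht : orderOf t = n) (h : Nat.card {g : G // orderOf g = n} ≤ Nat.card {g : G // IsConj s g}) :
    IsConj s t := by
  have : {g : G | IsConj s g} = {g : G | orderOf g = n} :=
    Set.eq_of_subset_of_ncard_le (fun g hg => (H35.orderOf_eq_of_isConj hg).symm.trans hs) h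
  exact (this ▸ ht : t ∈ {g : G | IsConj s g})

open Subgroup in
theorem card_cent {G : Type*} [Group G] [Finite G] {p : ℕ} [hp : Fact p.Prime]
    (h1 : ∀ P : Sylow p G, Nat.card P = p)
    (h2 : ∀ P : Sylow p G, Nat.card (centralizer ((P : Subgroup G) : Set G)) = p) {x : G}
    (hx : orderOf x = p) : Nat.card (centralizer ({x} : Set G)) = p := by
  obtain ⟨P, hP⟩ := H35.IsPElt.exists_sylow (p := p) (x := x) ⟨1, by rw [hx, pow_one]⟩
  rw [H4.centralizer_eq_of_card hp.out (h1 P) hP (fun e => hp.out.one_lt.ne (by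
    rw [← hx, e, orderOf_one])), h2]

/-- In a simple group of order 168 there are 56 elements of order 3, all conjugate; 42 elements of order 4, all conjugate; and 48 elements of order 7 falling into two conjugacy classes of size 24, an element of order 7 not being conjugate to its inverse. -/
theorem result {G : Type*} [Group G] [Finite G] [IsSimpleGroup G] (h : Nat.card G = 168) : Nat.card {g : G // orderOf g = 3} = 56 ∧ (∀ s t : G, orderOf s = 3 → orderOf t = 3 → IsConj s t) ∧ Nat.card {g : G // orderOf g = 4} = 42 ∧ (∀ s t : G, orderOf s = 4 → orderOf t = 4 → IsConj s t) ∧ Nat.card {g : G // orderOf g = 7} = 48 ∧ ∀ x : G, orderOf x = 7 → Nat.card {g : G // IsConj x g} = 24 ∧ ¬ IsConj x x⁻¹ := by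
  classical
  haveI : Fact (Nat.Prime 7) := ⟨by norm_num⟩
  obtain ⟨P⟩ : Nonempty (Sylow 3 G) := inferInstance
  obtain ⟨Q⟩ : Nonempty (Sylow 7 G) := inferInstance
  have h3 : Nat.card {g : G // orderOf g = 3} = 56 := by
    rw [H78.OrderType.card_orderOf_eq_prime (H4.G168.card_three h), (H4.G168.three h P).1]
  have h7 : Nat.card {g : G // orderOf g = 7} = 48 := by
    rw [H78.OrderType.card_orderOf_eq_prime (H4.G168.card_seven h), (H4.G168.seven h Q).1]
  have c4 : ∀ x : G, orderOf x = 4 → Nat.card {g : G // IsConj x g} = 42 := fun x hx => by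
    have h1 := H9.card_isConj_mul_card_centralizer x
    obtain ⟨a, b, hd, ha⟩ := H4.G168.exists_dih_cent h (H4.G168.orderOf_sq hx)
    have h2 : x ∈ Subgroup.zpowers a := by
      by_contra h2
      have := hd.orderOf_of_notMem (Subgroup.mem_centralizer_singleton_iff.2
        ((Commute.refl x).pow_right 2)) h2
      omega
    have h5 : Subgroup.zpowers x = Subgroup.zpowers a :=
      Subgroup.eq_of_le_of_card_ge (Subgroup.zpowers_le.2 h2) (by simp [Nat.card_zpowers, hx, hd.ord])
    have h4 : Subgroup.centralizer ({x} : Set G) = Subgroup.zpowers a := by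
      refine le_antisymm (fun y hy => ?_) (h5 ▸ Subgroup.zpowers_le.2
        (Subgroup.mem_centralizer_singleton_iff.2 rfl))
      have hy' : Commute y x := Subgroup.mem_centralizer_singleton_iff.1 hy
      refine hd.mem_zpowers_of_commute (by norm_num)
        (Subgroup.mem_centralizer_singleton_iff.2 (hy'.pow_right 2)) ?_
      obtain ⟨i, rfl⟩ : a ∈ Subgroup.zpowers x := h5 ▸ Subgroup.mem_zpowers a
      exact hy'.zpow_right i
    rw [h4, Nat.card_zpowers, hd.ord, h] at h1
    omega
  have h4 : Nat.card {g : G // orderOf g = 4} = 42 := by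
    obtain ⟨t, ht⟩ := exists_prime_orderOf_dvd_card' (G := G) 2 (by rw [h]; norm_num)
    have h2 : Nat.card {g : G // orderOf g = 2} = 21 := by
      have h1 := H9.card_isConj_mul_card_centralizer t
      rw [H4.G168.card_cent_two h ht, h] at h1
      rw [Nat.card_congr (Equiv.subtypeEquivRight (q := fun g => IsConj t g) fun g =>
        ⟨fun hg => H4.G168.isConj_two h ht hg,
          fun hg => (H35.orderOf_eq_of_isConj hg).symm.trans ht⟩)]
      omega
    have h1 : Nat.card {g : G // orderOf g = 1} = 1 := by simp [orderOf_eq_one_iff]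
    letI := Fintype.ofFinite G
    have := Finset.card_eq_sum_card_fiberwise (f := fun g : G => orderOf g) (s := Finset.univ)
      (t := {1, 2, 3, 4, 7}) (fun g _ => by simpa using H4.G168.orderOf_cases h g)
    simp only [Nat.card_eq_fintype_card, Fintype.card_subtype] at h1 h2 h3 h7 h ⊢
    rw [Finset.card_univ, h, Finset.sum_insert (by decide), Finset.sum_insert (by decide),
      Finset.sum_insert (by decide), Finset.sum_insert (by decide), Finset.sum_singleton] at this
    omega
  refine ⟨h3, fun s t hs ht => isConj_of_card hs ht ?_, h4,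
    fun s t hs ht => isConj_of_card hs ht (by rw [h4, c4 s hs]), h7, fun x hx => ⟨?_, fun hc => ?_⟩⟩
  · have := H9.card_isConj_mul_card_centralizer s
    rw [card_cent (H4.G168.card_three h) (fun P => (H4.G168.three h P).2) hs, h] at this
    omega
  · have := H9.card_isConj_mul_card_centralizer x
    rw [card_cent (H4.G168.card_seven h) (fun P => (H4.G168.seven h P).2) hx, h] at this
    omega
  · obtain ⟨g, hg⟩ := isConj_iff.1 hc
    obtain ⟨R, hR⟩ := H35.IsPElt.exists_sylow (p := 7) (x := x) ⟨1, by rw [hx, pow_one]⟩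
    have hz : Subgroup.zpowers x = R := Subgroup.eq_of_le_of_card_ge (Subgroup.zpowers_le.2 hR)
      (by rw [Nat.card_zpowers, hx]; exact (H4.G168.card_seven h R).le)
    have h1 : g ∈ Subgroup.normalizer ((R : Subgroup G) : Set G) := by
      rw [← hz]
      refine Subgroup.mem_normalizer_fintype ?_
      rintro _ ⟨i, rfl⟩
      exact ⟨-i, by simp only [← conj_zpow, hg]; simp⟩
    have h2 := H36.card_eq_sylow_mul R
    rw [h, (H4.G168.seven h R).1] at h2
    have h5 : orderOf g ∣ 21 := by
      have := Subgroup.orderOf_dvd_natCard _ h1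
      rwa [show Nat.card (Subgroup.normalizer ((R : Subgroup G) : Set G)) = 21 by omega] at this
    have h6 : ∀ k : ℕ, g ^ (2 * k + 1) * x * (g ^ (2 * k + 1))⁻¹ = x⁻¹ := fun k => by
      induction k with
      | zero => simpa using hg
      | succ k ih =>
        calc g ^ (2 * (k + 1) + 1) * x * (g ^ (2 * (k + 1) + 1))⁻¹
            = g * (g * (g ^ (2 * k + 1) * x * (g ^ (2 * k + 1))⁻¹) * g⁻¹) * g⁻¹ := by group
          _ = x⁻¹ := by rw [ih, ← conj_inv, hg, inv_inv, hg]
    have h8 := h6 10
    rw [orderOf_dvd_iff_pow_eq_one.1 h5, one_mul, inv_one, mul_one] at h8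
    have h9 : orderOf x ∣ 2 := orderOf_dvd_iff_pow_eq_one.2 (by
      rw [pow_two]; nth_rewrite 1 [h8]; exact inv_mul_cancel x)
    rw [hx] at h9
    omega

end Cfsg.Agent.S1006
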