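import Cfsg.Statements.S1007
import Mathlib
import Cfsg.Agent.Lib.H4.G168b

set_option autoImplicit false
open Cfsg

namespace Cfsg.Agent.S1007

/-- Let G be a simple group of order 168 and T a Sylow 2-subgroup. Then T contains exactly two subgroups that are Klein four-groups; they are not conjugate in G; and the normalizer of every Klein four-subgroup of G is isomorphic to the symmetric group of degree 4. -/
theorem result {G : Type*} [Group G] [Finite G] [IsSimpleGroup G] (h : Nat.card G = 168) (T : Sylow 2 G) : Nat.card {U : Subgroup G // U ≤ (T : Subgroup G) ∧ IsKleinFour ↥U} = 2 ∧ (∀ U W : Subgroup G, U ≤ (T : Subgroup G) → W ≤ (T : Subgroup G) → IsKleinFour ↥U → IsKleinFour ↥W → U ≠ W → ∀ g : G, U.map (MulAut.conj g).toMonoidHom ≠ W) ∧ ∀ U : Subgroup G, IsKleinFour ↥U → Nonempty (↥(Subgroup.normalizer (U : Set G)) ≃* Equiv.Perm (Fin 4)) := by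
  refine ⟨?_, fun U W hU hW kU kW hne g => H4.G168.not_conj h T hU hW kU kW hne g,
    fun U hU => H4.G168.sym_four h (H4.G168.card_norm_klein h hU)⟩
  obtain ⟨a, b, hd⟩ := H4.G168.exists_dih h T
  have hle : ∀ i : ℤ, Subgroup.closure ({a ^ 2, a ^ i * b} : Set G) ≤ T := fun i => by
    rw [Subgroup.closure_le]
    rintro x (rfl | rfl)
    · exact pow_mem hd.a_mem 2
    · exact mul_mem (zpow_mem hd.a_mem _) hd.b_mem
  rw [Nat.card_eq_two_iff]
  refine ⟨⟨_, hle 0, (H4.G168.pair_b hd 0).isKleinFour⟩, ⟨_, hle 1, (H4.G168.pair_b hd 1).isKleinFour⟩,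
    fun e => H4.G168.klein_ne hd (congrArg Subtype.val e), Set.eq_univ_of_forall fun U => ?_⟩
  rcases H4.G168.klein_cases hd U.2.2 U.2.1 with e | e
  · exact Or.inl (Subtype.ext e)
  · exact Or.inr (Subtype.ext e)

end Cfsg.Agent.S1007
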