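import Cfsg.Statements.S1008
import Mathlib
import Cfsg.Agent.Lib.H4.G168b

set_option autoImplicit false
open Cfsg

namespace Cfsg.Agent.S1008

/-- In a simple group of order 168 every maximal subgroup is either isomorphic to the symmetric group of degree 4 or non-abelian of order 21; the maximal subgroups of order 21 form one conjugacy class and those isomorphic to the symmetric group of degree 4 form exactly two conjugacy classes. -/
theorem result {G : Type*} [Group G] [Finite G] [IsSimpleGroup G] (h : Nat.card G = 168) : (∀ M : Subgroup G, IsCoatom M → Nonempty (↥M ≃* Equiv.Perm (Fin 4)) ∨ (Nat.card ↥M = 21 ∧ ¬ IsMulCommutative ↥M)) ∧ (∀ M M' : Subgroup G, IsCoatom M → IsCoatom M' → Nat.card ↥M = 21 → Nat.card ↥M' = 21 → ∃ g : G, M' = M.map (MulAut.conj g).toMonoidHom) ∧ ∃ M₁ M₂ : Subgroup G, IsCoatom M₁ ∧ IsCoatom M₂ ∧ Nonempty (↥M₁ ≃* Equiv.Perm (Fin 4)) ∧ Nonempty (↥M₂ ≃* Equiv.Perm (Fin 4)) ∧ (∀ g : G, M₂ ≠ M₁.map (MulAut.conj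 g).toMonoidHom) ∧ ∀ M : Subgroup G, IsCoatom M → Nonempty (↥M ≃* Equiv.Perm (Fin 4)) → ∃ g : G, M = M₁.map (MulAut.conj g).toMonoidHom ∨ M = M₂.map (MulAut.conj g).toMonoidHom := by
  haveI : Fact (Nat.Prime 7) := ⟨by norm_num⟩
  refine ⟨fun M hM => ?_, fun M M' hM hM' c c' => ?_, ?_⟩
  · rcases H4.G168.coatom_cases h hM with ⟨V, hV, rfl⟩ | ⟨P, rfl⟩
    · exact Or.inl (H4.G168.sym_four h (H4.G168.card_norm_klein h hV))
    · refine Or.inr ⟨H4.G168.card_norm_seven h P, fun hc => ?_⟩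
      refine H36.not_norm_le_cent (H4.G168.nc h) (by rw [h]; norm_num) P fun x hx y hy => ?_
      exact congrArg Subtype.val (hc.is_comm.comm ⟨y, Subgroup.le_normalizer hy⟩ ⟨x, hx⟩)
  · rcases H4.G168.coatom_cases h hM with ⟨V, hV, rfl⟩ | ⟨P, rfl⟩
    · rw [H4.G168.card_norm_klein h hV] at c; omega
    rcases H4.G168.coatom_cases h hM' with ⟨V, hV, rfl⟩ | ⟨Q, rfl⟩
    · rw [H4.G168.card_norm_klein h hV] at c'; omega
    obtain ⟨g, rfl⟩ := MulAction.exists_smul_eq G P Q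
    exact ⟨g, (H4.G168.norm_map (P : Subgroup G) g).symm⟩
  · obtain ⟨V₁, V₂, k1, k2, hn, hall⟩ := H4.G168.two_classes h
    refine ⟨_, _, H4.G168.isCoatom_norm h k1, H4.G168.isCoatom_norm h k2,
      H4.G168.sym_four h (H4.G168.card_norm_klein h k1),
      H4.G168.sym_four h (H4.G168.card_norm_klein h k2), fun g e => hn ⟨g, ?_⟩, fun M hM ⟨e⟩ => ?_⟩
    · rw [H4.G168.norm_map] at e
      exact H4.G168.eq_of_norm_eq h k2 (H4.G168.isKleinFour_map k1 g) e
    · rcases H4.G168.coatom_cases h hM with ⟨V, hV, rfl⟩ | ⟨P, rfl⟩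
      · rcases hall V hV with ⟨g, rfl⟩ | ⟨g, rfl⟩
        · exact ⟨g, Or.inl (H4.G168.norm_map _ g).symm⟩
        · exact ⟨g, Or.inr (H4.G168.norm_map _ g).symm⟩
      · have := Nat.card_congr e.toEquiv
        rw [H4.G168.card_norm_seven h P, Nat.card_perm, Nat.card_fin] at this
        simp [Nat.factorial] at this

end Cfsg.Agent.S1008
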