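import Cfsg.Statements.S1009
import Mathlib
import Cfsg.Agent.Lib.H4.SylRules

set_option autoImplicit false
open Cfsg

namespace Cfsg.Agent.S1009

/-- Brodkey's Theorem: if a finite group has abelian Sylow p-subgroups, then there are two Sylow p-subgroups whose intersection equals the intersection of all Sylow p-subgroups. -/
theorem result {G : Type*} [Group G] [Finite G] (p : ℕ) [Fact p.Prime] (hab : ∀ P : Sylow p G, IsMulCommutative ↥(P : Subgroup G)) : ∃ P Q : Sylow p G, (P : Subgroup G) ⊓ (Q : Subgroup G) = ⨅ R : Sylow p G, (R : Subgroup G) := by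
  classical
  obtain ⟨⟨P, Q⟩, -, hmin⟩ := Set.exists_min_image (Set.univ : Set (Sylow p G × Sylow p G))
    (fun a => Nat.card ↥((a.1 : Subgroup G) ⊓ a.2)) (Set.toFinite _) Set.univ_nonempty
  refine ⟨P, Q, le_antisymm (le_iInf fun R => ?_) (le_inf (iInf_le _ P) (iInf_le _ Q))⟩
  set D := (P : Subgroup G) ⊓ Q with hD
  set N := Subgroup.normalizer (D : Set G) with hN
  have hle : ∀ S : Sylow p G, D ≤ S → (S : Subgroup G) ≤ N := fun S hS =>
    haveI := hab S
    ((S : Subgroup G).le_centralizer.trans (Subgroup.centralizer_le hS)).trans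
      (Subgroup.centralizer_le_normalizer _)
  have hPN := hle P inf_le_left
  have hQN := hle Q inf_le_right
  obtain ⟨S, hS⟩ := (R.isPGroup'.comap_subtype (K := N)).exists_le_sylow
  obtain ⟨n, hn⟩ := MulAction.exists_smul_eq N S (P.subtype hPN)
  have h1 : (((n : G) • R : Sylow p G) : Subgroup G) ⊓ Q ≤ D := by
    rintro x ⟨hx, hxQ⟩
    refine ⟨?_, hxQ⟩
    have h2 : (⟨x, hQN hxQ⟩ : N) ∈ ((n • S : Sylow p N) : Subgroup N) := by
      obtain ⟨y, hy, rfl⟩ := hx
      have hyN : y ∈ N := by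
        have := N.mul_mem (N.mul_mem (N.inv_mem n.2) (hQN hxQ)) n.2
        simpa [mul_assoc] using this
      exact ⟨⟨y, hyN⟩, hS hy, rfl⟩
    rw [hn] at h2
    exact h2
  have h3 := Subgroup.eq_of_le_of_card_ge h1 (hmin ((n : G) • R, Q) (Set.mem_univ _))
  intro x hx
  have h4 : (n : G) * x * (n : G)⁻¹ ∈ D := (Subgroup.mem_normalizer_iff.1 n.2 x).1 hx
  rw [← h3] at h4
  obtain ⟨y, hy, e⟩ := h4.1
  have : y = x := by simpa using e
  exact this ▸ hy

end Cfsg.Agent.S1009
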