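import Mathlib
import Cfsg.Statements.S1132
import Cfsg.Agent.Lib.Suz.Field
import Cfsg.Agent.S1129

set_option autoImplicit false
open Cfsg

namespace Cfsg.Agent.S1132


/-- In the rank-one set-up (`G` finite and doubly transitive on `Ω`, `t` an involution moving `a`, `Q` normal in `G_a` with `G_a = Q D`, `Q ⊓ D = 1` for the two-point stabiliser `D = G_a ⊓ G_{t • a}`, `|Q|` even, `|D|` odd), with the action faithful and `G` containing two distinct commuting involutions: a Sylow 2-subgroup of `Q` is abelian or a Suzuki 2-group. -/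
theorem result {G Ω : Type*} [Group G] [Finite G] [MulAction G Ω] [FaithfulSMul G Ω] {a : Ω} {t : G} {Q : Subgroup G}
    (hS : Cfsg.IsRankOneSetup G Ω a t Q)
    (h2 : ∃ x y : G, x ≠ 1 ∧ y ≠ 1 ∧ x ≠ y ∧ x * x = 1 ∧ y * y = 1 ∧ x * y = y * x)
    (S : Sylow 2 ↥Q) : IsMulCommutative (S : Subgroup ↥Q) ∨ Cfsg.IsSuzukiTwoGroup ↥(S : Subgroup ↥Q) := by
  open H40.RankOne H26.Suz in
  haveI := Cfsg.Agent.S1129.result hS h2
  haveI : (S : Subgroup Q).Normal := S.normal_of_normalizerCondition Group.normalizerCondition_of_isNilpotent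
  haveI := S.characteristic_of_normal inferInstance
  by_cases hc : IsMulCommutative (S : Subgroup Q)
  · exact Or.inl hc
  have hI : ∀ {s : G} (hs : s ∈ H40.RankOne.II G a),
      (⟨s, H40.RankOne.II_subset_Q hS hs⟩ : Q) ∈ (S : Subgroup Q) := by
    intro s hs
    have h1 : IsPGroup 2 (Subgroup.zpowers (⟨s, H40.RankOne.II_subset_Q hS hs⟩ : Q)) := by
      refine IsPGroup.of_card (n := 1) ?_
      rw [Nat.card_zpowers, pow_one]
      exact orderOf_eq_prime (Subtype.ext (by simpa [pow_two] using hs.2.2))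
        (fun h => hs.2.1 (congrArg Subtype.val h))
    obtain ⟨T, hT⟩ := h1.exists_le_sylow
    haveI := Sylow.unique_of_normal S inferInstance
    rw [Subsingleton.elim S T]
    exact hT (Subgroup.mem_zpowers _)
  have hI' : ∀ x : (S : Subgroup Q), x ≠ 1 → x * x = 1 → ((x : Q) : G) ∈ H40.RankOne.II G a :=
    fun x h1 h2 => ⟨hS.le x.1.2, fun h => h1 (Subtype.ext (Subtype.ext h)),
      congrArg (fun y : (S : Subgroup Q) => ((y : Q) : G)) h2⟩
  let φ : H26.Suz.KS hS →* MulAut Q := Q.normalizerMonoidHom.comp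
    (Subgroup.inclusion (fun d hd => Subgroup.mem_normalizer_fintype
      (fun x hx => H40.RankOne.conjQ hS hd.1.1 hx)))
  let ψ : H26.Suz.KS hS →* MulAut (S : Subgroup Q) :=
    (MulAut.characteristic (S : Subgroup Q)).comp φ
  have hψ : ∀ (k : H26.Suz.KS hS) (x : (S : Subgroup Q)), ((ψ k x : Q) : G) = k * x * (k : G)⁻¹ :=
    fun _ _ => rfl
  haveI := H26.Suz.isCyclic_KS hS
  refine Or.inr ⟨inferInstance, S.2, ?_, ?_, ψ.range,
    isCyclic_of_surjective ψ.rangeRestrict ψ.rangeRestrict_surjective, fun x y hx1 hx hy1 hy => ?_⟩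
  · by_contra h
    push Not at h
    exact hc ⟨⟨h⟩⟩
  · obtain ⟨s, s', hs, hs', h⟩ := H40.RankOne.exists_two_II hS h2
    exact ⟨⟨_, hI hs⟩, ⟨_, hI hs'⟩, fun e => h (congrArg (fun y : (S : Subgroup Q) => ((y : Q) : G)) e),
      fun e => hs.2.1 (congrArg (fun y : (S : Subgroup Q) => ((y : Q) : G)) e),
      Subtype.ext (Subtype.ext hs.2.2),
      fun e => hs'.2.1 (congrArg (fun y : (S : Subgroup Q) => ((y : Q) : G)) e),
      Subtype.ext (Subtype.ext hs'.2.2)⟩
  · obtain ⟨k, hk, e⟩ := H40.RankOne.exists_K_conj hS (hI' x hx1 hx) (hI' y hy1 hy)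
    refine ⟨⟨ψ ⟨k, hk⟩⁻¹, _, rfl⟩, Subtype.ext (Subtype.ext (by rw [hψ, ← e]; simp)), ?_⟩
    rintro ⟨_, k', rfl⟩ h
    have h1 : (k' : G) * x * (k' : G)⁻¹ = y := by rw [← hψ]; exact congrArg (fun y : (S : Subgroup Q) => ((y : Q) : G)) h
    have h3 : (k' : G)⁻¹ = k := H40.RankOne.K_inj hS (hI' x hx1 hx) (k'⁻¹).2 hk (by rw [inv_inv, h1, e])
    refine Subtype.ext (congrArg ψ (Subtype.ext ?_))
    simp [← h3]

end Cfsg.Agent.S1132
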