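import Mathlib
import Cfsg.Statements.S1149
import Cfsg.Agent.Lib.ReeT.Main
-- import your own Cfsg.Agent.* helpers here

set_option autoImplicit false
open Cfsg

namespace Cfsg.Agent.S1149

/-- Let `G` be finite simple with a (B,N)-pair of rank 1, `B = U H`, `U` nilpotent normal in `B`, `H = B ⊓ N`, `U ⊓ H = 1`, with `n` odd, `[G : B] = 3^(3n) + 1`, `|U| = 3^(3n)`, `H` cyclic of order `3^n - 1`, every non-identity element of `H` of odd order centralising no non-identity element of `U`, some involution of `H` having centraliser isomorphic to `Z₂ × PSL₂(3^n)`, and Sylow 2-subgroups elementary abelian of order 8. Then `G` is a small Ree group `²G₂(3^n)`. -/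
theorem result {G : Type*} [Group G] [Finite G] [IsSimpleGroup G]
    (P : Cfsg.BNPair G) (h1 : P.rank = 1) {n : ℕ} (hn : Odd n)
    (U : Subgroup G) (hUB : U ≤ P.B) (hUn : ∀ b ∈ P.B, ∀ u ∈ U, b * u * b⁻¹ ∈ U)
    (hUnil : Group.IsNilpotent U) (hsplit : U ⊔ (P.B ⊓ P.N) = P.B) (hdisj : U ⊓ (P.B ⊓ P.N) = ⊥)
    (hind : P.B.index = 3 ^ (3 * n) + 1) (hU : Nat.card U = 3 ^ (3 * n)) (hHc : IsCyclic ↥(P.B ⊓ P.N)) (hH : Nat.card ↥(P.B ⊓ P.N) = 3 ^ n - 1)
    (hfpf : ∀ h ∈ P.B ⊓ P.N, h ≠ 1 → Odd (orderOf h) → U ⊓ Subgroup.centralizer {h} = ⊥)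
    (K : Type*) [Field K] [Fintype K] (hK : Fintype.card K = 3 ^ n)
    (hinv : ∃ a ∈ P.B ⊓ P.N, a ≠ 1 ∧ a * a = 1 ∧
      Nonempty (↥(Subgroup.centralizer {a}) ≃* Multiplicative (ZMod 2) × Matrix.ProjectiveSpecialLinearGroup (Fin 2) K))
    (hsyl : ∀ S : Sylow 2 G, Nat.card S = 8 ∧ ∀ x ∈ S, x * x = 1) : Cfsg.Lie.IsoRee G := by
  obtain ⟨a, -, ha1, ha2, hC⟩ := hinv
  have hab : ∀ S : Sylow 2 G, ∀ x y : S, x * y = y * x := by
    intro S x y
    have h := (hsyl S).2
    have e1 := h _ x.2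
    have e2 := h _ y.2
    have e3 := h _ (S.1.mul_mem x.2 y.2)
    apply Subtype.ext
    show (x : G) * y = y * x
    calc (x : G) * y = x * (x * y * (x * y)) * y * (y * y) * ((x : G) * x) * 1 := by
          rw [e1, e2, e3]; group
      _ = (x * x) * y * x * (y * y) * (y * y) * ((x : G) * x) := by group
      _ = y * x := by rw [e1, e2]; group
  have h3 : 3 ≤ Fintype.card K := by
    rw [hK]
    exact le_trans (by norm_num) (Nat.pow_le_pow_right (by norm_num) hn.pos)
  have hodd : Odd (Fintype.card K) := by rw [hK]; exact Odd.pow (by decide)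
  have h5 : Fintype.card K ≠ 5 := by
    intro h
    have : 3 ∣ Fintype.card K := by rw [hK]; exact dvd_pow_self 3 hn.pos.ne'
    omega
  rcases H2.JR.reduce hab h3 a (orderOf_eq_prime (by rw [pow_two]; exact ha2) ha1) hC with
    ⟨p, r, s, h⟩ | ⟨h, -⟩
  · obtain rfl := h.three
    exact H2.RT.isoRee h
  · rcases h with h | h
    · rw [h] at hodd; exact absurd hodd (by decide)
    · exact absurd h h5

end Cfsg.Agent.S1149
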