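import Cfsg.Statements.S1156
import Mathlib
import Cfsg.Agent.Lib.Ree.TorusM

set_option autoImplicit false
open Cfsg

namespace Cfsg.Agent.S1156

/-- In the small Ree group ²G₂(q), q = 3^(2m+1) with m ≥ 1, realised as G¹ inside the Chevalley group G₂ over the field with q elements (θ the 3^m-th power map): for every prime `p > 3` the Sylow `p`-subgroups of `G¹` are cyclic. -/
theorem result {K : Type*} [Field K] [Fintype K] {m : ℕ} (hm : 1 ≤ m) (hK : Fintype.card K = 3 ^ (2 * m + 1))
    {p : ℕ} [Fact p.Prime] (hp : 3 < p) (P : Sylow p ↥(Cfsg.Lie.twistedG2 K (3 ^ m))) : IsCyclic (P : Subgroup ↥(Cfsg.Lie.twistedG2 K (3 ^ m))) := by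
  have := H40.Ree.charP_three hK
  set S := H40.Ree.lieModel hK
  have hp' : p.Prime := Fact.out
  by_cases hd : p ∣ Nat.card ↥(Cfsg.Lie.twistedG2 K (3 ^ m))
  · rcases S.prime_cases hp' hd with h | h | h | h | h
    · omega
    · omega
    · exact S.isTor_H.isCyclic_of_isPGroup h P.isPGroup'
    · exact S.isTor_T0.isCyclic_of_isPGroup h P.isPGroup'
    · obtain ⟨T, hT, h1, -⟩ := S.exists_torM hp' h
      exact hT.isCyclic_of_isPGroup h1 P.isPGroup'
  · obtain ⟨n, hn⟩ := P.isPGroup'.exists_card_eq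
    rcases n with _ | n
    · rw [Subgroup.eq_bot_of_card_eq _ hn]; infer_instance
    · exact absurd ((dvd_pow_self p n.succ_ne_zero).trans (hn ▸ Subgroup.card_subgroup_dvd_card _)) hd

end Cfsg.Agent.S1156
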