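import Cfsg.Statements.S1158
import Mathlib
import Cfsg.Agent.Lib.Ree.TorusM

set_option autoImplicit false
open Cfsg

namespace Cfsg.Agent.S1158

/-- In the small Ree group ²G₂(q), q = 3^(2m+1) with m ≥ 1, realised as G¹ inside the Chevalley group G₂ over the field with q elements (θ the 3^m-th power map), with `r = 3^(m+1)` (so `r² = 3q`): for each `k ∈ {(q-1)/2, (q+1)/4, q - r + 1, q + r + 1}` there is a cyclic subgroup `A` of order `k` whose normaliser has order `2(q-1)`, `6(q+1)`, `6(q-r+1)`, `6(q+r+1)` respectively, and `N(A₀) = N(A)` for every non-trivial `A₀ ≤ A`. -/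
theorem result {K : Type*} [Field K] [Fintype K] {m : ℕ} (hm : 1 ≤ m) (hK : Fintype.card K = 3 ^ (2 * m + 1)) :
    ∀ kn ∈ ({((3 ^ (2 * m + 1) - 1) / 2, 2 * (3 ^ (2 * m + 1) - 1)), ((3 ^ (2 * m + 1) + 1) / 4, 6 * (3 ^ (2 * m + 1) + 1)),
        (3 ^ (2 * m + 1) - 3 ^ (m + 1) + 1, 6 * (3 ^ (2 * m + 1) - 3 ^ (m + 1) + 1)),
        (3 ^ (2 * m + 1) + 3 ^ (m + 1) + 1, 6 * (3 ^ (2 * m + 1) + 3 ^ (m + 1) + 1))} : Set (ℕ × ℕ)),
      ∃ A : Subgroup ↥(Cfsg.Lie.twistedG2 K (3 ^ m)), IsCyclic A ∧ Nat.card A = kn.1 ∧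
        Nat.card (Subgroup.normalizer (A : Set ↥(Cfsg.Lie.twistedG2 K (3 ^ m)))) = kn.2 ∧
        ∀ A₀ : Subgroup ↥(Cfsg.Lie.twistedG2 K (3 ^ m)), A₀ ≤ A → A₀ ≠ ⊥ →
          Subgroup.normalizer (A₀ : Set ↥(Cfsg.Lie.twistedG2 K (3 ^ m))) = Subgroup.normalizer (A : Set ↥(Cfsg.Lie.twistedG2 K (3 ^ m))) := by
  have := H40.Ree.charP_three hK
  have hq := H40.Ree.three_lt_card hm hK
  have hr := H40.Ree.r_mul_r m
  rw [← H40.Ree.natCard_eq hK] at hr ⊢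
  set S := H40.Ree.lieModel hK
  have h8 := S.card_mod_eight
  have key : ∀ (T A : Subgroup ↥(Cfsg.Lie.twistedG2 K (3 ^ m))) (k n : ℕ), H40.Tor.IsTor T A →
      Nat.card A = k → 1 < k →
      Nat.card (Subgroup.normalizer (T : Set ↥(Cfsg.Lie.twistedG2 K (3 ^ m)))) = n →
      ∃ A : Subgroup ↥(Cfsg.Lie.twistedG2 K (3 ^ m)), IsCyclic A ∧ Nat.card A = k ∧
        Nat.card (Subgroup.normalizer (A : Set ↥(Cfsg.Lie.twistedG2 K (3 ^ m)))) = n ∧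
        ∀ A₀ : Subgroup ↥(Cfsg.Lie.twistedG2 K (3 ^ m)), A₀ ≤ A → A₀ ≠ ⊥ →
          Subgroup.normalizer (A₀ : Set ↥(Cfsg.Lie.twistedG2 K (3 ^ m))) =
            Subgroup.normalizer (A : Set ↥(Cfsg.Lie.twistedG2 K (3 ^ m))) := by
    intro T A k n h hk h1 hn
    have h2 := h.normalizer_eq le_rfl (by intro e; rw [e, Subgroup.card_bot] at hk; omega)
    exact ⟨A, h.cyc, hk, by rw [h2, hn], fun A₀ a b => by rw [h2, h.normalizer_eq a b]⟩
  have l : 3 ^ (m + 1) < Nat.card K := by nlinarith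
  rintro _ (rfl | rfl | rfl | rfl)
  · exact key _ _ _ _ S.isTor_H S.card_H0 (by omega) (S.card_normalizer_H hq)
  · exact key _ _ _ _ S.isTor_T0 S.card_A0 (by omega) (S.card_normalizer_T0 hq)
  · obtain ⟨T, h1, h2, h3⟩ := S.exists_tor_pm hq hr (Or.inl rfl)
    exact key _ _ _ _ h1 h2 (by omega) h3
  · obtain ⟨T, h1, h2, h3⟩ := S.exists_tor_pm hq hr (Or.inr rfl)
    exact key _ _ _ _ h1 h2 (Nat.succ_lt_succ (Nat.add_pos_left Nat.card_pos _)) h3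

end Cfsg.Agent.S1158
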