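import Cfsg.Statements.S1167
import Cfsg.Agent.Lib.Suz.Zass
import Cfsg.Agent.S0885

set_option autoImplicit false
open Cfsg

namespace Cfsg.Agent.S1167

/-- Let `G` be a finite simple Zassenhaus group on `Ω`, `U` a normal subgroup of `G_a` regular on `Ω` minus `a` which is an abelian 2-group, and `v` an involution with `v • a ≠ a`. Then there is a unique `u₀ ∈ U`, `u₀ ≠ 1`, with `v u₀ v = u₀ v u₀`. -/
theorem result {G Ω : Type*} [Group G] [Finite G] [MulAction G Ω] [Finite Ω]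
    (hZ : Cfsg.IsZassenhausGroup G Ω) [IsSimpleGroup G] {a : Ω}
    (U : Subgroup G) (hUle : U ≤ MulAction.stabilizer G a)
    (hUn : ∀ h ∈ MulAction.stabilizer G a, ∀ u ∈ U, h * u * h⁻¹ ∈ U)
    (hreg : ∀ c d : Ω, c ≠ a → d ≠ a → ∃! u : U, (u : G) • c = d)
    (hU2 : IsPGroup 2 U) (hUab : ∀ u ∈ U, ∀ u' ∈ U, u * u' = u' * u)
    (v : G) (hv1 : v ≠ 1) (hv2 : v * v = 1) (hva : v • a ≠ a) :
    ∃! u₀ : G, u₀ ∈ U ∧ u₀ ≠ 1 ∧ v * u₀ * v = u₀ * v * u₀ := by
  have h := H13.Zass.pre_of hZ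
  have hK := H13.Zass.isKer_of_regular hUle hUn hreg
  have hS := H13.Suz.setup_of_zass h hK hU2 hv1 hv2 hva
  have hD := H13.Suz.card_DD hS (H13.Suz.VV_eq_bot h hS)
  letI := Fintype.ofFinite Ω
  have hc := hK.card_add_one hva
  rw [Nat.card_eq_fintype_card (α := Ω)] at hc
  have hel : ∀ x ∈ U, x * x = 1 := by
    rcases Cfsg.Agent.S0885.result hZ hva.symm (Nat.card U) _ hc.symm rfl hS.odd_card U hUle hc hK.fix with
      h1 | ⟨-, ⟨x, y, e⟩, -⟩
    · obtain ⟨k, hk⟩ := Subgroup.card_dvd_of_le (H13.Suz.Q0_le U)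
      have h0 : 0 < Nat.card U := Nat.card_pos
      have hk1 : k = 1 := by
        change Nat.card U - 1 ≤ 2 * Nat.card (H40.RankOne.DD G a v) at h1
        rw [← hD] at hk
        rcases k with _ | _ | k
        · omega
        · rfl
        · exfalso
          nlinarith [Nat.sub_add_cancel h0]
      rw [hk1, mul_one] at hk
      exact fun x hx => ((H13.Suz.mem_Q0 hS).1
        ((Subgroup.eq_of_le_of_card_ge (H13.Suz.Q0_le U) hk.le).ge hx)).2
    · exact absurd (Subtype.ext (hUab x x.2 y y.2)) e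
  obtain ⟨u, hu, hu1, e⟩ := H13.Suz.O3_of_elementary hS hel
  refine ⟨u, ⟨hu, hu1, e⟩, fun u' ⟨hu', hu1', e'⟩ => ?_⟩
  exact (H40.RankOne.structure_unique hS ⟨hUle hu', hu1', hel _ hu'⟩ hu'
    (by rw [inv_eq_of_mul_eq_one_right (hel _ hu')]; exact e') ⟨hUle hu, hu1, hel _ hu⟩ hu
    (by rw [inv_eq_of_mul_eq_one_right (hel _ hu)]; exact e)).1

end Cfsg.Agent.S1167
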