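import Cfsg.Statements.S1223
import Cfsg.Agent.Lib.BSE14.Cor

set_option autoImplicit false
open Cfsg

namespace Cfsg.Agent.S1223

/-- Let H be a strongly embedded subgroup of the finite group G containing no nontrivial normal subgroup of G (so G acts faithfully on the cosets of H), u an involution of G outside H, and j ≠ 1 an element of H ∩ uHu⁻¹ with u j u⁻¹ = j⁻¹. Then C_G(j) has odd order. -/
theorem result {G : Type*} [Group G] [Finite G] (H : Subgroup G) (hH : Cfsg.IsStronglyEmbedded H) (hcore : H.normalCore = ⊥) (u : G) (hu : orderOf u = 2) (huH : u ∉ H) (j : G) (hj : j ∈ (H ⊓ H.map (MulAut.conj u).toMonoidHom)) (hj1 : j ≠ 1) (hinv : u * j * u⁻¹ = j⁻¹) : Odd (Nat.card (Subgroup.centralizer ({j} : Set G))) := by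
  obtain ⟨hu1, hu2⟩ := H14.BSE.of_orderOf_two hu
  have hodd : Odd (orderOf j) := (hH.2.2 u huH).of_dvd_nat (Subgroup.orderOf_dvd_natCard _ hj)
  have hjj : j * j ≠ 1 := fun e => hj1 (H42.eq_one_of_odd_of_mul_self hodd e)
  have hui : u⁻¹ = u := inv_eq_of_mul_eq_one_right hu2
  by_cases h2 : H13.Suz.Rank2 G
  · obtain ⟨Q, hS⟩ := H14.BSE.setup_of_core hH hcore h2 hu2 huH
    have e : j * u * u = j := by rw [mul_assoc, hu2, mul_one]
    have := H40.RankOne.odd_card_centralizer hS (u := j * u) (v := u)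
      (fun e1 => huH (by rw [← hui, ← eq_inv_of_mul_eq_one_left e1]; exact hj.1))
      (by calc j * u * (j * u) = j * (u * j * u⁻¹) := by rw [hui]; group
          _ = 1 := by rw [hinv, mul_inv_cancel]) hu1 hu2 (by rwa [e])
    rwa [e] at this
  · by_contra hev
    haveI : Fact (Nat.Prime 2) := ⟨Nat.prime_two⟩
    obtain ⟨z, hz⟩ := exists_prime_orderOf_dvd_card' 2 (even_iff_two_dvd.mp (Nat.not_odd_iff_even.mp hev))
    have hz' : orderOf (z : G)⁻¹ = 2 := by rw [orderOf_inv, Subgroup.orderOf_coe, hz]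
    obtain ⟨g, hg⟩ := isConj_iff.mp (H42.SE.isConj hH (by rwa [orderOf_inv] : orderOf u⁻¹ = 2) hz')
    have h3 := (H14.BSE.rankOne_of_not_rank2 h2).commutator_mem hu g
    have h4 : u * g * u⁻¹ * g⁻¹ = u * (z : G)⁻¹ := by rw [← hg]; group
    rw [h4] at h3
    refine hjj (H42.mul_self_eq_one_of_odd_inverts
      (H1.odd_card_oddCore.of_dvd_nat (Subgroup.orderOf_dvd_natCard _ h3)) ?_)
    have h5 : (z : G) * j = j * z := Subgroup.mem_centralizer_singleton_iff.mp z.2
    calc u * (z : G)⁻¹ * j * (u * (z : G)⁻¹)⁻¹ = u * ((z : G)⁻¹ * (j * z)) * u⁻¹ := by group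
      _ = j⁻¹ := by rw [← h5, inv_mul_cancel_left, hinv]

end Cfsg.Agent.S1223
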