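import Mathlib
import Cfsg.Statements.S1249
import Cfsg.Agent.Lib.LocEven.Basic

set_option autoImplicit false
open Cfsg

namespace Cfsg.Agent.S1249

open Subgroup H68

/-- Let P and Q be Sylow p-subgroups of the finite group G both containing the subgroup A. If A is strongly closed in P, then A is strongly closed in Q. -/
theorem result {G : Type*} [Group G] [Finite G] {p : ℕ} [Fact p.Prime] (P Q : Sylow p G) (A : Subgroup G) (hAQ : A ≤ Q) (hA : Cfsg.IsStronglyClosed A (P : Subgroup G)) : Cfsg.IsStronglyClosed A (Q : Subgroup G) := by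
  refine ⟨hAQ, fun x hx g hg => ?_⟩
  obtain ⟨y, -, hy⟩ := (sylowIn_top Q).exists_cj_eq (sylowIn_top P)
  have h1 : cj y A ≤ A := by
    rw [cj_le_iff']
    intro a ha
    apply hA.2 a ha
    rw [← hy]
    exact conj_mem_cj.mpr (hAQ ha)
  have hn := mem_normalizer_of_cj_le h1
  have h2 : (y * g) * x * (y * g)⁻¹ ∈ A := by
    apply hA.2 x hx
    rw [← hy]
    have := conj_mem_cj (g := y).mpr hg
    convert this using 1
    group
  have := conj_mem_of_mem_normalizer' hn h2
  convert this using 1
  group

end Cfsg.Agent.S1249
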