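import Mathlib
import Cfsg.Statements.S1250
import Cfsg.Agent.Lib.LocEven.Basic

set_option autoImplicit false
open Cfsg

namespace Cfsg.Agent.S1250

open Subgroup H68

/-- Let S be a Sylow p-subgroup of the finite group G, A ≤ S strongly closed in S, and N a normal subgroup. Then the image of A in G ⧸ N is strongly closed in the image of S (which is a Sylow p-subgroup of G ⧸ N). -/
theorem result {G : Type*} [Group G] [Finite G] {p : ℕ} [Fact p.Prime] (S : Sylow p G) (A : Subgroup G) (hA : Cfsg.IsStronglyClosed A (S : Subgroup G)) (N : Subgroup G) [N.Normal] : Cfsg.IsStronglyClosed (A.map (QuotientGroup.mk' N)) ((S : Subgroup G).map (QuotientGroup.mk' N)) := by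
  refine ⟨map_mono hA.1, ?_⟩
  rintro _ ⟨a, ha, rfl⟩ g hg
  obtain ⟨g, rfl⟩ := QuotientGroup.mk'_surjective N g
  set e := g * a * g⁻¹ with he
  have hg' : QuotientGroup.mk' N e ∈ (S : Subgroup G).map (QuotientGroup.mk' N) := by
    simpa [he] using hg
  have hmem : e ∈ (S : Subgroup G) ⊔ N := by
    have : e ∈ ((S : Subgroup G).map (QuotientGroup.mk' N)).comap (QuotientGroup.mk' N) := hg'
    rwa [comap_map_eq, QuotientGroup.ker_mk'] at this
  obtain ⟨k, hk⟩ := S.isPGroup' ⟨a, hA.1 ha⟩
  have hk' : a ^ p ^ k = 1 := by simpa using congrArg Subtype.val hk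
  have hep : IsPGroup p (zpowers e) := isPGroup_zpowers (k := k) (by rw [he, conj_pow, hk']; simp)
  obtain ⟨y, hy, hle⟩ := (sylowIn_of_le S (le_sup_left : (S : Subgroup G) ≤ (S : Subgroup G) ⊔ N)).exists_cj_le hep
    (zpowers_le.mpr hmem)
  have hyS : y * e * y⁻¹ ∈ (S : Subgroup G) := hle (conj_mem_cj.mpr (mem_zpowers e))
  obtain ⟨s, hs, n, hn, rfl⟩ := (mem_sup_of_le_normalizer (H := (S : Subgroup G)) (N := N)
    (by rw [normalizer_eq_top]; exact le_top)).mp hy
  have h1 : n * e * n⁻¹ ∈ (S : Subgroup G) := by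
    have := S.1.mul_mem (S.1.mul_mem (S.1.inv_mem hs) hyS) hs
    convert this using 1
    group
  have h2 : (n * g) * a * (n * g)⁻¹ ∈ A := by
    apply hA.2 a ha
    convert h1 using 1
    rw [he]; group
  refine ⟨_, h2, ?_⟩
  have hn1 : (QuotientGroup.mk' N n) = 1 := (QuotientGroup.eq_one_iff n).mpr hn
  simp only [map_mul, map_inv, hn1, one_mul]

end Cfsg.Agent.S1250
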