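import Mathlib
import Cfsg.Statements.S1251
import Cfsg.Agent.Lib.ZStar.WClosed

set_option autoImplicit false
open Cfsg

namespace Cfsg.Agent.S1251

/-- Let S be a Sylow 2-subgroup of the finite group G and A ≤ S strongly closed in S. If H is a subgroup normalized by A with no nontrivial normal subgroup of odd order and A ∩ H = 1, then A ≤ C_G(H). -/
theorem result {G : Type*} [Group G] [Finite G] (S : Sylow 2 G) (A : Subgroup G) (hA : Cfsg.IsStronglyClosed A (S : Subgroup G)) (H : Subgroup G) (hAH : A ≤ Subgroup.normalizer (H : Set G)) (hO : Cfsg.oddCore ↥H = ⊥) (hdisj : A ⊓ H = ⊥) : A ≤ Subgroup.centralizer (H : Set G) := by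
  intro a ha
  have hAp : IsPGroup 2 A := S.isPGroup'.to_le hA.1
  have hae := H35.isPElt_of_mem hAp ha
  set X := H ⊔ Subgroup.zpowers a with hX
  have haX : a ∈ X := Subgroup.mem_sup_right (Subgroup.mem_zpowers a)
  have hXY : X ≤ H ⊔ A := sup_le_sup_left (Subgroup.zpowers_le.2 ha) H
  have hN : H ⊔ A ≤ Subgroup.normalizer (H : Set G) := sup_le Subgroup.le_normalizer hAH
  have hdec : ∀ x ∈ X, ∃ h ∈ H, ∃ n : ℤ, x = h * a ^ n := fun x hx => by
    have h1 : x ∈ ((H ⊔ Subgroup.zpowers a : Subgroup G) : Set G) := hx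
    rw [Subgroup.coe_mul_of_right_le_normalizer_left _ _
      ((Subgroup.zpowers_le.2 ha).trans hAH)] at h1
    obtain ⟨h, hh, _, ⟨n, rfl⟩, rfl⟩ := h1
    exact ⟨h, hh, n, rfl⟩
  have hw : H34.WClosed 2 (⟨a, haX⟩ : X) := by
    intro Q hQ haQ x hx
    obtain ⟨S', w, hw, h1, h2⟩ := H4.exists_conj_le_common_sylow hAp le_sup_right
      (hQ.map X.subtype) ((Subgroup.map_subtype_le Q).trans hXY)
    obtain ⟨k, rfl⟩ := MulAction.exists_smul_eq G S S'
    have hk : ∀ b ∈ A, k⁻¹ * b * k ∈ A := fun b hb => by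
      simpa using hA.2 b hb k⁻¹ (by rw [inv_inv]; exact H4.mem_smul_sylow_iff.1 (h1 hb))
    have hk' : k⁻¹ ∈ Subgroup.normalizer (A : Set G) :=
      Subgroup.mem_normalizer_fintype (by simpa using hk)
    have hsc : ∀ g : G, g * a * g⁻¹ ∈ k • S → g * a * g⁻¹ ∈ A := fun g hg => by
      have h3 := hA.2 a ha (k⁻¹ * g) (by
        have := H4.mem_smul_sylow_iff.1 hg
        rwa [show k⁻¹ * (g * a * g⁻¹) * k = k⁻¹ * g * a * (k⁻¹ * g)⁻¹ by group] at this)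
      refine (Subgroup.mem_set_normalizer_iff.1 hk' _).2 ?_
      rwa [show k⁻¹ * (g * a * g⁻¹) * k⁻¹⁻¹ = k⁻¹ * g * a * (k⁻¹ * g)⁻¹ by group]
    have h3 := hsc w (h2 a ⟨_, haQ, rfl⟩)
    have h4 := hsc (w * x) (by
      have := h2 _ ⟨_, hx, rfl⟩
      rwa [show w * (X.subtype (x * ⟨a, haX⟩ * x⁻¹)) * w⁻¹ = w * x * a * (w * x)⁻¹ by
        simp [mul_assoc]] at this)
    obtain ⟨h, hh, n, hxe⟩ := hdec x x.2
    have h5 : w * x * a * (w * x)⁻¹ * (w * a * w⁻¹)⁻¹ ∈ A ⊓ H := by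
      refine Subgroup.mem_inf.2 ⟨mul_mem h4 (inv_mem h3), ?_⟩
      rw [show w * x * a * (w * x)⁻¹ * (w * a * w⁻¹)⁻¹ = w * (h * (a * h⁻¹ * a⁻¹)) * w⁻¹ by
        rw [hxe]; group]
      exact (Subgroup.mem_set_normalizer_iff.1 (hN hw) _).1
        (mul_mem hh ((Subgroup.mem_set_normalizer_iff.1 (hAH ha) _).1 (inv_mem hh)))
    rw [hdisj, Subgroup.mem_bot, mul_inv_eq_one] at h5
    refine Subtype.ext ?_
    have h6 : w * (x * a * (x : G)⁻¹) * w⁻¹ = w * a * w⁻¹ := by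
      rw [← h5]
      group
    simpa using h6
  refine Subgroup.mem_centralizer_iff.2 fun h hh => ?_
  have h1 := H34.zstar_wclosed (x := (⟨a, haX⟩ : X)) ((H35.isPElt_coe _).1 hae) hw
    ⟨h, Subgroup.mem_sup_left hh⟩
  have h2 : a * h * a⁻¹ * h⁻¹ ∈ H :=
    mul_mem ((Subgroup.mem_set_normalizer_iff.1 (hAH ha) _).1 hh) (inv_mem hh)
  have h3 := H1.pPrimeCore_subgroupOf_le (p := 2) (H.subgroupOf X)
    (x := ⟨_, show (⟨a, haX⟩ * ⟨h, Subgroup.mem_sup_left hh⟩ * (⟨a, haX⟩ : X)⁻¹ *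
      (⟨h, Subgroup.mem_sup_left hh⟩ : X)⁻¹ : X) ∈ H.subgroupOf X from h2⟩) h1
  rw [← H1.comap_pPrimeCore_equiv (Subgroup.subgroupOfEquivOfLe (le_sup_left : H ≤ X)),
    show pPrimeCore 2 H = ⊥ from hO, Subgroup.mem_comap, Subgroup.mem_bot] at h3
  have h4 : a * h * a⁻¹ * h⁻¹ = 1 := congrArg Subtype.val h3
  rw [mul_inv_eq_one, mul_inv_eq_iff_eq_mul] at h4
  exact h4.symm

end Cfsg.Agent.S1251
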