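import Cfsg.Statements.S1292
import Mathlib
import Cfsg.Agent.Lib.PComp.Balance
import Cfsg.Agent.Lib.PGroup.Basic

set_option autoImplicit false
open Cfsg

namespace Cfsg.Agent.S1292

/-- Let G be a finite group such that F*(C_G(t)) = O_2(C_G(t)) for every involution t. Then F*(N_G(T)) = O_2(N_G(T)) for every nontrivial 2-subgroup T of G. -/
theorem result {G : Type*} [Group G] [Finite G] (h : ∀ t : G, orderOf t = 2 → Cfsg.generalizedFittingSubgroup ↥(Subgroup.centralizer ({t} : Set G)) = Cfsg.pCore 2 ↥(Subgroup.centralizer ({t} : Set G))) (T : Subgroup G) (hT : IsPGroup 2 ↥T) (hT1 : T ≠ ⊥) : Cfsg.generalizedFittingSubgroup ↥(Subgroup.normalizer (T : Set G)) = Cfsg.pCore 2 ↥(Subgroup.normalizer (T : Set G)) := by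
  have : Fact (Nat.Prime 2) := ⟨Nat.prime_two⟩
  obtain ⟨t, -, ht, ht2⟩ := H5.exists_mem_center_orderOf_eq hT ⊤ (by
    have : Nontrivial T := (Subgroup.nontrivial_iff_ne_bot T).mpr hT1
    exact top_ne_bot)
  have hTH : T ≤ Subgroup.centralizer ({(t : G)} : Set G) := fun x hx =>
    Subgroup.mem_centralizer_singleton_iff.mpr
      (congrArg Subtype.val (Subgroup.mem_center_iff.mp ht ⟨x, hx⟩))
  have hCH : Subgroup.centralizer (T : Set G) ≤ Subgroup.centralizer ({(t : G)} : Set G) :=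
    Subgroup.centralizer_le (by simp)
  obtain ⟨h1, h2⟩ := H44.centralizer_eq_bot_of_charP
    (H23.fStar_eq_pCore_iff.mp (h t (by simpa using ht2))) (H68.isPGroup_subgroupOf hT _)
  rw [H44.centralizer_subgroupOf hTH] at h1 h2
  rw [H44.fStar_eq_pCore_iff', H44.pLayerOf_normalizer hT, H44.coreOf_normalizer hT,
    ← H44.pLayerOf_subgroupOf_map hCH, ← H44.coreOf_subgroupOf_map hCH, h1, h2, Subgroup.map_bot]
  exact ⟨rfl, rfl⟩

end Cfsg.Agent.S1292
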