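import Cfsg.Statements.S1294
import Mathlib
import Cfsg.Agent.Lib.CompW.Key

set_option autoImplicit false
open Cfsg

namespace Cfsg.Agent.S1294

/-- Let G be finite with O_{p'}(G) = 1 and p-rank at least 3, whose reduced rank-2 commuting graph for p is connected. Let θ assign to every element a of order p with m_p(C_G(a)) ≥ 3 a solvable subgroup θ a ≤ C_G(a) of order prime to p, so that θ (g a g⁻¹) = g (θ a) g⁻¹ for all g and θ a ∩ C_G(b) ≤ θ b for commuting such a, b. Then θ a = 1 for every such a. -/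
theorem result {G : Type*} [Group G] [Finite G] (p : ℕ) [Fact p.Prime] (hO : Cfsg.pPrimeCore p G = ⊥) (hrk : ¬ Cfsg.PRankLE p 2 G) (hconn : Cfsg.IsRankGraphConnected p 2 G) (θ : G → Subgroup G) (hC : ∀ a : G, (orderOf a = p ∧ ¬ Cfsg.PRankLE p 2 ↥(Subgroup.centralizer ({a} : Set G))) → θ a ≤ Subgroup.centralizer ({a} : Set G) ∧ ¬ p ∣ Nat.card ↥(θ a) ∧ Group.IsSolvable ↥(θ a)) (heq : ∀ a g : G, (orderOf a = p ∧ ¬ Cfsg.PRankLE p 2 ↥(Subgroup.centralizer ({a} : Set G))) → θ (g * a * g⁻¹) = (θ a).map (MulAut.conj g).toMonoidHom) (hbal : ∀ a b : G, (orderOf a = p ∧ ¬ Cfsg.PRankLE p 2 ↥(Subgroup.centralizer ({a} : Set G))) → (orderOf b = p ∧ ¬ Cfsg.PRankLE p 2 ↥(Subgroup.centralizer ({b} : Set G))) → a * b = b * a → θ a ⊓ Subgroup.centralizer {b} ≤ θ b) (a : G) (ha : (orderOf a = p ∧ ¬ Cfsg.PRankLE p 2 ↥(Subgroup.centralizer ({a} : Set G)))) : θ a = ⊥ := by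

  have good : ∀ A : Subgroup G, IsElementaryAbelian p A → p ^ 3 ≤ Nat.card A → ∀ x ∈ A, x ≠ 1 →
      orderOf x = p ∧ ¬ Cfsg.PRankLE p 2 ↥(Subgroup.centralizer ({x} : Set G)) := by
    intro A hA h3 x hx h1
    exact ⟨H43.ea_orderOf hA hx h1,
      H3.CW.not_pRankLE_of_eak ⟨hA, h3⟩ (H43.ea_le_centralizer_singleton hA hx)⟩
  have hθ : H3.CW.GSF p θ := by
    refine ⟨H3.CW.sft p G, ?_, ?_⟩
    · intro A hA h3
      refine H43.sf_mk (fun x hx h1 => (hC x (good A hA h3 x hx h1)).1)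
        (fun x hx h1 => (hC x (good A hA h3 x hx h1)).2.1) ?_ ?_
        (fun x hx h1 => (hC x (good A hA h3 x hx h1)).2.2)
      · intro x hx h1 y hy
        rw [H68.mem_normalizer_iff_cj]
        have h2 := heq x y (good A hA h3 x hx h1)
        have h4 : y * x * y⁻¹ = x := by rw [H43.ea_comm hA hy hx]; group
        rw [h4] at h2
        exact h2.symm
      · intro x hx h1 y hy h2
        exact hbal x y (good A hA h3 x hx h1) (good A hA h3 y hy h2) (H43.ea_comm hA hx hy)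
    · intro A hA h3 x hx h1 g
      exact heq x g (good A hA h3 x hx h1)
  obtain ⟨A, hA, haA⟩ := H3.CW.exists_eak_mem (by rw [← ha.1]; exact pow_orderOf_eq_one a) ha.2
  have h1 : a ≠ 1 := by
    rintro rfl
    have := ha.1
    rw [orderOf_one] at this
    exact (Fact.out : p.Prime).one_lt.ne this
  have := hθ.le_pPrimeCore_of_connected hconn hA haA h1
  rwa [hO, le_bot_iff] at this

end Cfsg.Agent.S1294
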