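import Cfsg.Statements.S1295
import Mathlib
import Cfsg.Agent.Lib.CompW.Key
import Cfsg.Agent.Lib.CompW.Core

set_option autoImplicit false
open Cfsg

namespace Cfsg.Agent.S1295

/-- Let G be finite with O_{p'}(G) = 1 and p-rank at least 3, whose reduced rank-2 commuting graph for p is connected. Suppose that for every element a of order p with m_p(C_G(a)) ≥ 3 the p-layer of C_G(a) is trivial and O_{p'}(C_G(a)) is solvable. Then F*(C_G(a)) = O_p(C_G(a)) for every such a. -/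
theorem result {G : Type*} [Group G] [Finite G] (p : ℕ) [Fact p.Prime] (hO : Cfsg.pPrimeCore p G = ⊥) (hrk : ¬ Cfsg.PRankLE p 2 G) (hconn : Cfsg.IsRankGraphConnected p 2 G) (hL : ∀ a : G, (orderOf a = p ∧ ¬ Cfsg.PRankLE p 2 ↥(Subgroup.centralizer ({a} : Set G))) → Cfsg.pLayer p ↥(Subgroup.centralizer ({a} : Set G)) = ⊥ ∧ Group.IsSolvable ↥(Cfsg.centralizerPPrimeCore p a)) (a : G) (ha : (orderOf a = p ∧ ¬ Cfsg.PRankLE p 2 ↥(Subgroup.centralizer ({a} : Set G)))) : Cfsg.generalizedFittingSubgroup ↥(Subgroup.centralizer ({a} : Set G)) = Cfsg.pCore p ↥(Subgroup.centralizer ({a} : Set G)) := by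

  have good : ∀ A : Subgroup G, H3.CW.EAk p 3 A → ∀ x ∈ A, x ≠ 1 →
      orderOf x = p ∧ ¬ Cfsg.PRankLE p 2 ↥(Subgroup.centralizer ({x} : Set G)) := by
    intro A hA x hx h1
    exact ⟨H43.ea_orderOf hA.1 hx h1,
      H3.CW.not_pRankLE_of_eak hA (H43.ea_le_centralizer_singleton hA.1 hx)⟩
  have hθ := H3.CW.gsf_core_of_pLayer (H3.CW.sft p G)
    (fun A hA x hx h1 => (hL x (good A hA x hx h1)).2)
    (fun A hA x hx h1 => H44.pLayerOf_eq_bot_iff'.2 (hL x (good A hA x hx h1)).1)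
  obtain ⟨A, hA, haA⟩ := H3.CW.exists_eak_mem (by rw [← ha.1]; exact pow_orderOf_eq_one a) ha.2
  have h1 : a ≠ 1 := by
    rintro rfl
    have := ha.1
    rw [orderOf_one] at this
    exact (Fact.out : p.Prime).one_lt.ne this
  have := hθ.le_pPrimeCore_of_connected hconn hA haA h1
  rw [hO, le_bot_iff] at this
  exact (H44.fStar_eq_pCore_iff' _).2 ⟨H44.pLayerOf_eq_bot_iff'.2 (hL a ha).1, this⟩

end Cfsg.Agent.S1295
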