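import Mathlib
import Cfsg.Agent.Base
import Cfsg.Agent.Lib.SigGen.Tri
import Cfsg.Statements.S1305

set_option autoImplicit false
open Cfsg

namespace Cfsg.Agent.S1305

open H45 H69 H79.SG Subgroup
open scoped commutatorElement

theorem ea_of_sub {G : Type*} [Group G] {H : Subgroup G} {A : Subgroup H} (h1 : IsMulCommutative A)
    (h2 : ∀ a ∈ A, a ^ 2 = 1) : IsElementaryAbelian 2 (A.map H.subtype) :=
  H43.ea_map (⟨h1, h2⟩ : IsElementaryAbelian 2 A) _

theorem card_le_of_rank {G : Type*} [Group G] {H A : Subgroup G} {k : ℕ} (h : PRankLE 2 k H) (hA : A ≤ H)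
    (he : IsElementaryAbelian 2 A) : Nat.card A ≤ 2 ^ k := by
  rw [← card_subgroupOf hA]
  refine h _ ⟨⟨fun a b => Subtype.ext (Subtype.ext (H43.ea_comm he a.2 b.2))⟩⟩ fun a ha =>
    Subtype.ext (he.2 a ha)

/-- Let G be a finite group of component type with the B-property and no nontrivial normal subgroup of odd order. Let a be an involution and K a component of C_G(a) such that (a) |K| is maximal among the orders of components of centralizers of involutions of G, (b) subject to (a) the 2-rank of the centralizer of K in C_G(a) is as large as possible, and (c) K has 2-rank at least 2. If B is an elementary abelian 2-subgroup of that centralizer of the largest possible order, then K is a component of C_G(b) for every non-identity b ∈ B. -/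
theorem result {G : Type*} [Group G] [Finite G] (hO : Cfsg.oddCore G = ⊥) (hB : Cfsg.HasBProperty G) (hct : Cfsg.IsComponentType G) (a : G) (ha : orderOf a = 2) (K : Subgroup G) (hKa : K ≤ Subgroup.centralizer ({a} : Set G)) (hK : Cfsg.IsComponent (K.subgroupOf (Subgroup.centralizer ({a} : Set G)))) (hmax : ∀ y : G, orderOf y = 2 → ∀ K' : Subgroup G, K' ≤ Subgroup.centralizer ({y} : Set G) → Cfsg.IsComponent (K'.subgroupOf (Subgroup.centralizer ({y} : Set G))) → Nat.card ↥K' ≤ Nat.card ↥K ∧ (Nat.card ↥K' = Nat.card ↥K → ∀ k : ℕ, Cfsg.PRankLE 2 k ↥(Subgroup.centralizer ({a} : Set G) ⊓ Subgroup.centralizer (K : Set G)) → Cfsg.PRankLE 2 k ↥(Subgroup.centralizer ({y} : Set G) ⊓ Subgroup.centralizer (K' : Set G)))) (hrk : ¬ Cfsg.PRankLE 2 1 ↥K) (B : Subgroup G) (hBle : B ≤ Subgroup.centralizer ({a} : Set G) ⊓ Subgroup.centralizer (K : Set G)) (hBel : Cfsg.IsElementaryAbelian 2 B) (hBmax : ∀ B' : Subgroup G, B' ≤ Subgroup.centralizer ({a} :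 Set G) ⊓ Subgroup.centralizer (K : Set G) → Cfsg.IsElementaryAbelian 2 B' → Nat.card ↥B' ≤ Nat.card ↥B) (b : G) (hb : b ∈ B) (hb1 : b ≠ 1) : K ≤ Subgroup.centralizer ({b} : Set G) ∧ Cfsg.IsComponent (K.subgroupOf (Subgroup.centralizer ({b} : Set G))) := by
  have hBab : B ≤ 𝐂(B) := H43.ea_le_centralizer hBel le_rfl
  have hb2 : orderOf b = 2 := H43.ea_orderOf hBel hb hb1
  have hKb : K ≤ 𝐂[b] := le_cent1_iff.2 (hBle hb).2
  have hab : a ∈ 𝐂[b] := mem_cent1_comm.1 (hBle hb).1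
  have hKc : IsComponentOf K 𝐂[a] := ⟨hKa, hK⟩
  obtain ⟨V, hVK, hVe, hV2⟩ : ∃ V, V ≤ K ∧ IsElementaryAbelian 2 V ∧ 2 < Nat.card V := by
    simp only [PRankLE, not_forall, not_le] at hrk
    obtain ⟨V, h1, h2, h3⟩ := hrk
    exact ⟨V.map K.subtype, map_subtype_le _, ea_of_sub h1 h2, by rw [card_map_subtype]; exact h3⟩
  have hev : ¬ (Nat.card K).Coprime 2 := by
    intro h
    have := H44.eq_bot_of_isPGroup_of_coprime (H43.ea_isPGroup hVe) (H44.coprime_of_le hVK h)
    rw [this, Subgroup.card_bot] at hV2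
    omega
  have hK1 : H44.PComp 2 K (𝐂[b] ⊓ 𝐂[a]) :=
    H44.PComp.of_isComponentOf (H44.IsComponentOf.of_le hKc (le_inf hKb hKa) inf_le_right) hev
  have hE : K ≤ H44.layerOf 𝐂[b] := by
    have h1 : K ≤ pLayerOf 2 𝐂[b] := by
      refine (lbalIn_two 𝐂[b]).le_pLayerOf (H44.isPGroup_zpowers_of_orderOf ha) (zpowers_le.2 hab) ?_
      rwa [H44.centralizer_zpowers]
    refine h1.trans (H44.pLayerOf_le_iff.2 fun J hJ => H44.IsComponentOf.le_layerOf ?_)
    refine H44.isComponentOf_iff.2 ⟨hJ.subnIn, hJ.isQuasisimple_iff.2 ?_⟩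
    have h2 := hB b hb2
    rw [hO, Subgroup.map_commutator] at h2
    exact eq_bot_iff.2 ((commutator_mono hJ.le_pLayerOf le_rfl).trans h2)
  obtain ⟨D, hD, hcase⟩ := tri ha (le_normalizer hab) hK1 hE
  obtain ⟨hm1, hm2⟩ := hmax b hb2 D hD.1 hD.2
  rcases hcase with ⟨-, hle⟩ | ⟨haD, hc, f, hf, him, hker⟩
  · rw [Subgroup.eq_of_le_of_card_ge hle hm1]; exact hD
  exfalso
  have hcard := card_morphpre f (L := K) him.ge
  rw [← him, morphimK f le_rfl, sup_eq_right.2 (kerOf_le_dom f), him] at hcard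
  have hk0 : kerOf f = ⊥ := by
    rw [← Subgroup.card_eq_one]
    have h1 : 0 < Nat.card K := Nat.card_pos
    have h2 : 0 < Nat.card (kerOf f) := Nat.card_pos
    nlinarith
  rw [hk0, Subgroup.card_bot, one_mul] at hcard
  obtain ⟨k, hk⟩ := (H43.ea_isPGroup hBel).exists_card_eq
  have hrank := hm2 hcard k (fun A h1 h2 => by
    rw [← hk, ← card_map_subtype]
    exact hBmax _ (map_subtype_le _) (ea_of_sub h1 h2))
  have hD2 : IsComponentOf (D ^ᶜ a) 𝐂[b] := H44.IsComponentOf.cj_of_mem hD (le_normalizer hab)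
  have haa := sq_eq_one_of_orderOf ha
  have hDc : D ≤ 𝐂(D ^ᶜ a) := le_centralizer_of_commutator_eq_bot hc
  have hfK : ∀ d ∈ D, d * (a * d * a⁻¹) ∈ K := fun d hd => by
    rw [← hf d hd, ← him]; exact ap_mem_im f hd
  have hinj : ∀ d ∈ D, ∀ e ∈ D, d * (a * d * a⁻¹) = e * (a * e * a⁻¹) → d = e := fun d hd e he h =>
    (injm_ap_eq_iff f le_rfl (by rw [hk0, inf_bot_eq]) hd he).1 (by rw [hf d hd, hf e he, h])
  have hBb : B ≤ 𝐂[b] := hBab.trans (cent_le_cent1 hb)
  -- elements of `B` interchange or fix `D` and `D ^ a`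
  have hperm : ∀ β ∈ B, D ^ᶜ β = D ∨ D ^ᶜ β = D ^ᶜ a := by
    intro β hβ
    by_contra hne
    push Not at hne
    have h3 : IsComponentOf (D ^ᶜ β) 𝐂[b] := H44.IsComponentOf.cj_of_mem hD (le_normalizer (hBb hβ))
    have h4 : D ^ᶜ β ≤ 𝐂(K) := by
      rw [centsC, ← him]
      intro y hy
      obtain ⟨d, hd, rfl⟩ := (mem_im_of_le f le_rfl).1 hy
      rw [hf d hd]
      exact mul_mem
        (le_centralizer_of_commutator_eq_bot (H44.IsComponentOf.commutator_eq_bot_of_ne hD h3 hne.1.symm) hd)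
        (le_centralizer_of_commutator_eq_bot (H44.IsComponentOf.commutator_eq_bot_of_ne hD2 h3 hne.2.symm)
          (cj_mem a hd))
    rw [← cj_eq_of_mem_normalizer (normalizer_le_normalizer_centralizer K
      (centralizer_le_normalizer _ (hBle hβ).2)), cj_le_cj_iff] at h4
    refine H44.IsComponentOf.not_le_centralizer hD fun d hd => ?_
    have h5 := mul_mem (centsC.1 h4 (hfK d hd)) (inv_mem (centsC.1 hDc (cj_mem a hd)))
    rwa [mul_inv_cancel_right] at h5
  have hB0 : B ⊓ 𝐍(D) ≤ 𝐂(D) := by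
    rintro β ⟨hβ, hβD⟩
    rw [mem_centralizer_iff_commute]
    intro d hd
    have h1 := conj_eq_of_mem_centralizer (hBle hβ).2 (hfK d hd)
    have h2 : β * a = a * β := mem_cent1_iff.1 (hBle hβ).1
    have h3 := hinj _ (conj_mem_of_mem_normalizer hβD hd) d hd (by
      rw [← h1]
      calc _ = β * d * β⁻¹ * (a * β) * d * (a * β)⁻¹ := by group
        _ = _ := by rw [← h2]; group)
    exact (mul_inv_eq_iff_eq_mul.1 h3).symm
  have hidx : Nat.card B ≤ Nat.card (B ⊓ 𝐍(D) : Subgroup G) * 2 := by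
    have h1 := H1.card_mul_relIndex_of_le (inf_le_left : B ⊓ 𝐍(D) ≤ B)
    rw [Subgroup.inf_relIndex_left] at h1
    by_cases h : B ≤ 𝐍(D)
    · rw [inf_eq_left.2 h]; omega
    · obtain ⟨β, hβ, hβD⟩ := SetLike.not_le_iff_exists.1 h
      have h2 : (𝐍(D)).relIndex B = 2 := by
        rw [Subgroup.relIndex_eq_two_iff]
        refine ⟨β, hβ, fun x hx => ?_⟩
        by_cases hxD : x ∈ 𝐍(D)
        · exact Or.inr ⟨hxD, fun h' => hβD (by simpa using mul_mem (inv_mem hxD) h')⟩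
        · refine Or.inl ⟨?_, hxD⟩
          have e1 := (hperm β hβ).resolve_left fun e => hβD (cj_eq_self_iff.1 e)
          have e2 := (hperm x hx).resolve_left fun e => hxD (cj_eq_self_iff.1 e)
          rw [← cj_eq_self_iff, ← cj_cj, e1, ← e2, cj_cj, ← pow_two, hBel.2 x hx, cj_one]
      rw [← h1, h2]
  -- a four-group in `D ^ a`
  have hV0 : pre f V ≤ D := pre_le_dom f V
  have hVim : im f (pre f V) = V := morphpreK f (hVK.trans him.ge)
  have hV0e : IsElementaryAbelian 2 (pre f V) :=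
    (injm_abelem f hV0 (by rw [hk0, inf_bot_eq])).1 (by rw [hVim]; exact hVe)
  have hV0c : Nat.card (pre f V) = Nat.card V := by
    rw [card_morphpre f (hVK.trans him.ge), hk0, Subgroup.card_bot, one_mul]
  set W := pre f V ^ᶜ a with hW
  have hWD : W ≤ D ^ᶜ a := cj_mono a hV0
  have hWe : IsElementaryAbelian 2 W := H43.ea_map hV0e _
  have hB0a : B ⊓ 𝐍(D) ≤ 𝐂(D ^ᶜ a) := by
    intro β hβ
    rw [← cj_centralizer, mem_cj]
    have h2 : β * a = a * β := mem_cent1_iff.1 (hBle hβ.1).1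
    rw [mul_assoc, h2, inv_mul_cancel_left]
    exact hB0 hβ
  have hi : W ⊓ (B ⊓ 𝐍(D)) = ⊥ := by
    rw [eq_bot_iff]
    rintro z ⟨hz, hzB, -⟩
    obtain ⟨d, hd, rfl⟩ := mem_cj'.1 hz
    have h2 : a * d * a⁻¹ * a = a * (a * d * a⁻¹) := mem_cent1_iff.1 (hBle hzB).1
    have h3 : a * d * a⁻¹ = d := by
      rw [inv_mul_cancel_right] at h2
      exact (mul_left_cancel h2).symm
    have h4 := hinj d (hV0 hd) 1 (one_mem _) (by rw [h3, ← pow_two, hV0e.2 d hd]; simp)
    rw [h4]; simp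
  have hcen : B ⊓ 𝐍(D) ≤ 𝐂(W) := centsS hB0a hWD
  have hdp := dprod_of_cent hcen hi
  have hea : IsElementaryAbelian 2 (W ⊔ B ⊓ 𝐍(D)) := by
    refine ⟨hdp.abelian hWe.1 (H43.ea_of_le hBel inf_le_left).1, fun x hx => ?_⟩
    obtain ⟨w, hw, β, hβ, rfl⟩ := hdp.mulEq.exists_mul hx
    rw [Commute.mul_pow (mem_centralizer_iff_commute.1 (hcen hβ) w hw), hWe.2 w hw, hBel.2 β hβ.1, one_mul]
  have hfin := card_le_of_rank hrank (sup_le (le_inf (hWD.trans hD2.1) (hWD.trans (centsC.1 hDc)))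
    (le_inf (inf_le_left.trans hBb) hB0)) hea
  rw [hdp.card, hW, card_cj, hV0c, ← hk] at hfin
  have h0 : 0 < Nat.card (B ⊓ 𝐍(D) : Subgroup G) := Nat.card_pos
  nlinarith

end Cfsg.Agent.S1305
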