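import Mathlib
import Cfsg.Agent.Base
import Cfsg.Agent.Lib.Comp.Quasisimple
import Cfsg.Statements.S1323

set_option autoImplicit false
open Cfsg

namespace Cfsg.Agent.S1323

open Subgroup Equiv Equiv.Perm
open scoped Pointwise

variable {α : Type*} [Fintype α] [DecidableEq α]

/-- The even permutations supported in `s`. -/
abbrev R (s : Finset α) : Subgroup (alternatingGroup α) := (alternatingGroup.ofSubtype s).range

theorem mem_R {s : Finset α} {k : alternatingGroup α} : k ∈ R s ↔ (k : Perm α).support ⊆ s :=
  alternatingGroup.mem_range_ofSubtype_iff s k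

theorem map_R (s : Finset α) (g : alternatingGroup α) :
    (R s).map (MulAut.conj g).toMonoidHom = R (g • s) :=
  alternatingGroup.conj_smul_range_ofSubtype s g

theorem card_R (s : Finset α) : Nat.card (R s) = Nat.card (alternatingGroup s) :=
  (Nat.card_congr (MonoidHom.ofInjective alternatingGroup.ofSubtype_injective).toEquiv).symm

theorem exists_move {s : Finset α} (hs : 3 ≤ s.card) {x : α} (hx : x ∈ s) :
    ∃ k ∈ R s, (k : Perm α) x ≠ x := by
  obtain ⟨y, hy, z, hz, hyz⟩ := Finset.one_lt_card.1 (show 1 < (s.erase x).card by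
    rw [Finset.card_erase_of_mem hx]; omega)
  rw [Finset.mem_erase] at hy hz
  have h3 := isThreeCycle_swap_mul_swap_same hy.1.symm hz.1.symm hyz
  refine ⟨⟨_, h3.mem_alternatingGroup⟩, mem_R.2 ?_, ?_⟩
  · refine (support_mul_le _ _).trans ?_
    rw [support_swap hy.1.symm, support_swap hz.1.symm]
    intro w hw
    simp only [Finset.sup_eq_union, Finset.mem_union, Finset.mem_insert, Finset.mem_singleton] at hw
    rcases hw with (rfl | rfl) | rfl | rfl
    exacts [hx, hy.2, hx, hz.2]
  · simp only [Perm.coe_mul, Function.comp_apply, swap_apply_left]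
    rw [swap_apply_of_ne_of_ne hz.1 hyz.symm]
    exact hz.1

theorem subset_of_R_le {s t : Finset α} (hs : 3 ≤ s.card) (h : R s ≤ R t) : s ⊆ t := by
  intro x hx
  obtain ⟨k, hk, hkx⟩ := exists_move hs hx
  exact mem_R.1 (h hk) (mem_support.2 hkx)

theorem centralizer_R {s : Finset α} (hs : 4 ≤ s.card) :
    centralizer (R s : Set (alternatingGroup α)) = R sᶜ := by
  ext g
  rw [mem_centralizer_iff, mem_R]
  constructor
  · intro h x hx
    rw [Finset.mem_compl]
    intro hxs
    rw [mem_support] at hx
    have hc : ∀ k ∈ R s, (k : Perm α) ((g : Perm α) x) = (g : Perm α) ((k : Perm α) x) :=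
      fun k hk => congrArg (fun u : alternatingGroup α => (u : Perm α) x) (h k hk)
    by_cases hgx : (g : Perm α) x ∈ s
    · obtain ⟨k, hk, hkx⟩ := exists_move (s := s.erase x)
        (by rw [Finset.card_erase_of_mem hxs]; omega) (Finset.mem_erase.2 ⟨hx, hgx⟩)
      have h1 : (k : Perm α) x = x := by
        by_contra h1
        exact Finset.notMem_erase x s (mem_R.1 hk (mem_support.2 h1))
      have := hc k (mem_R.2 ((mem_R.1 hk).trans (Finset.erase_subset _ _)))
      rw [h1] at this
      exact hkx this
    · obtain ⟨k, hk, hkx⟩ := exists_move (s := s) (by omega) hxs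
      have h1 : (k : Perm α) ((g : Perm α) x) = (g : Perm α) x := by
        by_contra h1
        exact hgx (mem_R.1 hk (mem_support.2 h1))
      have := hc k hk
      rw [h1] at this
      exact hkx ((g : Perm α).injective this).symm
  · intro h k hk
    refine Subtype.ext (Perm.Disjoint.commute ?_).eq
    rw [disjoint_iff_disjoint_support]
    exact Finset.disjoint_of_subset_left (mem_R.1 hk)
      (Finset.disjoint_of_subset_right h disjoint_compl_right)

theorem mem_normalizer_R {s : Finset α} (hs : 3 ≤ s.card) {g : alternatingGroup α} :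
    g ∈ normalizer (R s : Set (alternatingGroup α)) ↔ g • s = s := by
  have : g ∈ normalizer (R s : Set (alternatingGroup α)) ↔
      (R s).map (MulAut.conj g).toMonoidHom = R s := by
    rw [← conjAct_pointwise_smul_iff]; rfl
  rw [this, map_R]
  refine ⟨fun h => ?_, fun h => by rw [h]⟩
  exact Finset.Subset.antisymm (subset_of_R_le (by rwa [Finset.card_smul_finset]) h.le)
    (subset_of_R_le hs h.ge)

theorem smul_compl (g : alternatingGroup α) (s : Finset α) : g • sᶜ = (g • s)ᶜ := by
  ext x
  simp only [Finset.mem_compl, ← Finset.inv_smul_mem_iff]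

theorem standard {s : Finset α} (hs : 5 ≤ s.card) (hc : sᶜ.card = 4) :
    IsStandardSubgroup (R s) := by
  have hC := centralizer_R (s := s) (by omega)
  refine ⟨?_, ⟨?_, ?_⟩, ?_, ?_⟩
  · haveI := alternatingGroup.isSimpleGroup (α := s) (by simpa using hs)
    refine H23.IsQuasisimple.of_mulEquiv (MonoidHom.ofInjective alternatingGroup.ofSubtype_injective)
      (H23.isQuasisimple_of_isSimpleGroup ?_)
    rw [alternatingGroup.isMulCommutative_iff_card_le_three]
    simp; omega
  · haveI : Nontrivial (sᶜ : Finset α) := by
      rw [← Fintype.one_lt_card_iff_nontrivial]; simp only [Fintype.card_coe]; omega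
    rw [hC, card_R, nat_card_alternatingGroup]
    simp only [Nat.card_eq_fintype_card, Fintype.card_coe, hc]
    decide
  · intro g hg
    rw [hC, mem_normalizer_R (by omega)] at hg
    rw [hC, map_R]
    have e : R sᶜ ⊓ R (g • sᶜ) = R (sᶜ ∩ g • sᶜ) := by
      ext k
      rw [mem_inf, mem_R, mem_R, mem_R, Finset.subset_inter_iff]
    have hlt : (sᶜ ∩ g • sᶜ).card < 4 := by
      rw [← hc]
      refine Finset.card_lt_card (Finset.ssubset_iff_subset_ne.2 ⟨Finset.inter_subset_left, fun h => hg ?_⟩)
      exact (Finset.eq_of_subset_of_card_le (Finset.inter_eq_left.1 h)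
        (by rw [Finset.card_smul_finset])).symm
    rw [e, card_R]
    generalize sᶜ ∩ g • sᶜ = t at hlt
    by_cases h2 : t.card ≤ 2
    · rw [alternatingGroup.eq_bot_of_card_le_two (by simpa using h2)]
      simp
    · haveI : Nontrivial t := by
        rw [← Fintype.one_lt_card_iff_nontrivial]; simp only [Fintype.card_coe]; omega
      rw [nat_card_alternatingGroup]
      simp only [Nat.card_eq_fintype_card, Fintype.card_coe, show t.card = 3 by omega]
      decide
  · intro g _ h
    rw [commutator_comm, commutator_eq_bot_iff_le_centralizer, hC, map_R] at h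
    have := Finset.card_le_card (subset_of_R_le (by rw [Finset.card_smul_finset]; omega) h)
    rw [Finset.card_smul_finset] at this
    omega
  · ext g
    rw [hC, mem_normalizer_R (by omega), mem_normalizer_R (by omega), smul_compl, compl_inj_iff]

/-- For n ≥ 9, the subgroup of the alternating group on Fin n fixing each of the points 0, 1, 2, 3 is a standard subgroup. -/
theorem result (n : ℕ) (h4 : 4 ≤ n) (hn : 9 ≤ n) : Cfsg.IsStandardSubgroup (⨅ i : Fin 4, MulAction.stabilizer ↥(alternatingGroup (Fin n)) (Fin.castLE h4 i : Fin n)) := by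
  classical
  set D : Finset (Fin n) := Finset.univ.map (Fin.castLEEmb h4) with hD
  have hD4 : D.card = 4 := by simp [hD]
  have : (⨅ i : Fin 4, MulAction.stabilizer ↥(alternatingGroup (Fin n)) (Fin.castLE h4 i : Fin n)) =
      R Dᶜ := by
    ext g
    rw [mem_iInf, mem_R]
    constructor
    · intro h x hx
      rw [Finset.mem_compl]
      intro hxD
      obtain ⟨i, -, rfl⟩ := Finset.mem_map.1 hxD
      exact mem_support.1 hx (h i)
    · intro h i
      by_contra hi
      exact Finset.mem_compl.1 (h (mem_support.2 hi)) (Finset.mem_map.2 ⟨i, Finset.mem_univ _, rfl⟩)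
  rw [this]
  refine standard ?_ (by rw [compl_compl, hD4])
  rw [Finset.card_compl, hD4, Fintype.card_fin]
  omega

end Cfsg.Agent.S1323
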