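import Mathlib
import Cfsg.Agent.Base
import Cfsg.Agent.Lib.SigGen.Gen
import Cfsg.Agent.S0205
import Cfsg.Statements.S1329

set_option autoImplicit false
open Cfsg

namespace Cfsg.Agent.S1329

open H45 H69 H79.SG Subgroup

/-- Let A be an abelian 2-subgroup of the finite group G, B ≤ A, and Y a subgroup of odd order normalized by A with ⁅Y, A⁆ = Y. Then Y ∩ C_G(B) is generated by the subgroups Y ∩ C_G(B) ∩ ⁅Y ∩ C_G(B₀), A⁆, B₀ ranging over the subgroups of B with B / B₀ cyclic. -/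
theorem result {G : Type*} [Group G] [Finite G] (A B Y : Subgroup G) (hA2 : IsPGroup 2 ↥A) (hAc : IsMulCommutative ↥A) (hB : B ≤ A) (hYodd : Odd (Nat.card ↥Y)) (hAY : A ≤ Subgroup.normalizer (Y : Set G)) (hYA : ⁅Y, A⁆ = Y) : Y ⊓ Subgroup.centralizer (B : Set G) = ⨆ B₀ : {B₀ : Subgroup G // B₀ ≤ B ∧ ∀ [(B₀.subgroupOf B).Normal], IsCyclic (↥B ⧸ B₀.subgroupOf B)}, Y ⊓ Subgroup.centralizer (B : Set G) ⊓ ⁅Y ⊓ Subgroup.centralizer ((B₀ : Subgroup G) : Set G), A⁆ := by
  have hs : Group.IsSolvable Y := Cfsg.Agent.S0205.result hYodd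
  haveI : Fact (Nat.Prime 2) := ⟨Nat.prime_two⟩
  have hc : (Nat.card A).Coprime (Nat.card Y) :=
    coprime_of_isPGroup_of_not_dvd Nat.prime_two hA2 hYodd.not_two_dvd_nat
  have hAs := solvable_of_abelian hAc
  refine le_antisymm ?_ (iSup_le fun _ => inf_le_left)
  have hn := Coc.norm_cent hAc hAY hB
  have hdec := H2.commutator_sup_centralizer hn (coprimegS hc inf_le_left) (Or.inl hAs)
  have h1 : ⁅Y ⊓ 𝐂(B), A⁆ ≤ Y ⊓ 𝐂(B) := commutator_le_left_of_le_normalizer hn
  refine hdec.symm.le.trans (sup_le ?_ ?_)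
  · refine le_iSup_of_le ⟨B, le_rfl, ?_⟩ (le_inf h1 le_rfl)
    intro _
    haveI : Subsingleton (B ⧸ B.subgroupOf B) := by
      rw [Subgroup.subgroupOf_self]; exact QuotientGroup.subsingleton_quotient_top
    infer_instance
  · refine (inf_le_inf_right _ inf_le_left).trans (cent_le_of_cocyclic hAc hs hAY hc hYA fun A₀ h0 => ?_)
    refine le_iSup_of_le ⟨A₀ ⊓ B, inf_le_right, Coc.inf hAc hB h0⟩ (le_inf ?_ ?_)
    · refine le_inf (inf_le_left.trans ?_) (inf_le_right.trans (centralizer_anti hB))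
      exact (commutator_le_left_of_le_normalizer (Coc.norm_cent hAc hAY h0.1)).trans inf_le_left
    · exact inf_le_left.trans (commutator_mono (inf_le_inf_left _ (centralizer_anti inf_le_left)) le_rfl)

end Cfsg.Agent.S1329
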