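import Mathlib
import Cfsg.Agent.Base
import Cfsg.Agent.Lib.SigGen.Bar
import Cfsg.Agent.Lib.SigGen.Tri
import Cfsg.Agent.S0205
import Cfsg.Statements.S1330

set_option autoImplicit false
set_option linter.unusedSectionVars false
open Cfsg

namespace Cfsg.Agent.S1330

open H45 H69 H79.SG Subgroup
open H44 (PComp PQuasi coreOf cbar barIn modCore pGen orbitJoin)
open scoped commutatorElement

variable {G : Type*} [Group G] [Finite G]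

theorem core_inf_le {a b : G} : coreOf 2 𝐂[a] ⊓ 𝐂[b] ≤ coreOf 2 (𝐂[b] ⊓ 𝐂(zpowers a)) := by
  rw [H44.centralizer_zpowers]
  exact (le_inf inf_le_left (le_inf inf_le_right (inf_le_left.trans (H44.coreOf_le _ _)))).trans
    (H44.coreOf_inf_le inf_le_right)

theorem one_side {A₁ A₂ : Subgroup G} (hA : IsElementaryAbelian 2 (A₁ ⊔ A₂)) (h4 : Nat.card A₁ = 4)
    (hcs : ∀ a ∈ A₁ ⊔ A₂, a ≠ 1 → ∀ E, PComp 2 E 𝐂[a] → A₁ ≤ cbar 2 E ∨ A₂ ≤ cbar 2 E)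
    {a b : G} (ha : a ∈ A₁ ⊔ A₂) (hb : b ∈ A₁ ⊔ A₂) {E : Subgroup G}
    (hE : PComp 2 E 𝐂[b]) (h1 : A₁ ≤ cbar 2 E) :
    (⁅coreOf 2 𝐂[a], A₁⁆ ⊔ coreOf 2 𝐂[a] ⊓ coreOf 2 𝐂(A₁)) ⊓ 𝐂[b] ≤ cbar 2 E := by
  set O := coreOf 2 𝐂[a] with hO
  have hAc : ∀ {x}, x ∈ A₁ ⊔ A₂ → A₁ ⊔ A₂ ≤ 𝐂[x] := fun hx => H43.ea_le_centralizer_singleton hA hx
  have hzp : ∀ {x}, x ∈ A₁ ⊔ A₂ → IsPGroup 2 (zpowers x) := fun hx =>
    pgroupS (H43.ea_isPGroup hA) (zpowers_le.2 hx)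
  have hA1 : IsElementaryAbelian 2 A₁ := H43.ea_of_le hA le_sup_left
  have hAO : A₁ ⊔ A₂ ≤ 𝐍(O) := (hAc ha).trans (H44.le_normalizer_coreOf _ _)
  have hAA1 : A₁ ⊔ A₂ ≤ 𝐂(A₁) := H43.ea_le_centralizer hA le_sup_left
  have hOc : (Nat.card O).Coprime 2 := H44.coprime_card_coreOf _ _
  have hcop : ∀ {B W : Subgroup G}, B ≤ A₁ ⊔ A₂ → W ≤ O → (Nat.card B).Coprime (Nat.card W) :=
    fun hB hW => H43.ea_coprime (H43.ea_of_le hA hB)
      ((Nat.Prime.coprime_iff_not_dvd Nat.prime_two).1 (H44.coprime_of_le hW hOc).symm)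
  have hsol : ∀ {B : Subgroup G}, B ≤ A₁ ⊔ A₂ → Group.IsSolvable B := fun hB =>
    H43.ea_solvable (H43.ea_of_le hA hB)
  set Y := ⁅O, A₁⁆ with hY
  have hYO : Y ≤ O := commutator_le_left_of_le_normalizer (le_sup_left.trans hAO)
  have hAY : A₁ ⊔ A₂ ≤ 𝐍(Y) := le_normalizer_commutator hAO (cents_norm hAA1)
  by_cases h2 : A₂ ≤ cbar 2 E
  · refine le_trans ?_ (core_cbar hE (hzp ha) (zpowers_le.2 (hAc hb ha)) (zpowers_le.2 (sup_le h1 h2 ha)))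
    exact (inf_le_inf_right _ (sup_le hYO inf_le_left)).trans core_inf_le
  have hbz : zpowers b ≤ A₁ ⊔ A₂ := zpowers_le.2 hb
  have hAW : A₁ ⊔ A₂ ≤ 𝐍(O ⊓ coreOf 2 𝐂(A₁)) :=
    le_normalizer_inf hAO (hAA1.trans (H44.le_normalizer_coreOf _ _))
  rw [← H44.centralizer_zpowers, H2.sup_inf_centralizer (hbz.trans hAY) (hbz.trans hAW)
    (inf_le_left.trans (left_norm_comm _ _)) (hcop hbz (inf_le_left.trans hYO)) (Or.inl (hsol hbz)),
    H44.centralizer_zpowers]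
  have hA1b : A₁ ≤ 𝐂[b] := le_sup_left.trans (hAc hb)
  refine sup_le ?_ ?_
  swap
  · refine le_trans ?_ (core_cbar hE (H43.ea_isPGroup hA1) hA1b h1)
    exact (le_inf (inf_le_left.trans inf_le_right) (le_inf inf_le_right
      ((inf_le_left.trans inf_le_right).trans (H44.coreOf_le _ _)))).trans (H44.coreOf_inf_le inf_le_right)
  have hAU : A₁ ≤ 𝐍(Y ⊓ 𝐂[b]) := le_normalizer_inf (le_sup_left.trans hAY) (hA1b.trans le_normalizer)
  rw [← H2.commutator_sup_centralizer hAU (hcop le_sup_left (inf_le_left.trans hYO))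
    (Or.inl (hsol le_sup_left))]
  refine sup_le (comm_le_cbar ?_ h1) ?_
  · exact ((inf_le_inf_right _ hYO).trans core_inf_le).trans
      (core_norm hE (hzp ha) (zpowers_le.2 (hAc hb ha)))
  have hYs : Group.IsSolvable Y :=
    Cfsg.Agent.S0205.result (Nat.coprime_two_right.1 (H44.coprime_of_le hYO hOc))
  have hgen := gen_aux _ rfl hA1.1 hYs (le_sup_left.trans hAY) (hcop le_sup_left hYO)
    (H2.commutator_commutator_eq (le_sup_left.trans hAO) (hcop le_sup_left le_rfl))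
  have hmain : W0 A₁ Y ⊓ 𝐂(zpowers b) ≤ cbar 2 E := by
    have hZle : ∀ A₀, A₀ ≤ A₁ → ⁅Y ⊓ 𝐂(A₀), A₁⁆ ≤ Y := fun A₀ h0 =>
      (commutator_le_left_of_le_normalizer (Coc.norm_cent hA1.1 (le_sup_left.trans hAY) h0)).trans inf_le_left
    refine iSup_inf_cent_le (C := Y ⊓ 𝐂(A₁)) (hsol hbz) (hcop hbz (inf_le_left.trans hYO))
      (fun i => inf_le_inf_right _ (hZle _ i.2.1))
      (fun i => le_normalizer_inf ((inf_le_inf_left _ (centralizer_anti i.2.1)).trans (left_norm_comm _ _))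
        (inf_le_right.trans le_normalizer))
      (fun i => hbz.trans (le_normalizer_inf (le_normalizer_commutator (le_normalizer_inf hAY
        (le_normalizer_centralizer (cents_norm (centsS hAA1 i.2.1)))) (cents_norm hAA1))
        (le_normalizer_centralizer (cents_norm hAA1)))) ?_
    rintro ⟨A₀, h0⟩
    obtain ⟨⟨s, hs⟩, hs1⟩ := (Subgroup.ne_bot_iff_exists_ne_one).1
      (H2.ne_bot_of_cocyclic (H43.ea_not_isCyclic hA1 (by rw [h4]; norm_num)) h0.2)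
    have hs1 : s ≠ 1 := fun e => hs1 (Subtype.ext e)
    have hsA : s ∈ A₁ ⊔ A₂ := (le_sup_left : A₁ ≤ _) (h0.1 hs)
    obtain ⟨hK, hcov⟩ := hE.pGen_inf_centralizer (hzp hsA) (zpowers_le.2 (hAc hb hsA))
      ((hE.le_cbar_iff (zpowers_le.2 (hAc hb hsA))).1 (zpowers_le.2 (h1 (h0.1 hs))))
    set K := pGen 2 (E ⊓ 𝐂(zpowers s)) with hKdef
    have hKE : K ≤ E := (H44.pGen_le _ _).trans inf_le_left
    rw [H44.centralizer_zpowers, inf_comm] at hK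
    have hL : K ≤ pLayerOf 2 𝐂[s] := (lbalIn_two 𝐂[s]).le_pLayerOf (hzp hb) (hbz.trans (hAc hsA))
      (by rwa [H44.centralizer_zpowers])
    obtain ⟨J, hJ, hKJ⟩ := exists_pump (hAc hsA hb) (hzp hb) hK hL
    have hfin : ∀ U, U ≤ 𝐂[s] → U ≤ 𝐂[b] → (∀ g ∈ zpowers b, U ≤ cbar 2 (J ^ᶜ g)) → U ≤ cbar 2 E := by
      intro U hU hU' h
      refine le_cbar_of_coprime hE hU' hKE hcov (H44.coprime_of_le_coreOf (H := 𝐂[s]) ?_)
      exact (commutator_mono hKJ le_rfl).trans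
        (H57.Term.commutator_orbitJoin_le hJ (hbz.trans (hAc hsA)) hU h)
    have hcj : ∀ B, B ≤ A₁ ⊔ A₂ → B ≤ cbar 2 J → ∀ g ∈ zpowers b, B ≤ cbar 2 (J ^ᶜ g) := by
      intro B hB h g hg
      have := cj_mono g h
      rw [cj_eq_of_mem_centralizer (H43.ea_le_centralizer hA hB (hbz hg))] at this
      exact this.trans (H44.cj_cbar 2 g J).le
    rcases hcs s hsA hs1 J hJ with h | h
    · have hYs' : Y ⊓ 𝐂(A₀) ≤ O ⊓ 𝐂[s] := inf_le_inf hYO (cent_le_cent1 hs)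
      refine hfin _ ?_ (by rw [H44.centralizer_zpowers]; exact inf_le_right) fun g hg => ?_
      · exact (inf_le_left.trans inf_le_right).trans (cent_le_cent1 (h0.1 hs))
      · refine (inf_le_left.trans inf_le_left).trans (comm_le_cbar ?_ (hcj _ le_sup_left h g hg))
        exact (hYs'.trans core_inf_le).trans (core_norm (H57.Term.pcomp_cj hJ (hAc hsA (hbz hg))) (hzp ha)
          (zpowers_le.2 (hAc hsA ha)))
    · exact absurd (hfin A₂ (le_sup_right.trans (hAc hsA)) (le_sup_right.trans (hAc hb))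
        (hcj _ le_sup_right h)) h2
  refine le_trans ?_ hmain
  rw [H44.centralizer_zpowers]
  exact le_inf ((inf_le_inf_right _ inf_le_left).trans hgen) (inf_le_left.trans inf_le_right)

/-- Let A₁, A₂ be core-separated four-subgroups of the finite group G and A = A₁A₂. For a ∈ G put O_a = O(C_G(a)) and θ a = ⋂_{i=1,2} ( ⁅O_a, A_i⁆ · (O_a ∩ O(C_G(A_i))) ). Then θ is an A-signalizer functor for the prime 2. -/
theorem result {G : Type*} [Group G] [Finite G] (A₁ A₂ : Subgroup G) (hcs : Cfsg.IsCoreSeparated A₁ A₂) : Cfsg.IsSignalizerFunctor 2 (A₁ ⊔ A₂) (fun a => (⁅Cfsg.centralizerPPrimeCore 2 a, A₁⁆ ⊔ (Cfsg.centralizerPPrimeCore 2 a ⊓ ((Cfsg.oddCore ↥(Subgroup.centralizer ((A₁ : Subgroup G) : Set G))).map (Subgroup.centralizer ((A₁ : Subgroup G) : Set G)).subtype))) ⊓ (⁅Cfsg.centralizerPPrimeCore 2 a, A₂⁆ ⊔ (Cfsg.centralizerPPrimeCore 2 a ⊓ ((Cfsg.oddCore ↥(Subgroup.centralizer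 ((A₂ : Subgroup G) : Set G))).map (Subgroup.centralizer ((A₂ : Subgroup G) : Set G)).subtype)))) := by
  obtain ⟨hA1, hA2, h41, h42, -, -, hcomm, hsep⟩ := hcs
  have hc12 : A₂ ≤ 𝐂(A₁) := fun y hy => mem_centralizer_iff_commute.2 fun x hx => hcomm x hx y hy
  have hA : IsElementaryAbelian 2 (A₁ ⊔ A₂) := by
    refine ⟨abelian_sup hA1.1 hA2.1 hc12, fun x hx => ?_⟩
    obtain ⟨u, hu, v, hv, rfl⟩ := (mulEq_of_cent hc12).exists_mul hx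
    rw [Commute.mul_pow (hcomm u hu v hv), hA1.2 u hu, hA2.2 v hv, one_mul]
  have hAc : ∀ {x}, x ∈ A₁ ⊔ A₂ → A₁ ⊔ A₂ ≤ 𝐂[x] := fun hx => H43.ea_le_centralizer_singleton hA hx
  have hsep' : ∀ a ∈ A₁ ⊔ A₂, a ≠ 1 → ∀ E, PComp 2 E 𝐂[a] → A₁ ≤ cbar 2 E ∨ A₂ ≤ cbar 2 E := by
    intro a ha h1 E hE
    have := hsep a ha h1 (E.subgroupOf 𝐂[a]) ((H44.isPComponent_subgroupOf_iff hE.le).2 hE)
    rw [subgroupOf_map_subtype, inf_eq_left.2 hE.le] at this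
    rwa [hE.le_cbar_iff (le_sup_left.trans (hAc ha)), hE.le_cbar_iff (le_sup_right.trans (hAc ha))]
  change IsSignalizerFunctor 2 (A₁ ⊔ A₂) (fun a =>
    (⁅coreOf 2 𝐂[a], A₁⁆ ⊔ coreOf 2 𝐂[a] ⊓ coreOf 2 𝐂(A₁)) ⊓
      (⁅coreOf 2 𝐂[a], A₂⁆ ⊔ coreOf 2 𝐂[a] ⊓ coreOf 2 𝐂(A₂)))
  set θ : G → Subgroup G := fun a => (⁅coreOf 2 𝐂[a], A₁⁆ ⊔ coreOf 2 𝐂[a] ⊓ coreOf 2 𝐂(A₁)) ⊓
      (⁅coreOf 2 𝐂[a], A₂⁆ ⊔ coreOf 2 𝐂[a] ⊓ coreOf 2 𝐂(A₂)) with hθ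
  have hAO : ∀ a ∈ A₁ ⊔ A₂, A₁ ⊔ A₂ ≤ 𝐍(coreOf 2 𝐂[a]) := fun a ha =>
    (hAc ha).trans (H44.le_normalizer_coreOf _ _)
  have hθO : ∀ a ∈ A₁ ⊔ A₂, θ a ≤ coreOf 2 𝐂[a] := fun a ha => inf_le_left.trans
    (sup_le (commutator_le_left_of_le_normalizer (le_sup_left.trans (hAO a ha))) inf_le_left)
  have haux : ∀ a ∈ A₁ ⊔ A₂, ∀ B, B ≤ A₁ ⊔ A₂ →
      A₁ ⊔ A₂ ≤ 𝐍(⁅coreOf 2 𝐂[a], B⁆ ⊔ coreOf 2 𝐂[a] ⊓ coreOf 2 𝐂(B)) := fun a ha B hB =>
    le_normalizer_sup (le_normalizer_commutator (hAO a ha) (H43.ea_le_normalizer hA hB))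
      (le_normalizer_inf (hAO a ha) ((H43.ea_le_centralizer hA hB).trans (H44.le_normalizer_coreOf _ _)))
  have hAθ : ∀ a ∈ A₁ ⊔ A₂, A₁ ⊔ A₂ ≤ 𝐍(θ a) := fun a ha =>
    le_normalizer_inf (haux a ha _ le_sup_left) (haux a ha _ le_sup_right)
  have hnd : ∀ a ∈ A₁ ⊔ A₂, ∀ W, W ≤ θ a → ¬ 2 ∣ Nat.card W := fun a ha W hW =>
    (Nat.Prime.coprime_iff_not_dvd Nat.prime_two).1 (H44.coprime_of_le_coreOf (hW.trans (hθO a ha))).symm
  have part1 : ∀ a ∈ A₁ ⊔ A₂, ∀ b ∈ A₁ ⊔ A₂, b ≠ 1 → θ a ⊓ 𝐂[b] ≤ coreOf 2 𝐂[b] := by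
    intro a ha b hb hb1
    refine le_core_of_cbar (pgroupS (H43.ea_isPGroup hA) (zpowers_le.2 ha)) (zpowers_le.2 (hAc hb ha))
      ((inf_le_inf_right _ (hθO a ha)).trans core_inf_le) fun E hE => ?_
    rcases hsep' b hb hb1 E hE with h | h
    · exact (inf_le_inf_right _ inf_le_left).trans (one_side hA h41 hsep' ha hb hE h)
    · refine (inf_le_inf_right _ inf_le_right).trans (one_side (sup_comm A₁ A₂ ▸ hA) h42
        (fun x hx h1 E hE => (hsep' x (sup_comm A₁ A₂ ▸ hx) h1 E hE).symm) (sup_comm A₁ A₂ ▸ ha)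
        (sup_comm A₁ A₂ ▸ hb) hE h)
  refine ⟨fun a ha _ => (hθO a ha).trans (H44.coreOf_le _ _), fun a ha _ => hnd a ha _ le_rfl,
    fun a ha _ b hb x hx => conj_mem_of_mem_normalizer (hAθ a ha hb) hx, fun a ha _ b hb hb1 => ?_⟩
  have part2 : ∀ B, B ≤ A₁ ⊔ A₂ → Nat.card B = 4 →
      θ a ⊓ 𝐂[b] ≤ ⁅coreOf 2 𝐂[b], B⁆ ⊔ coreOf 2 𝐂[b] ⊓ coreOf 2 𝐂(B) := by
    intro B hB h4
    have hBe := H43.ea_of_le hA hB
    have hn : B ≤ 𝐍(θ a ⊓ 𝐂[b]) :=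
      hB.trans (le_normalizer_inf (hAθ a ha) ((hAc hb).trans le_normalizer))
    rw [← H2.commutator_sup_centralizer hn (H43.ea_coprime hBe (hnd a ha _ inf_le_left))
      (Or.inl (H43.ea_solvable hBe))]
    refine sup_le_sup (commutator_mono (part1 a ha b hb hb1) le_rfl)
      (le_inf (inf_le_left.trans (part1 a ha b hb hb1)) ?_)
    obtain ⟨⟨s, hs⟩, hs1⟩ := (Subgroup.ne_bot_iff_exists_ne_one).1
      (H43.ne_bot_of_pow_le (p := 2) (A := B) two_ne_zero (by rw [h4]; norm_num))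
    refine le_trans (le_inf ?_ inf_le_right) (H44.coreOf_inf_le (cent_le_cent1 hs))
    exact (inf_le_inf inf_le_left (cent_le_cent1 hs)).trans
      (part1 a ha s (hB hs) fun e => hs1 (Subtype.ext e))
  exact le_inf (part2 _ le_sup_left h41) (part2 _ le_sup_right h42)

end Cfsg.Agent.S1330
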