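import Mathlib
import Cfsg.Agent.Base
import Cfsg.Agent.Lib.Comp.FStar
import Cfsg.Statements.S1339

set_option autoImplicit false
open Cfsg

namespace Cfsg.Agent.S1339

open Matrix Subgroup

variable {F : Type*} [Field F] {n : ℕ}

/-- The action on column vectors. -/
def act (g : SpecialLinearGroup (Fin n) F) : (Fin n → F) →ₗ[F] (Fin n → F) :=
  Matrix.toLin' (g : Matrix (Fin n) (Fin n) F)

theorem act_mul (g h : SpecialLinearGroup (Fin n) F) (v : Fin n → F) :
    act (g * h) v = act g (act h v) := by
  simp [act, Matrix.toLin'_mul]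

theorem act_one (v : Fin n → F) : act (1 : SpecialLinearGroup (Fin n) F) v = v := by
  simp [act]

theorem act_inv_act (g : SpecialLinearGroup (Fin n) F) (v : Fin n → F) : act g⁻¹ (act g v) = v := by
  rw [← act_mul, inv_mul_cancel, act_one]

theorem act_act_inv (g : SpecialLinearGroup (Fin n) F) (v : Fin n → F) : act g (act g⁻¹ v) = v := by
  rw [← act_mul, mul_inv_cancel, act_one]

theorem ext_act {g h : SpecialLinearGroup (Fin n) F} (e : ∀ v, act g v = act h v) : g = h :=
  Subtype.ext (Matrix.toLin'.injective (LinearMap.ext e))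

theorem act_tv {i j : Fin n} (hij : i ≠ j) (v : Fin n → F) :
    act (SpecialLinearGroup.transvection hij (1 : F)) v = v + v j • Pi.single i 1 := by
  simp [act, SpecialLinearGroup.transvection_coe, single_mulVec_eq]

theorem comm_tv (h01 : ∀ x : F, x = 0 ∨ x = 1) {i j : Fin n} (hij : i ≠ j)
    {g : SpecialLinearGroup (Fin n) F}
    (h : g * SpecialLinearGroup.transvection hij 1 = SpecialLinearGroup.transvection hij 1 * g) :
    act g (Pi.single i 1) = Pi.single i 1 ∧ ∀ v, act g v j = v j := by
  have key : ∀ v : Fin n → F, v j • act g (Pi.single i 1) = act g v j • Pi.single i 1 := by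
    intro v
    have := congrArg (fun x => act x v) h
    simp only [act_mul, act_tv, map_add, map_smul] at this
    exact add_left_cancel this
  have h1 : act g (Pi.single i 1) = Pi.single i 1 := by
    have := key (Pi.single j 1)
    rw [Pi.single_eq_same, one_smul] at this
    rcases h01 (act g (Pi.single j 1) j) with e | e
    · rw [e, zero_smul] at this
      have h2 := act_inv_act g (Pi.single i 1)
      rw [this, map_zero] at h2
      have := congrFun h2 i
      simp at this
    · rw [this, e, one_smul]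
  refine ⟨h1, fun v => ?_⟩
  have := congrFun (key v) i
  rw [h1] at this
  simpa using this.symm

/-- Let F be a field with 2 elements, n ≥ 3, and t ∈ SL(n, F) a transvection (t = 1 + E_{ij}, i ≠ j). Then the generalized Fitting subgroup of C(t) is O_2(C(t)). -/
theorem result {F : Type*} [Field F] [Fintype F] [DecidableEq F] (hF : Fintype.card F = 2) (n : ℕ) (hn : 3 ≤ n) (i j : Fin n) (hij : i ≠ j) (t : Matrix.SpecialLinearGroup (Fin n) F) (ht : (t : Matrix (Fin n) (Fin n) F) = Matrix.transvection i j 1) : Cfsg.generalizedFittingSubgroup ↥(Subgroup.centralizer ({t} : Set (Matrix.SpecialLinearGroup (Fin n) F))) = Cfsg.pCore 2 ↥(Subgroup.centralizer ({t} : Set (Matrix.SpecialLinearGroup (Fin n) F))) := by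
  classical
  haveI : Fact (Nat.Prime 2) := ⟨Nat.prime_two⟩
  have h01 : ∀ x : F, x = 0 ∨ x = 1 := by
    intro x
    by_contra hx
    push Not at hx
    have : ({0, 1, x} : Finset F).card ≤ Fintype.card F := Finset.card_le_univ _
    rw [Finset.card_eq_three.2 ⟨0, 1, x, zero_ne_one, hx.1.symm, hx.2.symm, rfl⟩] at this
    omega
  have h2 : (1 : F) + 1 = 0 := by
    rcases h01 (1 + 1) with h | h
    · exact h
    · simp at h
  have hvv : ∀ v : Fin n → F, v + v = 0 := fun v => by
    rw [← one_smul F v, ← add_smul, h2, zero_smul]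
  obtain rfl : t = SpecialLinearGroup.transvection hij 1 := Subtype.ext ht
  set C := centralizer ({SpecialLinearGroup.transvection hij (1 : F)} :
    Set (SpecialLinearGroup (Fin n) F)) with hC
  have hc : ∀ g : C, act g.1 (Pi.single i 1) = Pi.single i 1 ∧ ∀ v, act g.1 v j = v j :=
    fun g => comm_tv h01 hij (mem_centralizer_singleton_iff.1 g.2)
  let Q : Subgroup C :=
    { carrier := {g | ∀ v : Fin n → F, v j = 0 → ∃ c : F, act g.1 v = v + c • Pi.single i 1}
      one_mem' := fun v _ => ⟨0, by simp [act_one]⟩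
      mul_mem' := by
        intro a b ha hb v hv
        obtain ⟨c, e⟩ := hb v hv
        obtain ⟨d, e'⟩ := ha v hv
        refine ⟨d + c, ?_⟩
        rw [coe_mul, act_mul, e, map_add, map_smul, e', (hc a).1, add_smul, add_assoc]
      inv_mem' := by
        intro a ha v hv
        obtain ⟨c, e⟩ := ha v hv
        refine ⟨-c, ?_⟩
        have := act_inv_act a.1 v
        rw [e, map_add, map_smul, ← coe_inv, (hc a⁻¹).1] at this
        rw [neg_smul, ← sub_eq_add_neg, eq_sub_iff_add_eq, this] }
  have hQ : ∀ g : C, g ∈ Q ↔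
      ∀ v : Fin n → F, v j = 0 → ∃ c : F, act g.1 v = v + c • Pi.single i 1 := fun _ => Iff.rfl
  haveI : Q.Normal := ⟨by
    intro g hg x
    rw [hQ]
    intro v hv
    obtain ⟨c, e⟩ := hg (act x⁻¹.1 v) (by rw [(hc x⁻¹).2, hv])
    refine ⟨c, ?_⟩
    rw [coe_mul, coe_mul, act_mul, act_mul, e, map_add, map_smul, (hc x).1, coe_inv, act_act_inv]⟩
  have hQ2 : IsPGroup 2 Q := by
    intro g
    refine ⟨2, Subtype.ext (Subtype.ext (ext_act fun v => ?_))⟩
    have sq : ∀ v, ∃ c : F, act g.1.1 (act g.1.1 v) = v + c • Pi.single i 1 := by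
      intro v
      obtain ⟨c, e⟩ := g.2 (act g.1.1 v - v) (by simp [(hc g.1).2])
      refine ⟨c, ?_⟩
      rw [map_sub, sub_eq_iff_eq_add] at e
      rw [e]
      have := hvv (act g.1.1 v)
      have h' := hvv v
      calc _ = (act g.1.1 v + act g.1.1 v) - (v + v) + (v + c • Pi.single i 1) := by abel
        _ = _ := by rw [this, h']; simp
    obtain ⟨c, e⟩ := sq v
    have : (((g ^ 2 ^ 2 : Q) : C) : SpecialLinearGroup (Fin n) F) = g.1.1 * g.1.1 * (g.1.1 * g.1.1) := by
      rw [SubgroupClass.coe_pow, SubgroupClass.coe_pow, show 2 ^ 2 = 2 + 2 by norm_num, pow_add, pow_two]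
    rw [this, act_mul, act_mul, act_mul, e]
    simp only [map_add, map_smul, (hc g.1).1, e, OneMemClass.coe_one, act_one]
    rw [add_assoc, hvv, add_zero]
  have hle : Q ≤ pCore 2 C := H1.le_pCore hQ2
  rw [H23.fStar_eq_pCore_iff]
  refine le_trans (centralizer_le hle) (le_trans ?_ hle)
  intro g hg
  have hfix : ∀ k, k ≠ j → act g.1 (Pi.single k 1) = Pi.single k 1 := by
    intro k hk
    have hm : SpecialLinearGroup.transvection hk (1 : F) ∈ C := by
      rw [mem_centralizer_singleton_iff]
      refine ext_act fun v => ?_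
      simp only [act_mul, act_tv, Pi.add_apply, Pi.smul_apply, Pi.single_eq_of_ne hij.symm,
        Pi.single_eq_of_ne hk.symm, smul_zero, add_zero]
      abel
    have hmQ : (⟨_, hm⟩ : C) ∈ Q := fun v hv => ⟨0, by simp [act_tv, hv]⟩
    exact (comm_tv h01 hk (congrArg Subtype.val (mem_centralizer_iff.1 hg _ hmQ)).symm).1
  intro v hv
  refine ⟨0, ?_⟩
  rw [zero_smul, add_zero]
  conv_lhs => rw [pi_eq_sum_univ' v]
  conv_rhs => rw [pi_eq_sum_univ' v]
  rw [map_sum]
  refine Finset.sum_congr rfl fun k _ => ?_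
  rw [map_smul]
  by_cases hk : k = j
  · rw [hk, hv, zero_smul, zero_smul]
  · rw [hfix k hk]

end Cfsg.Agent.S1339
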