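import Mathlib
import Cfsg.Agent.Base
import Cfsg.Agent.Lib.BlkSL.Basic
import Cfsg.Agent.Lib.Core.PCore
import Cfsg.Statements.S1340

set_option autoImplicit false
open Cfsg

namespace Cfsg.Agent.S1340

open Matrix H63.Emb H79.BS Subgroup

/-- Let F be a finite field of odd order and n ≥ 3 with (n, |F|) ≠ (3, 3). Then GL(n, F) has a non-central involution t such that C(t) / O(C(t)) has a component. -/
theorem result {F : Type*} [Field F] [Fintype F] [DecidableEq F] (hF : Odd (Fintype.card F)) (n : ℕ) (hn : 3 ≤ n) (h33 : ¬ (n = 3 ∧ Fintype.card F = 3)) : ∃ t : Matrix.GeneralLinearGroup (Fin n) F, orderOf t = 2 ∧ t ∉ Subgroup.center (Matrix.GeneralLinearGroup (Fin n) F) ∧ Cfsg.HasComponent (↥(Subgroup.centralizer ({t} : Set (Matrix.GeneralLinearGroup (Fin n) F))) ⧸ Cfsg.oddCore ↥(Subgroup.centralizer ({t} : Set (Matrix.GeneralLinearGroup (Fin n) F)))) := by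
  obtain ⟨m, rfl⟩ : ∃ m, n = m + 1 := ⟨n - 1, by omega⟩
  have h2 := two_ne_zero_of_odd hF
  have hq : IsQuasisimple (SpecialLinearGroup (Fin m) F) := by
    refine isQuasisimple_SL m (by omega) fun h => ?_
    have h1 : 1 < Fintype.card F := Fintype.one_lt_card
    rw [Nat.card_eq_fintype_card]
    obtain ⟨k, hk⟩ := hF
    omega
  have hd : (diagonal (dg F (lastSplit m (Sum.inr ())))).det ≠ 0 := by
    rw [det_diagonal, Finset.prod_ne_zero_iff]
    intro i _
    unfold dg
    split_ifs <;> simp
  let S : Setup (F := F) (lastSplit m) (GL (Fin (m + 1)) F) :=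
    { ρ := Units.coeHom _
      inj := Units.val_injective
      ψ := SpecialLinearGroup.toGL.comp (slBlock (lastSplit m))
      comp := fun _ => rfl
      t := GeneralLinearGroup.mkOfDetNeZero _ hd
      ht := rfl
      two := h2 }
  haveI : Nontrivial (Fin m) := Fin.nontrivial_iff_two_le.2 (by omega)
  refine ⟨S.t, S.orderOf_t, fun h => ?_, ?_⟩
  · obtain ⟨i⟩ : Nonempty (Fin m) := inferInstance
    have hi := inl_ne (lastSplit m) i
    have := S.mem_cent.1 (mem_centralizer_singleton_iff.2 (mem_center_iff.1 h
      (SpecialLinearGroup.toGL (SpecialLinearGroup.transvection hi (1 : F)))))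
    have h3 : transvection (lastSplit m (Sum.inl i)) (lastSplit m (Sum.inr ())) (1 : F)
      (lastSplit m (Sum.inl i)) (lastSplit m (Sum.inr ())) = 0 := (this _ hi).1
    rw [transvection, Matrix.add_apply, one_apply_ne hi, single_apply_same, zero_add] at h3
    exact one_ne_zero h3
  · refine ⟨_, H23.IsComponent.map_of_surjective (S.isComponent hq) (QuotientGroup.mk'_surjective _) ?_⟩
    rw [Ne, Subgroup.map_eq_bot_iff, QuotientGroup.ker_mk']
    intro hle
    have hodd := H1.odd_card_oddCore.of_dvd_nat (card_dvd_of_le hle)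
    rw [Nat.card_congr (subgroupOfEquivOfLe S.range_le).toEquiv,
      ← Nat.card_congr (MonoidHom.ofInjective S.ψ_inj).toEquiv] at hodd
    obtain ⟨i, j, hij⟩ := exists_pair_ne (Fin m)
    have hne : (-1 : F) ≠ 0 := by simp
    have ho : orderOf (SpecialLinearGroup.diag2n hij (-1 : F) hne) = 2 := by
      refine orderOf_eq_prime (Subtype.ext ?_) fun h => ?_
      · show (diagonal _) ^ 2 = (1 : Matrix (Fin m) (Fin m) F)
        rw [diagonal_pow, ← diagonal_one]
        congr 1
        ext k
        simp only [Pi.pow_apply]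
        split_ifs <;> simp
      · have : diagonal (fun k => if k = i then (-1 : F) else if k = j then (-1)⁻¹ else 1) i i =
          (1 : Matrix (Fin m) (Fin m) F) i i := congrFun (congrFun (congrArg Subtype.val h) i) i
        rw [diagonal_apply_eq, if_pos rfl, one_apply_eq] at this
        exact h2 (by linear_combination -this)
    exact hodd.not_two_dvd_nat (ho ▸ orderOf_dvd_natCard _)

end Cfsg.Agent.S1340
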