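import Cfsg.Statements.S1346
import Cfsg.Agent.Lib.KBal.Core
import Cfsg.Agent.S1301

set_option autoImplicit false
open Cfsg

namespace Cfsg.Agent.S1346

open Subgroup H44 H68 in
theorem lbalIn_two {G : Type*} [Group G] [Finite G] (H : Subgroup G) : H44.LBalIn 2 H :=
  H44.lbalIn_iff.2 fun P hP => Cfsg.Agent.S1301.result P hP


/-- Let G be a finite group all of whose 2-local subgroups have known non-abelian composition factors, and x, y commuting involutions. Then the extended 2-layer of L*_{2'}(C_G(x)) ∩ C_G(y) (as a group) is contained in L*_{2'}(C_G(y)). -/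
theorem result {G : Type*} [Group G] [Finite G] (hK : ∀ T : Subgroup G, IsPGroup 2 ↥T → T ≠ ⊥ → Cfsg.IsCompositionKGroup ↥(Subgroup.normalizer (T : Set G))) (x y : G) (hx : orderOf x = 2) (hy : orderOf y = 2) (hxy : x * y = y * x) : (Cfsg.extendedTwoLayer ↥((Cfsg.extendedTwoLayer ↥(Subgroup.centralizer ({x} : Set G))).map (Subgroup.centralizer ({x} : Set G)).subtype ⊓ Subgroup.centralizer ({y} : Set G))).map ((Cfsg.extendedTwoLayer ↥(Subgroup.centralizer ({x} : Set G))).map (Subgroup.centralizer ({x} : Set G)).subtype ⊓ Subgroup.centralizer ({y} : Set G)).subtype ≤ (Cfsg.extendedTwoLayer ↥(Subgroup.centralizer ({y} : Set G))).map (Subgroup.centralizer ({y} : Set G)).subtype := by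
  have hn := H58.extendedTwoLayer_normal (X := Subgroup.centralizer ({x} : Set G))
  have hA : H44.SubnIn ((Cfsg.extendedTwoLayer ↥(Subgroup.centralizer ({x} : Set G))).map
      (Subgroup.centralizer ({x} : Set G)).subtype) (Subgroup.centralizer ({x} : Set G)) :=
    H44.SubnIn.map_subtype hn.isSubnormal
  generalize (Cfsg.extendedTwoLayer ↥(Subgroup.centralizer ({x} : Set G))).map
      (Subgroup.centralizer ({x} : Set G)).subtype = A at hA ⊢
  have hxp : IsPGroup 2 (Subgroup.zpowers x) := H44.isPGroup_zpowers_of_orderOf hx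
  have hxy' : Subgroup.zpowers x ≤ Subgroup.centralizer ({y} : Set G) := by
    rw [Subgroup.zpowers_le, Subgroup.mem_centralizer_singleton_iff]
    exact hxy
  have hb := lbalIn_two (Subgroup.centralizer ({y} : Set G))
  have h1 : H44.SubnIn (A ⊓ Subgroup.centralizer ({y} : Set G))
      (Subgroup.centralizer ({y} : Set G) ⊓ Subgroup.centralizer (Subgroup.zpowers x : Set G)) := by
    rw [H44.centralizer_zpowers, inf_comm (Subgroup.centralizer ({y} : Set G))]
    exact hA.inf_right _
  refine H43.KBal.map_extendedTwoLayer_le ?_ ?_ fun T hT hTH => ?_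
  · refine (H44.pLayerOf_le_of_subnIn h1).trans ((hb _ hxp hxy').trans ?_)
    exact Subgroup.map_mono (le_sup_left.trans le_sup_left)
  · exact (H44.coreOf_le_coreOf h1).trans
      (H43.KBal.coreOf_inf_le_map_extendedTwoLayer hb hxp hxy')
  · have hTx : T ≤ Subgroup.centralizer (Subgroup.zpowers x : Set G) :=
      hTH.trans (h1.le.trans inf_le_right)
    have h2 := h1.inf_right (Subgroup.centralizer (T : Set G))
    rw [inf_assoc (Subgroup.centralizer ({y} : Set G)), ← H23.centralizer_sup] at h2
    exact (H44.coreOf_le_coreOf h2).trans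
      (H43.KBal.coreOf_inf_le_map_extendedTwoLayer hb
        (IsPGroup.to_sup_of_normal_left' hxp hT
          (hTx.trans (Subgroup.centralizer_le_normalizer _)))
        (sup_le hxy' (hTH.trans inf_le_right)))

end Cfsg.Agent.S1346
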