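import Mathlib
import Cfsg.Statements.S1532
import Cfsg.Agent.Base
import Cfsg.Agent.Lib.PF.H53_Feit

set_option autoImplicit false
open Cfsg

namespace Cfsg.Agent.S1532


/-- Let G be a finite group, p an odd prime and P a Sylow p-subgroup that is non-abelian, whose underlying set is a TI-subset of G, with P properly contained in its set normaliser N and C_G(x) ≤ P for every non-identity x ∈ P. Let Z be a nontrivial subgroup of the centre of P normalised by N. Then the set of irreducible characters χ of N with χ z ≠ χ 1 for some z ∈ Z is coherent for the map induced by induction from N to G. -/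
theorem result {G : Type*} [Group G] [Fintype G] (p : ℕ) [Fact p.Prime] (hp : p ≠ 2) (P : Sylow p G) (hna : ¬ IsMulCommutative (P : Subgroup G)) (hTI : Cfsg.IsTISubset ((P : Subgroup G) : Set G)) (hlt : (P : Subgroup G) < Subgroup.normalizer ((P : Subgroup G) : Set G)) (hC : ∀ k ∈ (P : Subgroup G), k ≠ 1 → Subgroup.centralizer ({k} : Set G) ≤ (P : Subgroup G)) [Fintype ↥(Subgroup.normalizer ((P : Subgroup G) : Set G))] (Z : Subgroup G) (hZ1 : Z ≠ ⊥) (hZP : ∀ z ∈ Z, z ∈ (P : Subgroup G) ∧ ∀ y ∈ (P : Subgroup G), z * y = y * z) (hZn : ∀ x ∈ Subgroup.normalizer ((P : Subgroup G) : Set G), ∀ z ∈ Z, x * z * x⁻¹ ∈ Z) : Cfsg.IsCoherent {χ : ↥(Subgroup.normalizer ((P : Subgroup G) : Set G)) → ℂ | Cfsg.IsIrrCharacter ↥(Subgroup.normalizer ((P : Subgroup G) : Set G)) χ ∧ ∃ z : ↥(Subgroup.normalizer ((P : Subgroup G) : Set G)), (z : G) ∈ Z ∧ χ z ≠ χ 1} {1}ᶜ (fun α => Cfsg.indFun (Subgroup.normalizer ((P : Subgroup G) : Set G)) α) := by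
  have hZP' : Z ≤ P := fun z hz => (hZP z hz).1
  have hP1 : (P : Subgroup G) ≠ ⊥ := fun h => hZ1 (le_bot_iff.1 (h ▸ hZP'))
  have hF := H53.frobKer_normalizer hP1 hlt hC
  have hT := H51.NormedTI.of_isTISubset hTI rfl hlt.le
  have hZ : H51.NormalIn Z (Subgroup.normalizer ((P : Subgroup G) : Set G)) :=
    ⟨hZP'.trans hlt.le, hZn⟩
  have hodd : Odd (Nat.card (P : Subgroup G)) := by
    rw [P.card_eq_multiplicity]
    exact ((Fact.out : p.Prime).odd_of_ne_two hp).pow
  have h := H53.isCoherent_sibley (H53.frob_odd hF hodd fun h => hna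
    ⟨⟨fun a b => Subtype.ext (h a a.2 b b.2)⟩⟩) hF hT hZ hZP' hZ1
  rw [← H53.frob_setOf_eq (H53.frobKer_subgroupOf hF) (H51.normalIn_top.2 hZ.normal_subgroupOf)
    (Subgroup.subgroupOf_mono _ hZP')] at h
  exact h

end Cfsg.Agent.S1532
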