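import Mathlib
import Cfsg.Statements.S1533
import Cfsg.Agent.Base
import Cfsg.Agent.Lib.PF.H53_Feit

set_option autoImplicit false
open Cfsg

namespace Cfsg.Agent.S1533


/-- Let G be a finite group, p an odd prime, and P a nontrivial Sylow p-subgroup whose underlying set is a TI-subset of G, with P properly contained in its set normaliser N and C_G(x) ≤ P for every non-identity x ∈ P. Let S be the set of irreducible characters χ of N with χ x ≠ χ 1 for some x ∈ P. Then either S has exactly one member, P is elementary abelian and Nat.card P = [N:P] + 1; or (S, N minus 1, induction to G) is coherent. -/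
theorem result {G : Type*} [Group G] [Fintype G] (p : ℕ) [Fact p.Prime] (hp : p ≠ 2) (P : Sylow p G) (hP1 : (P : Subgroup G) ≠ ⊥) (hTI : Cfsg.IsTISubset ((P : Subgroup G) : Set G)) (hlt : (P : Subgroup G) < Subgroup.normalizer ((P : Subgroup G) : Set G)) (hC : ∀ k ∈ (P : Subgroup G), k ≠ 1 → Subgroup.centralizer ({k} : Set G) ≤ (P : Subgroup G)) [Fintype ↥(Subgroup.normalizer ((P : Subgroup G) : Set G))] : (Nat.card {χ : ↥(Subgroup.normalizer ((P : Subgroup G) : Set G)) → ℂ // Cfsg.IsIrrCharacter ↥(Subgroup.normalizer ((P : Subgroup G) : Set G)) χ ∧ ∃ x : ↥(Subgroup.normalizer ((P : Subgroup G) : Set G)), (x : G) ∈ (P : Subgroup G) ∧ χ x ≠ χ 1} = 1 ∧ Cfsg.IsElementaryAbelian p (P : Subgroup G) ∧ Nat.card (P : Subgroup G) = ((P : Subgroup G).subgroupOf (Subgroup.normalizer ((P : Subgroup G) : Set G))).index + 1) ∨ Cfsg.IsCoherent {χ : ↥(Subgroup.normalizer ((P : Subgroup G) : Set G)) → ℂ | Cfsg.IsIrrCharacter ↥(Subgroup.normalizer ((P : Subgroup G) : Set G)) χ ∧ ∃ x : ↥(Subgroup.normalizer ((P : Subgroup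 G) : Set G)), (x : G) ∈ (P : Subgroup G) ∧ χ x ≠ χ 1} {1}ᶜ (fun α => Cfsg.indFun (Subgroup.normalizer ((P : Subgroup G) : Set G)) α) := by
  have hF := H53.frobKer_normalizer hP1 hlt hC
  have hF' := H53.frobKer_subgroupOf hF
  have hT := H51.NormedTI.of_isTISubset hTI rfl hlt.le
  have e := H53.frob_setOf_eq hF' hF'.norm le_rfl
  have pp : p.Prime := Fact.out
  by_cases hc : Nat.card (P : Subgroup G) =
      (P : Subgroup G).relIndex (Subgroup.normalizer ((P : Subgroup G) : Set G)) + 1
  · refine Or.inl ⟨?_, H53.frob_elem_of_card hF hc pp ?_, hc⟩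
    · have h1 := H53.frob_card_one hF' (by
        rw [Nat.card_congr (Subgroup.subgroupOfEquivOfLe hlt.le).toEquiv,
          Subgroup.relIndex_top_right]; exact hc)
      rw [← Nat.card_eq_finsetCard, ← Finset.coe_sort_coe, ← e] at h1
      exact h1
    · exact (P.isPGroup'.card_eq_or_dvd).resolve_left fun h =>
        hP1 (Subgroup.card_eq_one.1 h)
  right
  by_cases hab : ∀ a ∈ (P : Subgroup G), ∀ b ∈ (P : Subgroup G), a * b = b * a
  · have h := H53.isCoherent_feit_ind hF hT hc (Or.inl (H51.commutator_eq_bot_of_comm hab))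
    rw [← e] at h
    exact h
  · have hodd : Odd (Nat.card (P : Subgroup G)) := by
      rw [P.card_eq_multiplicity]
      exact (pp.odd_of_ne_two hp).pow
    have h := H53.isCoherent_sibley (H53.frob_odd hF hodd hab) hF hT hF.norm le_rfl hP1
    rw [← e] at h
    exact h

end Cfsg.Agent.S1533
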