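import Cfsg.Statements.S1598
import Cfsg.Agent.Lib.Spor55.Quartet2

set_option autoImplicit false
open scoped Pointwise
open Cfsg

namespace Cfsg.Agent.S1598

set_option maxRecDepth 100000
open H15 H55.Br

noncomputable def c2 : H54.Cfg := ⟨32, 32, 5, 31, 0xffbbcdeb38bdab49ca307b9ac5a928398a418820,
  0x842108421084210842108421084210842108421,
  0x7bdef7bdef7bdef7bdef7bdef7bdef7bdef7bdef,
  0x8421084210842108421084210842108421084210,
  (.cons 64 0x8421084210842108421 80
    (.cons 65 0x84210842100000000000842108421 40
    (.cons 66 0x8421000000842100000084210000008421 20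
    (.cons 67 0x2100021000210002100021000210002100021 10
    (.cons 68 0x40100401004010040100401004010040100401 5
    (.cons 224 0x2100021000210002100021000210002100021 10
    (.cons 225 0x8421000000842100000084210000008421 20
    (.cons 226 0x84210842100000000000842108421 40
    (.cons 227 0x8421084210842108421 80
    .nil)))))))))⟩
theorem c2_check : c2.check = true := by decide +kernel

noncomputable def ch_3 : H54.Chain := .nil
noncomputable def ch_t2 : H54.Tr :=
 (.node 4 (.node 2 (.leaf 0x2110801200a4000224010842160001211080004010210001004204100080310c5a004030250000002000100000015)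
 (.node 3 (.leaf 0x86100080000030202000862210a1121a000110010900004014000000002c090101733d1200003000201000002)
 (.leaf 0x210080000000000200000000822201a54092004010050000000000110001102009010062090200004000300000003)))
 (.node 12 (.leaf 0x2000861000a13080200001508220118d409a00001005080001502100004410241000404020c20000c000200000010)
 (.node 16 (.leaf 0x201082200004000400002040829010240000004100210000000204090000000d01104900040000010000101000015)
 (.leaf 0x15000000000015))))
noncomputable def ch_2 : H54.Chain := .cons 21 0x21101c ch_t2
  [0xfe359df79ebd84b9c64c6b9f0a152831d4325420, 0xcfb5cc77fbbda0894e35695e45a8d43a5cc10c20]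
  [] ch_3
noncomputable def ch_t1 : H54.Tr :=
 (.node 12 (.node 2 (.node 0 (.leaf 0x2010862000a0000200000012000411211082004100041000015004100040002041008820211100000000300000004)
 (.leaf 0x10863000000000200101001224100c101010011020090100120400008011200800880004000000200020000000c))
 (.node 3 (.leaf 0x21008000000000020000201006120085409e204000240000000020110000002509000042190000003000200000010)
 (.node 4 (.leaf 0x201004100024000400002800863010ac42028000002400000110000900001104100041030c400000400020100000c)
 (.leaf 0x11082100025018e04212900022000a12214a040000009000152310000c011200a11407125500000c000100000017))))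
 (.node 21 (.node 16 (.leaf 0x20008630000010866000201084b011040196804000000900410021190040010011018820008900010000101000017)
 (.leaf 0x42000243002700009020294112112848040002011000112000400c010004300c833015900015000201000010))
 (.node 23 (.leaf 0x17000000000017)
 (.node 32 (.leaf 0x11082100025018e04212900022000a12214a040000009000152310000c011200a114071255000020000000000000)
 (.leaf 0x20008630000010866000201084b011040196804000000900410021190040010011018820008900021000000000000)))))
noncomputable def ch_1 : H54.Chain := .cons 23 0xa1101d ch_t1
  [0xe67f8f6fba65aef8864341522328eba35c0a9270, 0xcf77ac7fdc85867944354a9046b8d47aca205e6c]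
  [[33, 33, 12, 33, 32, 23, 23, 2], [32, 33, 33]] ch_2
noncomputable def ch_t0 : H54.Tr :=
 (.node 11 (.node 7 (.node 6 (.leaf 0x84001025308010010012900221045202a04100010101484210110004110001108070004800006000101000016)
 (.leaf 0x21100220000100063421015214a4010941068000100011000952050100853104431085303c1400007000200000006))
 (.node 8 (.leaf 0x11086301084108a0000281280a00188410000001004100048422514004101014010007108810000800030000000d)
 (.node 9 (.leaf 0x110800000201002100021528632318c2392a0401004010049400410004430040101087108c800009000300000007)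
 (.leaf 0x200004201000008674002010043010251380e0401020080000020105004000080101481009970000b000100000016))))
 (.node 20 (.node 13 (.leaf 0x100800200a41184240108000622100c00100000100100010152259800c121001901080304120000d00020000000b)
 (.node 15 (.leaf 0x803200210002140020000684110411968000100410010110040000c0202011008d3008c20000f00020100000b)
 (.leaf 0x21000412002010043400210082022025431a80000004010041402501004020241800c84119810001400030000000f)))
 (.node 22 (.leaf 0x16000000000016)
 (.node 32 (.leaf 0x200004201000008674002010043010251380e04010200800000201050040000801014810099700020000000000000)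
 (.leaf 0x84001025308010010012900221045202a04100010101484210110004110001108070004800021000000000000)))))
noncomputable def ch_0 : H54.Chain := .cons 22 0x50abc0 ch_t0
  [0xde7b8febdcbac76846aca3913694cf49d4224801, 0xd6f9fefb1989894bca016a900794e95d9d59b062]
  [[32, 33, 8, 33, 32, 15, 11], [15, 15, 8, 20]] ch_1
noncomputable def ch : H54.Chain := ch_0

theorem ch_low0 : H54.checkLow c2 ch_0 = true := by decide +kernel
theorem ch_low : H54.checkLow c2 ch = true := ch_low0
theorem ch_up0 : H54.checkUp c2 ch_0 = true := by decide +kernel
theorem ch_up : H54.checkUp c2 ch = true := ch_up0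
theorem ch_size : ch.size c2.n = 432 := by decide +kernel

noncomputable def ch1_2 : H54.Chain := .nil
noncomputable def ch1_t1 : H54.Tr :=
 (.node 2 (.node 0 (.leaf 0x109b0041100000000100000006)
 (.node 1 (.leaf 0x8a0041100001000201000002)
 (.leaf 0x809211000c0002000101000006)))
 (.node 4 (.leaf 0x10110000000004000201000000)
 (.node 5 (.leaf 0x908311000c0005000200000002)
 (.leaf 0x6000000000006))))
noncomputable def ch1_1 : H54.Chain := .cons 6 119 ch1_t1
  [0xe11766, 0xe85674]
  [] ch1_2
noncomputable def ch1_t0 : H54.Tr :=
 (.node 4 (.node 1 (.node 0 (.leaf 0x840900021c0000000400000004)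
 (.leaf 0x809b10000c0001000300000006))
 (.node 2 (.leaf 0x4800141040002000101000007)
 (.node 3 (.leaf 0x48a0001500003000100000007)
 (.leaf 0x90920143500004000301000005))))
 (.node 6 (.node 5 (.leaf 0x830141100005000201000003)
 (.leaf 0x94000041400006000201000002))
 (.node 7 (.leaf 0x7000000000007)
 (.node 8 (.leaf 0x48a0001500008000000000000)
 (.leaf 0x4800141040009000000000000)))))
noncomputable def ch1_0 : H54.Chain := .cons 7 255 ch1_t0
  [0x668eb4, 0x4e7b81]
  [[8, 8, 9, 2, 5], [9, 9, 8, 9, 8, 9, 5, 1, 6]] ch1_1
noncomputable def ch1 : H54.Chain := ch1_0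

theorem ch1_low0 : H54.checkLow c8 ch1_0 = true := by decide +kernel
theorem ch1_low : H54.checkLow c8 ch1 = true := ch1_low0
theorem ch1_size : ch1.size c8.n = 48 := by decide +kernel


/-- A quartet stabiliser inside the dodecad stabiliser has order 432, a normal subgroup of order 9 with quotient GL(2, 3), and is transitive on the dodecad. -/
theorem result (d : Finset Cfsg.GolayPt) (hd : d ∈ Cfsg.dodecads) (Q : Finset (Finset Cfsg.GolayPt)) (hQ : Q ∈ Cfsg.quartets d) : Nat.card ↥(MulAction.stabilizer Cfsg.M24 d ⊓ MulAction.stabilizer Cfsg.M24 Q) = 432 ∧ (∃ (N : Subgroup ↥(MulAction.stabilizer Cfsg.M24 d ⊓ MulAction.stabilizer Cfsg.M24 Q)) (_ : N.Normal), Nat.card N = 9 ∧ Nonempty (↥(MulAction.stabilizer Cfsg.M24 d ⊓ MulAction.stabilizer Cfsg.M24 Q) ⧸ N ≃* GL (Fin 2) (ZMod 3))) ∧ ∀ p ∈ d, ∀ q ∈ d, ∃ g ∈ (MulAction.stabilizer Cfsg.M24 d ⊓ MulAction.stabilizer Cfsg.M24 Q), ((g : ↥Cfsg.M24) : Equiv.Perm Cfsg.GolayPt) p = q := by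
  obtain ⟨k, hk, rfl, rfl⟩ := flag_quartet hd hQ
  have hc := ((good_chQ hk).card (Xk k) (Kk k)).trans chQ_size
  refine ⟨hc, ?_, trans_of_good (good_chQ hk) (by decide +kernel) (by decide)⟩
  have h1 := good_chG.base_change' X8 (ch := ch1) (by decide +kernel) ch1_low (by decide +kernel)
  obtain ⟨φ, hφ, -⟩ := H54.exists_hom (Xk k) X8 c2_check (Kk k) K8
    (H54.valid_of_in ((good_chQ hk).all_in (Xk k) (S := chQ.gens) (by decide +kernel)))
    (H54.valid_of_in (good_chG.all_in X8 (S := ch1.gens) (by decide +kernel)))
    (by decide +kernel) ch_low ch_up (stab_quartet hk).1.symm h1.2 (by rw [ch_size, hc])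
  let ψ := (Subgroup.topEquiv (G := GL (Fin 2) (ZMod 3))).toMonoidHom.comp φ
  have hψ : Function.Surjective ψ := Subgroup.topEquiv.surjective.comp hφ
  have h2 := H54.card_ker_mul ψ hψ
  rw [hc, card_GL23] at h2
  exact ⟨ψ.ker, inferInstance, by omega, ⟨QuotientGroup.quotientKerEquivOfSurjective ψ hψ⟩⟩

end Cfsg.Agent.S1598
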