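import Cfsg.Statements.S1617
import Cfsg.Agent.Lib.Fischer.PTrans
import Cfsg.Agent.S0205
import Cfsg.Agent.S0215

set_option autoImplicit false
open Cfsg

namespace Cfsg.Agent.S1617

/-- A generating conjugacy class of involutions on which the group (with trivial solvable radical) acts with rank 3 is a class of 3-transpositions. -/
theorem result {G : Type*} [Group G] [Finite G] (hsol : ∀ N : Subgroup G, N.Normal → Group.IsSolvable ↥N → N = ⊥) {D : Set G} (hinv : ∀ d ∈ D, orderOf d = 2) (hconj : ∃ d ∈ D, D = conjugatesOf d) (hgen : Subgroup.closure D = ⊤) (hrank : ∀ x ∈ D, ∃ y ∈ D, ∃ z ∈ D, {w : G | ∃ g : G, Commute g x ∧ g * y * g⁻¹ = w} ≠ {w : G | ∃ g : G, Commute g x ∧ g * x * g⁻¹ = w} ∧ {w : G | ∃ g : G, Commute g x ∧ g * z * g⁻¹ = w} ≠ {w : G | ∃ g : G, Commute g x ∧ g * x * g⁻¹ = w} ∧ {w : G | ∃ g : G, Commute g x ∧ g * y * g⁻¹ = w} ≠ {w : G | ∃ g : G, Commute g x ∧ g * z * g⁻¹ = w} ∧ D = {w : G |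 ∃ g : G, Commute g x ∧ g * x * g⁻¹ = w} ∪ {w : G | ∃ g : G, Commute g x ∧ g * y * g⁻¹ = w} ∪ {w : G | ∃ g : G, Commute g x ∧ g * z * g⁻¹ = w}) : Cfsg.IsThreeTranspositionClass D := by
  obtain ⟨x, hx, hD⟩ := hconj
  have sq : ∀ d ∈ D, d * d = 1 := fun d hd => H9.mul_self_of_orderOf_two (hinv d hd)
  have cj : ∀ d ∈ D, ∀ g : G, g * d * g⁻¹ ∈ D := fun d hd g => hD.ge ((hD.le hd).trans (isConj_iff.2 ⟨g, rfl⟩))
  have tr : ∀ d ∈ D, ∃ g : G, g * x * g⁻¹ = d := fun d hd => isConj_iff.1 (hD.le hd)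
  have hO : ∀ C : Set G, (∀ c ∈ C, ∀ g : G, g * c * g⁻¹ ∈ C) → (∀ a ∈ C, a * a = 1) →
      (∀ a ∈ C, ∀ b ∈ C, ∃ k, (a * b) ^ 2 ^ k = 1) → ∀ c ∈ C, c = 1 := fun C h1 h2 h3 c hc => by
    have hP := H9.isPGroup_closure_of_pairwise (p := 2) h1 fun a ha b hb =>
      (h3 a ha b hb).elim fun _ => H9.isPGroup_closure_pair (h2 a ha) (h2 b hb)
    have := hP.isNilpotent
    refine (Subgroup.eq_bot_iff_forall _).1 (hsol _ ⟨fun n hn g => ?_⟩ inferInstance) c (Subgroup.subset_closure hc)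
    induction hn using Subgroup.closure_induction with
    | mem x hx => exact Subgroup.subset_closure (h1 x hx g)
    | one => simp
    | mul x y _ _ hx hy => simpa [mul_assoc] using mul_mem hx hy
    | inv x _ hx => simpa [mul_assoc] using inv_mem hx
  obtain ⟨p, hp, ho, v, hv, nv, pv⟩ : ∃ p : ℕ, p.Prime ∧ Odd p ∧ ∃ v ∈ D, ¬ Commute x v ∧ (x * v) ^ p = 1 := by
    by_contra c
    refine H9.ne_one_of_orderOf_two (hinv x hx) (hO D cj sq (fun a ha b hb => ?_) x hx)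
    obtain ⟨g, rfl⟩ := tr a ha
    obtain ⟨v, hv, rfl⟩ : ∃ v ∈ D, b = g * v * g⁻¹ := ⟨_, cj b hb g⁻¹, by group⟩
    obtain ⟨k, m, hm, e⟩ := Nat.exists_eq_two_pow_mul_odd (orderOf_pos (x * v)).ne'
    suffices m = 1 from ⟨k, by rw [conj_mul, conj_pow, conj_eq_one_iff, ← mul_one (2 ^ k), ← this, ← e, pow_orderOf_eq_one]⟩
    refine of_not_not fun n => c ?_
    obtain ⟨p, hp, r, rfl⟩ := Nat.exists_prime_and_dvd n
    have hr : 0 < 2 ^ k * r := Nat.pos_of_mul_pos_left (by rw [← mul_left_comm, ← e]; exact orderOf_pos _ : 0 < p * _)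
    have e1 : orderOf ((x * v) ^ (2 ^ k * r)) = p := by
      rw [orderOf_pow' _ hr.ne', e, mul_left_comm, Nat.gcd_mul_left_left, Nat.mul_div_cancel _ hr]
    have e2 := H9.conj_pow_of_inverts (H9.left_inverts (sq x hx) (sq v hv)) (2 ^ k * r)
    generalize (x * v) ^ (2 ^ k * r) = w at e1 e2
    have e3 : x * (w * x * w⁻¹) = (w * w)⁻¹ := by
      rw [H89.iv (sq x hx)] at e2
      rw [mul_inv_rev, ← e2]; group
    refine ⟨p, hp, hm.of_dvd_nat (dvd_mul_right _ _), _, cj x hx w, fun l => ?_, by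
      rw [e3, inv_pow, ← pow_two, ← pow_mul, mul_comm, pow_mul, ← e1, pow_orderOf_eq_one, one_pow, inv_one]⟩
    have := H89.sq_eq_one_of_comm (sq x hx) (sq _ (cj x hx w)) l
    rw [e3, ← mul_inv_rev, inv_eq_one, ← H89.pow_four] at this
    have := H89.eq_one_of_odd_of_pow (e1 ▸ hm.of_dvd_nat (dvd_mul_right _ _)) (k := 2) this
    exact hp.one_lt.ne (by rw [← e1, this, orderOf_one])
  obtain ⟨u, hu, nu, cu⟩ : ∃ u ∈ D, u ≠ x ∧ Commute x u := by
    by_contra c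
    obtain ⟨P, hP⟩ := (H9.isPGroup_zpowers_of_mul_self (sq x hx)).exists_le_sylow
    have xP : x ∈ P := hP (Subgroup.mem_zpowers x)
    obtain ⟨N, h1, h2, h3⟩ := Cfsg.Agent.S0215.result P x (hinv x hx) xP fun g hg => by
      have k : ∀ y ∈ D, y ∈ Subgroup.zpowers x → y = x := fun y hy ⟨n, l⟩ => of_not_not fun ne =>
        c ⟨y, hy, ne, l ▸ (Commute.refl x).zpow_right n⟩
      refine k _ (cj x hx g) (of_not_not fun l => ?_)
      obtain ⟨y, hy, -, y1, y2⟩ := H9.exists_mem_normalizer_closure cj P.isPGroup' hP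
        (Subgroup.zpowers_le.2 (Subgroup.subset_closure ⟨hx, Subgroup.mem_zpowers x⟩)) ⟨_, cj x hx g, hg, l⟩
      exact c ⟨y, hy, fun e => y1 (e ▸ Subgroup.mem_zpowers _), (mul_inv_eq_iff_eq_mul.1 (k _ (cj x hx y)
        ((Subgroup.mem_normalizer_iff.1 y2 x).1 (Subgroup.mem_zpowers x)))).symm⟩
    rw [hsol N h1 (Cfsg.Agent.S0205.result h2)] at h3
    exact nv (mul_inv_eq_iff_eq_mul.1 (mul_inv_eq_one.1 (h3 v))).symm.symm
  have orb : ∀ w ∈ D, w = x ∨ (∃ g, Commute g x ∧ g * u * g⁻¹ = w) ∨ ∃ g, Commute g x ∧ g * v * g⁻¹ = w := by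
    obtain ⟨y, -, z, -, -, -, -, e⟩ := hrank x hx
    have k : ∀ w ∈ D, w = x ∨ (∃ g, Commute g x ∧ g * y * g⁻¹ = w) ∨ ∃ g, Commute g x ∧ g * z * g⁻¹ = w := fun w hw => by
      rcases e.le hw with (⟨g, l, rfl⟩ | l) | l
      exacts [Or.inl (mul_inv_eq_iff_eq_mul.2 l), Or.inr (Or.inl l), Or.inr (Or.inr l)]
    have t : ∀ {y a b : G}, (∃ g, Commute g x ∧ g * y * g⁻¹ = a) → (∃ g, Commute g x ∧ g * y * g⁻¹ = b) →
        ∃ g, Commute g x ∧ g * a * g⁻¹ = b := by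
      rintro y _ _ ⟨g, l, rfl⟩ ⟨k, m, rfl⟩
      exact ⟨k * g⁻¹, m.mul_left l.inv_left, by group⟩
    have n : ¬ ∃ g, Commute g x ∧ g * u * g⁻¹ = v := by
      rintro ⟨g, l, rfl⟩
      exact nv (l.symm.mul_right cu |>.mul_right l.symm.inv_right)
    intro w hw
    rcases (k u hu).resolve_left nu with a | a <;> rcases (k v hv).resolve_left (fun l => nv (l ▸ rfl)) with b | b
    exacts [absurd (t a b) n, (k w hw).imp_right (Or.imp (t a) (t b)),
      (k w hw).imp_right fun l => l.symm.imp (t a) (t b), absurd (t a b) n]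
  have orb' : ∀ a ∈ D, ∀ b ∈ D, a = b ∨ (∃ g, g * x * g⁻¹ = a ∧ g * u * g⁻¹ = b) ∨
      ∃ g, g * x * g⁻¹ = a ∧ g * v * g⁻¹ = b := fun a ha b hb => by
    obtain ⟨g, rfl⟩ := tr a ha
    rcases orb _ (cj b hb g⁻¹) with e | ⟨k, l, e⟩ | ⟨k, l, e⟩
    · exact Or.inl (by rw [← e]; group)
    · exact Or.inr (Or.inl ⟨g * k, by rw [H89.conj_mul', l.eq, mul_inv_cancel_right], by rw [H89.conj_mul', e]; group⟩)
    · exact Or.inr (Or.inr ⟨g * k, by rw [H89.conj_mul', l.eq, mul_inv_cancel_right], by rw [H89.conj_mul', e]; group⟩)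
  have h : H56.PTr p D := ⟨fun l => H9.ne_one_of_orderOf_two (hinv 1 l) rfl, sq,
    fun a ha b hb => by simpa only [H89.iv (sq b hb)] using cj a ha b, fun a ha b hb => by
      rcases orb' a ha b hb with rfl | ⟨g, rfl, rfl⟩ | ⟨g, rfl, rfl⟩
      exacts [Or.inl rfl, Or.inl (cu.conj g), Or.inr (by rw [conj_mul, conj_pow, pv]; group)]⟩
  by_cases h3 : p = 3
  · exact ⟨⟨hinv, fun a ha b hb => (h.pow a ha b hb).imp
      (fun l => (pow_two _).trans (H89.sq_eq_one_of_comm (sq a ha) (sq b hb) l)) (h3 ▸ ·)⟩, ⟨x, hx, hD⟩, hgen⟩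
  exfalso
  obtain ⟨d, hd, d1, d2⟩ : ∃ d ∈ D, ¬ Commute x d ∧ ¬ Commute u d := by
    by_contra c
    have k : ∀ w ∈ D, w ≠ x → Commute x w → ∀ s ∈ D, (s = x ∨ ¬ Commute x s) → Commute w s := by
      rintro w hw n l s hs (rfl | m)
      · exact l.symm
      rcases (orb w hw).resolve_left n with ⟨g, e, rfl⟩ | ⟨g, e, rfl⟩
      · have := (of_not_not fun r => c ⟨_, cj s hs g⁻¹, fun q => m (by
          simpa [mul_assoc, H89.cl e.eq] using q.conj g), r⟩).conj g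
        simpa [mul_assoc] using this
      · exact absurd (by simpa [mul_assoc, ← e.eq] using l.conj g⁻¹) nv
    have k1 : ∀ w ∈ D, ∀ s ∈ D, (s = x ∨ ¬ Commute x s) → (w * s * w⁻¹ = x ∨ ¬ Commute x (w * s * w⁻¹)) :=
      fun w hw s hs l => by
        by_cases m : w = x ∨ ¬ Commute x w
        · by_contra r
          have q : Commute s w := by
            simpa [mul_assoc] using (k _ (cj s hs w) (not_or.1 r).1 (of_not_not (not_or.1 r).2) w hw m).conj w⁻¹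
          exact r (by rwa [← q.eq, mul_inv_cancel_right])
        · rwa [(k w hw (not_or.1 m).1 (of_not_not (not_or.1 m).2) s hs l).eq, mul_inv_cancel_right]
    have k2 : ∀ g ∈ Subgroup.closure D, ∀ s ∈ D, (s = x ∨ ¬ Commute x s) →
        (g * s * g⁻¹ = x ∨ ¬ Commute x (g * s * g⁻¹)) := fun g hg => by
      induction hg using Subgroup.closure_induction'' with
      | mem w hw => exact k1 w hw
      | inv_mem w hw => exact k1 _ (by rwa [H89.iv (sq w hw)])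
      | one => simp
      | mul a b _ _ ha hb => exact fun s hs l => H89.conj_mul' a b s ▸ ha _ (cj s hs b) (hb s hs l)
    obtain ⟨g, rfl⟩ := tr u hu
    exact (k2 g (hgen ▸ trivial) x hx (Or.inl rfl)).elim nu fun l => l cu
  have T : ∀ a ∈ D, ∀ b ∈ D, ∀ c ∈ D, Commute a b → Commute c b → Commute c a := fun a ha b hb c hc k l => by
    rcases orb' a ha b hb with rfl | ⟨g, rfl, rfl⟩ | ⟨g, rfl, rfl⟩
    · exact l
    · exact h.trans hp ho h3 ha hb hc (cj d hd g) k (by rwa [H89.commute_conj_iff']) (by rwa [H89.commute_conj_iff']) l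
    · exact absurd ((H89.commute_conj_iff' g).1 k) nv
  refine nu (inv_inj.1 ?_)
  rw [← eq_inv_of_mul_eq_one_left (hO {t | ∃ a ∈ D, ∃ b ∈ D, Commute a b ∧ a * b = t} ?_ ?_ ?_ _ ⟨x, hx, u, hu, cu, rfl⟩),
    H89.iv (sq x hx)]
  · rintro _ ⟨a, ha, b, hb, c, rfl⟩ g
    exact ⟨_, cj a ha g, _, cj b hb g, c.conj g, conj_mul⟩
  · rintro _ ⟨a, ha, b, hb, c, rfl⟩
    exact H89.sq_eq_one_of_comm (sq a ha) (sq b hb) c
  rintro _ ⟨a, ha, b, hb, c, rfl⟩ _ ⟨e, he, f, hf, k, rfl⟩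
  have t2 := H89.sq_eq_one_of_comm (sq e he) (sq f hf) k
  have m : ∀ a ∈ D, e * f * a * (e * f) ∈ D ∧ Commute a (e * f * a * (e * f)) := fun a ha =>
    ⟨by simpa only [H89.iv t2] using cj a ha (e * f), by
      by_cases l : Commute e a
      · have := l.symm.mul_right (T f hf e he a ha k.symm l.symm)
        exact (this.mul_right rfl).mul_right this
      by_cases q : e = f
      · simp [q, sq f hf]
      · exact h.comm_conj hp ho he hf ha q k l fun q => l (T e he f hf a ha k q.symm).symm⟩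
  obtain ⟨a1, a2⟩ := m a ha
  obtain ⟨b1, b2⟩ := m b hb
  have c1 := T _ a1 a ha b hb a2.symm c.symm
  have c2 := T _ b1 b hb a ha b2.symm c
  have := H89.sq_eq_one_of_comm (H89.sq_eq_one_of_comm (sq a ha) (sq b hb) c) (H89.sq_eq_one_of_comm (sq _ a1) (sq _ b1)
    (T _ b1 a ha _ a1 c2.symm a2.symm)) ((a2.mul_right c2).mul_left (c1.mul_right b2))
  refine ⟨2, ?_⟩
  generalize e * f = t at *
  simpa only [show 2 ^ 2 = 4 from rfl, H89.pow_four, mul_assoc, H89.ll t2] using this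

end Cfsg.Agent.S1617
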