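import Mathlib
import Cfsg.Statements.S1628
import Cfsg.Agent.Lib.Ru.Cls
-- import your own Cfsg.Agent.* helpers here

set_option autoImplicit false
open Cfsg

namespace Cfsg.Agent.S1628

/-- The Conway–Wales lattice as stored is even with no vectors of true norm 2: stored norms are multiples of 8, never equal to 8, and the minimum over nonzero vectors is 16. -/
theorem result : (∀ x ∈ Cfsg.Spor.ruLattice, (8 : ℤ) ∣ Cfsg.Spor.ruNorm x) ∧ (∀ x ∈ Cfsg.Spor.ruLattice, Cfsg.Spor.ruNorm x ≠ 8) ∧ (∀ x ∈ Cfsg.Spor.ruLattice, x ≠ 0 → 16 ≤ Cfsg.Spor.ruNorm x) ∧ ∃ x ∈ Cfsg.Spor.ruLattice, Cfsg.Spor.ruNorm x = 16 := by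
  have key : ∀ x ∈ Cfsg.Spor.ruLattice, x ≠ 0 → 16 ≤ Cfsg.Spor.ruNorm x := fun x hx h0 =>
    (le_total _ _).elim id fun h => (H15.RuM.norm_eq_16 ⟨x, hx⟩ h fun e => h0 (congrArg Subtype.val e)).ge
  refine ⟨fun x => H15.RuM.eight_dvd_norm, fun x hx e => ?_, key,
    _, H15.RuM.E_mem 0 (by norm_num), H15.RuM.norm_E (by norm_num)⟩
  have := key x hx (by rintro rfl; rw [H15.RuM.norm_eq, H15.RuM.ip_zero] at e; omega)
  omega

end Cfsg.Agent.S1628
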