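import Cfsg.Statements.S1638
import Cfsg.Agent.Lib.Spor55.Orb
import Cfsg.Agent.Lib.Golay.Mathieu

set_option autoImplicit false
open scoped Pointwise
open Cfsg

namespace Cfsg.Agent.S1638

open H15 H55.Orb

/-- the pair with code `u` -/
def duad (u : ℕ) : ℕ := Nat.lor (Nat.shiftLeft 1 (Nat.div u 24)) (Nat.shiftLeft 1 (Nat.mod u 24))
/-- code of a pair -/
def ind (m : ℕ) : ℕ :=
  Nat.add (Nat.mul 24 (Nat.log2 m)) (Nat.log2 (Nat.xor m (Nat.shiftLeft 1 (Nat.log2 m))))
/-- the octads through `23, 0, 1, 2` -/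
def octs : List ℕ := [12656663, 8536111, 11010247, 9471495, 8657159]
/-- containment in one of these octads -/
def inO (m : ℕ) : Bool := octs.any fun o => Nat.beq (Nat.land m o) m
/-- class function -/
def clsG (A s : ℕ) (P : ℕ → Bool) (m : ℕ) : ℕ :=
  sel (Nat.beq (Nat.land A m) 0) (sel (Nat.beq m s) 0 (sel (Nat.beq (wt m) 2)
    (Nat.succ (Nat.add (wt (Nat.land s m)) (sel (P m) 2 0))) 0)) 0
local notation "cls" => clsG 8388609 6 inO
/-- generators -/
def aL : List ℕ := [970201082645710579202727953574364224, 981645381388921989451497917068641344, 969280405891795021807047524419668000]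
/-- descent table -/
def aT : ℕ := 0x62006000600042006000300062003000300052005200500050005100400052006100200042003000400000000000620000006000410062004200610052002100500061002100610051005100320041007200400061004100410000000000600060000000600050004200500042006100610061004100510041004200600062005100600060004100520000000000600041006000000042006200500051003100610050006200600070003100300040005200600051005100400000000000420062005000420000003100400022004100500022002000400042003100500041005100620051002200200000000000600042004200620031000000520011005000720061005100310042004000500061001100400050001100220000000000300061005000500040005200000030007000410031005200410060005000510050005000300021003000300000000000620052004200510022001100300000006000500052006200420031004100510040006000510051003100400000000000300021006100310041005000700060000000510052006200700041003200120032001200620040002100120000000000300050006100610050007200410050005100000030005000720050004000600062004000400051004000300000000000520061006100500022006100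310052005200300000001000320051003200100030006000510041001000320000000000520021004100620020005100520062006200500010000000410052002100410052006000320042003200210000000000500061005100600040003100410042007000720032004100000041006200500050006100400052004100410000000000500051004100700042004200600031004100500051005200410000006100520060007100520072005200410000000000510051004200310031004000500041003200400032002100620061000000620062004000510020002000300000000000400032006000300050005000510051001200600010004100500052006200000040007100620052003000320000000000520041006200400041006100500040003200620030005200500060006200400000006100420062004000420000000000610072005100520051001100500060001200400060006000610071004000710061000000600000005000600000000000200040006000600062004000300051006200400051003200400052005100620042006000000000004200200000000000420061006000510051005000210051004000510041004200520072002000520062000000000000002200000000000000300041004100510022001100300031002100400010003200410052002000300040005000420022000000000000000000400041005200400020002200300040001200300032002100410041003000320042006000200000000000000000000000000000000000000000000000000000000000000000000000000000000000000000000000000000000000000000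
theorem a_good : ∀ c ∈ aL, Good (cfg [23, 0] [6]) c := good_cfg_all (by decide +kernel)
theorem a_chk : descChk 24 24 duad ind (fun j m => imgM (aL.getD j idP) m) aT cls
    (fun k => ([0, 24, 0, 40, 10] : List ℕ).getD k 0) = true := by decide +kernel

theorem ofMask_duad {i j : ℕ} (hi : i < 24) (hj : j < 24) :
    ofMask (duad (24 * i + j)) = {pt i, pt j} := by
  have e : duad (24 * i + j) = Nat.lor (2 ^ i) (2 ^ j) := by
    have h1 : Nat.div (24 * i + j) 24 = i := by show (24 * i + j) / 24 = i; omega
    have h2 : Nat.mod (24 * i + j) 24 = j := by show (24 * i + j) % 24 = j; omega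
    unfold duad
    rw [h1, h2]
    congr 1 <;> exact Nat.one_shiftLeft _
  rw [e, ofMask_lor, ofMask_two_pow hi, ofMask_two_pow hj]
  rfl

theorem duad_lt : ∀ u < 24 * 24, duad u < 2 ^ 24 := by decide +kernel

theorem exists_duad {t : Finset GolayPt} (ht : t.card = 2) :
    ∃ u < 24 * 24, u / 24 < u % 24 ∧ ofMask (duad u) = t := by
  obtain ⟨a, b, hab, rfl⟩ := Finset.card_eq_two.1 ht
  have ha := idx_lt a
  have hb := idx_lt b
  rcases lt_or_gt_of_ne (idx_injective.ne hab) with h | h
  · exact ⟨24 * idx a + idx b, by omega, by omega, by rw [ofMask_duad ha hb, pt_idx, pt_idx]⟩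
  · exact ⟨24 * idx b + idx a, by omega, by omega, by
      rw [ofMask_duad hb ha, pt_idx, pt_idx, Finset.pair_comm]⟩

theorem duad_inj : allLt2 24 24 (fun u => Nat.ble (Nat.mod u 24) (Nat.div u 24) ||
    Nat.beq (Nat.add (Nat.mul 24 (Nat.log2 (Nat.xor (duad u) (Nat.shiftLeft 1 (Nat.log2 (duad u))))))
      (Nat.log2 (duad u))) u) = true := by decide +kernel

theorem ncard_duads (f : ℕ → Bool) (S : Set (Finset GolayPt)) (hS : ∀ t ∈ S, t.card = 2)
    (h : ∀ m < 2 ^ 24, ofMask m ∈ S ↔ f m = true) :
    S.ncard = countLt2 24 24 (fun u => Nat.blt (Nat.div u 24) (Nat.mod u 24) && f (duad u)) := by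
  rw [countLt2_eq, ← Set.ncard_coe_finset]
  symm
  apply Set.ncard_congr (fun u _ => ofMask (duad u))
  · intro u hu
    simp only [Finset.coe_filter, Finset.mem_range, Bool.and_eq_true, Set.mem_ofPred_eq] at hu
    exact (h _ (duad_lt u hu.1)).2 hu.2.2
  · intro u v hu hv e
    simp only [Finset.coe_filter, Finset.mem_range, Bool.and_eq_true, Set.mem_ofPred_eq,
      Nat.blt_eq] at hu hv
    have e' := ofMask_inj (duad_lt u hu.1) (duad_lt v hv.1) e
    have h1 := allLt2_iff.1 duad_inj u hu.1
    have h2 := allLt2_iff.1 duad_inj v hv.1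
    simp only [Bool.or_eq_true, Nat.ble_eq, Nat.beq_eq] at h1 h2
    rw [← h1.resolve_left (not_le.2 hu.2.1), ← h2.resolve_left (not_le.2 hv.2.1), e']
  · intro t ht
    obtain ⟨u, hu, hu', rfl⟩ := exists_duad (hS t ht)
    refine ⟨u, ?_, rfl⟩
    simp only [Finset.coe_filter, Finset.mem_range, Bool.and_eq_true, Set.mem_ofPred_eq, Nat.blt_eq]
    exact ⟨hu, hu', (h _ (duad_lt u hu)).1 ht⟩

theorem octs_all : allLt2 64 64 (fun u => !(isOctad (cw u)) ||
    !(Nat.beq (Nat.land 8388615 (cw u)) 8388615) || octs.contains (cw u)) = true := by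
  decide +kernel

theorem octs_ok : ∀ o ∈ octs, isOctad o = true ∧ Nat.land 8388615 o = 8388615 := by decide +kernel

theorem sub4 (o : Finset GolayPt) :
    ofMask 8388615 ⊆ o ↔ pt 23 ∈ o ∧ pt 0 ∈ o ∧ ofMask 6 ⊆ o := by
  rw [show ofMask 8388615 = insert (pt 23) (insert (pt 0) (ofMask 6)) by decide +kernel,
    Finset.insert_subset_iff, Finset.insert_subset_iff]

theorem inO_iff {m : ℕ} (hm : m < 2 ^ 24) : inO m = true ↔
    ∃ o ∈ octads, pt 23 ∈ o ∧ pt 0 ∈ o ∧ ofMask 6 ∪ ofMask m ⊆ o := by
  unfold inO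
  simp only [List.any_eq_true, Nat.beq_eq, Finset.union_subset_iff]
  constructor
  · rintro ⟨o, ho, e⟩
    have := (sub4 _).1 (ofMask_subset_of_land (octs_ok o ho).2)
    exact ⟨ofMask o, ofMask_mem_octads (octs_ok o ho).1, this.1, this.2.1, this.2.2,
      ofMask_subset_of_land e⟩
  · rintro ⟨o, ho, h1, h2, h3, h4⟩
    obtain ⟨u, hu, rfl⟩ := exists_cw_of_mem_codeSets ho.1
    have h := allLt2_iff.1 octs_all u hu
    rw [(ofMask_mem_octads_iff (cw_lt hu)).1 ho,
      (ofMask_subset_iff (by norm_num)).1 ((sub4 _).2 ⟨h1, h2, h3⟩)] at h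
    simp only [Bool.not_true, Nat.beq_refl, Bool.false_or, List.contains_iff_mem] at h
    exact ⟨_, h, (ofMask_subset_iff hm).1 h4⟩

theorem disj2 (t : Finset GolayPt) : Disjoint (ofMask 8388609) t ↔ pt 23 ∉ t ∧ pt 0 ∉ t := by
  rw [show ofMask 8388609 = {pt 23, pt 0} by decide +kernel, Finset.disjoint_insert_left,
    Finset.disjoint_singleton_left]

theorem aux (z m s y x : ℕ) (b : Bool) : sel (Nat.beq z 0) (sel (Nat.beq m s) 0
    (sel (Nat.beq y 2) (Nat.succ (Nat.add x (sel b 2 0))) 0)) 0 =
    if (y = 2 ∧ z = 0) ∧ m ≠ s then x + (if b = true then 2 else 0) + 1 else 0 := by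
  simp only [sel_eq, Nat.beq_eq]
  split_ifs <;> simp_all

open Classical in
theorem clsG_eq {A s m : ℕ} {P : ℕ → Bool} {Q : Prop} (hA : A < 2 ^ 24) (hs : s < 2 ^ 24)
    (hm : m < 2 ^ 24) (hQ : P m = true ↔ Q) : clsG A s P m =
    if ((ofMask m).card = 2 ∧ Disjoint (ofMask A) (ofMask m)) ∧ ofMask m ≠ ofMask s then
      (ofMask s ∩ ofMask m).card + (if Q then 2 else 0) + 1
    else 0 := by
  have e : ofMask m = ofMask s ↔ m = s := ⟨ofMask_inj hm hs, fun h => by rw [h]⟩
  refine (aux _ _ _ _ _ _).trans (if_congr ?_ ?_ rfl)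
  · rw [land_eq_zero_iff hA, card_ofMask, ne_eq, ne_eq, e]
  · rw [← ofMask_land, card_ofMask, if_congr hQ rfl rfl]

open Classical in
theorem cls_eq {m : ℕ} (hm : m < 2 ^ 24) : cls m =
    if ((ofMask m).card = 2 ∧ pt 23 ∉ ofMask m ∧ pt 0 ∉ ofMask m) ∧ ofMask m ≠ ofMask 6 then
      (ofMask 6 ∩ ofMask m).card +
        (if ∃ o ∈ octads, pt 23 ∈ o ∧ pt 0 ∈ o ∧ ofMask 6 ∪ ofMask m ⊆ o then 2 else 0) + 1
    else 0 := by
  refine (clsG_eq (by norm_num) (by norm_num) hm (inO_iff hm)).trans (if_congr ?_ ?_ rfl)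
  · rw [disj2]
  · congr


/-- Fix two points p ≠ q and a pair s of two further points. Among the pairs avoiding p, q and disjoint from s, exactly 30 lie in an octad together with p, q and s and exactly 160 do not; and any two pairs other than s that meet s in equally many points and agree on that octad property are carried to one another by an element of the group of the length-24 code fixing p, q and s. -/
theorem result (p q : Cfsg.GolayPt) (hpq : p ≠ q) (s : Finset Cfsg.GolayPt) (hs : (s.card = 2 ∧ p ∉ s ∧ q ∉ s)) : {t : Finset Cfsg.GolayPt | (t.card = 2 ∧ p ∉ t ∧ q ∉ t) ∧ Disjoint s t ∧ (∃ o ∈ Cfsg.octads, p ∈ o ∧ q ∈ o ∧ s ∪ t ⊆ o)}.ncard = 30 ∧ {t : Finset Cfsg.GolayPt | (t.card = 2 ∧ p ∉ t ∧ q ∉ t) ∧ Disjoint s t ∧ ¬ (∃ o ∈ Cfsg.octads, p ∈ o ∧ q ∈ o ∧ s ∪ t ⊆ o)}.ncard = 160 ∧ ∀ t t' : Finset Cfsg.GolayPt, (t.card = 2 ∧ p ∉ t ∧ q ∉ t) → (t'.card = 2 ∧ p ∉ t' ∧ q ∉ t') → t ≠ s → t' ≠ s → (s ∩ t).card = (s ∩ t').card → ((∃ o ∈ Cfsg.octads, p ∈ o ∧ q ∈ o ∧ s ∪ t ⊆ o) ↔ (∃ o ∈ Cfsg.octads, p ∈ o ∧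 q ∈ o ∧ s ∪ t' ⊆ o)) → ∃ g : Equiv.Perm Cfsg.GolayPt, g ∈ Cfsg.M24 ∧ g p = p ∧ g q = q ∧ g • s = s ∧ g • t = t' := by
  obtain ⟨a, b, hab, rfl⟩ := Finset.card_eq_two.1 hs.1
  have hs2 := hs.2
  simp only [Finset.mem_insert, Finset.mem_singleton, not_or] at hs2
  obtain ⟨k, hk, kp, kq, ka, kb⟩ := M24_trans4 (a' := pt 23) (b' := pt 0) (c' := pt 1) (d' := pt 2)
    hpq hs2.1.1 hs2.1.2 hs2.2.1 hs2.2.2 hab (by decide) (by decide) (by decide) (by decide)
    (by decide) (by decide)
  have ks : k • ({a, b} : Finset GolayPt) = ofMask 6 := by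
    rw [Finset.smul_finset_insert, Finset.smul_finset_singleton,
      show ofMask 6 = {pt 1, pt 2} by decide +kernel, ← ka, ← kb]
    rfl
  generalize ({a, b} : Finset GolayPt) = s at *
  have hO : ∀ t : Finset GolayPt, (∃ o ∈ octads, p ∈ o ∧ q ∈ o ∧ s ∪ t ⊆ o) ↔
      ∃ o ∈ octads, pt 23 ∈ o ∧ pt 0 ∈ o ∧ ofMask 6 ∪ k • t ⊆ o := by
    intro t
    rw [← kp, ← kq, ← ks, ← smul_union]
    constructor
    · rintro ⟨o, ho, h1, h2, h3⟩
      exact ⟨k • o, smul_mem_octads hk ho, (apply_mem_smul_iff k _ _).2 h1,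
        (apply_mem_smul_iff k _ _).2 h2, (smul_subset_smul_iff k _ _).2 h3⟩
    · rintro ⟨o, ho, h1, h2, h3⟩
      rw [← smul_inv_smul k o] at h1 h2 h3
      exact ⟨k⁻¹ • o, smul_mem_octads (M24.inv_mem hk) ho, (apply_mem_smul_iff k _ _).1 h1,
        (apply_mem_smul_iff k _ _).1 h2, (smul_subset_smul_iff k _ _).1 h3⟩
  have hD : ∀ t : Finset GolayPt, (t.card = 2 ∧ p ∉ t ∧ q ∉ t) ↔
      ((k • t).card = 2 ∧ pt 23 ∉ k • t ∧ pt 0 ∉ k • t) := by
    intro t
    rw [← kp, ← kq, card_smul, apply_mem_smul_iff, apply_mem_smul_iff]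
  have hJ : ∀ t : Finset GolayPt, Disjoint s t ↔ (ofMask 6 ∩ k • t).card = 0 := by
    intro t
    rw [← ks, card_inter_smul, Finset.card_eq_zero, Finset.disjoint_iff_inter_eq_empty]
  have h6 : (ofMask 6 ∩ ofMask 6).card = 2 := by decide +kernel
  refine ⟨?_, ?_, ?_⟩
  · rw [ncard_transport k (S' := {t | (t.card = 2 ∧ pt 23 ∉ t ∧ pt 0 ∉ t) ∧
      (ofMask 6 ∩ t).card = 0 ∧ ∃ o ∈ octads, pt 23 ∈ o ∧ pt 0 ∈ o ∧ ofMask 6 ∪ t ⊆ o})
      (fun t => by simp only [Set.mem_ofPred_eq, hO, hD t, hJ]),
      ncard_duads (fun m => Nat.beq (cls m) 3) _ (fun t ht => ht.1.1)]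
    · decide +kernel
    · intro m hm
      rw [Nat.beq_eq, cls_eq hm, Set.mem_ofPred_eq]
      have : (ofMask 6 ∩ ofMask m).card = 0 → ofMask m ≠ ofMask 6 := fun h e => by
        rw [e, h6] at h; omega
      have h2 : (ofMask m).card = 2 → (ofMask 6 ∩ ofMask m).card = 2 → ofMask m = ofMask 6 := by
        intro h1 h2
        have := Finset.eq_of_subset_of_card_le (Finset.inter_subset_right (s₁ := ofMask 6)
          (s₂ := ofMask m)) (by omega)
        rw [Finset.inter_eq_right] at this
        exact Finset.eq_of_subset_of_card_le this (by rw [h1]; decide +kernel)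
      split_ifs with h1 h3
      · simp only [h1.1, h3, and_true, true_and, not_false_eq_true]; omega
      · simp only [h3, and_false, false_iff]
        intro h; exact h1.2 (h2 h1.1.1 (by omega))
      · simp only [iff_false]
        exact fun h => h1 ⟨h.1, this h.2.1⟩
  · rw [ncard_transport k (S' := {t | (t.card = 2 ∧ pt 23 ∉ t ∧ pt 0 ∉ t) ∧
      (ofMask 6 ∩ t).card = 0 ∧ ¬ ∃ o ∈ octads, pt 23 ∈ o ∧ pt 0 ∈ o ∧ ofMask 6 ∪ t ⊆ o})
      (fun t => by simp only [Set.mem_ofPred_eq, hO, hD t, hJ]),
      ncard_duads (fun m => Nat.beq (cls m) 1) _ (fun t ht => ht.1.1)]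
    · decide +kernel
    · intro m hm
      rw [Nat.beq_eq, cls_eq hm, Set.mem_ofPred_eq]
      have : (ofMask 6 ∩ ofMask m).card = 0 → ofMask m ≠ ofMask 6 := fun h e => by
        rw [e, h6] at h; omega
      split_ifs with h1 h3
      · simp only [h3, not_true_eq_false, and_false, false_iff]; omega
      · simp only [h1.1, h3, and_true, true_and, not_false_eq_true]; omega
      · simp only [iff_false]
        exact fun h => h1 ⟨h.1, this h.2.1⟩
  intro t t' ht ht' hts hts' hc ho
  obtain ⟨u, hu, -, eu⟩ := exists_duad ((hD t).1 ht).1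
  obtain ⟨v, hv, -, ev⟩ := exists_duad ((hD t').1 ht').1
  have n1 : k • t ≠ ofMask 6 := fun e => hts (MulAction.injective k (e.trans ks.symm))
  have n2 : k • t' ≠ ofMask 6 := fun e => hts' (MulAction.injective k (e.trans ks.symm))
  obtain ⟨g, hg, e⟩ := orbits_of_descChk ofMask (fun c m hc => permOf_smul hc m) a_good a_chk hu hv
    (by rw [cls_eq (duad_lt u hu), eu, if_pos ⟨(hD t).1 ht, n1⟩]; omega)
    (by
      rw [cls_eq (duad_lt u hu), cls_eq (duad_lt v hv), eu, ev, if_pos ⟨(hD t).1 ht, n1⟩,
        if_pos (And.intro ((hD t').1 ht') n2)]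
      have h1 := (hO t).symm.trans (ho.trans (hO t'))
      have h2 : (ofMask 6 ∩ k • t).card = (ofMask 6 ∩ k • t').card := by
        rw [← ks, card_inter_smul, card_inter_smul, hc]
      rw [h2]
      split_ifs with h3 h4 h4
      exacts [rfl, absurd (h1.1 h3) h4, absurd (h1.2 h4) h3, rfl])
  rw [eu, ev] at e
  exact ⟨k⁻¹ * g * k, conj_mem_M24 hk hg.1, conj_apply_eq (by rw [kp]; exact hg.2.1 23 (by simp)),
    conj_apply_eq (by rw [kq]; exact hg.2.1 0 (by simp)),
    conj_smul_eq (by rw [ks]; exact hg.2.2 6 (by simp)), conj_smul_eq e⟩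

end Cfsg.Agent.S1638
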