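import Mathlib
import Cfsg.Statements.S1644
import Cfsg.Agent.Lib.J1Rec.Main

set_option autoImplicit false
open Cfsg

namespace Cfsg.Agent.S1644

/-- The first Janko group recognised by an involution centraliser, at the level of isomorphism: a finite simple group with abelian Sylow 2-subgroups of order 8 and an involution whose centraliser is isomorphic to Z/2 × A₅ is isomorphic to the subgroup of GL(7, 11) generated by the two explicit Janko matrices. -/
theorem result {G : Type*} [Group G] [Finite G] [IsSimpleGroup G] (S : Sylow 2 G) (hS : IsMulCommutative (S : Subgroup G)) (h8 : Nat.card S = 8) (t : G) (ht : orderOf t = 2) (e : (Subgroup.centralizer ({t} : Set G)) ≃* Multiplicative (ZMod 2) × alternatingGroup (Fin 5)) : Cfsg.Spor.IsoJ1 G := by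
  refine H49.J1.iso_J1_of_simple (t := t) ⟨ht, ?_⟩ e
  have hp : IsPGroup 2 (Subgroup.zpowers t) := by
    refine IsPGroup.of_card (n := 1) ?_
    rw [Nat.card_zpowers, ht]; rfl
  obtain ⟨P, hP⟩ := hp.exists_le_sylow
  refine ⟨P, hP (Subgroup.mem_zpowers t), fun x hx => ?_⟩
  obtain ⟨g, rfl⟩ := MulAction.exists_smul_eq G S P
  have h1 : t ∈ g • S := hP (Subgroup.mem_zpowers t)
  have key : ∀ z : G, z ∈ g • S → g⁻¹ * z * g ∈ (S : Subgroup G) := by
    intro z hz
    have hz' : z ∈ ((g • S : Sylow 2 G) : Subgroup G) := hz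
    rw [Sylow.coe_subgroup_smul, Subgroup.mem_pointwise_smul_iff_inv_smul_mem] at hz'
    simpa using hz'
  have h2 := hS.is_comm.comm ⟨_, key x hx⟩ ⟨_, key t h1⟩
  have h3 : (g⁻¹ * x * g) * (g⁻¹ * t * g) = (g⁻¹ * t * g) * (g⁻¹ * x * g) :=
    congrArg Subtype.val h2
  have h4 : g⁻¹ * (x * t) * g = g⁻¹ * (t * x) * g := by
    calc g⁻¹ * (x * t) * g = (g⁻¹ * x * g) * (g⁻¹ * t * g) := by group
      _ = (g⁻¹ * t * g) * (g⁻¹ * x * g) := h3
      _ = _ := by group
  simpa using h4

end Cfsg.Agent.S1644
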