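import Cfsg.Statements.S5534
import Cfsg.Agent.Lib.YB.Iso
import Cfsg.Agent.Lib.MonSC.Iso

set_option autoImplicit false
open Cfsg

namespace Cfsg.Agent.S5534

/-- The Monster (realised inside the presented Bimonster) has an involution whose centralizer is a non-split double cover of the Baby Monster (the finitely presented group of the definitions): the centralizer has centre of order 2, its central quotient is isomorphic to the Baby Monster, and the centre has no complement. -/
theorem result : ∃ y : Cfsg.Spor.Monster, orderOf y = 2 ∧ Cfsg.IsNonsplitDoubleCover ↥(Subgroup.centralizer ({y} : Set Cfsg.Spor.Monster)) Cfsg.Spor.BabyMonster := by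
  obtain ⟨e⟩ := H95.Gr.iso
  obtain ⟨f⟩ := H18.YB.iso
  refine ⟨e.symm H95.Gr.t0, (e.symm.orderOf_eq _).trans
    (orderOf_eq_prime ((sq _).trans H95.Gr.t0_sq) H95.Gr.ix_t0.ne_one), ?_⟩
  obtain ⟨a, ⟨b⟩, c⟩ := H95.Gr.nonsplit_HH
  refine H18.TC.nonsplit_of_equiv ((e.symm.subgroupMap H95.Gr.HH).trans (MulEquiv.subgroupCongr ?_))
    ⟨a, ⟨b.trans f.symm⟩, c⟩
  ext y
  obtain ⟨y, rfl⟩ := e.symm.surjective y
  refine (Subgroup.mem_map_iff_mem (f := e.symm.toMonoidHom) e.symm.injective).trans ?_
  rw [H95.mem_cent_iff, H95.mem_cent_iff, ← map_mul, ← map_mul, e.symm.injective.eq_iff]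

end Cfsg.Agent.S5534
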