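import Mathlib
import Cfsg.Statements.S1648
import Cfsg.Agent.Lib.MRec.Main

set_option autoImplicit false
open Cfsg

namespace Cfsg.Agent.S1648



/-- Let a finite simple group contain involutions x and y such that the centraliser of x is a non-split double cover of the Baby Monster and the centraliser C of y has a normal subgroup Q, extraspecial of order 2 ^ 25 with an elementary abelian subgroup of order 2 ^ 13, whose centraliser in C lies in Q, with C / Q isomorphic to the first Conway group. Then the group has exactly two conjugacy classes of involutions and order 2^46·3^20·5^9·7^6·11^2·13^3·17·19·23·29·31·41·47·59·71. -/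
theorem result {G : Type*} [Group G] [Finite G] [IsSimpleGroup G] (x : G) (hx : orderOf x = 2) (hcovx : Cfsg.IsNonsplitDoubleCover (Subgroup.centralizer ({x} : Set G)) Cfsg.Spor.BabyMonster) (y : G) (hy : orderOf y = 2) (Q : Subgroup (Subgroup.centralizer ({y} : Set G))) [Q.Normal] (hQ : Cfsg.IsExtraspecial 2 Q) (hcard : Nat.card Q = 2 ^ 25) (hplus : ∃ E : Subgroup Q, Cfsg.IsElementaryAbelian 2 E ∧ Nat.card E = 2 ^ 13) (h2c : Subgroup.centralizer (Q : Set (Subgroup.centralizer ({y} : Set G))) ≤ Q) (hCo1 : Cfsg.Spor.IsoCo1 ((Subgroup.centralizer ({y} : Set G)) ⧸ Q)) : Cfsg.IsM G ∧ ∃ x y : G, orderOf x = 2 ∧ orderOf y = 2 ∧ ¬ IsConj x y ∧ ∀ z : G, orderOf z = 2 → IsConj z x ∨ IsConj z y := by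
  obtain ⟨e, -⟩ := H96.MRec.iso_of_simple hy hQ hcard h2c hCo1
  have o : ∀ {u : H95.Gr.GG}, u * u = 1 → u ≠ 1 → orderOf (e u) = 2 := fun a b =>
    (e.orderOf_eq _).trans (orderOf_eq_prime ((sq _).trans a) b)
  refine ⟨H95.Gr.isM_of_equiv H95.Gr.isM_GG e, e H95.Gr.t0, e H95.Gr.zA,
    o H95.Gr.t0_sq H95.Gr.ix_t0.ne_one, o H95.Gr.iz_z.sq H95.Gr.iz_z.ne_one, fun h => ?_,
    fun z hz => ?_⟩
  · refine H95.Gr.not_iz H95.Gr.ix_t0 ?_
    simpa [H95.Gr.IZ] using e.symm.toMonoidHom.map_isConj h.symm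
  · obtain ⟨u, rfl⟩ := e.surjective z
    rw [e.orderOf_eq] at hz
    exact (H96.MRec.two_classes (x := u) (by rw [← sq, ← hz, pow_orderOf_eq_one])
      fun f => by simp [f] at hz).imp (fun h => e.toMonoidHom.map_isConj h.symm)
      fun h => e.toMonoidHom.map_isConj h.symm

end Cfsg.Agent.S1648
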