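import Cfsg.Statements.S1686
import Mathlib
import Cfsg.Agent.Lib.Refl3.O7
import Cfsg.Agent.Lib.CosetEnum.Fi22

set_option autoImplicit false
open Cfsg

namespace Cfsg.Agent.S1686

/-- In the presented Fischer group Fi₂₂, the subgroup generated by the images of b, …, i is isomorphic to PΩ(7, 3), the commutator subgroup of the isometry group of the quadratic form x₀² + x₁y₁ + x₂y₂ + x₃y₃ over the integers mod 3, modulo its centre. -/
theorem result : Nonempty ((((Subgroup.closure ({Cfsg.Spor.Fi22.b, Cfsg.Spor.Fi22.c, Cfsg.Spor.Fi22.d, Cfsg.Spor.Fi22.e, Cfsg.Spor.Fi22.f, Cfsg.Spor.Fi22.g, Cfsg.Spor.Fi22.h, Cfsg.Spor.Fi22.i} : Set (FreeGroup Cfsg.Spor.Fi22.Gen))).map (PresentedGroup.mk (Cfsg.Spor.coxRelators Cfsg.Spor.Fi22.edges ∪ {r | r ∈ Cfsg.Spor.Fi22.extra})))) ≃* Cfsg.POmega (ZMod 3) (Cfsg.quadFormOdd 3 (ZMod 3))) := by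
  rw [H18.Fi22.O7_eq]
  obtain ⟨e⟩ := H18.Fi22.model.equiv_O7B
  refine ⟨(MulEquiv.subgroupCongr (congrArg Subgroup.closure ?_)).trans e⟩
  ext y
  have s : ∀ k < 9, H18.Fi22.model.s k = H18.Fi22.s k := fun k hk => H18.Fi22.ptC_idx hk
  constructor
  · rintro ⟨k, hk, rfl⟩
    have : k < 9 ∧ k ≠ 0 := by simp at hk; omega
    exact ⟨k, this.1, this.2, s k this.1⟩
  · rintro ⟨k, hk, n, rfl⟩
    exact ⟨k, by simp; omega, (s k hk).symm⟩

end Cfsg.Agent.S1686
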