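import Cfsg.Statements.S1705
import Cfsg.Agent.Lib.MonSC.Iso
import Cfsg.Agent.Lib.MonOrd.Order

set_option autoImplicit false
open Cfsg

namespace Cfsg.Agent.S1705

/-- The Monster, as extracted from the presented Bimonster, is simple of the expected order (that is, it is a simple group of the order of the Monster). -/
theorem result : Cfsg.IsM Cfsg.Spor.Monster := by
  obtain ⟨e⟩ := H95.Gr.iso
  exact H95.Gr.isM_of_equiv H95.Gr.isM_GG e.symm

end Cfsg.Agent.S1705
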