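import Cfsg.Statements.S1744
import Cfsg.Agent.Lib.H81.G2M
import Cfsg.Agent.Lib.G2S.Model

set_option autoImplicit false
open Cfsg

namespace Cfsg.Agent.S1744

open Subgroup

theorem b_mem {G : Type*} [Group G] {n : ℕ} {a b u v : G} (h : H81.G2S n a b u v) : b ∈ h.S := by
  have := mul_mem (mul_mem h.v_mem h.a_mem) (inv_mem h.v_mem)
  rwa [h.va] at this

section
variable {G : Type*} [Group G] [Finite G] {n : ℕ} {a b u v : G} (h : H81.G2S n a b u v) {S : Sylow 2 G}
  (hS : (S : Subgroup G) = h.S) (h1 : ∀ x y : G, orderOf x = 2 → orderOf y = 2 → IsConj x y)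
include hS h1

theorem to_z {x : G} (x2 : x * x = 1) (x1 : x ≠ 1) (xz : x ≠ h.z) (xw : h.w * x = x * h.w) :
    ∃ g, g * x * g⁻¹ = h.z ∧ g * h.z * g⁻¹ = h.y := by
  obtain ⟨g, hg⟩ := isConj_iff.1 (h1 x h.z (H41.orderOf_two_of_mul_self x1 x2)
    (H41.orderOf_two_of_mul_self h.z_ne h.zz))
  obtain ⟨m, hm, h2⟩ := H4.exists_conj_le_sylow_of_le S (K := centralizer {h.z})
    (fun s hs => mem_centralizer_singleton_iff.2 (h.z_comm (hS ▸ hs)))
    (H9.isPGroup_zpowers_of_pow (x := g * h.w * g⁻¹) (a := 2) (by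
      rw [conj_pow, show 2 ^ 2 = 2 * 2 by norm_num, pow_mul, pow_two, pow_two, h.ww, h.zz, mul_one,
        mul_inv_cancel]))
    (zpowers_le.2 (mem_centralizer_singleton_iff.2 (by rw [← hg, conj_mul, xw, conj_mul])))
  have h3 : m * g * x * (m * g)⁻¹ = h.z := by
    rw [show m * g * x * (m * g)⁻¹ = m * (g * x * g⁻¹) * m⁻¹ by group, hg,
      mem_centralizer_singleton_iff.1 hm, mul_inv_cancel_right]
  have h4 : m * g * h.w * (m * g)⁻¹ ∈ h.S := by
    rw [← hS, show m * g * h.w * (m * g)⁻¹ = m * (g * h.w * g⁻¹) * m⁻¹ by group]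
    exact h2 _ (mem_zpowers _)
  generalize m * g = k at h3 h4
  obtain ⟨i, j, e⟩ := h.sq_mem h4
  rw [conj_mul, h.ww] at e
  rcases h.invol_e (i := i) (j := j) (by rw [← e, conj_mul, h.zz, mul_one, mul_inv_cancel]) with
    d | d | d | d <;> rw [← e] at d
  · exact absurd (by simpa using d) h.z_ne
  · rw [← h3, mul_left_inj, mul_right_inj] at d
    exact absurd (by rw [← d, ← h3]) xz
  · exact ⟨k, h3, d⟩
  · have c : v * h.z * v⁻¹ = h.z := by rw [h.z_comm h.v_mem, mul_inv_cancel_right]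
    refine ⟨v * k, ?_, ?_⟩
    · rw [show v * k * x * (v * k)⁻¹ = v * (k * x * k⁻¹) * v⁻¹ by group, h3, c]
    · rw [show v * k * h.z * (v * k)⁻¹ = v * (k * h.z * k⁻¹) * v⁻¹ by group, d, ← conj_mul, h.vyv, c,
        mul_assoc, h.zz, mul_one]

theorem fus_v : ∃ c ∈ centralizer {h.z}, c * v * c⁻¹ = h.y := by
  obtain ⟨g, e1, e2⟩ := to_z h hS h1 h.v2 h.v_ne (fun e => h.z_ne (by
    have := h.z_comm h.y_mem
    rw [← e] at this
    have h2 := h.vyv
    rwa [← this, mul_inv_cancel_right, left_eq_mul] at h2)) h.wv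
  obtain ⟨k, e3, e4⟩ := to_z h hS h1 h.yy h.y_ne h.y_ne_z h.wy
  refine ⟨k⁻¹ * g, mem_centralizer_singleton_iff.2 (mul_inv_eq_iff_eq_mul.1 ?_), ?_⟩
  · rw [show k⁻¹ * g * h.z * (k⁻¹ * g)⁻¹ = k⁻¹ * (g * h.z * g⁻¹) * k by group, e2, ← e4]; group
  · rw [show k⁻¹ * g * v * (k⁻¹ * g)⁻¹ = k⁻¹ * (g * v * g⁻¹) * k by group, e1, ← e3]; group

end

/-- Let G be a finite simple group whose Sylow 2-subgroups are isomorphic to a Sylow 2-subgroup of the Chevalley group of type G₂ over a finite field of odd order, in which all involutions are conjugate. Let S be a Sylow 2-subgroup, t an involution in the centre of S, C its centralizer and Q the quotient of C by its largest normal subgroup of odd order. Then Q has normal subgroups L₁ and L₂, isomorphic to special linear groups of dimension 2 over fields of odd orders, which commute elementwise and whose product is the commutator subgroup of Q. -/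
theorem result {G : Type*} [Group G] [Finite G] [IsSimpleGroup G]
    {F : Type*} [Field F] [Fintype F] (hF : Odd (Fintype.card F)) (S : Sylow 2 G) (P : Sylow 2 ↥(Cfsg.Lie.chevG2.group F))
    (hS : Nonempty (↥(S : Subgroup G) ≃* ↥(P : Subgroup ↥(Cfsg.Lie.chevG2.group F))))
    (h1 : ∀ x y : G, orderOf x = 2 → orderOf y = 2 → IsConj x y) (t : G) (ht : orderOf t = 2) (htS : t ∈ (S : Subgroup G))
    (htZ : ∀ s ∈ (S : Subgroup G), s * t = t * s) :
    ∃ L₁ L₂ : Subgroup (↥(Subgroup.centralizer ({t} : Set G)) ⧸ Cfsg.oddCore ↥(Subgroup.centralizer ({t} : Set G))),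
      L₁.Normal ∧ L₂.Normal ∧
      (∃ (F₁ : Type) (_ : Field F₁) (_ : Fintype F₁), Odd (Fintype.card F₁) ∧ Nonempty (↥L₁ ≃* Matrix.SpecialLinearGroup (Fin 2) F₁)) ∧
      (∃ (F₂ : Type) (_ : Field F₂) (_ : Fintype F₂), Odd (Fintype.card F₂) ∧ Nonempty (↥L₂ ≃* Matrix.SpecialLinearGroup (Fin 2) F₂)) ∧
      ⁅L₁, L₂⁆ = ⊥ ∧ L₁ ⊔ L₂ = commutator _ := by
  obtain ⟨n, a0, b0, u0, v0, h0, hc⟩ := H91.G2.exists_g2s hF P
  obtain ⟨a, b, u, v, h, e⟩ := h0.of_equiv hc hS.some
  obtain rfl : t = h.z := (h.center (e ▸ htS) fun s hs => (htZ s (e ▸ hs)).symm).resolve_left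
    fun e => by simp [e] at ht
  have hle : (S : Subgroup G) ≤ centralizer {h.z} := fun s hs =>
    mem_centralizer_singleton_iff.2 (htZ s hs)
  have m : ∀ {s}, s ∈ h.S → s ∈ centralizer {h.z} := fun hs => hle (e ▸ hs)
  have hb : b ∈ h.S := b_mem h
  have h' : H81.G2S n (⟨a, m h.a_mem⟩ : centralizer {h.z}) ⟨b, m hb⟩ ⟨u, m h.u_mem⟩ ⟨v, m h.v_mem⟩ :=
    H81.G2S.comap (centralizer {h.z}).subtype (subtype_injective _) h
  have e' : (S.subtype hle : Subgroup (centralizer {h.z})) = h'.S := by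
    rw [Sylow.coe_subtype, e.trans (h'.map_S (f := (centralizer {h.z}).subtype) h).symm, subgroupOf,
      comap_map_eq_self_of_injective (subtype_injective _)]
  let π := QuotientGroup.mk' (oddCore (centralizer {h.z}))
  have hπ : Function.Surjective π := QuotientGroup.mk'_surjective _
  have h'' := h'.map π fun i j d => by
    obtain ⟨k, hk⟩ := (S.subtype hle).2 ⟨_, e'.ge (mul_mem (zpow_mem h'.a_mem i)
      (zpow_mem (b_mem h') j))⟩
    exact orderOf_eq_one_iff.1 (Nat.eq_one_of_dvd_coprimes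
      ((Nat.coprime_two_left.2 H1.odd_card_oddCore).pow_left k)
      (orderOf_dvd_of_pow_eq_one (congrArg Subtype.val hk))
      (orderOf_dvd_natCard _ ((QuotientGroup.eq_one_iff _).1 d)))
  obtain ⟨c, hc1, hc2⟩ := fus_v h e h1
  obtain ⟨d, hd1, hd2⟩ := fus_v h.swap (e.trans h.swap_S.symm) h1
  rw [h.swap_z] at hd1
  rw [h.swap_y] at hd2
  refine H81.G2Loc.main (h := h'') (S := (S.subtype hle).mapSurjective hπ)
    ⟨?_, fun g => ?_, H1.pPrimeCore_quotient_pPrimeCore, ?_, ?_⟩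
  · rw [← h'.map_S h'', ← e']; rfl
  · obtain ⟨g, rfl⟩ := hπ g
    rw [← h'.map_z h'', ← map_mul, ← map_mul]
    refine congrArg π (Subtype.ext ?_)
    rw [coe_mul, coe_mul, show (h'.z : G) = h.z from h'.map_z (f := (centralizer {h.z}).subtype) h]
    exact mem_centralizer_singleton_iff.1 g.2
  · rw [← h'.map_y h'']
    exact π.map_isConj (isConj_iff.2 ⟨⟨c, hc1⟩, Subtype.ext
      (hc2.trans (h'.map_y (f := (centralizer {h.z}).subtype) h).symm)⟩)
  · rw [← h'.map_y h'', ← map_mul]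
    exact π.map_isConj (isConj_iff.2 ⟨⟨d, hd1⟩, Subtype.ext
      (hd2.trans (h'.map_y (f := (centralizer {h.z}).subtype) h).symm)⟩)

end Cfsg.Agent.S1744
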