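import Cfsg.Statements.S1750
import Mathlib
import Cfsg.Agent.Base
import Cfsg.Agent.Lib.Co3S.Mod1
import Cfsg.Agent.Lib.Co3S.Mod2
import Cfsg.Agent.Lib.Co3S.Mod3
import Cfsg.Agent.Lib.Co3S.A1
import Cfsg.Agent.Lib.Co3S.A2
import Cfsg.Agent.Lib.Co3S.B
import Cfsg.Agent.Lib.Co3S.FD
import Cfsg.Agent.Lib.Co3S.N1
import Cfsg.Agent.Lib.Co3S.EndB
import Cfsg.Agent.Lib.Co3S.O1
import Cfsg.Agent.Lib.Co3S.O2
import Cfsg.Agent.Lib.Co3S.Kill
-- import your own Cfsg.Agent.* helpers here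

set_option autoImplicit false
open Cfsg

namespace Cfsg.Agent.S1750

/-- Let G be a non-abelian finite simple group with the strong B-property (every section of G has the B-property) possessing a standard subgroup L isomorphic to the Mathieu group of degree 12. Then G is a group of Lie type in characteristic 3, or an alternating group of degree at least 9, or G is isomorphic to the third Conway group. -/
theorem result {G : Type*} [Group G] [Finite G] [IsSimpleGroup G] (hG : ¬ IsMulCommutative G)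
    (hB : Cfsg.HasStrongBProperty G) (L : Subgroup G) (hL : Cfsg.IsStandardSubgroup L)
    (hLX : Nonempty (↥L ≃* ↥Cfsg.Spor.M12)) :
    Cfsg.IsLieTypeChar 3 G ∨ (∃ n : ℕ, 9 ≤ n ∧ Nonempty (G ≃* ↥(alternatingGroup (Fin n)))) ∨ Cfsg.Spor.IsoCo3 G := by
  obtain ⟨X, _, _, J, a, b, s, u, x, y, g, h, M0⟩ := H30.CS.exists_mx0
  have M := M0.mx M0.inv M0.c64
  obtain ⟨α, c, hi⟩ := M0.exists_cov hLX
  have st := H36.SW.A.St.of hL
  have hs := (H30.CS.bad_inner M hL c hi).elim id fun ⟨_, _, hb, hJ⟩ =>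
    H30.CS.syl_of_bad M st c hi hb hJ
  obtain ⟨H, _, _, e, O, N, π, e', a, b, s, u, x, y, Q, F | ⟨L', g, F⟩, sw⟩ :=
    H30.CS.exists_gq M st c hi hs
  · obtain ⟨φ, x, y, C, rfl⟩ := H30.CS.fr_ca F (Q.fd hG) sw
    exact .inr (.inr (Q.co3 C))
  · have D := Q.fd hG
    obtain ⟨g, p, q, μ, hμ, κ, hκ, k⟩ := F.oq (fun ⟨r, hr⟩ => F.nct D (hr ▸ D.cj _ r D.self))
      (F.swap D (sw (F.cet D)))
    exact (k.kill hμ hκ D).elim

end Cfsg.Agent.S1750
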