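import Cfsg.Statements.S1824
import Mathlib
import Cfsg.Agent.Lib.QRC.Main

set_option autoImplicit false
open Cfsg

namespace Cfsg.Agent.S1824

open Subgroup H69 H57.QR

/-- The qrc-lemma in the form used for simple QTKE-groups. Let G be a non-abelian finite simple QTKE-group, T a Sylow 2-subgroup of G and M a maximal 2-local subgroup of G containing T. Let T ≤ M₀ ≤ M, let H be a minimal member of the set of subgroups of G with nontrivial 2-core that contain T and are not contained in M, and let V be a 2-reduced elementary abelian normal 2-subgroup of M₀ with O₂(M₀) = C_T(V). Suppose H ∩ M normalizes O²(M₀) or normalizes V. Then one of the following holds: (1) some nontrivial subgroup of O₂(M₀) is normalized by both M₀ and H; (2) V ≰ O₂(H) and q̂(M₀/C_{M₀}(V), V) ≤ 2; (3) q(M₀/C_{M₀}(V), V) ≤ 2. Here q (resp. q̂) ≤ 2 means that some subgroup of M₀ inducing a nontrivial elementary abelian 2-group A on V acts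 quadratically (resp. cubically) on V with |V : C_V(A)| ≤ |A|². -/
theorem result {G : Type*} [Group G] [Finite G] [IsSimpleGroup G]
    (hG : ¬ IsMulCommutative G) (hQ : Cfsg.IsQTKE G) (T : Sylow 2 G) (M M₀ H V : Subgroup G)
    (hM : M ∈ Cfsg.maxTwoLocalsContaining (T : Subgroup G))
    (hTM₀ : (T : Subgroup G) ≤ M₀) (hM₀M : M₀ ≤ M) (hH : H ∈ Cfsg.calHMin (T : Subgroup G) M)
    (hV : V ∈ Cfsg.calR2 M₀)
    (hR : (Cfsg.pCore 2 ↥M₀).map M₀.subtype = (T : Subgroup G) ⊓ Subgroup.centralizer (V : Set G))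
    (hI : H ⊓ M ≤ Subgroup.normalizer (Cfsg.oddGenerated M₀ : Set G) ∨
      H ⊓ M ≤ Subgroup.normalizer (V : Set G)) :
    (∃ R₀ : Subgroup G, R₀ ≠ ⊥ ∧ R₀ ≤ (Cfsg.pCore 2 ↥M₀).map M₀.subtype ∧
        M₀ ⊔ H ≤ Subgroup.normalizer (R₀ : Set G)) ∨
      (¬ V ≤ (Cfsg.pCore 2 ↥H).map H.subtype ∧ Cfsg.CubicParamLE M₀ V 2) ∨
      Cfsg.QuadParamLE M₀ V 2 := by
  by_contra hcon
  rw [not_or, not_or] at hcon
  obtain ⟨c1, c2, c3⟩ := hcon
  obtain ⟨⟨⟨hO, hTH⟩, n2⟩, hmin⟩ := hH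
  obtain ⟨v1, v2, v3, -⟩ := hV
  have sM := isSylowIn_of_le T hTM₀
  have hVT := sM.le_of_le_normalizer (H24.EA.isPGroup v3) v1 (hTM₀.trans v2)
  have e : Cfsg.oddGenerated M₀ = 𝐑(2, M₀) := le_antisymm
    ((closure_le _).2 fun x hx => mem_res hx.1 (Nat.coprime_two_right.2 hx.2))
    (res_le_iff.2 fun x hx ho => subset_closure ⟨hx, Nat.coprime_two_right.1 ho⟩)
  obtain ⟨N, n4, n5⟩ : ∃ N : Subgroup G, H ⊓ M ≤ 𝐍(N) ∧ (T : Subgroup G) ⊓ N = pCoreOf 2 M₀ := by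
    rcases hI with h | h
    · rw [e] at h
      exact ⟨_, norm_rc h (le_normalizer_pCoreOf_of_le h), inf_rc sM⟩
    · exact ⟨_, le_normalizer_centralizer h, hR.symm⟩
  obtain ⟨h1, A, a1, a2, a3, a4, a5⟩ := qrc (M := M) hQ.2.2 T hTM₀ hTH hO n2 (fun X hX => by
      by_contra hc
      rw [not_or] at hc
      refine hc.1 ((hmin (X ⊓ H) ⟨⟨pCoreOf_ne_bot_iff.1 fun e => pCoreOf_ne_bot_iff.2 hO
        (le_bot_iff.1 (e ▸ H1.le_pCoreOf (((isSylowIn_of_le T hTH).pCoreOf_le).trans (le_inf hX hTH))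
        (inf_le_right.trans (H1.le_normalizer_pCoreOf H)) (H1.isPGroup_pCoreOf H))),
        le_inf hX hTH⟩, hc.2⟩ inf_le_right).ge.trans inf_le_left))
    v3 hVT v2 hR.symm (H1.le_normalizer_pCoreOf M₀) n4 n5
    (nq_of_sylow (isSylowIn_top T) (hTM₀.trans v2) fun B b1 b2 b3 => not_le.1 fun b4 =>
      c3 ⟨B, b1.trans hTM₀, ⟨b3, fun b hb => H24.pow_mem_centralizer_of_quadratic v3.2
        (b1.trans (hTM₀.trans v2)) b2 hb, fun b hb b' hb' =>
        H24.commutator_le_centralizer_of_quadratic b2 (commutator_mem_commutator hb hb')⟩, b2,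
        by rwa [inf_relIndex_left]⟩)
    fun R₀ r1 r2 r3 r4 => c1 ⟨R₀, r1, r2, sup_le r3 r4⟩
  refine c2 ⟨h1, A, a1.trans hTM₀, ⟨a3, fun b hb => ?_, fun b hb b' hb' => ?_⟩, a4,
    by rwa [inf_relIndex_left]⟩
  · rw [a2.2 b hb]; exact one_mem _
  · rw [H24.EA.comm a2 hb hb', mul_inv_cancel_right, mul_inv_cancel]; exact one_mem _

end Cfsg.Agent.S1824
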