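import Mathlib
import Cfsg.Statements.S1904
import Cfsg.Agent.Lib.FGS83.Scn3

set_option autoImplicit false
open Cfsg

namespace Cfsg.Agent.S1904


/-- Let X be a finite nonabelian 2-group with no normal abelian subgroup that is self-centralizing and contains an elementary abelian subgroup of order 8. Suppose a group A of automorphisms of X of odd order satisfies [X, A] = X. Then X is the quaternion group of order 8, or X is special of order 64 with exactly three involutions, all central, or X is extraspecial of order 32 with exactly eleven involutions (the central product of a quaternion group and a dihedral group of order 8). -/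
theorem result {X : Type*} [Group X] [Finite X] (hX : IsPGroup 2 X) (hna : ¬ IsMulCommutative X)
    (hscn : ¬ ∃ A : Subgroup X, A.Normal ∧ Subgroup.centralizer (A : Set X) = A ∧
      ∃ E : Subgroup X, E ≤ A ∧ Cfsg.IsElementaryAbelian 2 E ∧ Nat.card E = 8)
    (A : Subgroup (MulAut X)) (hA : Odd (Nat.card A))
    (hXA : Subgroup.closure {g : X | ∃ φ ∈ A, ∃ x : X, g = x⁻¹ * φ x} = ⊤) :
    Nonempty (X ≃* QuaternionGroup 2) ∨
      (Cfsg.IsSpecial 2 X ∧ Nat.card X = 64 ∧ Nat.card {x : X // orderOf x = 2} = 3 ∧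
        ∀ x : X, orderOf x = 2 → x ∈ Subgroup.center X) ∨
      (Cfsg.IsExtraspecial 2 X ∧ Nat.card X = 32 ∧ Nat.card {x : X // orderOf x = 2} = 11) := by
  refine H83.Scn.Hyp.main (A := A) ⟨hX, hna, fun B b1 b2 b3 => ?_, hA, ?_⟩
  · by_contra e
    obtain ⟨M, m1, m2, m3⟩ := H5.exists_normal_le_card_eq hX B 3 (by
      by_contra e1
      exact e (H83.Mac.card_le_of_lt hX (m := 2) (by omega)))
    haveI := hX.isNilpotent
    obtain ⟨C, c1, -, c2, c3⟩ := H5.exists_scn B b2
    exact hscn ⟨C, c1, c3, M, m2.trans c2, ⟨⟨⟨fun x y => Subtype.ext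
      (congrArg (Subtype.val : B → X) (b2.1.1 ⟨x, m2 x.2⟩ ⟨y, m2 y.2⟩) :)⟩⟩, fun a ha => b3 a (m2 ha)⟩, m3⟩
  · rw [← hXA]
    congr 1; ext x
    exact ⟨fun ⟨g, a, ha, e⟩ => ⟨a, ha, g, e⟩, fun ⟨a, ha, g, e⟩ => ⟨g, a, ha, e⟩⟩

end Cfsg.Agent.S1904
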