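import Cfsg.Statements.S1908
import Mathlib
import Cfsg.Agent.Base
import Cfsg.Agent.Lib.Core.Hall
import Cfsg.Agent.S0205

set_option autoImplicit false
open Cfsg

namespace Cfsg.Agent.S1908

/-- Let π be a set of primes and G a finite π-separable group: G has a chain of normal subgroups from 1 to G in which each successive index is divisible only by primes in π or only by primes outside π. Then G has a Hall π-subgroup, any two Hall π-subgroups of G are conjugate, and every subgroup of G whose order is divisible only by primes in π lies in some Hall π-subgroup. -/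
theorem result {G : Type*} [Group G] [Finite G] (π : Set ℕ)
    (hsep : ∃ (n : ℕ) (H : Fin (n + 1) → Subgroup G), H 0 = ⊥ ∧ H (Fin.last n) = ⊤ ∧ Monotone H ∧ (∀ i, (H i).Normal) ∧
      ∀ i : Fin n, (∀ q : ℕ, q.Prime → q ∣ (H i.castSucc).relIndex (H i.succ) → q ∈ π) ∨
        (∀ q : ℕ, q.Prime → q ∣ (H i.castSucc).relIndex (H i.succ) → q ∉ π)) :
    (∃ K : Subgroup G, Cfsg.IsPiHall π K) ∧
      (∀ K L : Subgroup G, Cfsg.IsPiHall π K → Cfsg.IsPiHall π L → ∃ g : G, L = K.map (MulAut.conj g).toMonoidHom) ∧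
      ∀ U : Subgroup G, (∀ q : ℕ, q.Prime → q ∣ Nat.card U → q ∈ π) → ∃ K : Subgroup G, Cfsg.IsPiHall π K ∧ U ≤ K := by
  have hs : H3.IsPiSeparable π G := by
    obtain ⟨n, H, h0, hl, -, hn, hi⟩ := hsep
    exact H3.isPiSeparable_of_chain H h0 hl hn fun i => (hi i).imp id id
  have hsol : ∀ K : Subgroup G, Cfsg.IsPiSubgroup π K →
      Group.IsSolvable K ∨ H3.PiPrimeSectionsSolvable π G := by
    intro K hK
    by_cases h2 : 2 ∈ π
    · refine Or.inr fun M L _ _ hML => Cfsg.Agent.S0205.result ?_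
      rw [H3.card_map_mk'_eq_relIndex, ← Nat.not_even_iff_odd, even_iff_two_dvd]
      exact fun h => hML 2 Nat.prime_two h h2
    · refine Or.inl (Cfsg.Agent.S0205.result ?_)
      rw [← Nat.not_even_iff_odd, even_iff_two_dvd]
      exact fun h => h2 (H3.isPiSubgroup_iff_piNum.mp hK 2 Nat.prime_two h)
  refine ⟨hs.exists_isPiHall, fun K L hK hL => ?_, fun U hU => ?_⟩
  · obtain ⟨g, hg⟩ := hs.exists_conj_eq hK hL
      (hsol K (H3.isPiSubgroup_iff_piNum.mpr (H3.isPiHall_iff.mp hK).1))
    exact ⟨g, hg.symm⟩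
  · have hU' : Cfsg.IsPiSubgroup π U := H3.isPiSubgroup_iff_piNum.mpr hU
    exact hs.exists_isPiHall_ge hU' (hsol U hU')

end Cfsg.Agent.S1908
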