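import Cfsg.Statements.S1914
import Cfsg.Agent.Lib.C4.Main
import Cfsg.Agent.Lib.Comp.Component

set_option autoImplicit false
open Cfsg

namespace Cfsg.Agent.S1914

/-- Let A be a semisimple subgroup (a central product of quasisimple groups, A = E(A)) of a finite group and t an involution normalizing A such that the Sylow 2-subgroups of C_A(t) are cyclic of order 4. Then A has 2-rank exactly 1. -/
theorem result {G : Type*} [Group G] [Finite G] (A : Subgroup G) (hA : Cfsg.layer ↥A = ⊤)
    (t : G) (ht : orderOf t = 2) (htA : t ∈ Subgroup.normalizer (A : Set G))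
    (hC : ∀ R : Sylow 2 ↥(A ⊓ Subgroup.centralizer ({t} : Set G)), IsCyclic R ∧ Nat.card R = 4) :
    Cfsg.PRankLE 2 1 A ∧ ¬ Cfsg.PRankLE 2 0 A := by
  have : Fact (Nat.Prime 2) := ⟨Nat.prime_two⟩
  have hp : ⁅A, A⁆ = A := by
    have h1 := H23.commutator_layer_self (G := ↥A)
    rw [hA] at h1
    have h2 := congrArg (Subgroup.map A.subtype) h1
    rwa [Subgroup.map_commutator, ← MonoidHom.range_eq_map, Subgroup.range_subtype] at h2
  constructor
  · intro E hE h2
    by_contra hn
    have := Fintype.ofFinite E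
    rw [Nat.card_eq_fintype_card, pow_one, not_le] at hn
    obtain ⟨x, y, z, hxy, hxz, hyz⟩ := Fintype.two_lt_card_iff.1 hn
    have sq : ∀ e : E, ((e : A) : G) * (e : A) = 1 := fun e => by
      have := h2 e e.2
      rw [pow_two] at this
      exact congrArg Subtype.val this
    have inj : ∀ e f : E, ((e : A) : G) = (f : A) → e = f := fun e f h => Subtype.ext (Subtype.ext h)
    rcases H44.C4.main hp ht htA hC ((x⁻¹ * y : E) : A).2 ((x⁻¹ * z : E) : A).2 (sq _) (sq _)
      (congrArg (fun e : E => ((e : A) : G)) (hE.is_comm.comm (x⁻¹ * y) (x⁻¹ * z))) with h | h | h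
    · exact hxy (inv_mul_eq_one.1 (inj _ 1 h))
    · exact hxz (inv_mul_eq_one.1 (inj _ 1 h))
    · exact hyz (mul_left_cancel (inj _ _ h))
  · intro h0
    obtain ⟨R⟩ : Nonempty (Sylow 2 ↥(A ⊓ Subgroup.centralizer ({t} : Set G))) := inferInstance
    obtain ⟨z, hz⟩ := exists_prime_orderOf_dvd_card' (G := R) 2 (by rw [(hC R).2]; norm_num)
    let a : A := ⟨((z : ↥(A ⊓ Subgroup.centralizer ({t} : Set G))) : G), (z : ↥(A ⊓ Subgroup.centralizer ({t} : Set G))).2.1⟩
    have ha : orderOf a = 2 := by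
      rw [← Subgroup.orderOf_coe]
      change orderOf ((z : ↥(A ⊓ Subgroup.centralizer ({t} : Set G))) : G) = 2
      rw [Subgroup.orderOf_coe, Subgroup.orderOf_coe, hz]
    have h1 := h0 (Subgroup.zpowers a) inferInstance fun x hx => by
      obtain ⟨k, rfl⟩ := Subgroup.mem_zpowers_iff.1 hx
      rw [← zpow_natCast, ← zpow_mul, mul_comm, zpow_mul, zpow_natCast, ← ha, pow_orderOf_eq_one, one_zpow]
    rw [Nat.card_zpowers, ha] at h1
    omega

end Cfsg.Agent.S1914
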