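import Cfsg.Statements.S1915
import Mathlib
import Cfsg.Agent.Base
import Cfsg.Agent.Lib.Tech58.RelCyclic
import Cfsg.Agent.Lib.BG.Api.Rank2
import Cfsg.Agent.Lib.Cls.Four
import Cfsg.Agent.Lib.Inv73.Transfer
import Cfsg.Agent.Lib.Fusion.GroupSyl
import Cfsg.Agent.Lib.Comp.Component
import Cfsg.Agent.Lib.Core.HallSZ
import Cfsg.Agent.Lib.BG5.Rank

set_option autoImplicit false
open Cfsg

namespace Cfsg.Agent.S1915

open Subgroup
open scoped commutatorElement

theorem pigeon {α : Type*} {p1 p2 p3 q1 q2 q3 q : α} (h12 : p1 ≠ p2) (h13 : p1 ≠ p3) (h23 : p2 ≠ p3)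
    (h1 : p1 = q1 ∨ p1 = q2 ∨ p1 = q3) (h2 : p2 = q1 ∨ p2 = q2 ∨ p2 = q3)
    (h3 : p3 = q1 ∨ p3 = q2 ∨ p3 = q3) (hq : q = q1 ∨ q = q2 ∨ q = q3) :
    p1 = q ∨ p2 = q ∨ p3 = q := by
  grind

theorem exists_two {X : Type*} [Group X] [Finite X] {U : Subgroup X} (hU : IsKleinFour U) :
    ∃ u ∈ U, ∃ v ∈ U, u ≠ 1 ∧ v ≠ 1 ∧ v ≠ u := by
  have h : 2 < Nat.card U := by rw [hU.card_four]; norm_num
  obtain ⟨u, hu, h1, -⟩ := H19.exists_mem_ne_ne h 1
  obtain ⟨v, hv, h2, h3⟩ := H19.exists_mem_ne_ne h u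
  exact ⟨u, hu, v, hv, h1, h2, h3⟩

theorem cyclic_of_normal {X : Type*} [Group X] [Finite X] (hX : IsPGroup 2 X) (T U : Subgroup X)
    (hU : IsKleinFour U)
    (hr : ∀ u ∈ U, u ≠ 1 → ∀ x ∈ T, ∀ y ∈ T, x * x = 1 → y * y = 1 → Commute x y → Commute x u →
      Commute y u → x = 1 ∨ y = 1 ∨ x = y)
    (E : Subgroup X) (hE : E.Normal) (hET : E ≤ T) (hc : IsMulCommutative E) : IsCyclic E := by
  by_contra hnc
  rw [H45.abelian_pgroup_rank1_cyclic hc (hX.to_subgroup E), not_le] at hnc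
  obtain ⟨F, hFE, hF, hF4⟩ := H45.p_rank_geP.1 (show 2 ≤ H45.pRk 2 E from hnc)
  let O : Subgroup X :=
    { carrier := {x | x ∈ E ∧ x * x = 1}
      one_mem' := ⟨one_mem _, one_mul _⟩
      mul_mem' := fun {a b} ha hb => ⟨mul_mem ha.1 hb.1, by
        rw [mul_assoc, ← mul_assoc b, setLike_mul_comm hb.1 ha.1, mul_assoc, hb.2, mul_one, ha.2]⟩
      inv_mem' := fun {a} ha => ⟨inv_mem ha.1, by rw [← mul_inv_rev, ha.2, inv_one]⟩ }
  haveI : O.Normal := ⟨fun x hx g => ⟨hE.conj_mem x hx.1 g, by rw [conj_mul, hx.2]; simp⟩⟩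
  have hFO : F ≤ O := fun x hx => ⟨hFE hx, by rw [← pow_two]; exact hF.2 x hx⟩
  obtain ⟨z, hz, hzc, hz2⟩ := H5.exists_mem_center_orderOf_eq hX O (fun h => by
    rw [h, le_bot_iff] at hFO
    rw [hFO, card_bot] at hF4; omega)
  have hz1 : z ≠ 1 := by rintro rfl; simp at hz2
  obtain ⟨x, hx, hxz, -, hxc⟩ := H5.exists_step hX (zpowers z) O (fun h => by
    have := card_le_of_le (hFO.trans h)
    rw [hF4, Nat.card_zpowers, hz2] at this; omega)
  have key : ∀ u ∈ U, u ≠ 1 → ⁅x, u⁆ = z := by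
    intro u hu hu1
    obtain ⟨k, hk⟩ := hxc u
    rcases H83.zpow_eq_one_or_self hz.2 k with h | h
    · exfalso
      rcases hr u hu hu1 x (hET hx.1) z (hET hz.1) hx.2 hz.2 (mem_center_iff.1 hzc x)
        (commutatorElement_eq_one_iff_commute.1 (hk.symm.trans h.2))
        (mem_center_iff.1 hzc u).symm with h | h | h
      · exact hxz (h ▸ one_mem _)
      · exact hz1 h
      · exact hxz (h ▸ mem_zpowers _)
    · exact hk.symm.trans h.2
  obtain ⟨u, hu, v, hv, hu1, hv1, hvu⟩ := exists_two hU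
  have h3 := key (u * v) (mul_mem hu hv) (fun h => hvu (by
    rw [← one_mul v, ← H19.mul_self_of_isKleinFour hU hu, mul_assoc, h, mul_one]))
  have h4 : ⁅x, u * v⁆ = ⁅x, u⁆ * (u * ⁅x, v⁆ * u⁻¹) := by
    simp only [commutatorElement_def]; group
  rw [h4, key u hu hu1, key v hv hv1, mem_center_iff.1 hzc u, mul_inv_cancel_right, hz.2] at h3
  exact hz1 h3.symm

theorem two_group {X : Type*} [Group X] [Finite X] (hX : IsPGroup 2 X) (T U V : Subgroup X)
    [hTn : T.Normal] (hU : IsKleinFour U) (hsup : T ⊔ U = ⊤) (hV : IsKleinFour V) (hVT : V ≤ T)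
    (hr : ∀ u ∈ U, u ≠ 1 → ∀ x ∈ T, ∀ y ∈ T, x * x = 1 → y * y = 1 → Commute x y → Commute x u →
      Commute y u → x = 1 ∨ y = 1 ∨ x = y) :
    ∃ (B : Subgroup X) (z t w : X), B ≤ T ∧ B.relIndex T = 2 ∧ (∀ s, s * s ∈ B) ∧
      (∀ y ∈ B, y * y = 1 → y = 1 ∨ y = z) ∧ z ≠ 1 ∧ z * z = 1 ∧ z ∈ B ∧ (∀ s, Commute s z) ∧
      t ∈ T ∧ t ∉ B ∧ t * t = 1 ∧ Commute w t ∧ w * w = z := by
  obtain ⟨a, haT, hBn, h⟩ := H58.exists_rel_cyclic hX T (cyclic_of_normal hX T U hU hr)
  have hVB : ¬ V ≤ zpowers a := fun h => by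
    obtain ⟨u, hu, v, hv, hu1, hv1, hvu⟩ := exists_two hV
    exact H5.not_isCyclic_of_two_invol (h hu) (h hv) hu1 hv1 hvu (H19.mul_self_of_isKleinFour hV hu)
      (H19.mul_self_of_isKleinFour hV hv) inferInstance
  obtain ⟨m, he, hm, hidx, hact⟩ := h.resolve_left fun h => hVB (hVT.trans h)
  obtain ⟨t, htV, htB⟩ := SetLike.not_le_iff_exists.1 hVB
  have htT := hVT htV
  have ht2 := H19.mul_self_of_isKleinFour hV htV
  have hti : t⁻¹ = t := inv_eq_of_mul_eq_one_right ht2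
  set z := a ^ 2 ^ m with hz
  have hconj : ∀ x, x * a * x⁻¹ ∈ zpowers a := fun x => hBn.conj_mem a (mem_zpowers a) x
  have hzc : ∀ g, Commute g z := fun g => mul_inv_eq_iff_eq_mul.1 (H5.conj_half he (hconj g))
  have hz1 : z ≠ 1 := H5.half_ne_one he
  have hz2 : z * z = 1 := H5.half_mul_self he
  have hzB : z ∈ zpowers a := pow_mem (mem_zpowers a) _
  have hBT : zpowers a ≤ T := zpowers_le.2 haT
  have hmul : ∀ x ∈ T, ∀ y ∈ T, (x * y ∈ zpowers a ↔ (x ∈ zpowers a ↔ y ∈ zpowers a)) :=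
    fun x hx y hy => mul_mem_iff_of_index_two (H := (zpowers a).subgroupOf T) hidx
      (a := ⟨x, hx⟩) (b := ⟨y, hy⟩)
  have hcj : ∀ g x, g * x * g⁻¹ ∈ zpowers a ↔ x ∈ zpowers a := fun g x =>
    ⟨fun h => by simpa [mul_assoc] using hBn.conj_mem' _ h g, fun h => hBn.conj_mem _ h g⟩
  have hsq : ∀ s, s * s ∈ zpowers a := by
    intro s
    obtain ⟨x, hx, u, hu, rfl⟩ := H3.mem_sup_iff_of_normal.1 (hsup ▸ mem_top s : s ∈ T ⊔ U)
    have : x * u * (x * u) = x * (u * x * u⁻¹) := by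
      rw [inv_eq_of_mul_eq_one_right (H19.mul_self_of_isKleinFour hU hu)]; group
    rw [this, hmul x hx _ (hTn.conj_mem x hx u), hcj]
  have hcomm : ∀ y, Commute y a → ∀ c ∈ zpowers a, Commute y c := by
    rintro y hy _ ⟨k, rfl⟩
    exact hy.zpow_right k
  by_contra hcon
  have hw : ∀ w, Commute w t → w * w ≠ z := fun w h1 h2 =>
    hcon ⟨zpowers a, z, t, w, hBT, hidx, hsq, fun y hy => H5.eq_one_or_half he hy, hz1, hz2, hzB,
      hzc, htT, htB, ht2, h1, h2⟩
  obtain ⟨m, rfl⟩ : ∃ k, m = k + 1 := ⟨m - 1, by omega⟩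
  set b := a ^ 2 ^ m with hb
  have hbb : b * b = z := by rw [hb, hz, ← pow_add, pow_succ, mul_two]
  have htb : t * b * t⁻¹ = b⁻¹ := by
    rw [hb, ← conj_pow]
    rcases hact t htT htB with h | ⟨h2, h⟩
    · rw [h, inv_pow]
    · obtain ⟨k, rfl⟩ : ∃ k, m = k + 1 := ⟨m - 1, by omega⟩
      rw [h, (hzc a⁻¹).mul_pow, pow_succ' 2 k, pow_mul z, pow_two, hz2, one_pow, mul_one, inv_pow]
  have hC : ∀ x ∈ T, ∀ u ∈ U, u ≠ 1 → (x * u) * (x * u) = 1 → ¬ Commute (x * u) a := by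
    intro x hx u hu hu1 h2 hya
    set y := x * u with hy
    have hcB : t * (y * t * y⁻¹) ∈ zpowers a := by
      rw [hmul t htT _ (hTn.conj_mem t htT y), hcj]
    set c := t * (y * t * y⁻¹) with hc
    have h1 : y * t * y⁻¹ = t * c := by rw [hc, ← mul_assoc, ht2, one_mul]
    have hcc : c * c = 1 := by
      have h3 : y * (y * t * y⁻¹) * y⁻¹ = t := by
        calc y * (y * t * y⁻¹) * y⁻¹ = (y * y) * t * (y * y)⁻¹ := by group
          _ = t := by rw [h2]; group
      rw [h1, ← conj_mul, h1, (hcomm y hya c hcB).eq, mul_inv_cancel_right, mul_assoc] at h3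
      exact mul_eq_left.1 h3
    rcases H5.eq_one_or_half he hcB hcc with h | h
    · rw [h, mul_one] at h1
      have hyt : Commute y t := mul_inv_eq_iff_eq_mul.1 h1
      have hyx : Commute y x := by
        by_cases hxB : x ∈ zpowers a
        · exact hcomm y hya x hxB
        · have := (hcomm y hya _ ((hmul x hx t htT).2 (iff_of_false hxB htB))).mul_right hyt
          rwa [mul_assoc, ht2, mul_one] at this
      have hxu : Commute x u := by
        have := (Commute.refl x).inv_right.mul_right hyx.symm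
        rwa [hy, inv_mul_cancel_left] at this
      have hx2 : x * x = 1 := by
        rw [hy, mul_assoc, ← mul_assoc u, ← hxu.eq, mul_assoc,
          H19.mul_self_of_isKleinFour hU hu, mul_one] at h2
        exact h2
      by_cases hxB : x ∈ zpowers a
      · have hxt : Commute t x := by
          rcases H5.eq_one_or_half he hxB hx2 with h | h <;> rw [h]
          exacts [Commute.one_right t, hzc t]
        have htu : Commute t u := by
          have := hxt.inv_right.mul_right hyt.symm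
          rwa [hy, inv_mul_cancel_left] at this
        rcases hr u hu hu1 t htT z (hBT hzB) ht2 hz2 (hzc t) htu (hzc u).symm with h | h | h
        exacts [htB (h ▸ one_mem _), hz1 h, htB (h ▸ hzB)]
      · rcases hr u hu hu1 x hx z (hBT hzB) hx2 hz2 (hzc x) hxu (hzc u).symm with h | h | h
        exacts [hxB (h ▸ one_mem _), hz1 h, hxB (h ▸ hzB)]
    · rw [h, ← hz] at h1
      have hyb : Commute y b := hya.pow_right _
      refine hw (y * b) (mul_inv_eq_iff_eq_mul.1 ?_) ?_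
      · have h3 : b * t * b⁻¹ = t * z := by
          calc b * t * b⁻¹ = t * (t⁻¹ * b * t⁻¹⁻¹) * b⁻¹ := by group
            _ = t * (b * b)⁻¹ := by rw [hti, htb]; group
            _ = _ := by rw [hbb, inv_eq_of_mul_eq_one_right hz2]
        calc y * b * t * (y * b)⁻¹ = y * (b * t * b⁻¹) * y⁻¹ := by group
          _ = (y * t * y⁻¹) * (y * z * y⁻¹) := by rw [h3]; group
          _ = t := by rw [h1, (hzc y).eq, mul_inv_cancel_right, mul_assoc, hz2, mul_one]
      · rw [mul_assoc, ← mul_assoc b, ← hyb.eq, ← mul_assoc, ← mul_assoc, h2, one_mul, hbb]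
  have hU2 := fun u (hu : u ∈ U) => H19.mul_self_of_isKleinFour hU hu
  have hne : ∀ u ∈ U, u ≠ 1 → u * a * u⁻¹ ≠ a := fun u hu hu1 h =>
    hC 1 (one_mem _) u hu hu1 (by rw [one_mul, hU2 u hu])
      (by rw [one_mul]; exact mul_inv_eq_iff_eq_mul.1 h)
  have hinj : ∀ u ∈ U, ∀ v ∈ U, u ≠ v → u * a * u⁻¹ ≠ v * a * v⁻¹ := fun u hu v hv huv h =>
    hne (v⁻¹ * u) (mul_mem (inv_mem hv) hu) (fun h => huv (inv_mul_eq_one.1 h).symm) (by
      calc v⁻¹ * u * a * (v⁻¹ * u)⁻¹ = v⁻¹ * (u * a * u⁻¹) * v := by group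
        _ = a := by rw [h]; group)
  have hcases : ∀ u ∈ U, u ≠ 1 →
      u * a * u⁻¹ = a * z ∨ u * a * u⁻¹ = a⁻¹ ∨ u * a * u⁻¹ = a⁻¹ * z := fun u hu hu1 =>
    (H5.conj_cases he (hconj u) (by rw [hU2 u hu]; exact Commute.one_left a)).resolve_left
      (hne u hu hu1)
  obtain ⟨u1, hu1, u2, hu2, h11, h21, h12⟩ := exists_two hU
  have hu3 := mul_mem hu1 hu2
  have h31 : u1 * u2 ≠ 1 := fun h => h12 (by
    rw [← one_mul u2, ← hU2 u1 hu1, mul_assoc, h, mul_one])
  have hsurj : ∀ q, (q = a * z ∨ q = a⁻¹ ∨ q = a⁻¹ * z) → ∃ u ∈ U, u ≠ 1 ∧ u * a * u⁻¹ = q := by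
    intro q hq
    rcases pigeon (hinj _ hu1 _ hu2 h12.symm) (hinj _ hu1 _ hu3 (fun h => h21 (by simpa using h)))
      (hinj _ hu2 _ hu3 (fun h => h11 (by simpa using h))) (hcases _ hu1 h11) (hcases _ hu2 h21)
      (hcases _ hu3 h31) hq with h | h | h
    exacts [⟨_, hu1, h11, h⟩, ⟨_, hu2, h21, h⟩, ⟨_, hu3, h31, h⟩]
  obtain ⟨u, hu, hu0, hua⟩ := hsurj (t * a * t⁻¹) (Or.inr ((hact t htT htB).imp id And.right))
  obtain ⟨v, hv, hv0, hva⟩ := hsurj (a * z) (Or.inl rfl)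
  obtain ⟨v', hv', hv0', hva'⟩ := hsurj (a⁻¹ * z) (Or.inr (Or.inr rfl))
  set y := t * u with hy
  have hya : Commute y a := mul_inv_eq_iff_eq_mul.1 (by
    calc t * u * a * (t * u)⁻¹ = t * (u * a * u⁻¹) * t⁻¹ := by group
      _ = (t * t) * a * (t * t)⁻¹ := by rw [hua]; group
      _ = a := by rw [ht2]; group)
  obtain ⟨k, hk⟩ := hsq y
  simp only at hk
  rcases Int.even_or_odd k with ⟨j, rfl⟩ | hodd
  · have h1 : t * (u * a ^ (-j) * u⁻¹) * u = y * a ^ (-j) := by rw [hy]; group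
    refine hC (t * (u * a ^ (-j) * u⁻¹)) (mul_mem htT (hTn.conj_mem _ (zpow_mem haT _) u)) u hu hu0
      ?_ ?_
    · rw [h1, mul_assoc, ← mul_assoc (a ^ (-j)), ← (hya.zpow_right _).eq, ← mul_assoc, ← mul_assoc,
        ← hk]
      group
    · rw [h1]
      exact hya.mul_left ((Commute.refl a).zpow_left _)
  · have hcB : y⁻¹ * (v * y * v⁻¹) ∈ zpowers a := by
      have : y⁻¹ * (v * y * v⁻¹) = u⁻¹ * (t * (v * t * v⁻¹)) * u⁻¹⁻¹ := by
        calc y⁻¹ * (v * y * v⁻¹) = u⁻¹ * (t⁻¹ * (v * t * v⁻¹)) * (v * u) * v⁻¹ := by rw [hy]; group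
          _ = _ := by rw [hti, H19.mul_comm_of_isKleinFour hU hv hu]; group
      rw [this, hcj, hmul t htT _ (hTn.conj_mem t htT v), hcj]
    obtain ⟨i, hi⟩ := hcB
    simp only at hi
    have h1 : v * y * v⁻¹ = y * a ^ i := by rw [hi]; group
    have hvz : ∀ n : ℤ, v * a ^ n * v⁻¹ = a ^ n * z ^ n := fun n => by
      rw [← conj_zpow, hva, (hzc a).mul_zpow]
    have h2 : a ^ i * a ^ i = z := by
      have h3 := hvz k
      rw [((H83.zpow_eq_one_or_self hz2 k).resolve_left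
          fun h => (Int.not_even_iff_odd.2 hodd) h.1).2, hk, ← conj_mul, h1,
          (hya.zpow_right i).symm.mul_mul_mul_comm] at h3
      exact mul_left_cancel h3
    have h4 : z * z ^ i = 1 := by
      have h3 : v * (v * y * v⁻¹) * v⁻¹ = y := by
        calc v * (v * y * v⁻¹) * v⁻¹ = (v * v) * y * (v * v)⁻¹ := by group
          _ = y := by rw [hU2 v hv]; group
      rw [h1, ← conj_mul, h1, hvz, mul_assoc, ← mul_assoc (a ^ i), h2] at h3
      exact mul_eq_left.1 h3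
    have hi' : Odd i := ((H83.zpow_eq_one_or_self hz2 i).resolve_left fun h => by
      rw [h.2, mul_one] at h4; exact hz1 h4).1
    have h5 : a ^ (4 * i) = 1 := by
      rw [show 4 * i = (i + i) + (i + i) by ring, zpow_add, zpow_add, h2, hz2]
    rw [H5.zpow_eq_one_iff_dvd he] at h5
    obtain rfl : m = 0 := by
      by_contra h0
      have : (2 : ℤ) ^ 3 ∣ 4 * i := (pow_dvd_pow 2 (by omega)).trans h5
      obtain ⟨l, rfl⟩ := hi'
      omega
    refine hne v' hv' hv0' ?_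
    rw [hva', hz]; group

theorem core {G : Type*} [Group G] [Finite G] (A U : Subgroup G) [hAn : A.Normal]
    (hA : ∀ N : Subgroup A, N.Normal → N.index ≠ 2) (hU : IsKleinFour U) (hsup : A ⊔ U = ⊤)
    (hr : ∀ u ∈ U, u ≠ 1 → ∀ x ∈ A, ∀ y ∈ A, x * x = 1 → y * y = 1 → Commute x y → Commute x u →
      Commute y u → x = 1 ∨ y = 1 ∨ x = y) : Cfsg.PRankLE 2 1 A := by
  by_contra h
  obtain ⟨V, hVA, hV⟩ := H19.not_pRankLE_two_one_subgroup_iff.1 h
  obtain ⟨S, hUS⟩ := (H19.isPGroup_of_isKleinFour hU).exists_le_sylow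
  have hS := H93.syl_top S
  obtain ⟨g, -, hg⟩ := hS.conj V (H19.isPGroup_of_isKleinFour hV) le_top
  have hV'S : V.map (MulAut.conj g).toMonoidHom ≤ S := by
    rintro _ ⟨x, hx, rfl⟩; exact hg x hx
  obtain ⟨B, z, t, w, hBT, hidx, hsq, huniq, hz1, hz2, hzB, hzc, htT, htB, ht2, hwt, hw⟩ :=
    two_group S.isPGroup' (A.subgroupOf S) (U.subgroupOf S)
      ((V.map (MulAut.conj g).toMonoidHom).subgroupOf S) (H19.isKleinFour_subgroupOf hU hUS) (by
        rw [eq_top_iff]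
        intro s _
        obtain ⟨x, hx, u, hu, e⟩ := H3.mem_sup_iff_of_normal.1 (hsup ▸ mem_top s : (s : G) ∈ A ⊔ U)
        have hxS : x ∈ (S : Subgroup G) := by
          have := (S : Subgroup G).mul_mem s.2 ((S : Subgroup G).inv_mem (hUS hu))
          rwa [← e, mul_inv_cancel_right] at this
        have : s = ⟨x, hxS⟩ * ⟨u, hUS hu⟩ := Subtype.ext e.symm
        rw [this]
        exact mul_mem (mem_sup_left hx) (mem_sup_right hu))
      (H19.isKleinFour_subgroupOf (H19.isKleinFour_map hV (MulAut.conj g).injective) hV'S) (by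
        rintro x ⟨y, hy, e⟩
        change (x : G) ∈ A
        rw [show (x : G) = g * y * g⁻¹ from e.symm]
        exact hAn.conj_mem y (hVA hy) g)
      (fun u hu hu1 x hx y hy h1 h2 h3 h4 h5 => by
        simpa only [Subtype.ext_iff, coe_one] using hr u hu (fun h => hu1 (Subtype.ext h)) x hx y hy
          (congrArg Subtype.val h1) (congrArg Subtype.val h2) (congrArg Subtype.val h3)
          (congrArg Subtype.val h4) (congrArg Subtype.val h5))
  obtain ⟨R, hR⟩ := (hS.inf_normal (L := A) le_top fun k _ x hx => hAn.conj_mem x hx k).exists_sylow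
  have ht1 : t ≠ 1 := fun h => htB (h ▸ one_mem _)
  obtain ⟨k, hk⟩ := H73.exists_conj_mem_of_no_index_two hA R
    ((B.map (S : Subgroup G).subtype).subgroupOf A) (by
      rw [← relIndex_map_map_of_injective B _ (S : Subgroup G).subtype_injective,
        subgroupOf_map_subtype, inf_comm] at hidx
      rw [hR, relIndex_subgroupOf inf_le_right, hidx]) ⟨t, htT⟩
      (orderOf_eq_prime (by
        rw [pow_two]
        exact Subtype.ext (congrArg (fun s : (S : Subgroup G) => (s : G)) ht2))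
        fun h => ht1 (Subtype.ext (congrArg (fun s : A => (s : G)) h)))
  obtain ⟨c, hc, e⟩ := hk
  have e' : (c : G) = k * t * (k : G)⁻¹ := e
  have hcz : c = z := (huniq c hc (Subtype.ext (by
      rw [coe_mul, e', conj_mul, ← coe_mul, ht2]; simp))).resolve_left fun h => ht1 (by
    rw [h, coe_one, eq_comm, conj_eq_one_iff] at e'
    exact Subtype.ext e')
  rw [hcz] at e'
  have hSC : H93.Syl 2 (S : Subgroup G) (centralizer {(z : G)}) := hS.mono (fun s hs =>
    mem_centralizer_singleton_iff.2 (congrArg Subtype.val (hzc ⟨s, hs⟩))) le_top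
  obtain ⟨l, hl, hl'⟩ := hSC.conj ((zpowers (w : G)).map (MulAut.conj (k : G)).toMonoidHom)
    ((S.isPGroup'.to_le (zpowers_le.2 w.2)).map _) (by
      rw [MonoidHom.map_zpowers, zpowers_le, mem_centralizer_singleton_iff, e']
      change ((k : G) * w * (k : G)⁻¹) * _ = _ * ((k : G) * w * (k : G)⁻¹)
      rw [conj_mul, conj_mul, ← coe_mul, hwt.eq, coe_mul])
  have h1 : l * (k * w * (k : G)⁻¹) * l⁻¹ ∈ (S : Subgroup G) := hl' _ ⟨w, mem_zpowers _, rfl⟩
  have h2 : ((⟨_, h1⟩ * ⟨_, h1⟩ : (S : Subgroup G)) : G) = l * (k * z * (k : G)⁻¹) * l⁻¹ := by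
    rw [coe_mul, conj_mul, conj_mul, ← coe_mul, hw]
  rcases huniq _ (hsq ⟨_, h1⟩) (Subtype.ext (by
    rw [coe_mul, h2, conj_mul, conj_mul, ← coe_mul, hz2]; simp)) with h | h
  · rw [h, coe_one, eq_comm, conj_eq_one_iff, conj_eq_one_iff] at h2
    exact hz1 (Subtype.ext h2)
  · rw [h] at h2
    have h3 : l * z * l⁻¹ = z := mul_inv_eq_iff_eq_mul.2 (mem_centralizer_singleton_iff.1 hl)
    have h4 : l * (k * t * (k : G)⁻¹) * l⁻¹ = l * (k * z * (k : G)⁻¹) * l⁻¹ := by
      rw [← e', h3, ← h2]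
    have : t = z := Subtype.ext (by simpa using h4)
    exact htB (this ▸ hzB)

/-- Let A be a semisimple subgroup (A = E(A)) of a finite group and U a Klein four-group normalizing A. If the subgroup of A generated by the normalizers N_A(V) of the nontrivial subgroups V of U has 2-rank exactly 1, then A has 2-rank exactly 1. -/
theorem result {G : Type*} [Group G] [Finite G] (A : Subgroup G) (hA : Cfsg.layer ↥A = ⊤)
    (U : Subgroup G) (hU : IsKleinFour U) (hUA : U ≤ Subgroup.normalizer (A : Set G))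
    (hΓ : Cfsg.PRankLE 2 1 ↥(⨆ V : {V : Subgroup G // V ≤ U ∧ V ≠ ⊥}, A ⊓ Subgroup.normalizer ((V : Subgroup G) : Set G)) ∧
      ¬ Cfsg.PRankLE 2 0 ↥(⨆ V : {V : Subgroup G // V ≤ U ∧ V ≠ ⊥}, A ⊓ Subgroup.normalizer ((V : Subgroup G) : Set G))) :
    Cfsg.PRankLE 2 1 A ∧ ¬ Cfsg.PRankLE 2 0 A := by
  refine ⟨?_, fun h => hΓ.2 (H49.pRankLE_of_le (iSup_le fun _ => inf_le_left) h)⟩
  have hAL : A ≤ A ⊔ U := le_sup_left
  haveI : (A.subgroupOf (A ⊔ U)).Normal :=
    normal_subgroupOf_of_le_normalizer (sup_le le_normalizer hUA)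
  refine (H49.pRankLE_congr (subgroupOfEquivOfLe hAL)).1 (core (A.subgroupOf (A ⊔ U))
    (U.subgroupOf (A ⊔ U)) (fun N hN h => ?_) (H19.isKleinFour_subgroupOf hU le_sup_right)
    (by rw [← subgroupOf_sup hAL le_sup_right, subgroupOf_self]) ?_)
  · let e := subgroupOfEquivOfLe hAL
    have h1 : (N.comap e.symm.toMonoidHom).index = 2 := by
      rw [index_comap_of_surjective _ e.symm.surjective, h]
    haveI := hN.comap e.symm.toMonoidHom
    have h2 := H5.commutator_le_of_index_prime (h1 ▸ Nat.prime_two)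
    have h3 := H23.commutator_layer_self (G := A)
    rw [hA] at h3
    rw [_root_.commutator_def, h3, top_le_iff] at h2
    rw [h2, index_top] at h1
    omega
  · intro u hu hu1 x hx y hy h1 h2 h3 h4 h5
    by_contra hcon
    push Not at hcon
    refine (H19.not_pRankLE_two_one_subgroup_iff.2 ⟨closure {(x : G), (y : G)}, ?_,
      H19.isKleinFour_closure_pair (fun h => hcon.1 (Subtype.ext h))
        (fun h => hcon.2.1 (Subtype.ext h)) (fun h => hcon.2.2 (Subtype.ext h))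
        (congrArg Subtype.val h1) (congrArg Subtype.val h2) (congrArg Subtype.val h3)⟩) hΓ.1
    refine le_trans ?_ (le_iSup _ ⟨zpowers (u : G), zpowers_le.2 hu,
      fun h => hu1 (Subtype.ext (zpowers_eq_bot.1 h))⟩)
    have key : ∀ g : G, Commute g u → g ∈ normalizer ((zpowers (u : G) : Subgroup G) : Set G) :=
      fun g hg => centralizer_le_normalizer _ (by
        rintro _ ⟨k, rfl⟩
        exact (hg.symm.zpow_left k).eq)
    rw [closure_le]
    rintro _ (rfl | rfl)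
    · exact ⟨hx, key _ (congrArg Subtype.val h4)⟩
    · exact ⟨hy, key _ (congrArg Subtype.val h5)⟩

end Cfsg.Agent.S1915
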