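import Cfsg.Statements.S1921
import Mathlib
import Cfsg.Agent.Base
import Cfsg.Agent.Lib.Comp.LayerStruct
import Cfsg.Agent.Lib.Core.HallSZ

set_option autoImplicit false
open Cfsg

namespace Cfsg.Agent.S1921

open Subgroup

/-- Let a be an involution of a finite group H and L a component of H with a L a⁻¹ ≠ L; put M = ⟨L, aLa⁻¹⟩ and let J be the subgroup generated by the elements x · a x a⁻¹ with x ∈ L (the diagonal). Then every element of M outside J·Z(M) generates M together with J. -/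
theorem result {H : Type*} [Group H] [Finite H] (a : H) (ha : orderOf a = 2) (L : Subgroup H) (hL : Cfsg.IsComponent L)
    (hLa : L.map (MulAut.conj a).toMonoidHom ≠ L) (x : H) (hxM : x ∈ L ⊔ L.map (MulAut.conj a).toMonoidHom)
    (hxJ : x ∉ Subgroup.closure {y : H | ∃ l ∈ L, y = l * (a * l * a⁻¹)} ⊔
      ((L ⊔ L.map (MulAut.conj a).toMonoidHom) ⊓ Subgroup.centralizer ((L ⊔ L.map (MulAut.conj a).toMonoidHom : Subgroup H) : Set H))) :
    Subgroup.closure {y : H | ∃ l ∈ L, y = l * (a * l * a⁻¹)} ⊔ Subgroup.zpowers x = L ⊔ L.map (MulAut.conj a).toMonoidHom := by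
  let _ := ha
  set L' := L.map (MulAut.conj a).toMonoidHom with hL'
  set J := Subgroup.closure {y : H | ∃ l ∈ L, y = l * (a * l * a⁻¹)} with hJ
  have hc : ⁅L, L'⁆ = ⊥ :=
    H23.IsComponent.commutator_eq_bot_of_ne hL (H23.IsComponent.map_conj hL a) hLa.symm
  have hm : ∀ l ∈ L, a * l * a⁻¹ ∈ L' := fun l hl => ⟨l, hl, rfl⟩
  have hcm : ∀ l ∈ L, ∀ k ∈ L', l * k = k * l := fun l hl k hk =>
    (H23.commute_of_commutator_eq_bot hc hl hk).eq
  have hJm : ∀ l ∈ L, l * (a * l * a⁻¹) ∈ J := fun l hl => subset_closure ⟨l, hl, rfl⟩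
  have hJM : J ≤ L ⊔ L' := by
    rw [hJ, closure_le]
    rintro _ ⟨l, hl, rfl⟩
    exact mul_mem_sup hl (hm l hl)
  refine le_antisymm (sup_le hJM (zpowers_le.mpr hxM)) ?_
  obtain ⟨l1, h1, _, ⟨l2, h2, rfl⟩, hx⟩ :=
    (H23.mem_sup_iff_of_le_normalizer' (H23.le_normalizer_of_commutator_eq_bot hc)).mp hxM
  change l1 * (a * l2 * a⁻¹) = x at hx
  have hx' : x = (l1 * l2⁻¹) * (l2 * (a * l2 * a⁻¹)) := by rw [← hx]; group
  have hLY : L ≤ J ⊔ zpowers x := by
    rcases H23.IsQuasisimple.eq_or_le_centralizer (H23.IsComponent.isQuasisimple hL)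
      (N := L ⊓ (J ⊔ zpowers x)) inf_le_left (fun l hl => H3.mem_normalizer_of_conj_mem
        fun n hn => ⟨L.mul_mem (L.mul_mem hl hn.1) (L.inv_mem hl), by
          have e : l * n * l⁻¹ = (l * (a * l * a⁻¹)) * n * (l * (a * l * a⁻¹))⁻¹ := by
            calc l * n * l⁻¹ = l * (n * (a * l * a⁻¹)) * (l * (a * l * a⁻¹))⁻¹ := by group
              _ = _ := by rw [hcm n hn.1 _ (hm l hl)]; group
          change l * n * l⁻¹ ∈ J ⊔ zpowers x
          rw [e]
          exact mul_mem (mul_mem (mem_sup_left (hJm l hl)) hn.2)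
            (inv_mem (mem_sup_left (hJm l hl)))⟩) with h | h
    · exact inf_eq_left.mp h
    · exfalso
      apply hxJ
      have hy : l1 * l2⁻¹ ∈ L := L.mul_mem h1 (L.inv_mem h2)
      have hy' : l1 * l2⁻¹ ∈ J ⊔ zpowers x := by
        rw [show l1 * l2⁻¹ = x * (l2 * (a * l2 * a⁻¹))⁻¹ by rw [hx']; group]
        exact mul_mem (mem_sup_right (mem_zpowers x)) (inv_mem (mem_sup_left (hJm l2 h2)))
      rw [hx']
      refine mul_mem (mem_sup_right ⟨mem_sup_left hy, ?_⟩) (mem_sup_left (hJm l2 h2))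
      rw [H23.centralizer_sup]
      exact ⟨h ⟨hy, hy'⟩, fun k hk => (hcm _ hy k hk).symm⟩
  refine sup_le hLY ?_
  rintro _ ⟨l, hl, rfl⟩
  change a * l * a⁻¹ ∈ _
  rw [show a * l * a⁻¹ = l⁻¹ * (l * (a * l * a⁻¹)) by group]
  exact mul_mem (inv_mem (hLY hl)) (mem_sup_left (hJm l hl))

end Cfsg.Agent.S1921
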