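import Cfsg.Statements.S1922
import Mathlib
import Cfsg.Agent.Base
import Cfsg.Agent.Lib.Invol.Count
import Cfsg.Agent.Lib.Invol.Dihedral
import Cfsg.Agent.Lib.InvChar.SylowIn
import Cfsg.Agent.Lib.Core.GrpBasic

set_option autoImplicit false
open Cfsg

namespace Cfsg.Agent.S1922

open Subgroup

theorem odd_card_of_involution {α : Type*} [Finite α] (f : α → α) (hf : ∀ x, f (f x) = x) (a : α)
    (ha : ∀ x, f x = x ↔ x = a) : Odd (Nat.card α) := by
  classical
  let _ := Fintype.ofFinite α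
  have h := Equiv.Perm.card_fixedPoints_modEq (f := (f : Function.End α)) (p := 2) (n := 1)
    (funext hf)
  have h1 : Fintype.card (Function.fixedPoints (f : Function.End α)) = 1 :=
    Fintype.card_eq_one_iff.mpr ⟨⟨a, (ha a).mpr rfl⟩, fun y => Subtype.ext ((ha y).mp y.2)⟩
  rw [h1] at h
  rw [Nat.card_eq_fintype_card]
  exact Nat.odd_iff.mpr h

theorem isConj_reflection {G : Type*} [Group G] {z d e : G} (hd : d * d = 1) (he : e * e = 1)
    (hzd : IsConj z d) (hze : IsConj z e) (k : ℤ) : IsConj z ((d * e) ^ k * d) := by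
  rcases Int.even_or_odd' k with ⟨j, rfl | rfl⟩
  · rw [← H9.zpow_conj_left hd he]
    exact hzd.trans (isConj_iff.mpr ⟨_, rfl⟩)
  · refine hze.trans (isConj_iff.mpr ⟨(d * e) ^ (j + 1), ?_⟩)
    have h1 := H9.right_mul_zpow hd he (-(j + 1))
    have h2 := H9.right_eq hd he
    rw [mul_assoc, ← zpow_neg, h1]
    generalize d * e = c at h2 ⊢
    rw [h2]; group

/-- Let z be an involution of a finite group G and H a proper subgroup such that z lies in gHg⁻¹ exactly when g ∈ H. Then the following are equivalent: (1) for every conjugate t ≠ z of z commuting with z, the product zt lies in gHg⁻¹ exactly when g ∈ H; (2) z lies in the centre of some Sylow 2-subgroup of G, and for every conjugate t ≠ z of z commuting with z, the centralizer of zt is contained in H. -/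
theorem result {G : Type*} [Group G] [Finite G] (z : G) (hz : orderOf z = 2) (H : Subgroup G) (hH : H ≠ ⊤)
    (h0 : ∀ g : G, z ∈ H.map (MulAut.conj g).toMonoidHom ↔ g ∈ H) :
    (∀ t : G, IsConj z t → t ≠ z → t * z = z * t → ∀ g : G, z * t ∈ H.map (MulAut.conj g).toMonoidHom ↔ g ∈ H) ↔
      ((∃ P : Sylow 2 G, z ∈ (Subgroup.center ↥(P : Subgroup G)).map (P : Subgroup G).subtype) ∧
        ∀ t : G, IsConj z t → t ≠ z → t * z = z * t → Subgroup.centralizer ({z * t} : Set G) ≤ H) := by
  have h0' : ∀ g : G, g⁻¹ * z * g ∈ H ↔ g ∈ H := fun g => H72.mem_map_conj.symm.trans (h0 g)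
  have hzH : z ∈ H := by simpa using (h0' 1).mpr H.one_mem
  have hzz := H9.mul_self_of_orderOf_two hz
  have hCH : centralizer ({z} : Set G) ≤ H := fun c hc => (h0' c).mp (by
    rw [mul_assoc, ← mem_centralizer_singleton_iff.mp hc, inv_mul_cancel_left]; exact hzH)
  have hsq : ∀ d, IsConj z d → d * d = 1 := fun d hd =>
    H9.mul_self_of_orderOf_two (by rw [← H9.orderOf_eq_of_isConj hd, hz])
  constructor
  · intro h1
    refine ⟨?_, fun t ht htz hc c hcm => (h1 t ht htz hc c).mp (H72.mem_map_conj.mpr (by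
      rw [mul_assoc, ← mem_centralizer_singleton_iff.mp hcm, inv_mul_cancel_left]
      exact H.mul_mem hzH (hCH (mem_centralizer_singleton_iff.mpr hc))))⟩
    have hfix : ∀ y g : G, y • (g : G ⧸ H) = (g : G ⧸ H) ↔ g⁻¹ * y * g ∈ H := fun y g => by
      rw [MulAction.Quotient.smul_mk, smul_eq_mul, eq_comm, QuotientGroup.eq, mul_assoc]
    have U1 : ∀ d, IsConj z d → ∀ x y : G ⧸ H, d • x = x → d • y = y → x = y := by
      intro d hd x y hx hy
      obtain ⟨c, rfl⟩ := isConj_iff.mp hd
      obtain ⟨x, rfl⟩ := QuotientGroup.mk_surjective x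
      obtain ⟨y, rfl⟩ := QuotientGroup.mk_surjective y
      have hx' := (h0' (c⁻¹ * x)).mp (by convert (hfix _ _).mp hx using 1; group)
      have hy' := (h0' (c⁻¹ * y)).mp (by convert (hfix _ _).mp hy using 1; group)
      rw [QuotientGroup.eq]
      convert H.mul_mem (H.inv_mem hx') hy' using 1
      group
    have U2 : ∀ d e, IsConj z d → IsConj z e → e ≠ d → e * d = d * e →
        ∀ x : G ⧸ H, (d * e) • x = x → d • x = x := by
      intro d e hd he hne hc x hx
      obtain ⟨c, rfl⟩ := isConj_iff.mp hd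
      obtain ⟨x, rfl⟩ := QuotientGroup.mk_surjective x
      have h2 := (h1 (c⁻¹ * e * c) (he.trans (isConj_iff.mpr ⟨c⁻¹, by group⟩))
        (fun h => hne (by rw [← h]; group)) (by
          calc c⁻¹ * e * c * z = c⁻¹ * (e * (c * z * c⁻¹)) * c := by group
            _ = z * (c⁻¹ * e * c) := by rw [hc]; group) (c⁻¹ * x)).mp
        (H72.mem_map_conj.mpr (by convert (hfix _ _).mp hx using 1; group))
      rw [hfix]
      convert (h0' _).mpr h2 using 1
      group
    have hodd : ∀ d e, IsConj z d → IsConj z e → ∀ x : G ⧸ H, d • x = x → e • x ≠ x →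
        Odd (orderOf (d * e)) := by
      intro d e hd he x hdx hex
      by_contra hev
      rw [Nat.not_odd_iff_even] at hev
      obtain ⟨c1, c2⟩ := H9.pow_half_commute (hsq d hd) (hsq e he) hev
      have ho := H9.orderOf_pow_half hev
      have hew : IsConj z (e * (d * e) ^ (orderOf (d * e) / 2)) := by
        have h2 := isConj_reflection (hsq d hd) (hsq e he) hd he (-(orderOf (d * e) / 2 : ℕ) - 1)
        rw [← zpow_natCast, H9.right_mul_zpow (hsq d hd) (hsq e he)]
        convert h2 using 1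
        have h3 := H9.right_eq (hsq d hd) (hsq e he)
        generalize d * e = c at h3 ⊢
        rw [h3]; group
      set w := (d * e) ^ (orderOf (d * e) / 2) with hw
      have hwx : w • x = x := U1 d hd _ _ (by rw [smul_smul, ← c1.eq, mul_smul, hdx]) hdx
      refine hex (U2 e (e * w) he hew (fun h => H9.ne_one_of_orderOf_two ho (by simpa using h))
        (by rw [mul_assoc, c2.eq]) x (by rw [← mul_assoc, hsq e he, one_mul, hwx]))
    obtain ⟨g0, hg0⟩ : ∃ g0, g0 ∉ H := by
      by_contra! h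
      exact hH (eq_top_iff.mpr fun g _ => h g)
    set α : G ⧸ H := ((1 : G) : G ⧸ H) with hα
    set β : G ⧸ H := (g0 : G ⧸ H) with hβ
    have hαβ : α ≠ β := fun h => hg0 (by simpa using QuotientGroup.eq.mp h)
    set s := g0 * z * g0⁻¹ with hs
    have hzs : IsConj z s := isConj_iff.mpr ⟨g0, rfl⟩
    have hsβ : s • β = β := (hfix _ _).mpr (by rw [hs]; simpa [mul_assoc] using hzH)
    have hα' : ∀ y : G, y • α = α ↔ y ∈ H := fun y => by rw [hfix]; simp
    have hswap : ∀ k, IsConj z k → k • β = α → k • α = β := fun k hk h => by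
      rw [← h, smul_smul, hsq k hk, one_smul]
    let J := {k : G // IsConj z k ∧ k • β = α}
    let f : J → {y : H // IsConj (⟨z, hzH⟩ : H) y} := fun k =>
      have h2 : (k : G) * s * (k : G)⁻¹ ∈ H := (hα' _).mp (by
        rw [mul_smul, mul_smul, inv_smul_eq_iff.mpr k.2.2.symm, hsβ, k.2.2])
      ⟨⟨_, h2⟩, isConj_iff.mpr ⟨⟨k * g0, H.inv_mem_iff.mp ((h0' _).mp (by
        convert h2 using 1; rw [hs]; group))⟩, Subtype.ext (by
          change (k : G) * g0 * z * ((k : G) * g0)⁻¹ = k * s * (k : G)⁻¹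
          rw [hs]; group)⟩⟩
    have hsurj : Function.Surjective f := by
      rintro ⟨t, ht⟩
      have hzt : IsConj z (t : G) := H.subtype.map_isConj ht
      have htα : (t : G) • α = α := (hα' _).mpr t.2
      obtain ⟨m, hm⟩ := H9.exists_pow_conj_of_odd (hsq s hzs) (hsq t hzt)
        (hodd s t hzs hzt β hsβ fun h => hαβ (U1 t hzt _ _ htα h))
      have hk : (s * t) ^ m * s * s * ((s * t) ^ m * s)⁻¹ = t := by
        refine Eq.trans ?_ hm
        group
      refine ⟨⟨(s * t) ^ m * s, by simpa using isConj_reflection (hsq s hzs) (hsq t hzt) hzs hzt m,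
        U1 t hzt _ _ ?_ htα⟩, Subtype.ext (Subtype.ext hk)⟩
      generalize (s * t) ^ m * s = k at hk ⊢
      rw [← hk, smul_smul, inv_mul_cancel_right, mul_smul, hsβ]
    have hinj : Function.Injective f := by
      rintro ⟨k, hk, hkβ⟩ ⟨k', hk', hk'β⟩ h
      have h2 : k * s * k⁻¹ = k' * s * k'⁻¹ := congrArg (fun y => ((y.1 : H) : G)) h
      have hki : k⁻¹ = k := inv_eq_of_mul_eq_one_right (hsq k hk)
      have hki' : k'⁻¹ = k' := inv_eq_of_mul_eq_one_right (hsq k' hk')
      have h3 : s * (k * k')⁻¹ * s⁻¹ = (k * k')⁻¹ := by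
        calc s * (k * k')⁻¹ * s⁻¹ = k'⁻¹ * (k' * s * k'⁻¹) * k⁻¹ * s⁻¹ := by group
          _ = k'⁻¹ * (k * s * k⁻¹) * k * s⁻¹ := by rw [h2, hki]
          _ = k'⁻¹ * k := by group
          _ = (k * k')⁻¹ := by rw [mul_inv_rev, hki]
      have h4 : (s * k) * (k * k') * (s * k)⁻¹ = (k * k')⁻¹ := by
        rw [← h3, ← H9.left_inverts (hsq k hk) (hsq k' hk')]; group
      obtain ⟨j, hj⟩ := hodd s k hzs hk β hsβ (by rw [hkβ]; exact hαβ)
      have h5 : Commute ((s * k) ^ 2) (k * k')⁻¹ := by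
        refine Commute.inv_right ?_
        change _ = _
        rw [← mul_inv_eq_iff_eq_mul]
        calc (s * k) ^ 2 * (k * k') * ((s * k) ^ 2)⁻¹
            = (s * k) * ((s * k) * (k * k') * (s * k)⁻¹) * (s * k)⁻¹ := by rw [pow_two]; group
          _ = (s * k) * (k * k')⁻¹ * (s * k)⁻¹ := by rw [h4]
          _ = ((s * k) * (k * k') * (s * k)⁻¹)⁻¹ := by group
          _ = k * k' := by rw [h4, inv_inv]
      have h6 : k * k' = (k * k')⁻¹ := by
        have h7 : ((s * k) ^ 2) ^ j * (s * k) = 1 := by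
          rw [← pow_mul, ← pow_succ, ← hj, pow_orderOf_eq_one]
        calc k * k' = (((s * k) ^ 2) ^ j * (s * k)) * (k * k') * (((s * k) ^ 2) ^ j * (s * k))⁻¹ := by
              rw [h7]; group
          _ = ((s * k) ^ 2) ^ j * ((s * k) * (k * k') * (s * k)⁻¹) * (((s * k) ^ 2) ^ j)⁻¹ := by
              generalize ((s * k) ^ 2) ^ j = q; group
          _ = (k * k')⁻¹ := by rw [h4, (h5.pow_left j).eq, mul_inv_cancel_right]
      rw [mul_inv_rev, hki, hki'] at h6
      by_contra hne
      refine hαβ (hkβ.symm.trans (U2 k k' hk hk' (fun h => hne (Subtype.ext h.symm)) h6.symm β ?_))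
      rw [mul_smul, hk'β, hswap k hk hkβ]
    obtain ⟨k0, -⟩ := hsurj ⟨⟨z, hzH⟩, IsConj.refl _⟩
    have hJ : Odd (Nat.card J) := by
      refine odd_card_of_involution (fun k : J => (⟨k0 * k * (k0 : G)⁻¹,
        k.2.1.trans (isConj_iff.mpr ⟨k0, rfl⟩), by
          rw [mul_smul, mul_smul, inv_smul_eq_iff.mpr (hswap _ k0.2.1 k0.2.2).symm,
            hswap _ k.2.1 k.2.2,
            k0.2.2]⟩ : J)) (fun k => Subtype.ext ?_) k0 fun k => ⟨fun h => ?_, ?_⟩
      · change (k0 : G) * (k0 * k * (k0 : G)⁻¹) * (k0 : G)⁻¹ = k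
        calc (k0 : G) * (k0 * k * (k0 : G)⁻¹) * (k0 : G)⁻¹ = (k0 * k0) * k * ((k0 : G) * k0)⁻¹ := by
              group
          _ = k := by rw [hsq _ k0.2.1]; group
      · by_contra hne
        have h2 : (k0 : G) * k * (k0 : G)⁻¹ = k := congrArg Subtype.val h
        refine hαβ (k0.2.2.symm.trans (U2 k0 k k0.2.1 k.2.1 (fun h => hne (Subtype.ext h))
          (mul_inv_eq_iff_eq_mul.mp h2).symm β ?_))
        rw [mul_smul, k.2.2, hswap _ k0.2.1 k0.2.2]
      · rintro rfl
        exact Subtype.ext (by simp)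
    rw [Nat.card_congr (Equiv.ofBijective f ⟨hinj, hsurj⟩), H9.card_isConj_eq_index] at hJ
    have hHi : Odd H.index := odd_card_of_involution (fun x : G ⧸ H => z • x)
      (fun x => by rw [smul_smul, hzz, one_smul]) α
      fun x => ⟨fun h => U1 z (IsConj.refl z) _ _ h ((hα' z).mpr hzH), by
        rintro rfl; exact (hα' z).mpr hzH⟩
    have hCi : Odd (centralizer ({z} : Set G)).index := by
      rw [← relIndex_mul_index hCH]
      refine Odd.mul ?_ hHi
      convert hJ using 1
      rw [relIndex]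
      congr 1
      ext y
      rw [mem_subgroupOf, mem_centralizer_singleton_iff, mem_centralizer_singleton_iff,
        Subtype.ext_iff]
      rfl
    obtain ⟨Q, hQ, hzQ, hQC, hQi⟩ := H72.exists_sylowIn_ge (H9.isPGroup_zpowers_of_mul_self hzz)
      (zpowers_le.mpr (mem_centralizer_singleton_iff.mpr rfl) : zpowers z ≤ centralizer {z})
    refine ⟨hQ.toSylow ?_, H72.mem_map_center_subtype.mpr ⟨hzQ (mem_zpowers z),
      fun g hg => mem_centralizer_singleton_iff.mp (hQC hg)⟩⟩
    rw [← relIndex_mul_index hQC, Nat.prime_two.dvd_mul, not_or]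
    exact ⟨hQi, hCi.not_two_dvd_nat⟩
  · rintro ⟨⟨P, hP⟩, h2⟩ t ht htz hc g
    rw [H72.mem_map_conj]
    obtain ⟨-, hPz⟩ := H72.mem_map_center_subtype.mp hP
    refine ⟨fun hg => ?_, fun hg => H.mul_mem (H.mul_mem (H.inv_mem hg)
      (H.mul_mem hzH (hCH (mem_centralizer_singleton_iff.mpr hc)))) hg⟩
    have hw : (g⁻¹ * (z * t) * g) * (g⁻¹ * (z * t) * g) = 1 := by
      calc (g⁻¹ * (z * t) * g) * (g⁻¹ * (z * t) * g) = g⁻¹ * z * (t * z) * t * g := by group
        _ = g⁻¹ * (z * z) * (t * t) * g := by rw [hc]; group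
        _ = 1 := by rw [hzz, hsq t ht]; group
    obtain ⟨h, hh, hhP⟩ := H72.exists_conj_mem_sylow_of_le P
      (fun x hx => hCH (mem_centralizer_singleton_iff.mpr (hPz x hx)))
      (H9.isPGroup_zpowers_of_mul_self hw) (zpowers_le.mpr hg)
    have h3 := hPz _ (hhP _ (mem_zpowers _))
    have h4 := (h0' (h * g⁻¹)).mp (h2 t ht htz hc (mem_centralizer_singleton_iff.mpr (by
      calc (h * g⁻¹)⁻¹ * z * (h * g⁻¹) * (z * t)
          = (h * g⁻¹)⁻¹ * (z * (h * (g⁻¹ * (z * t) * g) * h⁻¹)) * (h * g⁻¹) := by group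
        _ = z * t * ((h * g⁻¹)⁻¹ * z * (h * g⁻¹)) := by rw [← h3]; group)))
    simpa using H.mul_mem (H.inv_mem h4) hh

end Cfsg.Agent.S1922
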