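import Mathlib
import Cfsg.Statements.S1930
import Cfsg.Agent.Lib.Flavell.Chief
import Cfsg.Agent.Lib.Comp.FStar
import Cfsg.Agent.Lib.KInf.Transport
import Cfsg.Agent.Lib.KInf.Map

set_option autoImplicit false
open Cfsg

namespace Cfsg.Agent.S1930

/-- Inside a finite group let G be a nontrivial subgroup and R an r-subgroup (r a prime) normalizing G, with the order of G prime to r. Let p > 3 be a prime with F*(G) = O_p(G), and let P be the intersection of all R-invariant Sylow p-subgroups of G. Then P has a nontrivial characteristic subgroup that is normalized by G. -/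
theorem result {X : Type*} [Group X] [Finite X] (G R : Subgroup X) (r : ℕ) [Fact r.Prime] (hR : IsPGroup r ↥R) (hcop : (Nat.card ↥G).Coprime r) (hnorm : R ≤ Subgroup.normalizer (G : Set X)) (hG : G ≠ ⊥) (p : ℕ) [Fact p.Prime] (hp : 3 < p) (hF : Cfsg.generalizedFittingSubgroup ↥G = Cfsg.pCore p ↥G) (P : Subgroup X) (hP : P = ⨅ S : {S : Sylow p ↥G // ∀ a ∈ R, ((S : Subgroup ↥G).map G.subtype).map (MulAut.conj a).toMonoidHom = (S : Subgroup ↥G).map G.subtype}, ((S : Sylow p ↥G) : Subgroup ↥G).map G.subtype) : ∃ C : Subgroup ↥P, C.Characteristic ∧ C ≠ ⊥ ∧ G ≤ Subgroup.normalizer ((C.map P.subtype : Subgroup X) : Set X) := by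
-----
  have hp5 : 5 ≤ p := by
    have h := (Fact.out : p.Prime)
    rcases Nat.lt_or_ge p 5 with h1 | h1
    · obtain rfl : p = 4 := by omega
      exact absurd h (by decide)
    · exact h1
  have hcop' : (Nat.card R).Coprime (Nat.card G) := by
    obtain ⟨n, hn⟩ := IsPGroup.iff_card.1 hR
    rw [hn]; exact hcop.symm.pow_left n
  have hsolv : Group.IsSolvable R := by
    have := hR.isNilpotent
    infer_instance
  have hmem : ∀ y, y ∈ P ↔ ∀ S, H68.SylowIn p S G → R ≤ Subgroup.normalizer (S : Set X) → y ∈ S := by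
    intro y
    rw [hP, Subgroup.mem_iInf]
    constructor
    · intro h S hS hRS
      have := h ⟨hS.toSylow, fun a ha => by
        rw [hS.map_toSylow]; exact H68.cj_eq_of_mem_normalizer (hRS ha)⟩
      rwa [hS.map_toSylow] at this
    · intro h S
      exact h _ (H68.sylowIn_map S.1) fun a ha => H68.mem_normalizer_iff_cj.2 (S.2 a ha)
  obtain ⟨S₀, hS₀, hRS₀⟩ := H2.exists_invariant_sylowIn hnorm hcop' (Or.inl hsolv) p
  have hPS : P ≤ S₀ := fun y hy => (hmem y).1 hy S₀ hS₀ hRS₀
  have hn : ∀ x ∈ Subgroup.normalizer (G : Set X), x ∈ Subgroup.normalizer (R : Set X) →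
      x ∈ Subgroup.normalizer (P : Set X) := by
    intro x h1 h2
    refine H68.mem_normalizer_of_cj_le (H68.cj_le_iff'.2 fun y hy => (hmem _).2 fun S hS hRS => ?_)
    have := (hmem y).1 hy _ (hS.cj_of_mem_normalizer (Subgroup.inv_mem _ h1)) (by
      rw [← H68.cj_normalizer, ← H68.cj_eq_of_mem_normalizer (Subgroup.inv_mem _ h2)]
      exact H68.cj_mono _ hRS)
    rwa [H68.mem_cj, inv_inv] at this
  have H : H57.EQ.Hyp p G R P := ⟨hnorm, hcop', hsolv, hPS.trans hS₀.le, hS₀.isPGroup.to_le hPS,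
    fun x hx => hn x (hnorm hx) (Subgroup.le_normalizer hx), fun x hx =>
      hn x (Subgroup.le_normalizer hx.1) (Subgroup.centralizer_le_normalizer _ hx.2)⟩
  have hC : G ⊓ Subgroup.centralizer (pCoreOf p G : Set X) ≤ pCoreOf p G := by
    have := H23.inf_centralizer_map_fStar_le G
    rwa [hF] at this
  have hTP : pCoreOf p G ≤ P := fun y hy => (hmem y).2 fun S hS _ =>
    hS.le_of_le_normalizer (H1.isPGroup_pCoreOf G) (H1.pCoreOf_le G)
      (hS.le.trans (H1.le_normalizer_pCoreOf G)) hy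
  have hP0 : P ≠ ⊥ := by
    intro e
    apply hG
    rw [e, le_bot_iff] at hTP
    rw [hTP] at hC
    rw [eq_bot_iff]
    refine fun x hx => hC ⟨hx, fun y hy => ?_⟩
    rw [Subgroup.mem_bot.1 hy]; simp
  have hGK : G ≤ G ⊔ R := le_sup_left
  have hPK : P ≤ G ⊔ R := H.le.trans hGK
  have H' := H.subgroupOf hGK le_sup_right
  have hGn := H2.normal_subgroupOf_sup_left hnorm
  have hinj := (G ⊔ R).subtype_injective
  have eO : (pCoreOf p (G.subgroupOf (G ⊔ R))).map (G ⊔ R).subtype = pCoreOf p G := by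
    rw [H1.map_pCoreOf_of_injective hinj, Subgroup.map_subgroupOf_eq_of_le hGK]
  have hN := H57.EQ.kInf_normal hp5 H' (by
    rw [← Subgroup.map_le_map_iff_of_injective hinj, H57.map_inf_centralizer _ hinj, eO,
      Subgroup.map_subgroupOf_eq_of_le hGK]
    exact hC) (by
    rw [← Subgroup.map_le_map_iff_of_injective hinj, eO, Subgroup.map_subgroupOf_eq_of_le hPK]
    exact hTP)
  have hW := H57.KInf.isCharPFunctor_kInfLower p
  have e := H57.map_inducedFunctor hW _ hinj (P.subgroupOf (G ⊔ R)) H'.pg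
  rw [Subgroup.map_subgroupOf_eq_of_le hPK] at e
  refine ⟨kInfLower P, H57.KInf.kInfLower_characteristic P, fun h0 =>
    H57.inducedFunctor_ne_bot hW H.pg hP0 (by
      change (kInfLower P).map _ = ⊥
      rw [h0, Subgroup.map_bot]), ?_⟩
  change G ≤ Subgroup.normalizer (inducedFunctor (fun Q _ => kInfLower Q) P : Set X)
  rw [← e]
  exact fun x hx => Subgroup.le_normalizer_map _
    ⟨⟨x, hGK hx⟩, Subgroup.le_normalizer_of_normal (K := ⊤) trivial, rfl⟩

end Cfsg.Agent.S1930
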