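import Cfsg.Statements.S1931
import Mathlib
import Cfsg.Agent.Base
import Cfsg.Agent.Lib.Flav59.Rank2
import Cfsg.Agent.Lib.BG.Api.Rank2

set_option autoImplicit false
open Cfsg

namespace Cfsg.Agent.S1931

open Subgroup H69 H59.Fl

/-- Inside a finite group let G be a subgroup and R a noncyclic abelian r-subgroup (r a prime) normalizing G, with the order of G prime to r, and let p > 3 be a prime. Suppose that for every nonidentity a ∈ R, R centralizes the subgroup O^p(F*(C_G(a))) generated by the p'-elements of the generalized Fitting subgroup of C_G(a). Then R centralizes O^p(F*(G)). -/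
theorem result {X : Type*} [Group X] [Finite X] (G R : Subgroup X) (r : ℕ) [Fact r.Prime] (hR : IsPGroup r ↥R) (hcop : (Nat.card ↥G).Coprime r) (hnorm : R ≤ Subgroup.normalizer (G : Set X)) (hab : IsMulCommutative ↥R) (hnc : ¬ IsCyclic ↥R) (p : ℕ) [Fact p.Prime] (hp : 3 < p) (hloc : ∀ a ∈ R, a ≠ 1 → R ≤ Subgroup.centralizer ((((Cfsg.pResidual p ↥(Cfsg.generalizedFittingSubgroup ↥(G ⊓ Subgroup.centralizer ({a} : Set X)))).map (Cfsg.generalizedFittingSubgroup ↥(G ⊓ Subgroup.centralizer ({a} : Set X))).subtype).map (G ⊓ Subgroup.centralizer ({a} : Set X)).subtype : Subgroup X) : Set X)) : R ≤ Subgroup.centralizer ((((Cfsg.pResidual p ↥(Cfsg.generalizedFittingSubgroup ↥G)).map (Cfsg.generalizedFittingSubgroup ↥G).subtype).map G.subtype : Subgroup X) : Set X) := by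
  have hp5 : 5 ≤ p := by
    have h := (Fact.out : p.Prime)
    rcases Nat.lt_or_ge p 5 with h1 | h1
    · obtain rfl : p = 4 := by omega
      exact absurd h (by decide)
    · exact h1
  have hcop' : (Nat.card R).Coprime (Nat.card G) := by
    obtain ⟨n, hn⟩ := IsPGroup.iff_card.1 hR
    rw [hn]; exact hcop.symm.pow_left n
  have e : ∀ M : Subgroup X, ((Cfsg.pResidual p ↥(Cfsg.generalizedFittingSubgroup ↥M)).map
      (Cfsg.generalizedFittingSubgroup ↥M).subtype).map M.subtype = yOf p M := fun M =>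
    map_subtype_res _
  simp only [e] at hloc ⊢
  obtain ⟨q, A, hq, hA⟩ := H45.abelian_not_cyclic_p2Elem hab hnc
  have := Fact.mk hq
  have hnA : ¬ IsCyclic A := hA.not_cyclic (by norm_num)
  have h : Hy p q G A := ⟨hA.le.trans hnorm, H2.coprime_of_le_left hcop' hA.le, hq, hA.card, hnA,
    fun a ha h1 => hA.le.trans (hloc a (hA.le ha) h1)⟩
  have h1 := le_centralizer_comm.1 (h.main hp5)
  obtain ⟨a, ha, ha1⟩ : ∃ a ∈ A, a ≠ 1 := by
    by_contra hc
    push Not at hc
    exact hA.ne_bot (by norm_num) ((eq_bot_iff_forall _).2 hc)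
  refine (hloc a (hA.le ha) ha1).trans (centralizer_anti ?_)
  rw [← yOf_yOf G]
  exact yOf_mono' (le_inf (yOf_le G) (h1.trans (cent_le_cent ha)))
    (inf_le_left.trans (le_normalizer_yOf G))

end Cfsg.Agent.S1931
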