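import Cfsg.Statements.S1954
import Mathlib
import Cfsg.Agent.Base
import Cfsg.Agent.Lib.Tech58.FusCtrl

set_option autoImplicit false
open Cfsg

namespace Cfsg.Agent.S1954

open Subgroup

/-- Let N be a normal subgroup of the finite group G, P a Sylow p-subgroup of G, and V a subgroup of P ∩ N normal in P ∩ N such that N_N(V) controls strong fusion in P ∩ N with respect to N (whenever a subgroup A of P ∩ N has n A n⁻¹ ≤ P ∩ N for some n in N, then n = h c with h in N_N(V) and c in C_N(A)). Let W be the subgroup generated by the conjugates of V under N_G(P ∩ N). Then N_G(W) controls strong fusion in P with respect to G. -/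
theorem result {G : Type*} [Group G] [Finite G] {p : ℕ} [Fact p.Prime] (N : Subgroup G) [N.Normal] (P : Sylow p G) (V : Subgroup G)
    (hV : V ≤ (P : Subgroup G) ⊓ N) (hVn : ∀ x ∈ (P : Subgroup G) ⊓ N, V.map (MulAut.conj x).toMonoidHom = V)
    (hctrl : ∀ A : Subgroup G, A ≤ (P : Subgroup G) ⊓ N → ∀ n ∈ N, A.map (MulAut.conj n).toMonoidHom ≤ (P : Subgroup G) ⊓ N →
      ∃ h ∈ N ⊓ Subgroup.normalizer (V : Set G), ∃ c ∈ N ⊓ Subgroup.centralizer (A : Set G), n = h * c)
    (W : Subgroup G) (hW : W = Subgroup.closure (⋃ x ∈ Subgroup.normalizer (((P : Subgroup G) ⊓ N : Subgroup G) : Set G),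
      ((V.map (MulAut.conj x).toMonoidHom : Subgroup G) : Set G))) :
    ∀ A : Subgroup G, A ≤ (P : Subgroup G) → ∀ g : G, A.map (MulAut.conj g).toMonoidHom ≤ (P : Subgroup G) →
        ∃ h ∈ Subgroup.normalizer (W : Set G), ∃ c ∈ Subgroup.centralizer (A : Set G), g = h * c := by
  set T : Subgroup G := (P : Subgroup G) ⊓ N with hT
  have hle : ∀ x ∈ normalizer (T : Set G), V.map (MulAut.conj x).toMonoidHom ≤ W := fun x hx => by
    rw [hW]
    exact fun y hy => subset_closure (Set.mem_biUnion hx hy)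
  have hVT : ∀ x ∈ normalizer (T : Set G), V.map (MulAut.conj x).toMonoidHom ≤ T := by
    rintro x hx _ ⟨v, hv, rfl⟩
    exact H3.conj_mem_of_mem_normalizer hx (hV hv)
  let E := fusionSystemOfSubgroup N T inf_le_right
  have h1 : sSup {Q | E.IsNormal Q ∧ Q ≤ W} ∈ {Q | E.IsNormal Q ∧ Q ≤ W} :=
    H91.sSup_mem_of_sup_closed (S := T) (fun Q hQ => hQ.1.1) ⟨⊥, H91.isNormal_bot E, bot_le⟩
      fun Q hQ R hR => ⟨H91.IsNormal.sup' hQ.1 hR.1, sup_le hQ.2 hR.2⟩
  have h2 : sSup {Q | E.IsNormal Q ∧ Q ≤ W} = W := by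
    refine le_antisymm h1.2 ?_
    conv_lhs => rw [hW]
    rw [closure_le]
    refine Set.iUnion₂_subset fun x hx => ?_
    exact le_sSup (s := {Q | E.IsNormal Q ∧ Q ≤ W}) ⟨(H58.isNormal_subgroup_iff _).2
      ⟨hVT x hx, H58.Ctrl.conj hctrl hx⟩, hle x hx⟩
  rw [h2] at h1
  obtain ⟨h3, h4⟩ := (H58.isNormal_subgroup_iff _).1 h1.1
  refine H58.ctrl_top_iff.1 (H58.Ctrl.lift P h3 h4 fun g hg => ?_)
  refine H3.mem_normalizer_of_conj_mem fun y hy => ?_
  have : W.map (MulAut.conj g).toMonoidHom ≤ W := by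
    conv_lhs => rw [hW]
    rw [MonoidHom.map_closure, closure_le]
    rintro _ ⟨z, hz, rfl⟩
    obtain ⟨x, hx, v, hv, rfl⟩ := Set.mem_iUnion₂.1 hz
    exact hle (g * x) (mul_mem hg hx) ⟨v, hv, by simp [mul_assoc]⟩
  exact this ⟨y, hy, rfl⟩

end Cfsg.Agent.S1954
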