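import Cfsg.Statements.S2059
import Cfsg.Agent.Lib.YMult.Mon
import Cfsg.Agent.Lib.MonSC.YGlue
import Cfsg.Agent.Lib.YM.Nodes
import Cfsg.Agent.Lib.MonSC.Iso
import Cfsg.Agent.Lib.Schur.Perf

set_option autoImplicit false
open Cfsg

namespace Cfsg.Agent.S2059

/-- The Schur multiplier of the Monster (realised inside the presented Bimonster) is trivial; here the Schur multiplier is described through stem extensions, as in the definitions: surjective homomorphisms onto the group from a finite group, whose kernel is central in that finite group and contained in that finite group's commutator subgroup. -/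
theorem result : Cfsg.HasCyclicSchurMultiplier Cfsg.Spor.Monster 1 := by
  obtain ⟨e⟩ := H95.Gr.iso
  obtain ⟨u, h1, h2⟩ := H77.YM.exists_nodes
  have hZ : Subgroup.center H95.Gr.GG = ⊥ :=
    (H95.Gr.simple_GG.eq_bot_or_eq_top_of_normal _ inferInstance).resolve_right fun h => by
      have h3 := H60.perfect_of_simple H95.Gr.simple_GG H95.Gr.card_GG (by norm_num)
      have := H95.Gr.simple_GG.toNontrivial
      rw [← commutator_eq_bot_iff_center_eq_top, h3] at h
      exact top_ne_bot h
  have hx : H18.YG.Nd (H18.YG.xs u) := ⟨H18.YG.sat_xs hZ h1, h2⟩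
  have : Finite Spor.Monster := Finite.of_equiv _ e.symm.toEquiv
  refine H78.Schur.hasCyclic_one_iff.2 fun Δ _ _ τ hτ => ?_
  obtain ⟨g, hg, eg⟩ := H60.YM.lift553 (σ := e.toMonoidHom.comp τ)
    (fun a ha => hτ.2.1 (e.map_eq_one_iff.1 ha)) (e.surjective.comp hτ.1) hx.1
  obtain ⟨φ, hφ⟩ := hx.lift hg
  have h3 : ∀ a, e (τ (φ a)) = a := fun a =>
    (H18.TC.gsub_le fun n hn => (congrArg (fun b => e (τ b)) (hφ n (List.mem_range.1 hn))).trans
      (eg n (List.mem_range.1 hn)) : H18.TC.gsub _ _ ≤ ((e.toMonoidHom.comp τ).comp φ).eqLocus (MonoidHom.id _))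
      (hx.top ▸ Subgroup.mem_top a)
  refine eq_bot_iff.2 fun z hz => ?_
  obtain ⟨a, rfl⟩ := H78.Schur.surjective_of_stem hτ φ (fun y => ⟨e y, e.injective (h3 _)⟩) z
  rw [← h3 a, show τ (φ a) = 1 from hz, map_one, map_one]
  exact one_mem _

end Cfsg.Agent.S2059
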