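import Cfsg.Statements.S2174
import Mathlib
import Cfsg.Agent.Lib.Chev.InvolTab

set_option autoImplicit false
open Cfsg

namespace Cfsg.Agent.S2174

theorem compat : H9.Compat H38.rsF4 H38.tabF4 :=
  ⟨by decide, fun _ _ => rfl, fun _ => rfl, fun _ _ => rfl⟩

/-- representatives -/
def reps : List (List ℕ) := [[47], [44], [47, 44], [39, 45]]

/-- the classification -/
def steps : List H9.Step :=
   [.br [] [] [] [] [] [0, 1, 2, 3],
    .br [47] [] [47] [] [47] [0, 1, 2],
    .tr [47, 37] [37, 47] [] [(11, [44, 30]), (21, [44, 32])] [44, 32],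
    .br [47, 41] [(18, [41, 47])] [41, 47] [18] [47, 44] [1, 2],
    .br [47, 41, 30] [(16, [43, 45, 23]), (18, [43, 45, 32])] [43, 45, 32] [13, 27, 33] [39, 45] [2],
    .red [47, 41, 30, 25] [47, 41, 30] [26, 23, 16, 5],
    .tr [47, 41, 28] [28, 47, 41] [] [(5, [44, 32, 23]), (23, [44, 32, 24])] [44, 32, 24],
    .br [44] [] [44] [] [44] [1, 2, 3],
    .br [44, 32] [(13, [39, 45])] [39, 45] [] [39, 45] [1, 3],
    .tr [44, 32, 27] [44, 27, 32] [] [(21, [44, 29, 30])] [44, 29, 30],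
    .red [44, 32, 24] [44, 32] [42, 19, 6],
    .br [44, 29] [(6, [29, 44])] [29, 44] [6] [47, 44] [1, 2],
    .red [44, 29, 30] [44, 30] [36, 14, 6],
    .br [44, 29, 28] [(12, [38, 39, 14]), (21, [38, 37, 14]), (4, [38, 37, 39])] [38, 37, 39] [21, 25, 24] [39, 45] [1],
    .red [44, 29, 28, 27] [44, 29, 28] [34, 14, 12, 11]]

theorem run : H9.runB Lie.chevF4 H38.tabF4 ([] :: reps) steps = true := by decide +kernel

/-- fixed vectors -/
def ker0 : List (ℕ × List ℕ) :=
  [(0, [0]), (1, [1]), (2, [2]), (10, [10]), (14, [14]), (16, [16]), (17, [17]), (18, [18]), (21, [21]), (23,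
  [23]), (24, [24]), (26, [26]), (28, [28]), (29, [29]), (30, [30]), (31, [31]), (32, [32]), (33, [33]), (34,
  [34]), (35, [35]), (36, [36]), (37, [37]), (38, [38]), (39, [39]), (40, [40]), (41, [41]), (42, [42]), (43,
  [43]), (44, [44]), (45, [45]), (46, [46]), (47, [47]), (48, [48]), (49, [49]), (50, [50]), (51, [51])]

/-- commutators -/
def im0 : List ((ℕ × List ℕ) × List ℕ) :=
  [((51, [51]), [3]), ((28, [28]), [5]), ((30, [30]), [6]), ((33, [33]), [7]), ((35, [35]), [8]), ((36, [36]),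
  [9]), ((40, [40]), [11]), ((42, [42]), [12]), ((43, [43]), [13]), ((44, [44]), [15]), ((46, [46]), [19]),
  ((47, [47]), [20]), ((48, [48]), [22]), ((49, [49]), [25]), ((50, [50]), [27]), ((2, [0, 2]), [3, 4])]

theorem rank0 {F : Type*} [Field F] (h : (2 : F) = 0) :
    (H9.wM Lie.chevF4 F [47] - 1).rank = 16 := by
  have h1 := H9.rank_le H37.tabF4 h (L := [47]) (K := ker0) (by decide +kernel)
  have h2 := H9.le_rank H37.tabF4 h (L := [47]) (I := im0) (by decide +kernel)
  change _ + 36 ≤ 52 at h1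
  change 16 ≤ _ at h2
  omega

/-- fixed vectors -/
def ker1 : List (ℕ × List ℕ) :=
  [(1, [1]), (2, [2]), (3, [3]), (19, [19]), (20, [20]), (21, [21]), (22, [22]), (23, [23]), (24, [24]), (25,
  [25]), (26, [26]), (27, [27]), (28, [28]), (29, [29]), (30, [30]), (31, [31]), (32, [32]), (33, [33]), (34,
  [34]), (35, [35]), (36, [36]), (37, [37]), (38, [38]), (39, [39]), (40, [40]), (41, [41]), (42, [42]), (43,
  [43]), (44, [44]), (45, [45]), (46, [46]), (47, [47]), (48, [48]), (49, [49]), (50, [50]), (51, [51])]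

/-- commutators -/
def im1 : List ((ℕ × List ℕ) × List ℕ) :=
  [((48, [48]), [0]), ((37, [37]), [11]), ((38, [38]), [12]), ((39, [39]), [13]), ((40, [40]), [14]), ((41,
  [41]), [15]), ((42, [42]), [16]), ((43, [43]), [17]), ((44, [44]), [18]), ((45, [22, 45]), [4]), ((46, [23,
  46]), [5]), ((47, [24, 47]), [6]), ((1, [1]), [0, 7]), ((49, [31, 49]), [8]), ((50, [32, 50]), [9]), ((51,
  [33, 51]), [10])]

theorem rank1 {F : Type*} [Field F] (h : (2 : F) = 0) :
    (H9.wM Lie.chevF4 F [44] - 1).rank = 16 := by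
  have h1 := H9.rank_le H37.tabF4 h (L := [44]) (K := ker1) (by decide +kernel)
  have h2 := H9.le_rank H37.tabF4 h (L := [44]) (I := im1) (by decide +kernel)
  change _ + 36 ≤ 52 at h1
  change 16 ≤ _ at h2
  omega

/-- fixed vectors -/
def ker2 : List (ℕ × List ℕ) :=
  [(1, [1]), (2, [2]), (21, [21]), (23, [23]), (24, [24]), (26, [26]), (28, [28]), (29, [29]), (30, [30]),
  (31, [31]), (32, [32]), (33, [33]), (34, [34]), (35, [35]), (36, [36]), (37, [37]), (38, [38]), (39, [39]),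
  (40, [40]), (41, [41]), (42, [42]), (43, [43]), (44, [44]), (45, [45]), (46, [46]), (47, [47]), (48, [48]),
  (49, [49]), (50, [50]), (51, [51]), (22, [0, 22])]

/-- commutators -/
def im2 : List ((ℕ × List ℕ) × List ℕ) :=
  [((48, [48]), [0]), ((51, [51]), [3]), ((40, [40]), [14]), ((42, [42]), [16]), ((43, [43]), [17]), ((44,
  [44]), [18]), ((46, [46]), [19]), ((47, [47]), [20]), ((49, [49]), [25]), ((50, [50]), [27]), ((33, [33]),
  [3, 10]), ((37, [37]), [11, 14]), ((38, [38]), [12, 16]), ((39, [39]), [13, 17]), ((41, [41]), [15, 18]),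
  ((28, [23, 28]), [5, 19]), ((30, [24, 30]), [6, 20]), ((1, [1]), [0, 3, 7, 10]), ((35, [31, 35]), [8, 25]),
  ((36, [32, 36]), [9, 27]), ((45, [0, 2, 22, 45]), [0, 3, 4])]

theorem rank2 {F : Type*} [Field F] (h : (2 : F) = 0) :
    (H9.wM Lie.chevF4 F [47, 44] - 1).rank = 21 := by
  have h1 := H9.rank_le H37.tabF4 h (L := [47, 44]) (K := ker2) (by decide +kernel)
  have h2 := H9.le_rank H37.tabF4 h (L := [47, 44]) (I := im2) (by decide +kernel)
  change _ + 31 ≤ 52 at h1
  change 21 ≤ _ at h2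
  omega

/-- fixed vectors -/
def ker3 : List (ℕ × List ℕ) :=
  [(0, [0]), (3, [3]), (18, [18]), (27, [27]), (28, [28]), (32, [32]), (33, [33]), (34, [34]), (35, [35]),
  (36, [36]), (37, [37]), (39, [39]), (40, [40]), (41, [41]), (42, [42]), (43, [43]), (44, [44]), (45, [45]),
  (46, [46]), (47, [47]), (48, [48]), (49, [49]), (50, [50]), (51, [51]), (31, [17, 31]), (38, [24, 38]), (25,
  [13, 25, 29]), (26, [14, 26, 30])]

/-- commutators -/
def im3 : List ((ℕ × List ℕ) × List ℕ) :=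
  [((43, [43]), [1]), ((34, [34]), [9]), ((35, [35]), [10]), ((41, [41]), [13]), ((42, [42]), [14]), ((32,
  [32]), [15]), ((33, [33]), [16]), ((44, [44]), [17]), ((45, [45]), [20]), ((46, [46]), [21]), ((39, [39]),
  [22]), ((40, [40]), [23]), ((48, [48]), [24]), ((50, [50]), [29]), ((51, [51]), [30]), ((49, [49]), [1, 2]),
  ((36, [18, 36]), [8]), ((0, [0]), [1, 12]), ((47, [37, 47]), [19]), ((3, [3]), [2, 6, 12]), ((31, [17, 31]),
  [7, 17]), ((38, [24, 38]), [11, 24]), ((29, [13, 25, 29]), [4, 13, 29]), ((30, [14, 26, 30]), [5, 14, 30])]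

theorem rank3 {F : Type*} [Field F] (h : (2 : F) = 0) :
    (H9.wM Lie.chevF4 F [39, 45] - 1).rank = 24 := by
  have h1 := H9.rank_le H37.tabF4 h (L := [39, 45]) (K := ker3) (by decide +kernel)
  have h2 := H9.le_rank H37.tabF4 h (L := [39, 45]) (I := im3) (by decide +kernel)
  change _ + 28 ≤ 52 at h1
  change 24 ≤ _ at h2
  omega

theorem sep {F : Type*} [Field F] {E : H38.Elts H38.rsF4.toRS F (GL Lie.chevF4.Idx F)}
    (hE : H38.IsMat H38.rsF4 E) (h : H9.Two hE.grp)
    (e : IsConj (compat.y hE [47]) (compat.y hE [44])) : H38.tabF4.len 47 = H38.tabF4.len 44 := by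
  have key : ∀ r : Fin Lie.chevF4.nroots, (H38.allLt Lie.chevF4.nroots fun k =>
      H9.commB Lie.chevF4 r k || (H38.allLt 4 fun j => decide (H38.tabF4.rt Lie.chevF4 k j ≤ 0))) = true →
      ∀ k, H38.rsF4.Pos k → ∀ a, Commute (hE.grp.x r 1) (hE.grp.x k a) := by
    intro r hr k hk a
    have := (H38.allLt_iff _ _).1 hr k k.2
    rw [Bool.or_eq_true, H38.allLt_iff] at this
    refine H9.Compat.commB_spec hE h.two (this.resolve_right fun h1 => H38.rsF4.rt_ne_zero k ?_) 1 a
    exact funext fun j => le_antisymm (of_decide_eq_true (h1 j j.2)) ((H38.rsF4.pos_iff k).1 hk j)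
  simp only [H9.Compat.y, List.map_cons, List.map_nil, H9.Y_cons, H9.Y_nil, mul_one] at e
  have := H9.len_eq_of_isConj h.faith h.top ((H38.rsF4.pos_iff _).2 (by decide +kernel))
    (key _ (by decide +kernel)) (key _ (by decide +kernel)) e
  rwa [compat.len, compat.len, compat.φ_val (by decide), compat.φ_val (by decide)] at this

/-- Conjugacy classes of involutions in the Chevalley group of type F₄ over a finite field F of characteristic two (the matrix group generated by the root elements x_r(t)). In this problem's root numbering for type F₄ (the Chevalley data module; fundamental roots p₁, p₂ short and p₃, p₄ long; roots indexed by their coefficient vectors in increasing order) let r = 47 be the highest root (2,4,3,2), s = 44 the highest short root (2,3,2,1), and α = 39 = (1,2,2,1), β = 45 = (2,4,2,1), an orthogonal short/long pair; consider the four elements x_r(1), x_s(1), x_r(1)x_s(1), x_α(1)x_β(1). Then: each invertible matrix equal to one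 of these four products lies in the group and has order 2; every element of order 2 of the group is conjugate in the group to one of them; and no two of them are conjugate in the group (so, the four matrices being distinct, the group has exactly four conjugacy classes of involutions). -/
theorem result {F : Type*} [Field F] [Fintype F] [CharP F 2] :
    (∀ y : GL Cfsg.Lie.chevF4.Idx F, ((y : GL Cfsg.Lie.chevF4.Idx F) : Matrix Cfsg.Lie.chevF4.Idx Cfsg.Lie.chevF4.Idx F) ∈ [Cfsg.Lie.chevF4.x F 47 1, Cfsg.Lie.chevF4.x F 44 1, Cfsg.Lie.chevF4.x F 47 1 * Cfsg.Lie.chevF4.x F 44 1, Cfsg.Lie.chevF4.x F 39 1 * Cfsg.Lie.chevF4.x F 45 1] → y ∈ Cfsg.Lie.chevF4.group F ∧ orderOf y = 2) ∧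
    (∀ g ∈ Cfsg.Lie.chevF4.group F, orderOf g = 2 → ∃ y ∈ Cfsg.Lie.chevF4.group F, ((y : GL Cfsg.Lie.chevF4.Idx F) : Matrix Cfsg.Lie.chevF4.Idx Cfsg.Lie.chevF4.Idx F) ∈ [Cfsg.Lie.chevF4.x F 47 1, Cfsg.Lie.chevF4.x F 44 1, Cfsg.Lie.chevF4.x F 47 1 * Cfsg.Lie.chevF4.x F 44 1, Cfsg.Lie.chevF4.x F 39 1 * Cfsg.Lie.chevF4.x F 45 1] ∧ ∃ h ∈ Cfsg.Lie.chevF4.group F, h * g * h⁻¹ = y) ∧
    (∀ y₁ ∈ Cfsg.Lie.chevF4.group F, ∀ y₂ ∈ Cfsg.Lie.chevF4.group F, ((y₁ : GL Cfsg.Lie.chevF4.Idx F) : Matrix Cfsg.Lie.chevF4.Idx Cfsg.Lie.chevF4.Idx F) ∈ [Cfsg.Lie.chevF4.x F 47 1, Cfsg.Lie.chevF4.x F 44 1, Cfsg.Lie.chevF4.x F 47 1 * Cfsg.Lie.chevF4.x F 44 1, Cfsg.Lie.chevF4.x F 39 1 * Cfsg.Lie.chevF4.x F 45 1] → ((y₂ : GL Cfsg.Lie.chevF4.Idx F) : Matrix Cfsg.Lie.chevF4.Idx Cfsg.Lie.chevF4.Idx F) ∈ [Cfsg.Lie.chevF4.x F 47 1, Cfsg.Lie.chevF4.x F 44 1, Cfsg.Lie.chevF4.x F 47 1 * Cfsg.Lie.chevF4.x F 44 1, Cfsg.Lie.chevF4.x F 39 1 * Cfsg.Lie.chevF4.x F 45 1] →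
      (∃ h ∈ Cfsg.Lie.chevF4.group F, h * y₁ * h⁻¹ = y₂) → ((y₁ : GL Cfsg.Lie.chevF4.Idx F) : Matrix Cfsg.Lie.chevF4.Idx Cfsg.Lie.chevF4.Idx F) = ((y₂ : GL Cfsg.Lie.chevF4.Idx F) : Matrix Cfsg.Lie.chevF4.Idx Cfsg.Lie.chevF4.Idx F)) := by
  have h2 : (2 : F) = 0 := CharTwo.two_eq_zero
  obtain ⟨E, hE⟩ := (H38.matFacts (D := Lie.chevF4) (by simp) F).exists_isMat H38.rsF4
  have h := compat.two_of_comm hE h2 (by decide +kernel)
  have h1 : ∀ L ∈ reps, H9.ltB Lie.chevF4 L = true := by decide +kernel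
  have h3 : ∀ L ∈ reps, H9.wordB Lie.chevF4 (L ++ L) [] = true := by decide +kernel
  have h4 : ∀ L ∈ reps, orderOf (compat.y hE L) = 2 := by
    intro L hL
    refine compat.orderOf_y' hE H37.tabF4 h2 (h1 L hL) (h3 L hL) ?_
    simp only [reps, List.mem_cons, List.not_mem_nil, or_false] at hL
    rcases hL with rfl | rfl | rfl | rfl <;> simp only [rank0 h2, rank1 h2, rank2 h2, rank3 h2] <;> omega
  have h5 : ∀ L ∈ reps, ∀ M ∈ reps, IsConj (compat.y hE L) (compat.y hE M) → L = M := by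
    intro L hL M hM e
    have := compat.rank_eq hE (h1 L hL) (h1 M hM) e
    simp only [reps, List.mem_cons, List.not_mem_nil, or_false] at hL hM
    rcases hL with rfl | rfl | rfl | rfl <;> rcases hM with rfl | rfl | rfl | rfl <;>
      first | rfl | (simp only [rank0 h2, rank1 h2, rank2 h2, rank3 h2] at this; omega) | skip
    · exact absurd (sep hE h e) (by decide +kernel)
    · exact absurd (sep hE h e.symm) (by decide +kernel)
  have h6 := fun g => compat.classify hE H37.tabF4 h (g := g) run (by decide)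
  exact compat.final hE (by simp [reps, H9.wM, H9.one1, Lie.ChevalleyDatum.wordMat]) h1 h4 h6 h5

end Cfsg.Agent.S2174
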