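import Cfsg.Statements.S2176
import Mathlib
import Cfsg.Agent.Lib.Chev.InvolTab

set_option autoImplicit false
open Cfsg

namespace Cfsg.Agent.S2176

theorem compat : H9.Compat H38.rsE8 H38.tabE8 :=
  ⟨by decide, fun _ _ => rfl, fun _ => rfl, fun _ _ => rfl⟩

/-- representatives -/
def reps : List (List ℕ) := [[239], [232, 233], [228, 222, 218], [226, 220, 213, 216]]

/-- the classification -/
def steps : List H9.Step :=
   [.br [] [] [] [] [] [0, 1, 2, 3, 4, 5, 6, 7],
    .br [239] [] [239] [] [239] [0, 1, 2, 3, 4, 5, 6],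
    .br [239, 226] [(93, [232, 233])] [232, 233] [] [232, 233] [1, 2, 3, 4, 5, 6],
    .br [239, 226, 159] [(79, [228, 237, 119]), (61, [228, 222, 119]), (24, [228, 222, 214]), (110, [228, 222, 218])] [228, 222, 218] [] [228, 222, 218] [1, 2, 3, 4, 6],
    .br [239, 226, 159, 152] [(78, [227, 238, 117, 152]), (119, [226, 239, 118, 152]), (56, [226, 220, 182, 216]), (89, [226, 220, 213, 216])] [226, 220, 213, 216] [] [226, 220, 213, 216] [1, 2, 4, 6],
    .tr [239, 226, 159, 152, 141] [239, 159, 152, 141] [226] [(55, [239, 219, 76, 141]), (77, [239, 226, 104, 141]), (89, [239, 226, 145, 100]), (101, [239, 226, 159, 118]), (118, [239, 226, 159, 121])] [239, 226, 159, 121],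
    .tr [239, 226, 159, 152, 135] [226, 159, 152, 135] [239] [(78, [238, 117, 152, 135]), (119, [239, 118, 152, 135]), (34, [239, 204, 67, 135]), (72, [239, 226, 98, 135]), (89, [239, 226, 139, 94]), (95, [239, 226, 159, 118]), (118, [239, 226, 159, 121])] [239, 226, 159, 121],
    .tr [239, 226, 159, 152, 126] [239, 226, 152, 126] [159] [(111, [239, 226, 157, 115]), (116, [239, 226, 159, 118]), (118, [239, 226, 159, 121])] [239, 226, 159, 121],
    .tr [239, 226, 159, 152, 121] [239, 226, 159, 121] [152] [] [239, 226, 159, 121],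
    .red [239, 226, 159, 121] [239, 226, 159] [122, 119, 79, 12]]

theorem run : H9.runB Lie.chevE8 H38.tabE8 ([] :: reps) steps = true := by decide +kernel

/-- fixed vectors -/
def ker0 : List (ℕ × List ℕ) :=
  [(0, [0]), (1, [1]), (2, [2]), (3, [3]), (4, [4]), (5, [5]), (6, [6]), (21, [21]), (28, [28]), (33, [33]),
  (37, [37]), (40, [40]), (42, [42]), (43, [43]), (47, [47]), (50, [50]), (52, [52]), (53, [53]), (56, [56]),
  (58, [58]), (59, [59]), (61, [61]), (62, [62]), (63, [63]), (66, [66]), (68, [68]), (69, [69]), (71, [71]),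
  (72, [72]), (73, [73]), (75, [75]), (76, [76]), (77, [77]), (78, [78]), (80, [80]), (81, [81]), (82, [82]),
  (83, [83]), (84, [84]), (85, [85]), (88, [88]), (90, [90]), (91, [91]), (93, [93]), (94, [94]), (95, [95]),
  (97, [97]), (98, [98]), (99, [99]), (100, [100]), (102, [102]), (103, [103]), (104, [104]), (105, [105]),
  (106, [106]), (108, [108]), (109, [109]), (110, [110]), (111, [111]), (112, [112]), (114, [114]), (115,
  [115]), (116, [116]), (117, [117]), (119, [119]), (120, [120]), (121, [121]), (123, [123]), (124, [124]),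
  (126, [126]), (128, [128]), (129, [129]), (130, [130]), (131, [131]), (132, [132]), (133, [133]), (134,
  [134]), (135, [135]), (136, [136]), (137, [137]), (138, [138]), (139, [139]), (140, [140]), (141, [141]),
  (142, [142]), (143, [143]), (144, [144]), (145, [145]), (146, [146]), (147, [147]), (148, [148]), (149,
  [149]), (150, [150]), (151, [151]), (152, [152]), (153, [153]), (154, [154]), (155, [155]), (156, [156]),
  (157, [157]), (158, [158]), (159, [159]), (160, [160]), (161, [161]), (162, [162]), (163, [163]), (164,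
  [164]), (165, [165]), (166, [166]), (167, [167]), (168, [168]), (169, [169]), (170, [170]), (171, [171]),
  (172, [172]), (173, [173]), (174, [174]), (175, [175]), (176, [176]), (177, [177]), (178, [178]), (179,
  [179]), (180, [180]), (181, [181]), (182, [182]), (183, [183]), (184, [184]), (185, [185]), (186, [186]),
  (187, [187]), (188, [188]), (189, [189]), (190, [190]), (191, [191]), (192, [192]), (193, [193]), (194,
  [194]), (195, [195]), (196, [196]), (197, [197]), (198, [198]), (199, [199]), (200, [200]), (201, [201]),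
  (202, [202]), (203, [203]), (204, [204]), (205, [205]), (206, [206]), (207, [207]), (208, [208]), (209,
  [209]), (210, [210]), (211, [211]), (212, [212]), (213, [213]), (214, [214]), (215, [215]), (216, [216]),
  (217, [217]), (218, [218]), (219, [219]), (220, [220]), (221, [221]), (222, [222]), (223, [223]), (224,
  [224]), (225, [225]), (226, [226]), (227, [227]), (228, [228]), (229, [229]), (230, [230]), (231, [231]),
  (232, [232]), (233, [233]), (234, [234]), (235, [235]), (236, [236]), (237, [237]), (238, [238]), (239,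
  [239]), (240, [240]), (241, [241]), (242, [242]), (243, [243]), (244, [244]), (245, [245]), (246, [246]),
  (247, [247])]

/-- commutators -/
def im0 : List ((ℕ × List ℕ) × List ℕ) :=
  [((247, [247]), [7]), ((128, [128]), [9]), ((130, [130]), [10]), ((133, [133]), [11]), ((137, [137]), [12]),
  ((142, [142]), [13]), ((148, [148]), [14]), ((154, [154]), [15]), ((159, [159]), [16]), ((163, [163]),
  [17]), ((166, [166]), [18]), ((168, [168]), [19]), ((169, [169]), [20]), ((176, [176]), [22]), ((181,
  [181]), [23]), ((185, [185]), [24]), ((188, [188]), [25]), ((190, [190]), [26]), ((191, [191]), [27]),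
  ((195, [195]), [29]), ((198, [198]), [30]), ((200, [200]), [31]), ((201, [201]), [32]), ((204, [204]),
  [34]), ((206, [206]), [35]), ((207, [207]), [36]), ((209, [209]), [38]), ((210, [210]), [39]), ((211,
  [211]), [41]), ((214, [214]), [44]), ((216, [216]), [45]), ((217, [217]), [46]), ((219, [219]), [48]),
  ((220, [220]), [49]), ((221, [221]), [51]), ((223, [223]), [54]), ((224, [224]), [55]), ((225, [225]),
  [57]), ((226, [226]), [60]), ((228, [228]), [64]), ((229, [229]), [65]), ((230, [230]), [67]), ((231,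
  [231]), [70]), ((232, [232]), [74]), ((233, [233]), [79]), ((235, [235]), [86]), ((236, [236]), [87]),
  ((237, [237]), [89]), ((238, [238]), [92]), ((239, [239]), [96]), ((240, [240]), [101]), ((241, [241]),
  [107]), ((242, [242]), [113]), ((243, [243]), [118]), ((244, [244]), [122]), ((245, [245]), [125]), ((246,
  [246]), [127]), ((6, [1, 4, 6]), [7, 8])]

theorem rank0 {F : Type*} [Field F] (h : (2 : F) = 0) :
    (H9.wM Lie.chevE8 F [239] - 1).rank = 58 := by
  have h1 := H9.rank_le H37.tabE8 h (L := [239]) (K := ker0) (by decide +kernel)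
  have h2 := H9.le_rank H37.tabE8 h (L := [239]) (I := im0) (by decide +kernel)
  have e1 : ker0.length = 190 := by decide +kernel
  have e2 : im0.length = 58 := by decide +kernel
  have e3 : Lie.chevE8.rank + Lie.chevE8.nroots = 248 := rfl
  omega

/-- fixed vectors -/
def ker1 : List (ℕ × List ℕ) :=
  [(3, [3]), (4, [4]), (5, [5]), (6, [6]), (7, [7]), (86, [86]), (87, [87]), (88, [88]), (89, [89]), (90,
  [90]), (91, [91]), (92, [92]), (93, [93]), (94, [94]), (95, [95]), (96, [96]), (97, [97]), (98, [98]), (99,
  [99]), (100, [100]), (113, [113]), (114, [114]), (115, [115]), (116, [116]), (117, [117]), (118, [118]),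
  (119, [119]), (120, [120]), (121, [121]), (122, [122]), (123, [123]), (124, [124]), (125, [125]), (126,
  [126]), (127, [127]), (128, [128]), (129, [129]), (130, [130]), (131, [131]), (132, [132]), (133, [133]),
  (134, [134]), (135, [135]), (136, [136]), (137, [137]), (138, [138]), (139, [139]), (140, [140]), (141,
  [141]), (142, [142]), (155, [155]), (156, [156]), (157, [157]), (158, [158]), (159, [159]), (160, [160]),
  (161, [161]), (162, [162]), (163, [163]), (164, [164]), (165, [165]), (166, [166]), (167, [167]), (168,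
  [168]), (169, [169]), (170, [170]), (171, [171]), (172, [172]), (173, [173]), (174, [174]), (175, [175]),
  (176, [176]), (177, [177]), (178, [178]), (179, [179]), (180, [180]), (181, [181]), (182, [182]), (183,
  [183]), (184, [184]), (185, [185]), (186, [186]), (187, [187]), (188, [188]), (189, [189]), (190, [190]),
  (191, [191]), (192, [192]), (193, [193]), (194, [194]), (195, [195]), (196, [196]), (197, [197]), (198,
  [198]), (199, [199]), (200, [200]), (201, [201]), (202, [202]), (203, [203]), (204, [204]), (205, [205]),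
  (206, [206]), (207, [207]), (208, [208]), (209, [209]), (210, [210]), (211, [211]), (212, [212]), (213,
  [213]), (214, [214]), (215, [215]), (216, [216]), (217, [217]), (218, [218]), (219, [219]), (220, [220]),
  (221, [221]), (222, [222]), (223, [223]), (224, [224]), (225, [225]), (226, [226]), (227, [227]), (228,
  [228]), (229, [229]), (230, [230]), (231, [231]), (232, [232]), (233, [233]), (234, [234]), (235, [235]),
  (236, [236]), (237, [237]), (238, [238]), (239, [239]), (240, [240]), (241, [241]), (242, [242]), (243,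
  [243]), (244, [244]), (245, [245]), (246, [246]), (247, [247]), (107, [101, 107]), (108, [102, 108]), (109,
  [103, 109]), (110, [104, 110]), (111, [105, 111]), (112, [106, 112]), (149, [143, 149]), (150, [144, 150]),
  (151, [145, 151]), (152, [146, 152]), (153, [147, 153]), (154, [148, 154]), (2, [1, 2])]

/-- commutators -/
def im1 : List ((ℕ × List ℕ) × List ℕ) :=
  [((241, [241]), [0]), ((170, [170]), [22]), ((171, [171]), [23]), ((172, [172]), [24]), ((173, [173]),
  [25]), ((174, [174]), [26]), ((175, [175]), [27]), ((176, [176]), [28]), ((177, [177]), [29]), ((178,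
  [178]), [30]), ((179, [179]), [31]), ((180, [180]), [32]), ((181, [181]), [33]), ((182, [182]), [34]),
  ((183, [183]), [35]), ((184, [184]), [36]), ((185, [185]), [37]), ((186, [186]), [38]), ((187, [187]),
  [39]), ((188, [188]), [40]), ((189, [189]), [41]), ((190, [190]), [42]), ((191, [191]), [43]), ((192,
  [192]), [44]), ((193, [193]), [45]), ((194, [194]), [46]), ((195, [195]), [47]), ((196, [196]), [48]),
  ((197, [197]), [49]), ((198, [198]), [50]), ((199, [199]), [51]), ((200, [200]), [52]), ((201, [201]),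
  [53]), ((202, [202]), [54]), ((203, [203]), [55]), ((204, [204]), [56]), ((205, [205]), [57]), ((206,
  [206]), [58]), ((207, [207]), [59]), ((208, [208]), [60]), ((209, [209]), [61]), ((210, [210]), [62]),
  ((211, [211]), [63]), ((212, [212]), [64]), ((213, [213]), [65]), ((214, [214]), [66]), ((215, [215]),
  [67]), ((216, [216]), [68]), ((217, [217]), [69]), ((218, [218]), [70]), ((219, [219]), [71]), ((220,
  [220]), [72]), ((221, [221]), [73]), ((222, [222]), [74]), ((223, [223]), [75]), ((224, [224]), [76]),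
  ((225, [225]), [77]), ((226, [226]), [78]), ((227, [227]), [79]), ((228, [228]), [80]), ((229, [229]),
  [81]), ((230, [230]), [82]), ((231, [231]), [83]), ((232, [232]), [84]), ((233, [233]), [85]), ((234,
  [234]), [101]), ((235, [235]), [102]), ((236, [236]), [103]), ((237, [237]), [104]), ((238, [238]), [105]),
  ((239, [239]), [106]), ((242, [242]), [143]), ((243, [243]), [144]), ((244, [244]), [145]), ((245, [245]),
  [146]), ((246, [246]), [147]), ((247, [247]), [148]), ((240, [240]), [0, 1]), ((107, [101, 107]), [8, 101]),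
  ((108, [102, 108]), [9, 102]), ((109, [103, 109]), [10, 103]), ((110, [104, 110]), [11, 104]), ((111, [105,
  111]), [12, 105]), ((112, [106, 112]), [13, 106]), ((149, [143, 149]), [16, 143]), ((150, [144, 150]), [17,
  144]), ((151, [145, 151]), [18, 145]), ((152, [146, 152]), [19, 146]), ((153, [147, 153]), [20, 147]),
  ((154, [148, 154]), [21, 148]), ((7, [3, 5, 7]), [0, 1, 15]), ((2, [1, 2]), [1, 14, 15])]

theorem rank1 {F : Type*} [Field F] (h : (2 : F) = 0) :
    (H9.wM Lie.chevE8 F [232, 233] - 1).rank = 92 := by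
  have h1 := H9.rank_le H37.tabE8 h (L := [232, 233]) (K := ker1) (by decide +kernel)
  have h2 := H9.le_rank H37.tabE8 h (L := [232, 233]) (I := im1) (by decide +kernel)
  have e1 : ker1.length = 156 := by decide +kernel
  have e2 : im1.length = 92 := by decide +kernel
  have e3 : Lie.chevE8.rank + Lie.chevE8.nroots = 248 := rfl
  omega

/-- fixed vectors -/
def ker2 : List (ℕ × List ℕ) :=
  [(1, [1]), (3, [3]), (7, [7]), (43, [43]), (53, [53]), (59, [59]), (72, [72]), (76, [76]), (81, [81]), (95,
  [95]), (99, [99]), (105, [105]), (106, [106]), (110, [110]), (117, [117]), (127, [127]), (128, [128]), (129,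
  [129]), (130, [130]), (132, [132]), (133, [133]), (136, [136]), (137, [137]), (138, [138]), (141, [141]),
  (142, [142]), (145, [145]), (147, [147]), (148, [148]), (149, [149]), (150, [150]), (153, [153]), (154,
  [154]), (156, [156]), (158, [158]), (159, [159]), (160, [160]), (162, [162]), (163, [163]), (165, [165]),
  (166, [166]), (169, [169]), (174, [174]), (175, [175]), (176, [176]), (179, [179]), (180, [180]), (181,
  [181]), (183, [183]), (184, [184]), (185, [185]), (189, [189]), (190, [190]), (191, [191]), (196, [196]),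
  (197, [197]), (198, [198]), (199, [199]), (200, [200]), (201, [201]), (202, [202]), (203, [203]), (204,
  [204]), (205, [205]), (206, [206]), (207, [207]), (208, [208]), (209, [209]), (210, [210]), (211, [211]),
  (212, [212]), (213, [213]), (214, [214]), (215, [215]), (216, [216]), (217, [217]), (218, [218]), (219,
  [219]), (220, [220]), (221, [221]), (222, [222]), (223, [223]), (224, [224]), (225, [225]), (226, [226]),
  (227, [227]), (228, [228]), (229, [229]), (230, [230]), (231, [231]), (232, [232]), (233, [233]), (234,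
  [234]), (235, [235]), (236, [236]), (237, [237]), (238, [238]), (239, [239]), (240, [240]), (241, [241]),
  (242, [242]), (243, [243]), (244, [244]), (245, [245]), (246, [246]), (247, [247]), (69, [62, 69]), (91,
  [63, 91]), (94, [73, 94]), (98, [77, 98]), (103, [78, 103]), (104, [100, 104]), (109, [82, 109]), (115, [83,
  115]), (116, [111, 116]), (120, [84, 120]), (121, [112, 121]), (124, [85, 124]), (143, [134, 143]), (144,
  [139, 144]), (155, [151, 155]), (170, [131, 170]), (171, [135, 171]), (172, [140, 172]), (173, [146, 173]),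
  (177, [152, 177]), (178, [157, 178]), (182, [161, 182]), (187, [167, 187]), (188, [168, 188]), (192, [164,
  192]), (193, [186, 193]), (194, [167, 194]), (195, [168, 195]), (4, [2, 4]), (5, [0, 5]), (87, [60, 67, 87,
  167]), (88, [61, 68, 88, 168])]

/-- commutators -/
def im2 : List ((ℕ × List ℕ) × List ℕ) :=
  [((236, [236]), [6]), ((129, [129]), [20]), ((130, [130]), [21]), ((132, [132]), [27]), ((133, [133]),
  [28]), ((136, [136]), [32]), ((137, [137]), [33]), ((141, [141]), [36]), ((142, [142]), [37]), ((147,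
  [147]), [39]), ((148, [148]), [40]), ((175, [175]), [41]), ((176, [176]), [42]), ((153, [153]), [46]),
  ((154, [154]), [47]), ((158, [158]), [49]), ((159, [159]), [50]), ((180, [180]), [51]), ((181, [181]),
  [52]), ((162, [162]), [55]), ((163, [163]), [56]), ((184, [184]), [57]), ((185, [185]), [58]), ((169,
  [169]), [62]), ((191, [191]), [63]), ((165, [165]), [65]), ((166, [166]), [66]), ((197, [197]), [70]),
  ((198, [198]), [71]), ((201, [201]), [73]), ((203, [203]), [74]), ((204, [204]), [75]), ((207, [207]),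
  [77]), ((210, [210]), [78]), ((213, [213]), [79]), ((214, [214]), [80]), ((217, [217]), [82]), ((220,
  [220]), [83]), ((224, [224]), [84]), ((229, [229]), [85]), ((189, [189]), [89]), ((190, [190]), [90]),
  ((199, [199]), [92]), ((200, [200]), [93]), ((205, [205]), [96]), ((206, [206]), [97]), ((211, [211]),
  [100]), ((208, [208]), [101]), ((209, [209]), [102]), ((215, [215]), [107]), ((216, [216]), [108]), ((221,
  [221]), [111]), ((225, [225]), [112]), ((218, [218]), [113]), ((219, [219]), [114]), ((222, [222]), [118]),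
  ((223, [223]), [119]), ((227, [227]), [122]), ((228, [228]), [123]), ((234, [234]), [125]), ((235, [235]),
  [126]), ((237, [237]), [131]), ((231, [231]), [134]), ((238, [238]), [135]), ((232, [232]), [139]), ((239,
  [239]), [140]), ((240, [240]), [146]), ((233, [233]), [151]), ((241, [241]), [152]), ((242, [242]), [157]),
  ((243, [243]), [161]), ((244, [244]), [164]), ((246, [246]), [167]), ((247, [247]), [168]), ((245, [245]),
  [186]), ((230, [230]), [0, 6]), ((226, [226]), [0, 2, 6]), ((69, [62, 69]), [10, 62]), ((91, [63, 91]), [11,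
  63]), ((94, [73, 94]), [12, 73]), ((98, [77, 98]), [13, 77]), ((103, [78, 103]), [14, 78]), ((109, [82,
  109]), [15, 82]), ((115, [83, 115]), [16, 83]), ((120, [84, 120]), [17, 84]), ((124, [85, 124]), [18, 85]),
  ((104, [100, 104]), [22, 100]), ((116, [111, 116]), [23, 111]), ((121, [112, 121]), [24, 112]), ((170, [131,
  170]), [26, 131]), ((143, [134, 143]), [30, 134]), ((171, [135, 171]), [31, 135]), ((144, [139, 144]), [34,
  139]), ((172, [140, 172]), [35, 140]), ((173, [146, 173]), [38, 146]), ((155, [151, 155]), [44, 151]),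
  ((177, [152, 177]), [45, 152]), ((178, [157, 178]), [48, 157]), ((182, [161, 182]), [54, 161]), ((187, [167,
  187]), [60, 167]), ((188, [168, 188]), [61, 168]), ((192, [164, 192]), [64, 164]), ((194, [167, 194]), [67,
  167]), ((195, [168, 195]), [68, 168]), ((193, [186, 193]), [86, 186]), ((7, [2, 4, 7]), [6, 19]), ((5, [0,
  2, 4, 5]), [0, 2, 19, 29]), ((4, [2, 4]), [2, 25, 29]), ((167, [60, 67, 87, 167]), [8, 60, 67, 167]), ((168,
  [61, 68, 88, 168]), [9, 61, 68, 168])]

theorem rank2 {F : Type*} [Field F] (h : (2 : F) = 0) :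
    (H9.wM Lie.chevE8 F [228, 222, 218] - 1).rank = 110 := by
  have h1 := H9.rank_le H37.tabE8 h (L := [228, 222, 218]) (K := ker2) (by decide +kernel)
  have h2 := H9.le_rank H37.tabE8 h (L := [228, 222, 218]) (I := im2) (by decide +kernel)
  have e1 : ker2.length = 138 := by decide +kernel
  have e2 : im2.length = 110 := by decide +kernel
  have e3 : Lie.chevE8.rank + Lie.chevE8.nroots = 248 := rfl
  omega

/-- fixed vectors -/
def ker3 : List (ℕ × List ℕ) :=
  [(4, [4]), (79, [79]), (108, [108]), (115, [115]), (121, [121]), (134, [134]), (140, [140]), (147, [147]),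
  (149, [149]), (150, [150]), (151, [151]), (152, [152]), (155, [155]), (156, [156]), (158, [158]), (161,
  [161]), (162, [162]), (164, [164]), (165, [165]), (167, [167]), (176, [176]), (177, [177]), (178, [178]),
  (181, [181]), (183, [183]), (185, [185]), (186, [186]), (188, [188]), (190, [190]), (194, [194]), (195,
  [195]), (197, [197]), (198, [198]), (201, [201]), (205, [205]), (206, [206]), (207, [207]), (208, [208]),
  (209, [209]), (210, [210]), (211, [211]), (212, [212]), (213, [213]), (214, [214]), (215, [215]), (216,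
  [216]), (217, [217]), (218, [218]), (219, [219]), (220, [220]), (221, [221]), (222, [222]), (223, [223]),
  (224, [224]), (225, [225]), (226, [226]), (227, [227]), (228, [228]), (229, [229]), (230, [230]), (231,
  [231]), (232, [232]), (233, [233]), (234, [234]), (235, [235]), (236, [236]), (237, [237]), (238, [238]),
  (239, [239]), (240, [240]), (241, [241]), (242, [242]), (243, [243]), (244, [244]), (245, [245]), (246,
  [246]), (247, [247]), (107, [80, 107]), (113, [81, 113]), (114, [109, 114]), (118, [82, 118]), (119, [110,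
  119]), (120, [116, 120]), (122, [83, 122]), (123, [111, 123]), (124, [117, 124]), (125, [84, 125]), (126,
  [112, 126]), (127, [85, 127]), (138, [131, 138]), (139, [135, 139]), (143, [129, 143]), (144, [132, 144]),
  (145, [136, 145]), (146, [141, 146]), (157, [153, 157]), (160, [153, 160]), (170, [128, 170]), (171, [130,
  171]), (172, [133, 172]), (173, [137, 173]), (174, [142, 174]), (175, [148, 175]), (179, [154, 179]), (180,
  [159, 180]), (182, [154, 182]), (184, [163, 184]), (187, [166, 187]), (189, [168, 189]), (192, [159, 192]),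
  (193, [163, 193]), (196, [166, 196]), (199, [169, 199]), (200, [191, 200]), (202, [168, 202]), (203, [169,
  203]), (204, [191, 204]), (5, [3, 5]), (6, [2, 6]), (7, [0, 7]), (64, [51, 55, 64, 153]), (86, [52, 56, 86,
  154]), (87, [53, 66, 87, 159]), (89, [59, 68, 89, 163]), (92, [62, 71, 92, 166]), (96, [63, 75, 96, 168]),
  (101, [73, 76, 101, 169]), (102, [95, 98, 102, 191])]

/-- commutators -/
def im3 : List ((ℕ × List ℕ) × List ℕ) :=
  [((221, [221]), [1]), ((149, [149]), [44]), ((150, [150]), [45]), ((155, [155]), [46]), ((177, [177]),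
  [47]), ((151, [151]), [48]), ((156, [156]), [49]), ((178, [178]), [50]), ((152, [152]), [54]), ((161,
  [161]), [57]), ((183, [183]), [58]), ((164, [164]), [60]), ((186, [186]), [61]), ((158, [158]), [65]),
  ((162, [162]), [67]), ((194, [194]), [69]), ((165, [165]), [70]), ((197, [197]), [72]), ((167, [167]),
  [74]), ((205, [205]), [77]), ((208, [208]), [78]), ((212, [212]), [80]), ((213, [213]), [81]), ((215,
  [215]), [82]), ((218, [218]), [83]), ((222, [222]), [84]), ((227, [227]), [85]), ((181, [181]), [88]),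
  ((185, [185]), [90]), ((195, [195]), [91]), ((188, [188]), [93]), ((198, [198]), [94]), ((190, [190]),
  [97]), ((206, [206]), [99]), ((209, [209]), [100]), ((201, [201]), [103]), ((207, [207]), [104]), ((210,
  [210]), [105]), ((211, [211]), [106]), ((214, [214]), [109]), ((216, [216]), [110]), ((219, [219]), [111]),
  ((223, [223]), [112]), ((217, [217]), [116]), ((220, [220]), [117]), ((235, [235]), [128]), ((229, [229]),
  [129]), ((236, [236]), [130]), ((225, [225]), [131]), ((230, [230]), [132]), ((237, [237]), [133]), ((226,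
  [226]), [135]), ((231, [231]), [136]), ((238, [238]), [137]), ((232, [232]), [141]), ((239, [239]), [142]),
  ((240, [240]), [148]), ((233, [233]), [153]), ((241, [241]), [154]), ((242, [242]), [159]), ((243, [243]),
  [163]), ((244, [244]), [166]), ((245, [245]), [168]), ((246, [246]), [169]), ((247, [247]), [191]), ((234,
  [228, 234]), [0]), ((228, [224, 228]), [2]), ((224, [224]), [1, 3]), ((107, [80, 107]), [15, 80]), ((113,
  [81, 113]), [16, 81]), ((118, [82, 118]), [17, 82]), ((122, [83, 122]), [18, 83]), ((125, [84, 125]), [19,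
  84]), ((127, [85, 127]), [20, 85]), ((114, [109, 114]), [23, 109]), ((119, [110, 119]), [24, 110]), ((123,
  [111, 123]), [25, 111]), ((126, [112, 126]), [26, 112]), ((170, [128, 170]), [28, 128]), ((120, [116, 120]),
  [29, 116]), ((124, [117, 124]), [30, 117]), ((143, [129, 143]), [32, 129]), ((171, [130, 171]), [33, 130]),
  ((138, [131, 138]), [35, 131]), ((144, [132, 144]), [36, 132]), ((172, [133, 172]), [37, 133]), ((139, [135,
  139]), [38, 135]), ((145, [136, 145]), [39, 136]), ((173, [137, 173]), [40, 137]), ((146, [141, 146]), [41,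
  141]), ((174, [142, 174]), [42, 142]), ((175, [148, 175]), [43, 148]), ((157, [153, 157]), [51, 153]),
  ((179, [154, 179]), [52, 154]), ((180, [159, 180]), [53, 159]), ((160, [153, 160]), [55, 153]), ((182, [154,
  182]), [56, 154]), ((184, [163, 184]), [59, 163]), ((187, [166, 187]), [62, 166]), ((189, [168, 189]), [63,
  168]), ((192, [159, 192]), [66, 159]), ((193, [163, 193]), [68, 163]), ((196, [166, 196]), [71, 166]),
  ((199, [169, 199]), [73, 169]), ((202, [168, 202]), [75, 168]), ((203, [169, 203]), [76, 169]), ((200, [191,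
  200]), [95, 191]), ((204, [191, 204]), [98, 191]), ((6, [2, 4, 6]), [0, 1, 2, 3, 21]), ((7, [0, 4, 7]), [1,
  3, 31]), ((4, [4]), [0, 1, 3, 21, 27, 31]), ((5, [3, 5]), [3, 31, 34]), ((153, [51, 55, 64, 153]), [8, 51,
  55, 153]), ((154, [52, 56, 86, 154]), [9, 52, 56, 154]), ((159, [53, 66, 87, 159]), [10, 53, 66, 159]),
  ((163, [59, 68, 89, 163]), [11, 59, 68, 163]), ((166, [62, 71, 92, 166]), [12, 62, 71, 166]), ((168, [63,
  75, 96, 168]), [13, 63, 75, 168]), ((169, [73, 76, 101, 169]), [14, 73, 76, 169]), ((191, [95, 98, 102,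
  191]), [22, 95, 98, 191])]

theorem rank3 {F : Type*} [Field F] (h : (2 : F) = 0) :
    (H9.wM Lie.chevE8 F [226, 220, 213, 216] - 1).rank = 120 := by
  have h1 := H9.rank_le H37.tabE8 h (L := [226, 220, 213, 216]) (K := ker3) (by decide +kernel)
  have h2 := H9.le_rank H37.tabE8 h (L := [226, 220, 213, 216]) (I := im3) (by decide +kernel)
  have e1 : ker3.length = 128 := by decide +kernel
  have e2 : im3.length = 120 := by decide +kernel
  have e3 : Lie.chevE8.rank + Lie.chevE8.nroots = 248 := rfl
  omega

/-- Conjugacy classes of involutions in the Chevalley group of type E₈ over a finite field F of characteristic two (the matrix group generated by the root elements x_r(t)). In this problem's root numbering for type E₈ (the Chevalley data module; fundamental roots numbered so that p₁–p₃–p₄–p₅–p₆–p₇–p₈ is the long chain of the diagram and p₂ is joined to p₄; roots indexed by their coefficient vectors in increasing order) let r = 239 be the highest root (2,3,4,6,5,4,3,2), α = 232 = (2,2,4,5,4,3,2,1), β = 233 = (2,3,3,5,4,3,2,1),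 γ = 228 = (2,2,3,4,3,2,2,1), δ = 222 = (1,2,3,4,3,3,2,1), ε = 218 = (1,2,2,4,4,3,2,1), φ = 226 = (2,2,3,4,3,2,1,0), ψ = 220 = (1,2,3,4,3,2,1,1), θ = 213 = (1,2,2,3,3,3,2,1), ω = 216 = (1,2,2,4,3,2,2,1) (the roots within each of {α, β}, {γ, δ, ε}, {φ, ψ, θ, ω} pairwise orthogonal); consider x_r(1), x_α(1)x_β(1), x_γ(1)x_δ(1)x_ε(1) and x_φ(1)x_ψ(1)x_θ(1)x_ω(1). Then: each invertible matrix equal to one of these four products lies in the group and has order 2; every element of order 2 of the group is conjugate in the group to one of them; and no two of them are conjugate in the group (so, the four matrices being distinct, the group has exactly four conjugacy classes of involutions). -/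
theorem result {F : Type*} [Field F] [Fintype F] [CharP F 2] :
    (∀ y : GL Cfsg.Lie.chevE8.Idx F, ((y : GL Cfsg.Lie.chevE8.Idx F) : Matrix Cfsg.Lie.chevE8.Idx Cfsg.Lie.chevE8.Idx F) ∈ [Cfsg.Lie.chevE8.x F 239 1, Cfsg.Lie.chevE8.x F 232 1 * Cfsg.Lie.chevE8.x F 233 1, Cfsg.Lie.chevE8.x F 228 1 * Cfsg.Lie.chevE8.x F 222 1 * Cfsg.Lie.chevE8.x F 218 1, Cfsg.Lie.chevE8.x F 226 1 * Cfsg.Lie.chevE8.x F 220 1 * Cfsg.Lie.chevE8.x F 213 1 * Cfsg.Lie.chevE8.x F 216 1] → y ∈ Cfsg.Lie.chevE8.group F ∧ orderOf y = 2) ∧
    (∀ g ∈ Cfsg.Lie.chevE8.group F, orderOf g = 2 → ∃ y ∈ Cfsg.Lie.chevE8.group F, ((y : GL Cfsg.Lie.chevE8.Idx F) : Matrix Cfsg.Lie.chevE8.Idx Cfsg.Lie.chevE8.Idx F) ∈ [Cfsg.Lie.chevE8.x F 239 1, Cfsg.Lie.chevE8.x F 232 1 * Cfsg.Lie.chevE8.x F 233 1, Cfsg.Lie.chevE8.x F 228 1 * Cfsg.Lie.chevE8.x F 222 1 * Cfsg.Lie.chevE8.x F 218 1, Cfsg.Lie.chevE8.x F 226 1 * Cfsg.Lie.chevE8.x F 220 1 * Cfsg.Lie.chevE8.x F 213 1 * Cfsg.Lie.chevE8.x F 216 1] ∧ ∃ h ∈ Cfsg.Lie.chevE8.group F, h * g * h⁻¹ = y) ∧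
    (∀ y₁ ∈ Cfsg.Lie.chevE8.group F, ∀ y₂ ∈ Cfsg.Lie.chevE8.group F, ((y₁ : GL Cfsg.Lie.chevE8.Idx F) : Matrix Cfsg.Lie.chevE8.Idx Cfsg.Lie.chevE8.Idx F) ∈ [Cfsg.Lie.chevE8.x F 239 1, Cfsg.Lie.chevE8.x F 232 1 * Cfsg.Lie.chevE8.x F 233 1, Cfsg.Lie.chevE8.x F 228 1 * Cfsg.Lie.chevE8.x F 222 1 * Cfsg.Lie.chevE8.x F 218 1, Cfsg.Lie.chevE8.x F 226 1 * Cfsg.Lie.chevE8.x F 220 1 * Cfsg.Lie.chevE8.x F 213 1 * Cfsg.Lie.chevE8.x F 216 1] → ((y₂ : GL Cfsg.Lie.chevE8.Idx F) : Matrix Cfsg.Lie.chevE8.Idx Cfsg.Lie.chevE8.Idx F) ∈ [Cfsg.Lie.chevE8.x F 239 1, Cfsg.Lie.chevE8.x F 232 1 * Cfsg.Lie.chevE8.x F 233 1, Cfsg.Lie.chevE8.x F 228 1 * Cfsg.Lie.chevE8.x F 222 1 * Cfsg.Lie.chevE8.x F 218 1, Cfsg.Lie.chevE8.x F 226 1 * Cfsg.Lie.chevE8.x F 220 1 * Cfsg.Lie.chevE8.x F 213 1 * Cfsg.Lie.chevE8.x F 216 1] →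
      (∃ h ∈ Cfsg.Lie.chevE8.group F, h * y₁ * h⁻¹ = y₂) → ((y₁ : GL Cfsg.Lie.chevE8.Idx F) : Matrix Cfsg.Lie.chevE8.Idx Cfsg.Lie.chevE8.Idx F) = ((y₂ : GL Cfsg.Lie.chevE8.Idx F) : Matrix Cfsg.Lie.chevE8.Idx Cfsg.Lie.chevE8.Idx F)) := by
  have h2 : (2 : F) = 0 := CharTwo.two_eq_zero
  obtain ⟨E, hE⟩ := (H38.matFacts (D := Lie.chevE8) (by simp) F).exists_isMat H38.rsE8
  have h := compat.two_of_len hE h2 (by decide +kernel)
  have h1 : ∀ L ∈ reps, H9.ltB Lie.chevE8 L = true := by decide +kernel
  have h3 : ∀ L ∈ reps, H9.orthB Lie.chevE8 H38.tabE8 L = true := by decide +kernel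
  have h4 : ∀ L ∈ reps, orderOf (compat.y hE L) = 2 := by
    intro L hL
    refine compat.orderOf_y hE h (h1 L hL) (h3 L hL) ?_
    simp only [reps, List.mem_cons, List.not_mem_nil, or_false] at hL
    rcases hL with rfl | rfl | rfl | rfl <;> simp only [rank0 h2, rank1 h2, rank2 h2, rank3 h2] <;> omega
  have h5 : ∀ L ∈ reps, ∀ M ∈ reps, IsConj (compat.y hE L) (compat.y hE M) → L = M := by
    intro L hL M hM e
    have := compat.rank_eq hE (h1 L hL) (h1 M hM) e
    simp only [reps, List.mem_cons, List.not_mem_nil, or_false] at hL hM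
    rcases hL with rfl | rfl | rfl | rfl <;> rcases hM with rfl | rfl | rfl | rfl <;>
      first | rfl | (simp only [rank0 h2, rank1 h2, rank2 h2, rank3 h2] at this; omega)
  have h6 := fun g => compat.classify hE H37.tabE8 h (g := g) run (by decide)
  exact compat.final hE (by simp [reps, H9.wM, H9.one1, Lie.ChevalleyDatum.wordMat, mul_assoc]) h1 h4 h6 h5

end Cfsg.Agent.S2176
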