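import Cfsg.Statements.S2207
import Mathlib
import Cfsg.Agent.Lib.Rk3F.R9
import Cfsg.Agent.S0494


set_option autoImplicit false
open Cfsg

namespace Cfsg.Agent.S2207


/-- Primitive rank 3 groups whose point stabilizer acts as a Frobenius group on one of its two non-trivial orbits. Let a finite group G of even order act faithfully and primitively on a finite set X so that the stabilizer of a point A has exactly three orbits, and suppose that on one of its non-trivial orbits I the stabilizer of A acts faithfully as a Frobenius group: transitively, some non-identity element fixing a point of I, and no non-identity element fixing two points of I. Then either G ≅ A₅ and X has 10 points (the action on unordered pairs), or G is solvable and has a normal subgroup of order 16 acting regularly on X. -/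
theorem result {G X : Type*} [Group G] [Finite G] [Fintype X] [MulAction G X] [FaithfulSMul G X] (heven : Even (Nat.card G)) (hprim : MulAction.IsPreprimitive G X) (A : X)
    (h3 : Nat.card (MulAction.orbitRel.Quotient ↥(MulAction.stabilizer G A) X) = 3) (B : X) (hBA : B ≠ A)
    (hfaith : ∀ g ∈ MulAction.stabilizer G A, (∀ h ∈ MulAction.stabilizer G A, g • (h • B) = h • B) → g = 1)
    (hfix : ∃ g ∈ MulAction.stabilizer G A, g ≠ 1 ∧ g • B = B)
    (hfrob : ∀ g ∈ MulAction.stabilizer G A, ∀ h ∈ MulAction.stabilizer G A, g • B = B → g • (h • B) = h • B → h • B ≠ B → g = 1) :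
    (Nonempty (G ≃* ↥(alternatingGroup (Fin 5))) ∧ Fintype.card X = 10) ∨
    (IsSolvable G ∧ ∃ N : Subgroup G, N.Normal ∧ Nat.card N = 16 ∧ ∀ x y : X, ∃! n : ↥N, (n : G) • x = y) := by
  classical
  haveI := Fintype.ofFinite G
  haveI : Nontrivial G := hfix.elim fun g hg => ⟨g, 1, hg.2.1⟩
  rcases (H24.Rk.r3_of heven hprim A h3 B hBA hfix hfrob).params heven with ⟨h1, h2⟩ | ⟨h1, h2⟩
  · haveI : IsSimpleGroup G := ⟨fun N hN => by
      by_contra hc
      push Not at hc
      obtain ⟨M, p, h4, h5, -, h6, -⟩ := H24.Rk.exists_reg hprim A N hc.1 (by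
        have h4 := N.index_mul_card
        have h5 : N.index ≠ 1 := mt Subgroup.index_eq_one.1 hc.2
        rw [h1] at h4
        have h6 : N.index ≤ 60 := Nat.le_of_dvd (by norm_num) ⟨_, h4.symm⟩
        by_cases h7 : N.index = 2
        · haveI := IsZGroup.of_squarefree (G := N) (by
            rw [show Nat.card N = 2 * (3 * 5) by rw [h7] at h4; omega,
              Nat.squarefree_mul (by norm_num), Nat.squarefree_mul (by norm_num)]
            exact ⟨Nat.prime_two.squarefree, Nat.prime_three.squarefree,
              Nat.prime_five.squarefree⟩)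
          infer_instance
        haveI := H21.isPretransitive_of_normal_of_ne_bot hprim N hc.1
        have h8 := MulAction.card_orbit_mul_card_stabilizer_eq_card_group N A
        rw [← Nat.card_eq_fintype_card, MulAction.orbit_eq_univ, Nat.card_univ,
          ← Nat.card_eq_fintype_card (α := N), Nat.card_eq_fintype_card, h2] at h8
        refine H8.isSolvable_of_card_dvd (a := 2) (b := 1) Nat.prime_two Nat.prime_five ?_
        obtain ⟨s, h8⟩ : 10 ∣ Nat.card N := ⟨_, h8.symm⟩
        rw [h8] at h4 ⊢
        have : s ≤ 6 := Nat.le_of_dvd (by norm_num) ⟨N.index, by linarith⟩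
        interval_cases s <;> omega)
      haveI := Fact.mk h4
      obtain ⟨n, hn⟩ := h5.exists_card_eq
      rw [h6, Nat.card_eq_fintype_card, h2] at hn
      have h7 := (Nat.prime_dvd_prime_iff_eq Nat.prime_two h4).1
        (Nat.prime_two.dvd_of_dvd_pow (hn ▸ by norm_num : 2 ∣ p ^ n))
      have h8 := (Nat.prime_dvd_prime_iff_eq Nat.prime_five h4).1
        (Nat.prime_five.dvd_of_dvd_pow (hn ▸ by norm_num : 5 ∣ p ^ n))
      omega⟩
    exact Or.inl ⟨Cfsg.Agent.S0494.result h1, h2⟩
  · haveI : Group.IsSolvable G := h1.elim
      (fun h1 => H8.isSolvable_of_card_dvd (a := 6) (b := 2) Nat.prime_two Nat.prime_three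
        (by rw [h1]; norm_num))
      fun h1 => H8.isSolvable_of_card_dvd (a := 6) (b := 1) Nat.prime_two Nat.prime_five
        (by rw [h1]; norm_num)
    obtain ⟨M, -, -, -, h4, h5, h6⟩ := H24.Rk.exists_reg hprim A ⊤ top_ne_bot inferInstance
    exact Or.inr ⟨this, M, h4, by rw [h5, Nat.card_eq_fintype_card, h2], h6⟩

end Cfsg.Agent.S2207
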