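import Cfsg.Statements.S2209
import Cfsg.Agent.Lib.Chev.CentMat

set_option autoImplicit false
open Cfsg

namespace Cfsg.Agent.S2209

open H38 Cfsg.Lie

/-- The data for the highest root. -/
def dat (D : ChevalleyDatum) (J L : List ℕ) : CentData :=
  ⟨D.nroots - 1, D.nroots - 1, 4, [D.nroots - 1], [], J, 1, 0, List.replicate 8 (1, 0),
    fun r => decide (D.IsPosRoot r) || L.contains r, []⟩

lemma aux {F : Type*} [Field F] [CharP F 2] {D : ChevalleyDatum}
    (hD : D ∈ [chevG2, chevB2, chevD4, chevF4, chevE6, chevE7, chevE8]) {J L : List ℕ}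
    (h : ((L.all fun r => decide (r < D.nroots)) && (dat D J L).chk1 D 2 && (dat D J L).chk2 D &&
      (dat D J L).chk3 D 2) = true) (t : GL D.Idx F)
    (ht : (t : Matrix D.Idx D.Idx F) = D.x F (D.nroots - 1) 1) :
    D.group F ⊓ Subgroup.centralizer {t} = D.posUnipotent F ⊔ Subgroup.closure
      {g : GL D.Idx F | ∃ s ∈ L, ∃ c : F, (g : Matrix D.Idx D.Idx F) = D.x F s c} := by
  obtain ⟨R, E, hE⟩ := exists_isMat hD F
  simp only [Bool.and_eq_true, List.all_eq_true, decide_eq_true_eq] at h
  obtain ⟨⟨⟨hL, h1⟩, h2⟩, h3⟩ := h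
  simp only [← exists_and_left]
  rw [hE.centralizer_eq 2 h1 h2 h3 (by simpa [dat] using ht), hE.U_eq, PreElts.U,
    hE.coe_x.closure_eq (P := fun r => r ∈ L) (S := rset D L) hL (fun _ => Iff.rfl), ← E.XS_union]
  congr 1
  ext r
  simp [dat, rset, R.isPosRoot_iff]

lemma e6 : (([15, 29, 32, 34, 35].all fun r => decide (r < chevE6.nroots)) &&
    (dat chevE6 [0, 2, 3, 4, 5] [15, 29, 32, 34, 35]).chk1 chevE6 2 &&
    (dat chevE6 [0, 2, 3, 4, 5] [15, 29, 32, 34, 35]).chk2 chevE6 &&
    (dat chevE6 [0, 2, 3, 4, 5] [15, 29, 32, 34, 35]).chk3 chevE6 2) = true := by decide +kernel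

lemma e7 : (([47, 52, 56, 59, 61, 62].all fun r => decide (r < chevE7.nroots)) &&
    (dat chevE7 [1, 2, 3, 4, 5, 6] [47, 52, 56, 59, 61, 62]).chk1 chevE7 2 &&
    (dat chevE7 [1, 2, 3, 4, 5, 6] [47, 52, 56, 59, 61, 62]).chk2 chevE7 &&
    (dat chevE7 [1, 2, 3, 4, 5, 6] [47, 52, 56, 59, 61, 62]).chk3 chevE7 2) = true := by
  decide +kernel

lemma e8 : (([77, 98, 104, 109, 113, 116, 118].all fun r => decide (r < chevE8.nroots)) &&
    (dat chevE8 [0, 1, 2, 3, 4, 5, 6] [77, 98, 104, 109, 113, 116, 118]).chk1 chevE8 2 &&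
    (dat chevE8 [0, 1, 2, 3, 4, 5, 6] [77, 98, 104, 109, 113, 116, 118]).chk2 chevE8 &&
    (dat chevE8 [0, 1, 2, 3, 4, 5, 6] [77, 98, 104, 109, 113, 116, 118]).chk3 chevE8 2) = true := by
  decide +kernel

/-- Centralizer of a long root involution in the Chevalley groups of type E₆, E₇, E₈ over a finite field F of characteristic two. Let G be the group generated by the root elements, U the subgroup generated by the positive root subgroups, r the highest root (the last root index: 71, 125, 239 respectively), and t the element of G with matrix x_r(1). Then the centralizer of t in G is the subgroup generated by U together with the root subgroups X_{−p} for the fundamental roots p orthogonal to r — all fundamental roots except p₂ for E₆, except p₁ for E₇, except p₈ for E₈ (numbering with p₁–p₃–p₄–…–p_l the long chain and p₂ joined to p₄); the indices of these negative fundamental roots are 15, 29, 32, 34, 35 (E₆), 47, 52, 56, 59, 61, 62 (E₇), 77, 98, 104, 109, 113, 116, 118 (E₈). (This is the unipotent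 radical of the corresponding maximal parabolic subgroup extended by the root subgroups of its Levi factor, of type A₅, D₆, E₇ respectively.) -/
theorem result {F : Type*} [Field F] [Fintype F] [CharP F 2] (d : Cfsg.Lie.ChevalleyDatum × List ℕ)
    (hd : d ∈ [(Cfsg.Lie.chevE6, [15, 29, 32, 34, 35]), (Cfsg.Lie.chevE7, [47, 52, 56, 59, 61, 62]), (Cfsg.Lie.chevE8, [77, 98, 104, 109, 113, 116, 118])])
    (t : GL d.1.Idx F) (ht : (t : Matrix d.1.Idx d.1.Idx F) = d.1.x F (d.1.nroots - 1) 1) :
    d.1.group F ⊓ Subgroup.centralizer {t} = d.1.posUnipotent F ⊔ Subgroup.closure {g : GL d.1.Idx F | ∃ s ∈ d.2, ∃ c : F, (g : Matrix d.1.Idx d.1.Idx F) = d.1.x F s c} := by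
  simp only [List.mem_cons, List.not_mem_nil, or_false] at hd
  rcases hd with rfl | rfl | rfl
  · exact aux (by simp) e6 t ht
  · exact aux (by simp) e7 t ht
  · exact aux (by simp) e8 t ht

end Cfsg.Agent.S2209
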