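import Cfsg.Statements.S2215
import Cfsg.Agent.Lib.XS3.Exc
import Cfsg.Agent.Lib.XS3.Two
import Cfsg.Agent.Lib.XS3.Spor
import Cfsg.Agent.Lib.KGroup.Basic

set_option autoImplicit false
open Cfsg

namespace Cfsg.Agent.S2215

open H65.XS


/-- Let G be a finite non-abelian simple group all of whose composition factors are known simple groups, p a prime and S a Sylow p-subgroup of G that is extraspecial of order p³. Then one of the following holds: G ≅ PSL₃(p), or p is odd and G ≅ PSU₃(p); p = 2 and G is isomorphic to the alternating group of degree 7 or to PSL₂(q) with q ≡ ±7 (mod 16); p = 3 and G ≅ PSU₃(3), or G ≅ G₂(rᵃ) for a prime r ≡ ±2, ±4 (mod 9) and a ≥ 1 not divisible by 3, with a > 1 if r = 2; p = 3 and G is the Tits group or G ≅ ²F₄(2ᵃ) with a ≥ 3 odd and not divisible by 3; or G is sporadic, namely p = 3 and G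 is one of M₁₂, M₂₄, J₂, J₄, He, Ru; p = 5 and G is one of HS, Co₃, Co₂, McL, Ru, Th; p = 7 and G is one of He, O'N, Fi₂₄′; p = 11 and G ≅ J₄; or p = 13 and G is the Monster. -/
theorem result {G : Type*} [Group G] [Finite G] [IsSimpleGroup G] (hG : ¬ IsMulCommutative G) (hK : Cfsg.IsCompositionKGroup G)
    {p : ℕ} [Fact p.Prime] (S : Sylow p G) (hS : Cfsg.IsExtraspecial p ↥(S : Subgroup G)) (hS3 : Nat.card (S : Subgroup G) = p ^ 3) :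
    (Nonempty (G ≃* Matrix.ProjectiveSpecialLinearGroup (Fin 3) (ZMod p)) ∨
       (p ≠ 2 ∧ ∃ (F : Type) (_ : Field F) (_ : Fintype F), Fintype.card F = p ^ 2 ∧ Nonempty (G ≃* Cfsg.PSU 3 F p))) ∨
    (p = 2 ∧ (Nonempty (G ≃* ↥(alternatingGroup (Fin 7))) ∨
       ∃ (F : Type) (_ : Field F) (_ : Fintype F), (Fintype.card F % 16 = 7 ∨ Fintype.card F % 16 = 9) ∧
         Nonempty (G ≃* Matrix.ProjectiveSpecialLinearGroup (Fin 2) F))) ∨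
    (p = 3 ∧ ((∃ (F : Type) (_ : Field F) (_ : Fintype F), Fintype.card F = 9 ∧ Nonempty (G ≃* Cfsg.PSU 3 F 3)) ∨
       ∃ (F : Type) (_ : Field F) (_ : Fintype F) (r a : ℕ), r.Prime ∧ (r % 9 = 2 ∨ r % 9 = 4 ∨ r % 9 = 5 ∨ r % 9 = 7) ∧
         1 ≤ a ∧ ¬ 3 ∣ a ∧ (r = 2 → 1 < a) ∧ Fintype.card F = r ^ a ∧ Nonempty (G ≃* ↥(Cfsg.Lie.chevG2.group F)))) ∨
    (p = 3 ∧ (Cfsg.Lie.IsoTits G ∨
       ∃ (K : Type) (_ : Field K) (_ : Fintype K) (m : ℕ), 1 ≤ m ∧ ¬ 3 ∣ (2 * m + 1) ∧ Fintype.card K = 2 ^ (2 * m + 1) ∧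
         Nonempty (G ≃* ↥(Cfsg.Lie.twistedF4 K (2 ^ m))))) ∨
    (p = 3 ∧ (Cfsg.Spor.IsoM12 G ∨ Cfsg.Spor.IsoM24 G ∨ Cfsg.Spor.IsoJ2 G ∨ Cfsg.Spor.IsoJ4 G ∨ Cfsg.Spor.IsoHe G ∨ Cfsg.Spor.IsoRu G)) ∨
    (p = 5 ∧ (Cfsg.Spor.IsoHS G ∨ Cfsg.Spor.IsoCo3 G ∨ Cfsg.Spor.IsoCo2 G ∨ Cfsg.Spor.IsoMcL G ∨ Cfsg.Spor.IsoRu G ∨ Cfsg.Spor.IsoTh G)) ∨
    (p = 7 ∧ (Cfsg.Spor.IsoHe G ∨ Cfsg.Spor.IsoON G ∨ Cfsg.Spor.IsoFi24' G)) ∨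
    (p = 11 ∧ Cfsg.Spor.IsoJ4 G) ∨
    (p = 13 ∧ Cfsg.Spor.IsoM G) := by
  have hp : p.Prime := Fact.out
  obtain ⟨a, b, hab⟩ : ∃ a b : (S : Subgroup G), a * b ≠ b * a := by
    by_contra! h
    have h1 : Subgroup.center (S : Subgroup G) = ⊤ :=
      eq_top_iff.2 fun x _ => Subgroup.mem_center_iff.2 fun y => h y x
    have h2 := hS.2
    rw [h1, Subgroup.card_top, hS3] at h2
    exact absurd (Nat.pow_right_injective hp.two_le (h2.trans (pow_one p).symm)) (by norm_num)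
  by_cases h2 : p = 2
  · subst h2
    exact Or.inr (Or.inl ⟨rfl, sylow_eight hG S hS3 hab⟩)
  have h : X3 p G := ⟨hS3 ▸ (S : Subgroup G).card_subgroup_dvd_card, fun e => by
    have := S.pow_dvd_card_of_pow_dvd_card e
    rw [hS3, Nat.pow_dvd_pow_iff_le_right hp.one_lt] at this
    omega, S, S.isPGroup', a, a.2, b, b.2, fun e => hab (Subtype.ext e)⟩
  have e0 : (⊤ : Subgroup G) ⧸ (⊥ : Subgroup (⊤ : Subgroup G)) ≃* G :=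
    QuotientGroup.quotientBot.trans Subgroup.topEquiv
  have hk := (H20.isKnownSimple_congr e0).1 (hK ⊤ Subgroup.IsSubnormal.top ⊥ e0.isSimpleGroup
    fun c => hG ⟨⟨fun x y => e0.symm.injective (by
      rw [map_mul, map_mul]; exact c.is_comm.comm _ _)⟩⟩)
  rcases hk with hk | ⟨n, -, ⟨e⟩⟩ | ⟨F, _, _, n, hn, -, ⟨e⟩⟩ | ⟨F, _, _, m, hm, -, ⟨e⟩⟩ |
    ⟨F, _, _, n, q, hF, hn, -, ⟨e⟩⟩ | ⟨F, _, _, m, hm, ho, ⟨e⟩⟩ | ⟨F, _, _, m, hm, ⟨e⟩⟩ |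
    ⟨F, _, _, m, a, b, hm, hab, ⟨e⟩⟩ | hk | hk
  · have : Fact (Nat.card G).Prime := ⟨hk⟩
    have := isCyclic_of_prime_card (α := G) rfl
    exact absurd ⟨⟨IsCyclic.commGroup.mul_comm⟩⟩ hG
  · exact (not_X3_alt h2 (h.congr e)).elim
  · obtain ⟨rfl, hF⟩ := X3_psl h2 hn (h.congr e)
    exact Or.inl (Or.inl ⟨e.trans (H10.pslCongr (FiniteField.ringEquivOfCardEq
      (hF.trans (ZMod.card p).symm)))⟩)
  · exact (not_X3_psp h2 hm (h.congr e)).elim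
  · obtain ⟨rfl, rfl⟩ := X3_psu h2 hF hn (h.congr e)
    exact Or.inl (Or.inr ⟨h2, F, _, _, hF, ⟨e⟩⟩)
  · exact (not_X3_odd h2 hm ho (h.congr e)).elim
  · exact (not_X3_plus h2 hm (h.congr e)).elim
  · exact (not_X3_minus h2 hm hab (h.congr e)).elim
  · rcases hk with ⟨F, _, _, hF, ⟨e⟩⟩ | ⟨F, _, _, ⟨e⟩⟩ | ⟨F, _, _, ⟨e⟩⟩ | ⟨F, _, _, ⟨e⟩⟩ |
      ⟨F, _, _, ⟨e⟩⟩ | ⟨F, _, _, q, hq, hF, ⟨e⟩⟩ | ⟨F, _, _, q, hq, hF, ⟨e⟩⟩ |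
      ⟨F, _, _, m, -, hF, ⟨e⟩⟩ | ⟨F, _, _, m, hm, hF, ⟨e⟩⟩ | ⟨F, _, _, m, hm, hF, ⟨e⟩⟩ | ⟨⟨e⟩⟩
    · obtain ⟨h3, r, a, k1, k2, k3, k4, k5, k6⟩ := X3_G2 h2 hF (h.congr e)
      exact Or.inr (Or.inr (Or.inl ⟨h3, Or.inr ⟨F, _, _, r, a, k1, k2, k3, k4, k5, k6, ⟨e⟩⟩⟩))
    · exact (not_X3_F4 h2 (h.congr e)).elim
    · exact (not_X3_E6 h2 (h.congr e)).elim
    · exact (not_X3_E7 h2 (h.congr e)).elim
    · exact (not_X3_E8 h2 (h.congr e)).elim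
    · exact (not_X3_2E6 h2 hq hF (h.congr e)).elim
    · exact (not_X3_3D4 h2 hq hF (h.congr e)).elim
    · exact (not_NA_Sz h2 hF (h.congr e).na).elim
    · exact (not_X3_2G2 h2 hm hF (h.congr e)).elim
    · obtain ⟨h3, k⟩ := X3_2F4 h2 hF (h.congr e)
      exact Or.inr (Or.inr (Or.inr (Or.inl ⟨h3, Or.inr ⟨F, _, _, m, hm, k, hF, ⟨e⟩⟩⟩)))
    · exact Or.inr (Or.inr (Or.inr (Or.inl ⟨X3_Tits h2 (h.congr e), Or.inl ⟨e⟩⟩)))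
  · exact Or.inr (Or.inr (Or.inr (Or.inr (spor_cube hk hp h2 h.d3 h.n4))))

end Cfsg.Agent.S2215
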