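import Cfsg.Statements.S2219
import Mathlib
import Cfsg.Agent.Base
import Cfsg.Agent.Lib.Block.K9c

set_option autoImplicit false
open Cfsg

namespace Cfsg.Agent.S2219

/-- Let G be a non-abelian finite simple group of order 9·2ᵃ·qᵇ for a prime q other than 2 and 3, having at least three conjugacy classes of nonidentity 3-elements (elements of order 3 or 9). Then G is isomorphic to PSL(2,8) or to PSL(2,17). -/
theorem result {G : Type*} [Group G] [Finite G] [IsSimpleGroup G] (hG : ¬ IsMulCommutative G)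
    (q a b : ℕ) (hq : q.Prime) (hq2 : q ≠ 2) (hq3 : q ≠ 3) (hcard : Nat.card G = 9 * 2 ^ a * q ^ b)
    (h3 : 3 ≤ Nat.card {C : ConjClasses G // ∃ g ∈ C.carrier, g ≠ 1 ∧ orderOf g ∣ 9}) :
    (∃ (F : Type) (_ : Field F) (_ : Fintype F), Fintype.card F = 8 ∧
        Nonempty (G ≃* Matrix.ProjectiveSpecialLinearGroup (Fin 2) F)) ∨
      Nonempty (G ≃* Matrix.ProjectiveSpecialLinearGroup (Fin 2) (ZMod 17)) := by
----
  classical
  have hna : ∃ a b : G, a * b ≠ b * a := by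
    by_contra h
    push Not at h
    exact hG ⟨⟨h⟩⟩
  let P : Sylow 3 G := default
  have hP : Nat.card P = 9 := by
    rw [P.card_eq_multiplicity, hcard, mul_assoc, Nat.factorization_mul (by norm_num)
      (mul_ne_zero (by positivity) (pow_ne_zero _ hq.ne_zero)), Finsupp.add_apply,
      Nat.factorization_eq_zero_of_not_dvd (n := 2 ^ a * q ^ b) fun d => ?_,
      show 9 = 3 ^ 2 from rfl, Nat.prime_three.factorization_pow]
    · simp
    · rcases (Nat.Prime.dvd_mul Nat.prime_three).1 d with d | d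
      · exact absurd (Nat.prime_three.dvd_of_dvd_pow d) (by norm_num)
      · exact hq3 ((Nat.prime_dvd_prime_iff_eq Nat.prime_three hq).1
          (Nat.prime_three.dvd_of_dvd_pow d)).symm
  have key : ∀ C : {C : ConjClasses G // ∃ g ∈ C.carrier, g ≠ 1 ∧ orderOf g ∣ 9},
      ∃ x ∈ (P : Subgroup G), x ≠ 1 ∧ ConjClasses.mk x = C.1 := fun ⟨C, g, hg, g1, o⟩ => by
    obtain ⟨u, hu⟩ := (H35.isPElt_of_pow_eq_one (p := 3) (k := 2)
      (orderOf_dvd_iff_pow_eq_one.1 o)).exists_conj_mem P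
    exact ⟨_, hu, by simpa using g1, (ConjClasses.mk_eq_mk_iff_isConj.2
      (isConj_iff.2 ⟨u, rfl⟩).symm).trans (ConjClasses.mem_carrier_iff_mk_eq.1 hg)⟩
  haveI := Fintype.ofFinite {C : ConjClasses G // ∃ g ∈ C.carrier, g ≠ 1 ∧ orderOf g ∣ 9}
  rw [Nat.card_eq_fintype_card] at h3
  obtain ⟨A, B, C, ab, ac, bc⟩ := Fintype.two_lt_card_iff.1 h3
  obtain ⟨x, hx, x1, ex⟩ := key A
  obtain ⟨y, hy, y1, ey⟩ := key B
  obtain ⟨z, hz, z1, ez⟩ := key C
  have ne : ∀ {u v : G} {U V : {C : ConjClasses G // ∃ g ∈ C.carrier, g ≠ 1 ∧ orderOf g ∣ 9}},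
      ConjClasses.mk u = U.1 → ConjClasses.mk v = V.1 → U ≠ V → ¬ IsConj u v :=
    fun h1 h2 h c => h (Subtype.ext (h1.symm.trans ((ConjClasses.mk_eq_mk_iff_isConj.2 c).trans h2)))
  obtain ⟨k, hk⟩ := H84.K9.exists_loc hP (H84.perfect_of_simple hna) hx hy hz x1 y1 z1
    (ne ex ey ab) (ne ex ez ac) (ne ey ez bc)
  obtain ⟨χ, ψ, h1, h2, h4, h5⟩ := hk.exists_consec hna
  exact H84.K9.consec_final hG hq hq2 hq3 hcard h1 h2 h4 h5

end Cfsg.Agent.S2219
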