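import Cfsg.Statements.S2244
import Mathlib
import Cfsg.Agent.Lib.Chev.WeakClTab

set_option autoImplicit false
open Cfsg

namespace Cfsg.Agent.S2244

theorem chkG2 : H9.wcB Lie.chevG2 H38.tabG2 true
  [(0, 0), (0, 0), (0, 0), (0, 0), (0, 0), (0, 0), (0, 0), (0, 0), (6, 7), (7, 6), (7, 6), (6, 10)]
  [[0, 9], [11, 0]] = true := by
  decide +kernel

theorem chkB2 : H9.wcB Lie.chevB2 H38.tabB2 true
  [(0, 0), (0, 0), (0, 0), (0, 0), (0, 0), (0, 0), (4, 5), (5, 4)]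
  [[0, 7], [6, 0]] = true := by
  decide +kernel

theorem chkD4 : H9.wcB Lie.chevD4 H38.tabD4 true
  [(0, 0), (0, 0), (0, 0), (0, 0), (0, 0), (0, 0), (0, 0), (0, 0), (0, 0), (0, 0), (0, 0), (0, 0), (0, 0), (0,
  0), (0, 0), (12, 14), (13, 14), (12, 16), (0, 0), (14, 18), (12, 19), (13, 19), (12, 21), (14, 22)]
  [[0, 6, 18, 18], [10, 0, 5, 5], [13, 3, 0, 13], [12, 2, 12, 0]] = true := by
  decide +kernel

theorem chkF4 : H9.wcB Lie.chevF4 H38.tabF4 true
  [(0, 0), (0, 0), (0, 0), (0, 0), (0, 0), (0, 0), (0, 0), (0, 0), (0, 0), (0, 0), (0, 0), (0, 0), (0, 0), (0,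
  0), (0, 0), (0, 0), (0, 0), (0, 0), (0, 0), (0, 0), (0, 0), (0, 0), (0, 0), (0, 0), (0, 0), (0, 0), (24,
  25), (0, 0), (25, 27), (24, 28), (27, 25), (24, 30), (25, 31), (0, 0), (27, 33), (25, 34), (24, 35), (27,
  35), (24, 37), (25, 38), (27, 39), (33, 30), (24, 41), (25, 42), (27, 43), (30, 42), (25, 45), (24, 46)]
  [[0, 15, 7, 7], [8, 0, 11, 4], [2, 5, 0, 2], [1, 1, 6, 0]] = true := by
  decide +kernel

theorem chkE6 : H9.wcB Lie.chevE6 H38.tabE6 false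
  [(0, 0), (0, 0), (0, 0), (0, 0), (0, 0), (0, 0), (0, 0), (0, 0), (0, 0), (0, 0), (0, 0), (0, 0), (0, 0), (0,
  0), (0, 0), (0, 0), (0, 0), (0, 0), (0, 0), (0, 0), (0, 0), (0, 0), (0, 0), (0, 0), (0, 0), (0, 0), (0, 0),
  (0, 0), (0, 0), (0, 0), (0, 0), (0, 0), (0, 0), (0, 0), (0, 0), (0, 0), (0, 0), (0, 0), (36, 37), (0, 0),
  (37, 39), (36, 40), (0, 0), (39, 42), (37, 43), (36, 44), (0, 0), (39, 46), (37, 47), (36, 48), (42, 47),
  (37, 50), (36, 51), (39, 51), (36, 53), (37, 54), (0, 0), (42, 56), (39, 57), (37, 58), (36, 59), (46, 58),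
  (37, 61), (36, 62), (39, 62), (36, 64), (37, 65), (42, 64), (36, 67), (37, 68), (39, 69), (46, 70)]
  [[0, 16, 16, 16, 18, 16], [1, 0, 1, 11, 1, 1], [22, 5, 0, 5, 7, 5], [2, 2, 8, 0, 8, 2], [3, 3, 10, 3, 0,
  10], [4, 4, 9, 4, 4, 0]] = true := by
  decide +kernel

theorem chkE7 : H9.wcB Lie.chevE7 H38.tabE7 false
  [(0, 0), (0, 0), (0, 0), (0, 0), (0, 0), (0, 0), (0, 0), (0, 0), (0, 0), (0, 0), (0, 0), (0, 0), (0, 0), (0,
  0), (0, 0), (0, 0), (0, 0), (0, 0), (0, 0), (0, 0), (0, 0), (0, 0), (0, 0), (0, 0), (0, 0), (0, 0), (0, 0),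
  (0, 0), (0, 0), (0, 0), (0, 0), (0, 0), (0, 0), (0, 0), (0, 0), (0, 0), (0, 0), (0, 0), (0, 0), (0, 0), (0,
  0), (0, 0), (0, 0), (0, 0), (0, 0), (0, 0), (0, 0), (0, 0), (0, 0), (0, 0), (0, 0), (0, 0), (0, 0), (0, 0),
  (0, 0), (0, 0), (0, 0), (0, 0), (0, 0), (0, 0), (0, 0), (0, 0), (0, 0), (0, 0), (0, 0), (63, 64), (0, 0),
  (64, 66), (63, 67), (0, 0), (66, 69), (64, 70), (63, 71), (0, 0), (69, 73), (66, 74), (64, 75), (63, 76),
  (0, 0), (69, 78), (66, 79), (64, 80), (63, 81), (73, 79), (66, 83), (64, 84), (63, 85), (69, 84), (64, 87),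
  (63, 88), (66, 88), (63, 90), (64, 91), (0, 0), (73, 93), (69, 94), (66, 95), (64, 96), (63, 97), (78, 95),
  (66, 99), (64, 100), (63, 101), (69, 100), (64, 103), (63, 104), (66, 104), (63, 106), (64, 107), (73, 103),
  (64, 109), (63, 110), (66, 110), (63, 112), (64, 113), (69, 112), (63, 115), (64, 116), (66, 117), (78,
  115), (63, 119), (64, 120), (66, 121), (69, 122), (73, 123), (93, 124)]
  [[0, 1, 33, 1, 1, 1, 1], [7, 0, 7, 7, 9, 7, 7], [2, 2, 0, 17, 2, 2, 2], [3, 11, 3, 0, 11, 3, 3], [4, 14, 4,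
  4, 0, 14, 4], [5, 12, 5, 5, 5, 0, 16], [6, 13, 6, 6, 6, 6, 0]] = true := by
  decide +kernel

theorem chkE8 : H9.wcB Lie.chevE8 H38.tabE8 false
  [(0, 0), (0, 0), (0, 0), (0, 0), (0, 0), (0, 0), (0, 0), (0, 0), (0, 0), (0, 0), (0, 0), (0, 0), (0, 0), (0,
  0), (0, 0), (0, 0), (0, 0), (0, 0), (0, 0), (0, 0), (0, 0), (0, 0), (0, 0), (0, 0), (0, 0), (0, 0), (0, 0),
  (0, 0), (0, 0), (0, 0), (0, 0), (0, 0), (0, 0), (0, 0), (0, 0), (0, 0), (0, 0), (0, 0), (0, 0), (0, 0), (0,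
  0), (0, 0), (0, 0), (0, 0), (0, 0), (0, 0), (0, 0), (0, 0), (0, 0), (0, 0), (0, 0), (0, 0), (0, 0), (0, 0),
  (0, 0), (0, 0), (0, 0), (0, 0), (0, 0), (0, 0), (0, 0), (0, 0), (0, 0), (0, 0), (0, 0), (0, 0), (0, 0), (0,
  0), (0, 0), (0, 0), (0, 0), (0, 0), (0, 0), (0, 0), (0, 0), (0, 0), (0, 0), (0, 0), (0, 0), (0, 0), (0, 0),
  (0, 0), (0, 0), (0, 0), (0, 0), (0, 0), (0, 0), (0, 0), (0, 0), (0, 0), (0, 0), (0, 0), (0, 0), (0, 0), (0,
  0), (0, 0), (0, 0), (0, 0), (0, 0), (0, 0), (0, 0), (0, 0), (0, 0), (0, 0), (0, 0), (0, 0), (0, 0), (0, 0),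
  (0, 0), (0, 0), (0, 0), (0, 0), (0, 0), (0, 0), (0, 0), (0, 0), (0, 0), (0, 0), (0, 0), (0, 0), (0, 0), (0,
  0), (120, 121), (0, 0), (121, 123), (120, 124), (0, 0), (123, 126), (121, 127), (120, 128), (0, 0), (126,
  130), (123, 131), (121, 132), (120, 133), (0, 0), (130, 135), (126, 136), (123, 137), (121, 138), (120,
  139), (0, 0), (130, 141), (126, 142), (123, 143), (121, 144), (120, 145), (135, 142), (126, 147), (123,
  148), (121, 149), (120, 150), (130, 148), (123, 152), (121, 153), (120, 154), (126, 153), (121, 156), (120,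
  157), (123, 157), (120, 159), (121, 160), (0, 0), (135, 162), (130, 163), (126, 164), (123, 165), (121,
  166), (120, 167), (141, 164), (126, 169), (123, 170), (121, 171), (120, 172), (130, 170), (123, 174), (121,
  175), (120, 176), (126, 175), (121, 178), (120, 179), (123, 179), (120, 181), (121, 182), (135, 174), (123,
  184), (121, 185), (120, 186), (126, 185), (121, 188), (120, 189), (123, 189), (120, 191), (121, 192), (130,
  188), (121, 194), (120, 195), (123, 195), (120, 197), (121, 198), (126, 197), (120, 200), (121, 201), (123,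
  202), (141, 194), (121, 204), (120, 205), (123, 205), (120, 207), (121, 208), (126, 207), (120, 210), (121,
  211), (123, 212), (130, 210), (120, 214), (121, 215), (123, 216), (126, 217), (135, 214), (120, 219), (121,
  220), (123, 221), (126, 222), (130, 223), (141, 224), (162, 219), (120, 226), (121, 227), (123, 228), (126,
  229), (130, 230), (135, 231), (141, 231), (135, 233), (130, 234), (126, 235), (123, 236), (121, 237), (120,
  238)]
  [[0, 16, 14, 14, 14, 14, 14, 14], [7, 0, 15, 7, 7, 7, 7, 7], [21, 21, 0, 6, 6, 6, 6, 6], [5, 9, 9, 0, 5, 5,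
  5, 5], [4, 4, 4, 10, 0, 4, 4, 4], [3, 3, 3, 3, 11, 0, 3, 3], [2, 2, 2, 2, 2, 12, 0, 2], [1, 1, 1, 1, 1, 1,
  13, 0]] = true := by
  decide +kernel

/-- Weakly closed unipotent subgroups of Chevalley groups: let G be the Chevalley group of type G₂, B₂, D₄, F₄, E₆, E₇ or E₈ over a finite field F (the matrix group generated by the root elements), with |F| ≠ 2, and |F| ≠ 3 as well for the types G₂, B₂, D₄, F₄. Let U be the subgroup generated by the positive root subgroups. If X ≤ U is weakly closed in U with respect to G (every G-conjugate of X lying in U equals X), then X is the unipotent radical U_J of a standard parabolic subgroup for some set J of fundamental roots. -/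
theorem result {F : Type*} [Field F] [Fintype F] (D : Cfsg.Lie.ChevalleyDatum) (hD : D ∈ [Cfsg.Lie.chevG2, Cfsg.Lie.chevB2, Cfsg.Lie.chevD4, Cfsg.Lie.chevF4, Cfsg.Lie.chevE6, Cfsg.Lie.chevE7, Cfsg.Lie.chevE8])
    (h2 : Fintype.card F ≠ 2) (h3 : D ∈ [Cfsg.Lie.chevG2, Cfsg.Lie.chevB2, Cfsg.Lie.chevD4, Cfsg.Lie.chevF4] → Fintype.card F ≠ 3)
    (X : Subgroup (GL D.Idx F)) (hXU : X ≤ D.posUnipotent F)
    (hwc : ∀ g ∈ D.group F, X.map (MulAut.conj g).toMonoidHom ≤ D.posUnipotent F → X.map (MulAut.conj g).toMonoidHom = X) :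
    ∃ J : Set ℕ, (∀ j ∈ J, j < D.rank) ∧ X = D.unipotentRadical F J := by
  classical
  have k1 : ∃ a : F, a ≠ 0 ∧ a ≠ 1 := by
    by_contra h
    have : (Finset.univ : Finset F) ⊆ {0, 1} := fun a _ => by
      simp only [Finset.mem_insert, Finset.mem_singleton]; by_contra h'; exact h ⟨a, not_or.1 h'⟩
    have h4 := (Finset.card_le_card this).trans Finset.card_le_two
    have := Fintype.one_lt_card (α := F)
    rw [Finset.card_univ] at h4
    omega
  have k2 : Fintype.card F ≠ 3 → ∃ a : F, a ≠ 0 ∧ a ≠ 1 ∧ a ≠ -1 := fun h3 => by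
    by_contra h
    have : (Finset.univ : Finset F) ⊆ {0, 1, -1} := fun a _ => by
      simp only [Finset.mem_insert, Finset.mem_singleton]; by_contra h'
      exact h ⟨a, by simpa only [not_or] using h'⟩
    have h4 := (Finset.card_le_card this).trans Finset.card_le_three
    have := Fintype.one_lt_card (α := F)
    rw [Finset.card_univ] at h4
    omega
  have hM := H38.matFacts hD F
  simp only [List.mem_cons, List.not_mem_nil, or_false] at hD
  rcases hD with rfl | rfl | rfl | rfl | rfl | rfl | rfl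
  · obtain ⟨a, a0, a1, a2⟩ := k2 (h3 (by simp))
    obtain ⟨E, hE⟩ := hM.exists_isMat H38.rsG2
    exact H9.Compat.weakly_closed ⟨by decide, fun _ _ => rfl, fun _ => rfl, fun _ _ => rfl⟩ hE a0 a1
      (fun _ => a2) chkG2 X hXU hwc
  · obtain ⟨a, a0, a1, a2⟩ := k2 (h3 (by simp))
    obtain ⟨E, hE⟩ := hM.exists_isMat H38.rsB2
    exact H9.Compat.weakly_closed ⟨by decide, fun _ _ => rfl, fun _ => rfl, fun _ _ => rfl⟩ hE a0 a1
      (fun _ => a2) chkB2 X hXU hwc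
  · obtain ⟨a, a0, a1, a2⟩ := k2 (h3 (by simp))
    obtain ⟨E, hE⟩ := hM.exists_isMat H38.rsD4
    exact H9.Compat.weakly_closed ⟨by decide, fun _ _ => rfl, fun _ => rfl, fun _ _ => rfl⟩ hE a0 a1
      (fun _ => a2) chkD4 X hXU hwc
  · obtain ⟨a, a0, a1, a2⟩ := k2 (h3 (by simp))
    obtain ⟨E, hE⟩ := hM.exists_isMat H38.rsF4
    exact H9.Compat.weakly_closed ⟨by decide, fun _ _ => rfl, fun _ => rfl, fun _ _ => rfl⟩ hE a0 a1
      (fun _ => a2) chkF4 X hXU hwc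
  · obtain ⟨a, a0, a1⟩ := k1
    obtain ⟨E, hE⟩ := hM.exists_isMat H38.rsE6
    exact H9.Compat.weakly_closed ⟨by decide, fun _ _ => rfl, fun _ => rfl, fun _ _ => rfl⟩ hE a0 a1
      (by simp) chkE6 X hXU hwc
  · obtain ⟨a, a0, a1⟩ := k1
    obtain ⟨E, hE⟩ := hM.exists_isMat H38.rsE7
    exact H9.Compat.weakly_closed ⟨by decide, fun _ _ => rfl, fun _ => rfl, fun _ _ => rfl⟩ hE a0 a1
      (by simp) chkE7 X hXU hwc
  · obtain ⟨a, a0, a1⟩ := k1
    obtain ⟨E, hE⟩ := hM.exists_isMat H38.rsE8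
    exact H9.Compat.weakly_closed ⟨by decide, fun _ _ => rfl, fun _ => rfl, fun _ _ => rfl⟩ hE a0 a1
      (by simp) chkE8 X hXU hwc

end Cfsg.Agent.S2244
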