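import Mathlib
import Cfsg.Statements.S2271


set_option autoImplicit false
open Cfsg

namespace Cfsg.Agent.S2271

open Finset

def cc : Fin 24 → ℤ := ![1, 1, -1, -1, -1, -1, 1, 1, -1, -1, 1, 1, 1, 1, -1, -1, 1, 1, -1, -1, -1, -1, 1, 1]

def ss : Fin 24 → Equiv.Perm (Fin 5) := ![1, Equiv.swap 0 1 * Equiv.swap 2 3, Equiv.swap 0 3 * Equiv.swap 1 3, Equiv.swap 1 3 * Equiv.swap 2 3, Equiv.swap 0 1 * Equiv.swap 2 4, Equiv.swap 2 3 * Equiv.swap 3 4, Equiv.swap 1 3 * Equiv.swap 2 4, Equiv.swap 0 3 * Equiv.swap 1 3 * Equiv.swap 2 3 * Equiv.swap 3 4, Equiv.swap 0 1 * Equiv.swap 1 2, Equiv.swap 0 2 * Equiv.swap 2 3, Equiv.swap 0 2 * Equiv.swap 1 3, Equiv.swap 0 3 * Equiv.swap 1 2, Equiv.swap 0 2 * Equiv.swap 2 4, Equiv.swap 0 1 * Equiv.swap 1 2 * Equiv.swap 2 3 * Equiv.swap 3 4, Equiv.swap 0 3 * Equiv.swap 1 2 * Equiv.swap 2 4 * Equiv.swap 3 4, Equiv.swap 0 2 * Equiv.swap 1 3 * Equiv.swap 2 3 * Equiv.swap 3 4, Equiv.swap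 0 4 * Equiv.swap 2 4, Equiv.swap 0 1 * Equiv.swap 1 4 * Equiv.swap 2 3 * Equiv.swap 3 4, Equiv.swap 0 3 * Equiv.swap 1 4 * Equiv.swap 2 3 * Equiv.swap 3 4, Equiv.swap 0 4 * Equiv.swap 1 3 * Equiv.swap 2 3 * Equiv.swap 3 4, Equiv.swap 0 1 * Equiv.swap 1 4, Equiv.swap 0 4 * Equiv.swap 2 3, Equiv.swap 0 4 * Equiv.swap 1 3, Equiv.swap 0 3 * Equiv.swap 1 4 * Equiv.swap 2 4 * Equiv.swap 3 4]

def FF : Fin 5 → Fin 5 → ℤ :=
  ![![0, -1, 1, -1, 1], ![-1, 0, -1, 3, -1], ![1, -1, 0, -1, 1], ![-1, 3, -1, 0, -1], ![1, -1, 1, -1, 0]]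

def Ph : Fin 5 → Fin 5 → ℤ :=
  ![![0, 0, 1, -1, 0], ![0, 0, -1, 1, 0], ![1, -1, 0, 0, 0], ![-1, 1, 0, 0, 0], ![0, 0, 0, 0, 0]]

theorem f1 : ∀ k, Equiv.Perm.sign (ss k) = 1 := by decide +kernel

theorem f2 : ∑ k, cc k = 0 := by decide +kernel

theorem f3 : ∀ i p, ∑ k, (if ss k i = p then cc k else 0) = 0 := by decide +kernel

theorem f4 : ∀ i j p q, ∑ k, (if ss k i = p ∧ ss k j = q then cc k else 0) = Ph i j * FF p q := by
  decide +kernel

theorem g3 (i : Fin 5) (A : Fin 5 → ℤ) : ∑ k, cc k * A (ss k i) = 0 := by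
  have : ∀ k, cc k * A (ss k i) = ∑ p, (if ss k i = p then cc k else 0) * A p := by
    intro k; simp [ite_mul]
  simp only [this]
  rw [sum_comm]
  simp only [← sum_mul, f3, zero_mul, sum_const_zero]

theorem g4 (i j : Fin 5) (A : Fin 5 → Fin 5 → ℤ) :
    ∑ k, cc k * A (ss k i) (ss k j) = Ph i j * ∑ p, ∑ q, FF p q * A p q := by
  have : ∀ k, cc k * A (ss k i) (ss k j) =
      ∑ p, ∑ q, (if ss k i = p ∧ ss k j = q then cc k else 0) * A p q := by
    intro k; simp [ite_and, ite_mul]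
  simp only [this]
  rw [sum_comm, mul_sum]
  refine sum_congr rfl fun p _ => ?_
  rw [sum_comm, mul_sum]
  refine sum_congr rfl fun q _ => ?_
  rw [← sum_mul, f4, mul_assoc]

variable {α : Type*} [Fintype α] [DecidableEq α]

theorem key (ι : Fin 5 ↪ α) (A : α → α → ℤ) (u v : α) :
    ∑ k, cc k * A ((ss k).viaEmbedding ι u) ((ss k).viaEmbedding ι v) =
      (∑ i, ∑ j, if u = ι i ∧ v = ι j then Ph i j else 0) * ∑ p, ∑ q, FF p q * A (ι p) (ι q) := by
  by_cases hu : u ∈ Set.range ι <;> by_cases hv : v ∈ Set.range ι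
  · obtain ⟨i, rfl⟩ := hu
    obtain ⟨j, rfl⟩ := hv
    simp only [Equiv.Perm.viaEmbedding_apply]
    rw [g4 i j fun p q => A (ι p) (ι q)]
    simp [ite_and]
  · obtain ⟨i, rfl⟩ := hu
    simp only [Equiv.Perm.viaEmbedding_apply, Equiv.Perm.viaEmbedding_apply_of_notMem _ _ _ hv]
    rw [g3 i fun p => A (ι p) v]
    have : ∀ j, v ≠ ι j := fun j e => hv ⟨j, e.symm⟩
    simp [this]
  · obtain ⟨j, rfl⟩ := hv
    simp only [Equiv.Perm.viaEmbedding_apply, Equiv.Perm.viaEmbedding_apply_of_notMem _ _ _ hu]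
    rw [g3 j fun p => A u (ι p)]
    have : ∀ j, u ≠ ι j := fun j e => hu ⟨j, e.symm⟩
    simp [this]
  · simp only [Equiv.Perm.viaEmbedding_apply_of_notMem _ _ _ hu,
      Equiv.Perm.viaEmbedding_apply_of_notMem _ _ _ hv]
    have : ∀ j, u ≠ ι j := fun j e => hu ⟨j, e.symm⟩
    simp [this, ← sum_mul, f2]

theorem card_fix (a b : Equiv.Perm α) :
    (Nat.card (Function.fixedPoints ⇑(a * b)) : ℤ) = ∑ u, if a (b u) = u then 1 else 0 := by
  rw [sum_boole, Nat.card_eq_fintype_card, Fintype.card_subtype]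
  rfl

theorem main (ι : Fin 5 ↪ α) (a b : Equiv.Perm α) (c : ℤ)
    (h : ∀ g ∈ alternatingGroup α, (Nat.card (Function.fixedPoints ⇑(a * (g * b * g⁻¹))) : ℤ) = c) :
    (∑ i, ∑ j, if b (ι i) = ι j then Ph i j else 0) *
      (∑ p, ∑ q, FF p q * if a (ι q) = ι p then 1 else 0) = 0 := by
  have h1 : ∀ k, c = ∑ u, if a ((ss k).viaEmbedding ι (b u)) = (ss k).viaEmbedding ι u then (1 : ℤ) else 0 := by
    intro k
    rw [← h ((ss k).viaEmbedding ι) (by
      rw [Equiv.Perm.mem_alternatingGroup, Equiv.Perm.viaEmbedding, Equiv.Perm.sign_extendDomain, f1]),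
      card_fix, ← Equiv.sum_comp ((ss k).viaEmbedding ι)]
    simp
  have h2 : ∑ k, cc k * c = 0 := by rw [← sum_mul, f2, zero_mul]
  have h3 : ∑ k, cc k * c = ∑ k, ∑ u, cc k *
      if a ((ss k).viaEmbedding ι (b u)) = (ss k).viaEmbedding ι u then (1 : ℤ) else 0 :=
    sum_congr rfl fun k _ => by rw [← mul_sum, ← h1 k]
  rw [h3, sum_comm,
    sum_congr rfl fun u _ => key ι (fun u v => if a v = u then 1 else 0) u (b u), ← sum_mul] at h2
  refine Eq.trans ?_ h2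
  congr 1
  symm
  rw [sum_comm]
  refine sum_congr rfl fun i _ => ?_
  rw [sum_comm]
  refine sum_congr rfl fun j _ => ?_
  simp [ite_and]

theorem FA_pos (ι : Fin 5 ↪ α) (a : Equiv.Perm α) (h : a (ι 1) = ι 3) :
    0 < ∑ p, ∑ q, FF p q * if a (ι q) = ι p then (1 : ℤ) else 0 := by
  obtain ⟨A, hA⟩ : ∃ A : Fin 5 → Fin 5 → ℤ, ∀ p q, A p q = if a (ι q) = ι p then 1 else 0 :=
    ⟨_, fun _ _ => rfl⟩
  have h0 : ∀ p q, 0 ≤ A p q := fun p q => by rw [hA]; split_ifs <;> norm_num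
  have hc : ∀ q, ∑ p, A p q ≤ 1 := fun q => by
    simp only [hA, sum_boole]
    have : (univ.filter fun p => a (ι q) = ι p).card ≤ 1 := card_le_one.2 fun x hx y hy =>
      ι.injective ((mem_filter.1 hx).2.symm.trans (mem_filter.1 hy).2)
    exact_mod_cast this
  have hr : ∀ p, ∑ q, A p q ≤ 1 := fun p => by
    simp only [hA, sum_boole]
    have : (univ.filter fun q => a (ι q) = ι p).card ≤ 1 := card_le_one.2 fun x hx y hy =>
      ι.injective (a.injective ((mem_filter.1 hx).2.trans (mem_filter.1 hy).2.symm))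
    exact_mod_cast this
  have h31 : A 3 1 = 1 := by rw [hA, if_pos h]
  simp only [← hA]
  have c1 := hc 1
  have c3 := hc 3
  have r1 := hr 1
  have r3 := hr 3
  simp only [Fin.sum_univ_five] at c1 c3 r1 r3 ⊢
  simp [FF]
  linarith [h0 0 1, h0 1 1, h0 2 1, h0 4 1, h0 1 3, h0 3 3, h0 3 0, h0 3 2, h0 3 4, h0 0 2, h0 0 4,
    h0 2 0, h0 2 4, h0 4 0, h0 4 2]


/-- Let n ≥ 5 and let a, b be non-identity permutations in the symmetric group S_n. Then the number of fixed points is not constant on the set of products a′b′ with a′ conjugate to a and b′ conjugate to b under the alternating group: there are even permutations g₁, h₁, g₂, h₂ such that (g₁ a g₁⁻¹)(h₁ b h₁⁻¹) and (g₂ a g₂⁻¹)(h₂ b h₂⁻¹) have different numbers of fixed points. -/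
theorem result (n : ℕ) (hn : 5 ≤ n) (a b : Equiv.Perm (Fin n)) (ha : a ≠ 1) (hb : b ≠ 1) :
    ∃ g₁ h₁ g₂ h₂ : Equiv.Perm (Fin n), g₁ ∈ alternatingGroup (Fin n) ∧ h₁ ∈ alternatingGroup (Fin n) ∧ g₂ ∈ alternatingGroup (Fin n) ∧ h₂ ∈ alternatingGroup (Fin n) ∧
      Nat.card (Function.fixedPoints ⇑(g₁ * a * g₁⁻¹ * (h₁ * b * h₁⁻¹))) ≠
        Nat.card (Function.fixedPoints ⇑(g₂ * a * g₂⁻¹ * (h₂ * b * h₂⁻¹))) := by
  by_contra hh
  push Not at hh
  obtain ⟨x, hx⟩ : ∃ x, a x ≠ x := by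
    by_contra h; push Not at h; exact ha (Equiv.ext h)
  obtain ⟨y, hy⟩ : ∃ y, b y ≠ y := by
    by_contra h; push Not at h; exact hb (Equiv.ext h)
  let ι₀ : Fin 5 ↪ Fin n := Fin.castLEEmb hn
  obtain ⟨σ, hσ⟩ := Equiv.Perm.exists_extending_pair ![ι₀ 1, ι₀ 3] ![x, a x]
    (by intro i j; fin_cases i <;> fin_cases j <;> simp)
    (by intro i j; fin_cases i <;> fin_cases j <;> simp [hx, hx.symm])
  let ι : Fin 5 ↪ Fin n := ι₀.trans σ.toEmbedding
  have h13 : a (ι 1) = ι 3 := by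
    have e0 : ι 1 = x := hσ 0
    have e1 : ι 3 = a x := hσ 1
    rw [e0, e1]
  have hF := FA_pos ι a h13
  have hm : ∀ h ∈ alternatingGroup (Fin n),
      (∑ i, ∑ j, if (h * b * h⁻¹) (ι i) = ι j then Ph i j else 0) = 0 := by
    intro h hA
    refine (mul_eq_zero.1 (main ι a (h * b * h⁻¹) (Nat.card (Function.fixedPoints ⇑(a * b)))
      fun g hg => ?_)).resolve_right hF.ne'
    have := hh 1 (g * h) 1 1 (one_mem _) (mul_mem hg hA) (one_mem _) (one_mem _)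
    simp only [one_mul, inv_one, mul_one] at this
    rw [← this]
    simp [mul_assoc]
  have ex : ∀ s : Finset (Fin n), s.card ≤ 4 → ∃ t, t ∉ s := fun s hs => by
    by_contra h
    push Not at h
    rw [eq_univ_of_forall h, card_univ, Fintype.card_fin] at hs
    omega
  obtain ⟨t, ht⟩ := ex {y, b y, b (b y)} (card_le_three.trans (by norm_num))
  obtain ⟨z, hz⟩ := ex {y, b y, b⁻¹ y, t} card_le_four
  simp only [mem_insert, mem_singleton, not_or] at ht hz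
  obtain ⟨h, hh₀⟩ := Equiv.Perm.exists_extending_pair ![y, t, b y, z] ![ι 0, ι 1, ι 2, ι 3]
    (by intro i j; fin_cases i <;> fin_cases j <;> simp [hy, hy.symm, ht, hz, Ne.symm ht.1,
      Ne.symm ht.2.1, Ne.symm hz.1, Ne.symm hz.2.1, Ne.symm hz.2.2.2])
    (by intro i j; fin_cases i <;> fin_cases j <;> simp)
  have e0 : h y = ι 0 := hh₀ 0
  have e1 : h t = ι 1 := hh₀ 1
  have e2 : h (b y) = ι 2 := hh₀ 2
  have e3 : h z = ι 3 := hh₀ 3
  have n1 : b z ≠ y := fun e => hz.2.2.1 (by rw [← e]; simp)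
  have n2 : b t ≠ b y := fun e => ht.1 (b.injective e)
  have n3 : b y ≠ z := Ne.symm hz.2.1
  have n4 : b (b y) ≠ t := Ne.symm ht.2.2
  rcases Int.units_eq_one_or (Equiv.Perm.sign h) with hs | hs
  · have := hm h hs
    simp only [Fin.sum_univ_five] at this
    simp [Ph, ← e0, ← e1, ← e2, ← e3, n1, n2, n3, n4] at this
    split_ifs at this <;> omega
  · have := hm (Equiv.swap (ι 0) (ι 1) * h) (by
      rw [Equiv.Perm.mem_alternatingGroup, map_mul, hs, Equiv.Perm.sign_swap (by simp)]; simp)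
    set h' := Equiv.swap (ι 0) (ι 1) * h with hh'
    have e0' : h' y = ι 1 := by simp [hh', e0]
    have e1' : h' t = ι 0 := by simp [hh', e1]
    have e2' : h' (b y) = ι 2 := by
      rw [hh', Equiv.Perm.mul_apply, e2, Equiv.swap_apply_of_ne_of_ne (by simp) (by simp)]
    have e3' : h' z = ι 3 := by
      rw [hh', Equiv.Perm.mul_apply, e3, Equiv.swap_apply_of_ne_of_ne (by simp) (by simp)]
    clear_value h'
    simp only [Fin.sum_univ_five] at this
    simp [Ph, ← e0', ← e1', ← e2', ← e3', n1, n2, n3, n4] at this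
    split_ifs at this <;> omega

end Cfsg.Agent.S2271
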