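import Mathlib
import Cfsg.Agent.Base
import Cfsg.Agent.Lib.Core.GrpBasic
import Cfsg.Statements.S2277

set_option autoImplicit false
open Cfsg

namespace Cfsg.Agent.S2277

open scoped commutatorElement Pointwise

theorem exists_z2 {A : Type*} [Group A] [Finite A] {p : ℕ} [Fact p.Prime] (hA : IsPGroup p A)
    (hna : Subgroup.center A ≠ ⊤) :
    ∃ e : A, e ∉ Subgroup.center A ∧ ∀ g : A, ⁅g, e⁆ ∈ Subgroup.center A := by
  have hnt : Nontrivial (A ⧸ Subgroup.center A) := by
    by_contra hh
    rw [not_nontrivial_iff_subsingleton] at hh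
    apply hna
    rw [eq_top_iff]
    intro x _
    exact (QuotientGroup.eq_one_iff x).1 (Subsingleton.elim _ _)
  have hq := hA.to_quotient (Subgroup.center A)
  have := hq.center_nontrivial
  obtain ⟨⟨y, hy⟩, hy1⟩ := exists_ne (1 : Subgroup.center (A ⧸ Subgroup.center A))
  obtain ⟨e, rfl⟩ := QuotientGroup.mk_surjective y
  refine ⟨e, fun he => hy1 (Subtype.ext ((QuotientGroup.eq_one_iff e).2 he)), fun g => ?_⟩
  rw [← QuotientGroup.eq_one_iff]
  have := Subgroup.mem_center_iff.1 hy (g : A ⧸ Subgroup.center A)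
  change ((g * e * g⁻¹ * e⁻¹ : A) : A ⧸ Subgroup.center A) = 1
  simp only [QuotientGroup.mk_mul, QuotientGroup.mk_inv, this]
  group

/-- the fixed points of an automorphism -/
def fx {V : Type*} [Group V] (a : MulAut V) : Subgroup V := MonoidHom.eqLocus a.toMonoidHom (MonoidHom.id V)

theorem mem_fx {V : Type*} [Group V] {a : MulAut V} {v : V} : v ∈ fx a ↔ a v = v := Iff.rfl

theorem card_mul_le {V : Type*} [Group V] [Finite V] (H K : Subgroup V) :
    Nat.card H * Nat.card K = Nat.card ((H : Set V) * (K : Set V) : Set V) * Nat.card (H ⊓ K : Subgroup V) :=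
  (H1.card_mul_set_mul_card_inf H K).symm

theorem card_fx_conj {V : Type*} [Group V] (a e : MulAut V) : Nat.card (fx (e * a * e⁻¹)) = Nat.card (fx a) := by
  have : fx (e * a * e⁻¹) = (fx a).map e.toMonoidHom := by
    ext v
    simp only [mem_fx, Subgroup.mem_map, MulEquiv.coe_toMonoidHom, MulAut.mul_apply]
    constructor
    · intro h
      refine ⟨e⁻¹ v, ?_, by simp⟩
      apply e.injective
      rw [h]; simp
    · rintro ⟨w, hw, rfl⟩
      simp [hw]
  rw [this]
  exact (Subgroup.card_map_of_injective e.injective)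

theorem core {V : Type*} [Group V] [Finite V] {p : ℕ} [Fact p.Prime] (hp3 : 3 ≤ p)
    (hV : (Nat.card V).Coprime p) (A : Subgroup (MulAut V)) (hA : IsPGroup p A) (C D : Set (MulAut V))
    (hC : Subgroup.closure C = A) (hD : Subgroup.closure D = A)
    (hfac : ∀ c ∈ C, ∀ d ∈ D, ∀ v, ∃ a b, c a = a ∧ d b = b ∧ v = a * b)
    (hmin : ∀ z ∈ A, z ≠ 1 → (∀ g ∈ A, g * z = z * g) → ∀ v, z v = v → ∀ g ∈ A, g v = v) : A = ⊥ := by
  by_contra hne
  have hCA : ∀ c ∈ C, c ∈ A := fun c hc => hC ▸ Subgroup.subset_closure hc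
  have hDA : ∀ c ∈ D, c ∈ A := fun c hc => hD ▸ Subgroup.subset_closure hc
  have hfin : ¬ ∀ v, ∀ g ∈ A, g v = v := fun h => hne (by
    rw [eq_bot_iff]; intro g hg; rw [Subgroup.mem_bot]; ext v; exact h v g hg)
  by_cases hab : Subgroup.center A = ⊤
  · have hcomm : ∀ z ∈ A, ∀ g ∈ A, g * z = z * g := fun z hz g hg => by
      have : (⟨z, hz⟩ : A) ∈ Subgroup.center A := hab ▸ Subgroup.mem_top _
      exact congrArg Subtype.val (Subgroup.mem_center_iff.1 this ⟨g, hg⟩)
    have hex : ∀ S : Set (MulAut V), Subgroup.closure S = A → ∃ c ∈ S, c ≠ 1 := fun S hS => by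
      by_contra hh
      push Not at hh
      apply hne
      rw [← hS, Subgroup.closure_eq_bot_iff]
      exact hh
    obtain ⟨c, hc, hc1⟩ := hex C hC
    obtain ⟨d, hd, hd1⟩ := hex D hD
    apply hfin
    intro v g hg
    obtain ⟨a, b, ha, hb, rfl⟩ := hfac c hc d hd v
    rw [map_mul, hmin c (hCA c hc) hc1 (hcomm c (hCA c hc)) a ha g hg,
      hmin d (hDA d hd) hd1 (hcomm d (hDA d hd)) b hb g hg]
  · obtain ⟨e, he, hez⟩ := exists_z2 hA hab
    have hex : ∀ S : Set (MulAut V), Subgroup.closure S = A → ∃ c ∈ S, c * e.1 ≠ e.1 * c := fun S hS => by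
      by_contra hh
      push Not at hh
      apply he
      rw [Subgroup.mem_center_iff]
      intro g
      have : A ≤ Subgroup.centralizer {e.1} := by
        refine hS.ge.trans ((Subgroup.closure_le _).2 ?_)
        intro c hc
        rw [SetLike.mem_coe, Subgroup.mem_centralizer_singleton_iff]
        exact hh c hc
      exact Subtype.ext (Subgroup.mem_centralizer_singleton_iff.1 (this g.2))
    -- the fixed points of `A`
    set F : Subgroup V := ⨅ g : A, fx g.1 with hF
    have memF : ∀ v, v ∈ F ↔ ∀ g ∈ A, g v = v := fun v => by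
      simp [hF, Subgroup.mem_iInf, mem_fx]
    -- the key facts for an element not commuting with `e`
    have key : ∀ c ∈ A, c * e.1 ≠ e.1 * c → ∃ z ∈ A, z ≠ 1 ∧ (∀ g ∈ A, g * z = z * g) ∧
        Nat.card (fx (c * z)) = Nat.card (fx c) ∧ Nat.card (fx (c * z * z)) = Nat.card (fx c) ∧
        fx c ⊓ fx (c * z) = F := by
      intro c hc hce
      have hz := hez ⟨c⁻¹, A.inv_mem hc⟩
      set z : A := ⁅(⟨c⁻¹, A.inv_mem hc⟩ : A), e⁆ with hzdef
      have hzc : ∀ g ∈ A, g * z.1 = z.1 * g := fun g hg =>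
        congrArg Subtype.val (Subgroup.mem_center_iff.1 hz ⟨g, hg⟩)
      have hz1 : (z : MulAut V) = c⁻¹ * e * c * (e.1)⁻¹ := by simp [hzdef, commutatorElement_def]
      have e1 : c * z.1 = e.1 * c * (e.1)⁻¹ := by rw [hz1]; group
      have hzne : z.1 ≠ 1 := fun h => hce (by
        rw [h, mul_one] at e1
        calc c * e.1 = e.1 * c * (e.1)⁻¹ * e.1 := by rw [← e1]
          _ = _ := by group)
      have e2 : c * z.1 * z.1 = e.1 * (c * z.1) * (e.1)⁻¹ := by
        calc c * z.1 * z.1 = e.1 * c * (e.1)⁻¹ * z.1 := by rw [e1]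
          _ = e.1 * c * ((e.1)⁻¹ * z.1) := by group
          _ = e.1 * c * (z.1 * (e.1)⁻¹) := by rw [hzc _ (A.inv_mem e.2)]
          _ = _ := by group
      refine ⟨z, z.2, hzne, hzc, by rw [e1, card_fx_conj], by rw [e2, card_fx_conj, e1, card_fx_conj], ?_⟩
      ext v
      simp only [Subgroup.mem_inf, mem_fx, memF, MulAut.mul_apply]
      constructor
      · rintro ⟨h1, h2⟩
        refine hmin z z.2 hzne hzc v ?_
        apply c.injective
        rw [h2, h1]
      · intro h
        exact ⟨h c hc, by rw [h z z.2, h c hc]⟩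
    obtain ⟨c, hc, hc1⟩ := hex C hC
    obtain ⟨d, hd, hd1⟩ := hex D hD
    obtain ⟨z, hzA, hz1, hzc, k1, k2, k3⟩ := key c (hCA c hc) hc1
    obtain ⟨z', -, -, -, k1', -, k3'⟩ := key d (hDA d hd) hd1
    have hle : ∀ s : Set V, Nat.card s ≤ Nat.card V := fun s => Nat.card_le_card_of_injective _ Subtype.val_injective
    have m1 := card_mul_le (fx c) (fx (c * z))
    have m2 := card_mul_le (fx d) (fx (d * z'))
    have m3 := card_mul_le (fx c) (fx d)
    rw [k1, k3] at m1
    rw [k1', k3'] at m2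
    have hall : ((fx c : Set V) * (fx d : Set V) : Set V) = Set.univ := by
      rw [Set.eq_univ_iff_forall]
      intro v
      obtain ⟨a, b, ha, hb, rfl⟩ := hfac c hc d hd v
      exact Set.mul_mem_mul ha hb
    rw [hall, Nat.card_congr (Equiv.Set.univ V)] at m3
    have hF3 : Nat.card F ≤ Nat.card (fx c ⊓ fx d : Subgroup V) := by
      apply Subgroup.card_le_of_le
      intro v hv
      exact ⟨(memF v).1 hv c (hCA c hc), (memF v).1 hv d (hDA d hd)⟩
    have hFpos : 0 < Nat.card F := Nat.card_pos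
    have hVpos : 0 < Nat.card V := Nat.card_pos
    have hcard : Nat.card ((fx c : Set V) * (fx (c * z) : Set V) : Set V) = Nat.card V := by
      apply le_antisymm (hle _)
      by_contra hlt
      push Not at hlt
      have l1 : Nat.card (fx c) * Nat.card (fx c) < Nat.card V * Nat.card F := by
        rw [m1]; exact Nat.mul_lt_mul_of_pos_right hlt hFpos
      have l2 : Nat.card (fx d) * Nat.card (fx d) ≤ Nat.card V * Nat.card F := by
        rw [m2]; exact Nat.mul_le_mul_right _ (hle _)
      have l3 : Nat.card V * Nat.card F ≤ Nat.card (fx c) * Nat.card (fx d) := by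
        rw [m3]; exact Nat.mul_le_mul_left _ hF3
      nlinarith
    have huniv : ((fx c : Set V) * (fx (c * z) : Set V) : Set V) = Set.univ := by
      apply Set.eq_of_subset_of_ncard_le (Set.subset_univ _)
      rw [Set.ncard_univ, ← hcard]; rfl
    have hzz : z * z ≠ 1 := fun h => by
      obtain ⟨k, hk⟩ := hA ⟨z, hzA⟩
      have hk' : z ^ p ^ k = 1 := congrArg Subtype.val hk
      have h2 : z ^ 2 = 1 := by rw [pow_two, h]
      have hodd : Nat.Coprime 2 (p ^ k) := by
        apply Nat.Coprime.pow_right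
        rw [Nat.coprime_primes Nat.prime_two Fact.out]; omega
      have := pow_gcd_eq_one.2 ⟨h2, hk'⟩
      rw [hodd, pow_one] at this
      exact hz1 this
    have hV2 : fx (c * z * z) ≤ F := by
      intro v hv
      have hv' : v ∈ ((fx c : Set V) * (fx (c * z) : Set V) : Set V) := huniv ▸ Set.mem_univ v
      obtain ⟨a, ha, b, hb, rfl⟩ := hv'
      have ha' : c a = a := ha
      have hb' : c (z b) = b := hb
      have hcz : ∀ w, c (z w) = z (c w) := fun w => by
        rw [← MulAut.mul_apply, hzc c (hCA c hc), MulAut.mul_apply]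
      have hv1 : z (z a) * z b = a * b := by
        have : c (z (z (a * b))) = a * b := hv
        rw [map_mul, map_mul, map_mul, hcz, hcz, ha', hcz (z b), hb'] at this
        exact this
      have hf : a⁻¹ * z (z a) = b * (z b)⁻¹ := by
        calc a⁻¹ * z (z a) = a⁻¹ * (z (z a) * z b) * (z b)⁻¹ := by group
          _ = _ := by rw [hv1]; group
      have hfF : b * (z b)⁻¹ ∈ F := by
        rw [← k3]
        refine ⟨?_, ?_⟩
        · rw [← hf]
          refine (fx c).mul_mem ((fx c).inv_mem ha) ?_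
          change c (z (z a)) = z (z a)
          rw [hcz, hcz, ha']
        · refine (fx (c * z)).mul_mem hb ((fx (c * z)).inv_mem ?_)
          change c (z (z b)) = z b
          rw [hcz, hb']
      set f := b * (z b)⁻¹ with hfdef
      have hzf : z f = f := (memF f).1 hfF z hzA
      have hit : ∀ n : ℕ, (z ^ n) b = (f ^ n)⁻¹ * b := by
        intro n
        induction n with
        | zero => simp
        | succ n ih =>
          rw [pow_succ', MulAut.mul_apply, ih, map_mul, map_inv, map_pow, hzf, pow_succ', mul_inv_rev,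
            mul_assoc]
          congr 1
          rw [hfdef]; group
      obtain ⟨k, hk⟩ := hA ⟨z, hzA⟩
      have hk' : z ^ p ^ k = 1 := congrArg Subtype.val hk
      have hf1 : f ^ p ^ k = 1 := by
        have := hit (p ^ k)
        rw [hk', MulAut.one_apply] at this
        simpa using this.symm
      have hf0 : f = 1 := by
        have := pow_gcd_eq_one.2 ⟨(pow_card_eq_one' : f ^ Nat.card V = 1), hf1⟩
        rwa [Nat.Coprime.pow_right k hV, pow_one] at this
      have hbF : b ∈ F := (memF b).2 (hmin z hzA hz1 hzc b (by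
        have := hf0; rw [hfdef, mul_inv_eq_one] at this; exact this.symm))
      have haF : a ∈ F := (memF a).2 (hmin (z * z) (A.mul_mem hzA hzA) hzz
        (fun g hg => by rw [← mul_assoc, hzc g hg, mul_assoc, hzc g hg, mul_assoc]) a (by
        rw [hf0, inv_mul_eq_one] at hf; exact hf.symm))
      exact F.mul_mem haF hbF
    have hcF : Nat.card (fx c) ≤ Nat.card F := k2 ▸ Subgroup.card_le_of_le hV2
    rw [hcard] at m1
    have hVF : Nat.card V ≤ Nat.card F := by
      have : Nat.card V * Nat.card F ≤ Nat.card F * Nat.card F := m1 ▸ Nat.mul_le_mul hcF hcF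
      exact Nat.le_of_mul_le_mul_right this hFpos
    have hFt : F = ⊤ := Subgroup.eq_top_of_le_card F hVF
    exact hfin fun v => (memF v).1 (hFt ▸ Subgroup.mem_top v)

theorem factor {G : Type*} [Group G] [Finite G] {p : ℕ} [Fact p.Prime] (P : Sylow p G) (V : Subgroup G)
    (hV : (Nat.card V).Coprime p) (hPV : (P : Subgroup G) ≤ Subgroup.normalizer (V : Set G)) {x c d : G}
    (hx : x ∈ V) (hc : c ∈ (P : Subgroup G)) (hd : d ∈ (P : Subgroup G))
    (h : IsPGroup p ↥(Subgroup.closure ({x * c * x⁻¹, d} : Set G))) :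
    ∃ v ∈ V, v * d = d * v ∧ v * x * c = c * (v * x) := by
  set H : Subgroup G := (P : Subgroup G) ⊔ V with hH
  set Q := Subgroup.closure ({x * c * x⁻¹, d} : Set G) with hQ
  have hPH : (P : Subgroup G) ≤ H := le_sup_left
  have hVH : V ≤ H := le_sup_right
  have h1 : x * c * x⁻¹ ∈ H := H.mul_mem (H.mul_mem (hVH hx) (hPH hc)) (H.inv_mem (hVH hx))
  obtain ⟨Q', hQ'⟩ := (h.comap_subtype (K := H)).exists_le_sylow
  obtain ⟨y, hy⟩ := MulAction.exists_smul_eq H Q' (P.subtype hPH)
  have hyq : ∀ q ∈ Q, q ∈ H → (y : G) * q * (y : G)⁻¹ ∈ (P : Subgroup G) := by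
    intro q hq hqH
    have : (⟨q, hqH⟩ : H) ∈ Q' := hQ' hq
    have h2 : y * ⟨q, hqH⟩ * y⁻¹ ∈ (y • Q' : Sylow p H) := by
      change _ ∈ ((y • Q' : Sylow p H) : Subgroup H)
      rw [Sylow.coe_subgroup_smul]
      exact H1.conj_mem_conj_smul this
    rw [hy] at h2
    exact h2
  have hy2 : (y : G) ∈ ((P : Subgroup G) : Set G) * (V : Set G) := by
    rw [← Subgroup.coe_mul_of_left_le_normalizer_right _ _ hPV]; exact y.2
  obtain ⟨g, hg, v, hv, hgv⟩ := hy2
  have hgv' : (y : G) = g * v := hgv.symm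
  have hvq : ∀ q ∈ Q, q ∈ H → v * q * v⁻¹ ∈ (P : Subgroup G) := by
    intro q hq hqH
    have := (P : Subgroup G).mul_mem ((P : Subgroup G).mul_mem ((P : Subgroup G).inv_mem hg) (hyq q hq hqH)) hg
    rw [hgv'] at this
    convert this using 1; group
  have hdis : ∀ w ∈ V, ∀ a ∈ (P : Subgroup G), w * a * w⁻¹ ∈ (P : Subgroup G) → w * a = a * w := by
    intro w hw a ha hwa
    have m1 : w * a * w⁻¹ * a⁻¹ ∈ (P : Subgroup G) := (P : Subgroup G).mul_mem hwa ((P : Subgroup G).inv_mem ha)
    have m2 : w * a * w⁻¹ * a⁻¹ ∈ V := by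
      have := V.mul_mem hw ((Subgroup.mem_normalizer_iff.1 (hPV ha) w⁻¹).1 (V.inv_mem hw))
      convert this using 1; group
    obtain ⟨k, hk⟩ := P.isPGroup' ⟨_, m1⟩
    have hk' : (w * a * w⁻¹ * a⁻¹) ^ p ^ k = 1 := congrArg Subtype.val hk
    have hk2 : (w * a * w⁻¹ * a⁻¹) ^ Nat.card V = 1 :=
      congrArg Subtype.val (pow_card_eq_one' : (⟨_, m2⟩ : V) ^ Nat.card V = 1)
    have := pow_gcd_eq_one.2 ⟨hk2, hk'⟩
    rw [Nat.Coprime.pow_right k hV, pow_one] at this
    calc w * a = w * a * w⁻¹ * a⁻¹ * (a * w) := by group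
      _ = _ := by rw [this, one_mul]
  refine ⟨v, hv, hdis v hv d hd (hvq d (Subgroup.subset_closure (by simp)) (hPH hd)),
    hdis _ (V.mul_mem hv hx) c hc ?_⟩
  convert hvq _ (Subgroup.subset_closure (by simp)) h1 using 1
  group

/-- Let p ≥ 3 be prime and G a finite group with a Sylow p-subgroup P and a normal p-complement N (N normal, of order prime to p, with NP = G). Suppose P is generated by a subset C and also by a subset D, and that ⟨x c x⁻¹, d⟩ is a p-group for all x ∈ N, c ∈ C, d ∈ D. Then P centralizes N, so that G = N × P. -/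
theorem result {G : Type*} [Group G] [Finite G] (p : ℕ) [Fact p.Prime] (hp3 : 3 ≤ p) (P : Sylow p G)
    (N : Subgroup G) [N.Normal] (hN : (Nat.card N).Coprime p) (hNP : N ⊔ (P : Subgroup G) = ⊤)
    (C D : Set G) (hC : Subgroup.closure C = (P : Subgroup G)) (hD : Subgroup.closure D = (P : Subgroup G))
    (h : ∀ x ∈ N, ∀ c ∈ C, ∀ d ∈ D, IsPGroup p ↥(Subgroup.closure ({x * c * x⁻¹, d} : Set G))) :
    ⁅(P : Subgroup G), N⁆ = ⊥ := by
  have hCP : ∀ c ∈ C, c ∈ (P : Subgroup G) := fun c hc => hC ▸ Subgroup.subset_closure hc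
  have hDP : ∀ c ∈ D, c ∈ (P : Subgroup G) := fun c hc => hD ▸ Subgroup.subset_closure hc
  have main : ∀ n : ℕ, ∀ V : Subgroup G, Nat.card V = n → V ≤ N →
      (P : Subgroup G) ≤ Subgroup.normalizer (V : Set G) → ∀ g ∈ (P : Subgroup G), ∀ v ∈ V, g * v * g⁻¹ = v := by
    intro n
    induction n using Nat.strong_induction_on with
    | _ n ih =>
    intro V hVn hVN hPV
    have hV : (Nat.card V).Coprime p := Nat.Coprime.coprime_dvd_left (Subgroup.card_dvd_of_le hVN) hN
    let φ : (P : Subgroup G) →* MulAut V := V.normalizerMonoidHom.comp (Subgroup.inclusion hPV)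
    have hφ : ∀ (g : (P : Subgroup G)) (v : V), ((φ g v : V) : G) = g * v * (g : G)⁻¹ := fun g v => rfl
    have hcl : ∀ S : Set G, Subgroup.closure S = (P : Subgroup G) →
        Subgroup.closure (φ '' ((P : Subgroup G).subtype ⁻¹' S)) = φ.range := by
      intro S hS
      rw [← MonoidHom.map_closure, MonoidHom.range_eq_map]
      congr 1
      apply Subgroup.map_injective (P : Subgroup G).subtype_injective
      rw [MonoidHom.map_closure, Set.image_preimage_eq_of_subset, hS, ← MonoidHom.range_eq_map,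
        Subgroup.range_subtype]
      intro s hs
      exact ⟨⟨s, hS ▸ Subgroup.subset_closure hs⟩, rfl⟩
    have hbot := core hp3 hV φ.range (P.isPGroup'.of_surjective φ.rangeRestrict φ.rangeRestrict_surjective)
      _ _ (hcl D hD) (hcl C hC) (by
        rintro _ ⟨d, hd, rfl⟩ _ ⟨c, hc, rfl⟩ x
        obtain ⟨v, hv, h1, h2⟩ := factor P V hV hPV x.2 c.2 d.2 (h x (hVN x.2) c hc d hd)
        refine ⟨⟨v⁻¹, V.inv_mem hv⟩, ⟨v * x, V.mul_mem hv x.2⟩, Subtype.ext ?_, Subtype.ext ?_, Subtype.ext ?_⟩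
        · rw [hφ]
          change (d : G) * v⁻¹ * (d : G)⁻¹ = v⁻¹
          calc (d : G) * v⁻¹ * (d : G)⁻¹ = v⁻¹ * (v * d) * v⁻¹ * (d : G)⁻¹ := by group
            _ = _ := by rw [h1]; group
        · rw [hφ]
          change (c : G) * (v * x) * (c : G)⁻¹ = v * x
          rw [← h2]; group
        · change (x : G) = v⁻¹ * (v * x)
          group) (by
        rintro _ ⟨z, rfl⟩ hz1 hzc v hv _ ⟨g, rfl⟩
        let W : Subgroup G := (fx (φ z)).map V.subtype
        have hWV : W < V := by
          refine lt_of_le_of_ne (Subgroup.map_subtype_le _) fun hW => hz1 ?_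
          ext w
          have : (w : G) ∈ W := hW.ge w.2
          obtain ⟨w', hw', e⟩ := this
          have : w' = w := Subtype.ext e
          subst this
          exact congrArg Subtype.val hw'
        have hPW : (P : Subgroup G) ≤ Subgroup.normalizer (W : Set G) := by
          intro a ha
          apply Subgroup.mem_normalizer_fintype
          rintro _ ⟨w, hw, rfl⟩
          refine ⟨φ ⟨a, ha⟩ w, ?_, rfl⟩
          change φ z (φ ⟨a, ha⟩ w) = φ ⟨a, ha⟩ w
          rw [← MulAut.mul_apply, ← hzc _ ⟨_, rfl⟩, MulAut.mul_apply]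
          congr 1
        apply Subtype.ext
        rw [hφ]
        exact ih _ (hVn ▸ H1.card_lt_of_lt hWV) W rfl (hWV.le.trans hVN) hPW g g.2 v ⟨v, hv, rfl⟩)
    intro g hg v hv
    have : φ ⟨g, hg⟩ = 1 := (Subgroup.mem_bot).1 (hbot ▸ ⟨⟨g, hg⟩, rfl⟩)
    have h2 := hφ ⟨g, hg⟩ ⟨v, hv⟩
    rw [this] at h2
    exact h2.symm
  rw [eq_bot_iff, Subgroup.commutator_le]
  intro g hg v hv
  rw [Subgroup.mem_bot, commutatorElement_def,
    main _ N rfl le_rfl (Subgroup.le_normalizer_of_normal) g hg v hv, mul_inv_cancel]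

end Cfsg.Agent.S2277
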