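import Cfsg.Statements.S2290
import Mathlib
import Cfsg.Agent.Lib.Pres.TwoGen
import Cfsg.Agent.Lib.Pres.SL2
import Cfsg.Agent.S2278
import Cfsg.Agent.S2279

set_option autoImplicit false
open Cfsg

namespace Cfsg.Agent.S2290

/-- For every finite field F with q elements and n ≥ 2, with q ≥ 4 when n = 2, the simple group PSL_n(F) has a presentation with 2 generators and at most 80 relations. -/
theorem result {F : Type*} [Field F] [Fintype F] (n : ℕ) (hn : 2 ≤ n) (h2 : n = 2 → 4 ≤ Fintype.card F) :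
    ∃ rels : Finset (FreeGroup (Fin 2)), rels.card ≤ 80 ∧ Nonempty (PresentedGroup (↑rels : Set (FreeGroup (Fin 2))) ≃* Matrix.ProjectiveSpecialLinearGroup (Fin n) F) := by
  have : NeZero n := ⟨by omega⟩
  have key : ∀ {d r : ℕ}, H40.HasPr (Matrix.SpecialLinearGroup (Fin n) F) d r → r ≤ 77 →
      (∃ a b : Matrix.SpecialLinearGroup (Fin n) F, Subgroup.closure {a, b} = ⊤) →
      H40.HasPr (Matrix.ProjectiveSpecialLinearGroup (Fin n) F) 2 80 := by
    rintro d r h hr ⟨a, b, hab⟩
    exact (H77.Pres.HasPr.psl ⟨_, h.pair a b hab⟩).mono (by omega)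
  refine H40.HasPr.out ?_
  rcases hn.lt_or_eq with h | rfl
  · rcases (Nat.succ_le_of_lt h).lt_or_eq with h | rfl
    · obtain ⟨u, v, -, -, huv⟩ := (Cfsg.Agent.S2279.result (F := F) n h).1
      exact key (H77.Pres.hasPr_SL F n h) (by norm_num) ⟨u, v, huv⟩
    · obtain ⟨u, g, -, -, huv⟩ := Cfsg.Agent.S2278.result (F := F)
      exact key (H77.Pres.hasPr_SL_three F) (by norm_num) ⟨_, _, huv⟩
  · exact key (H77.Pres.hasPr_SL_two F) (by norm_num)
      (H77.Pres.exists_pair_SL_two (by rw [Nat.card_eq_fintype_card]; exact h2 rfl))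

end Cfsg.Agent.S2290
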