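import Cfsg.Statements.S2291
import Mathlib
import Cfsg.Agent.Lib.Pres6.SUP
import Cfsg.Agent.S2412
-- import your own Cfsg.Agent.* helpers here

set_option autoImplicit false
open Cfsg

namespace Cfsg.Agent.S2291

/-- Let F be a field with q² elements and n ≥ 3 with (n, q) ≠ (3, 2). Then the simple group PSU_n(q) (for the standard Hermitian form) has a presentation with 2 generators and at most 80 relations. -/
theorem result {F : Type*} [Field F] [Fintype F] (q n : ℕ) (hF : Fintype.card F = q ^ 2) (hn : 3 ≤ n) (h32 : ¬ (n = 3 ∧ q = 2)) :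
    ∃ rels : Finset (FreeGroup (Fin 2)), rels.card ≤ 80 ∧ Nonempty (PresentedGroup (↑rels : Set (FreeGroup (Fin 2))) ≃* Cfsg.PSU n F q) := by
  have : H11.U.IsSq F q := ⟨hF⟩
  have hq : IsPrimePow q := (isPrimePow_pow_iff two_ne_zero).1 (hF ▸ FiniteField.isPrimePow_card F)
  obtain ⟨a, b, h⟩ := Cfsg.Agent.S2412.result hq hF n hn (by tauto)
  have : ∃ d, H40.HasPr (Cfsg.PSU n F q) d 40 := by
    rcases (by omega : n = 3 ∨ 4 ≤ n) with rfl | h4
    · exact ⟨_, (H77.PU3.hasPr_PSU_three F q (by tauto)).mono (by omega)⟩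
    · exact ⟨_, H6.P6.hasPr_PSU (by omega) (H6.P6.hasPr_SU F q h4)⟩
  obtain ⟨d, hd⟩ := this
  exact H40.HasPr.out ⟨_, (hd.pair a b h).mono (by omega)⟩

end Cfsg.Agent.S2291
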