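import Cfsg.Statements.S2339
import Cfsg.Agent.Lib.MinDeg2.Untw

set_option autoImplicit false
open Cfsg

namespace Cfsg.Agent.S2339

/-- The heights. -/
def L : List ℕ := [1, 1, 2, 1, 2, 3, 1, 2, 3, 4, 1, 2, 3, 4, 5, 1, 2, 3, 4, 5, 6, 1, 2, 3, 4, 5, 6, 3, 4, 5, 6, 7, 5, 6, 7, 8, 7, 8, 9, 9, 10, 11, 1, 2, 3, 4, 5, 6, 7, 4, 5, 6, 7, 8, 6, 7, 8, 9, 8, 9, 10, 10, 11, 12, 7, 8, 9, 10, 9, 10, 11, 11, 12, 13, 10, 11, 12, 12, 13, 14, 13, 14, 15, 16, 11, 12, 13, 13, 14, 15, 14, 15, 16, 17, 15, 16, 17, 18, 19, 16, 17, 18, 19, 20, 21, 22, 17, 18, 19, 20, 21, 22, 23, 23, 24, 25, 26, 27, 28, 29]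

lemma arith {q n A : ℕ} (hq : 2 ≤ q) (hA : (q * A : ℤ) = q ^ 29 + q ^ 23 + q ^ 19 + q ^ 17 + q ^ 13 + q ^ 11 + q ^ 7 + q)
    (h : 2 * (q ^ 2 - 1) * q ^ 29 ≤ q ^ 2 * n ∨
    (n ∣ (L.map fun k => q ^ (29 - k) + q ^ (28 + k)).sum * (q - 1) * q ^ 29 ∧
      (q - 1) * (L.map fun k => q ^ k).sum ≤ q * n)) : q * A ≤ n := by
  by_contra hn
  have h2 : (2 : ℤ) ≤ q := by exact_mod_cast hq
  have p : ∀ k, 2 * (q : ℤ) ^ k ≤ q * q ^ k := fun k => by gcongr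
  obtain ⟨j, hj⟩ := Nat.exists_eq_add_of_le (not_le.mp hn).le
  have hj' : (n : ℤ) + j = q * A := by exact_mod_cast hj.symm
  rcases h with h | ⟨h1, h3⟩
  · zify [Nat.one_le_pow 2 q (by omega)] at h hn
    have : (q : ℤ) ^ 2 * n ≤ q ^ 2 * (q * A) := by gcongr; omega
    rw [hA] at this
    linarith [p 0, p 1, p 2, p 3, p 4, p 5, p 6, p 7, p 8, p 9, p 10, p 11, p 12, p 13, p 14, p 15, p 16, p 17, p 18, p 19, p 20, p 21, p 22, p 23, p 24, p 25, p 26, p 27, p 28, p 29, p 30]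
  have e1 : (L.map fun k => q ^ (29 - k) + q ^ (28 + k)).sum * (q - 1) =
      A * (q ^ (15 + 14 + 1) - 1) := by
    simp only [L, List.map_cons, List.map_nil, List.sum_cons, List.sum_nil, Nat.reduceAdd, Nat.reduceSub]
    zify [Nat.one_le_pow 30 q (by omega), show 1 ≤ q by omega]
    refine mul_left_cancel₀ (show (q : ℤ) ≠ 0 by omega) ?_
    rw [← mul_assoc _ (A : ℤ), hA]
    ring
  have e0 : (q - 1) * (L.map fun k => q ^ k).sum + q * 8 = q * (q * A) := by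
    simp only [L, List.map_cons, List.map_nil, List.sum_cons, List.sum_nil]
    zify [show 1 ≤ q by omega]
    rw [hA]
    ring
  have e2 : j ≤ 8 := by
    rw [hj, mul_add] at e0
    exact Nat.le_of_mul_le_mul_left (show q * j ≤ q * 8 by omega) (by omega)
  rw [e1] at h1
  have e3 : j ≠ 0 := by omega
  by_cases hq' : q < 185
  · have : ∀ x : ℕ, x < 185 → 2 ≤ x → ∀ j : ℕ, j ≤ 8 → j ≠ 0 → ¬ (x ^ 29 + x ^ 23 + x ^ 19 + x ^ 17 + x ^ 13 + x ^ 11 + x ^ 7 + x - j : ℤ) ∣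
        (x ^ 28 + x ^ 22 + x ^ 18 + x ^ 16 + x ^ 12 + x ^ 10 + x ^ 6 + 1) * (x ^ 30 - 1) * x ^ 29 := by
      decide +kernel
    refine this q hq' hq j e2 e3 ?_
    have := Int.natCast_dvd_natCast.mpr h1
    rw [show (n : ℤ) = q * A - j by omega, hA] at this
    push_cast [Nat.cast_pred (show 0 < q ^ (15 + 14 + 1) by positivity)] at this
    convert this using 3
    exact mul_left_cancel₀ (show (q : ℤ) ≠ 0 by omega) (by rw [hA]; ring)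
  obtain ⟨x, hx⟩ : ∃ x : ℤ, x = q := ⟨_, rfl⟩
  have e4 := H38.MD.excl (M := (x - 1) * (x ^ 2 - x + 1) * (x ^ 4 - x ^ 3 + x ^ 2 - x + 1) * (x ^ 8 - x ^ 7 + x ^ 5 - x ^ 4 + x ^ 3 - x + 1))
    (M' := (x + 1) * ((x ^ 2 + x + 1) * ((x ^ 4 + x ^ 3 + x ^ 2 + x + 1) * ((x ^ 8 + x ^ 7 - x ^ 5 - x ^ 4 - x ^ 3 + x + 1) * 1)))) [8, 4, 2, 1] hq hj.symm h1 (by rw [← hx]; ring) (by
      rw [← hx] at hA ⊢
      exact (mul_dvd_mul ⟨x ^ 28 - x ^ 27 + x ^ 26 - x ^ 25 + x ^ 24 - x ^ 23 + 2 * x ^ 22 - 2 * x ^ 21 + 2 * x ^ 20 - 2 * x ^ 19 + 3 * x ^ 18 - 3 * x ^ 17 + 4 * x ^ 16 - 4 * x ^ 15 + 4 * x ^ 14 - 4 * x ^ 13 + 5 * x ^ 12 - 5 * x ^ 11 + 6 * x ^ 10 - 6 * x ^ 9 + 6 * x ^ 8 - 6 * x ^ 7 + 7 * x ^ 6 - 7 * x ^ 5 + 7 * x ^ 4 - 7 * x ^ 3 + 7 * x ^ 2 - 7 * x + 8, by rw [hA]; ring⟩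
      (mul_dvd_mul ⟨x ^ 27 - x ^ 26 + x ^ 24 - x ^ 23 + 2 * x ^ 21 - 2 * x ^ 20 + 2 * x ^ 18 - x ^ 17 - x ^ 16 + 3 * x ^ 15 - 2 * x ^ 14 - x ^ 13 + 3 * x ^ 12 - x ^ 11 - 2 * x ^ 10 + 4 * x ^ 9 - 2 * x ^ 8 - 2 * x ^ 7 + 4 * x ^ 6 - x ^ 5 - 3 * x ^ 4 + 4 * x ^ 3 - x ^ 2 - 3 * x + 4, by rw [hA]; ring⟩
      (mul_dvd_mul ⟨x ^ 25 - x ^ 24 + x ^ 20 - x ^ 18 + 2 * x ^ 15 - x ^ 14 - x ^ 12 + 2 * x ^ 10 - x ^ 8 - x ^ 6 + 2 * x ^ 5 - x ^ 2 - x + 2, by rw [hA]; ring⟩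
      (mul_dvd_mul ⟨x ^ 21 - x ^ 20 + x ^ 19 + x ^ 16 + x ^ 13 + x ^ 11 + x ^ 9 + x ^ 7 + x ^ 5 + x ^ 3 + 1, by rw [hA]; ring⟩
      dvd_rfl)))))
    (by rw [← hx] at p h2 ⊢; simp only [Nat.reduceAdd]; linarith [p 0, p 1, p 2, p 3, p 4, p 5, p 6, p 7, p 8, p 9, p 10, p 11, p 12, p 13, p 14]) e3
    (by interval_cases j <;> simp_all)
  have e5 : (j : ℤ) ^ (29 + 1) * |([8, 4, 2, 1].map ((j : ℤ) + ·)).prod| * 2 ≤ q ^ 14 :=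
    le_trans (b := 185 ^ 14) (by interval_cases j <;> decide +kernel) (by gcongr; omega)
  have e6 := mul_le_mul_of_nonneg_right e5 (show (0 : ℤ) ≤ q ^ 15 by positivity)
  have e7 : (j : ℤ) ≤ 8 := by omega
  linarith [p 0, p 1, p 2, p 3, p 4, p 5, p 6, p 7, p 8, p 9, p 10, p 11, p 12, p 13, p 14, p 15, p 16, p 17, p 18, p 19, p 20, p 21, p 22, p 23, p 24, p 25, p 26, p 27, p 28, p 29]

/-- For the Chevalley group of type E₈ over a finite field with q elements, every irreducible complex representation of degree at least 2 has degree at least q(q¹² + 1)(q¹⁰ + 1)(q⁶ + 1). -/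
theorem result {F : Type*} [Field F] [Fintype F] (k : ℕ) (ρ : Representation ℂ (Cfsg.Lie.chevE8.group F) (Fin k → ℂ)) (hρ : ρ.IsIrreducible) (hk : 2 ≤ k) :
    Fintype.card F * (Fintype.card F ^ 12 + 1) * (Fintype.card F ^ 10 + 1) * (Fintype.card F ^ 6 + 1) ≤ k := by
  rw [mul_assoc, mul_assoc]
  exact arith Fintype.one_lt_card (by push_cast; ring) (H38.MD.untw (by simp)
    (fun h => by rcases h with h | h <;> exact absurd (congrArg (·.rank) h) (by decide)) ρ hρ hk (i := 0)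
    (w := [0, 0, 0, 0, 0, 0, 0, 0, 0, 0, 0, 0, 0, 0, 0, 0, 0, 0, 0, 0, 0, 0, 0, 0, 0, 0, 0, 0, 0, 0, 0, 0, 0, 0, 0, 0, 0, 0, 0, 0, 0, 0, 0, 0, 0, 0, 0, 0, 0, 0, 0, 0, 0, 0, 0, 0, 0, 0, 0, 0, 0, 0, 0, 0, 0, 0, 0, 0, 0, 0, 0, 0, 0, 0, 0, 0, 0, 0, 0, 0, 0, 0, 0, 0, 0, 0, 0, 0, 0, 0, 0, 0, 0, 0, 0, 0, 0, 0, 0, 0, 0, 0, 0, 0, 0, 0, 0, 0, 0, 0, 0, 0, 0, 0, 0, 0, 0, 0, 0, 0, 94, 95, 95, 96, 96, 96, 97, 97, 97, 97, 98, 98, 98, 98, 98, 136, 135, 135, 135, 135, 135, 105, 110, 114, 117, 119, 120, 135, 135, 135, 135, 135, 136, 136, 136, 136, 137, 137, 137, 138, 138, 139, 0, 0, 0, 0, 0, 0, 0, 0, 0, 0, 0, 0, 0, 0, 0, 0, 0, 0, 0, 0, 0, 0, 93, 93, 93, 94, 93, 93, 94, 93, 94, 95, 93, 93, 94, 93, 94, 95, 93, 94, 95, 96, 105, 105, 106, 105, 106, 107, 105, 106, 107, 108, 110, 111, 112, 113, 126, 135, 135, 135, 135, 135, 136, 147,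 0, 0, 0, 0, 0, 0, 93, 0, 105, 110, 114, 117, 119, 120])
    (d := [0, 3, 1, 2, 3, 4, 5, 6]) (by decide +kernel) (by decide +kernel) rfl)

end Cfsg.Agent.S2339
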