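import Cfsg.Statements.S2340
import Cfsg.Agent.Lib.MinDeg2.Untw

set_option autoImplicit false
open Cfsg

namespace Cfsg.Agent.S2340

/-- The heights. -/
def L : List ℕ := [1, 1, 2, 1, 2, 3, 1, 2, 3, 4, 1, 2, 3, 4, 3, 4, 5, 5, 6, 7, 1, 2, 3, 4, 5, 4, 5, 6, 6, 7, 8, 7, 8, 9, 10, 11]

lemma arith {q n A : ℕ} (hq : 2 ≤ q) (hA : (q * A : ℤ) = q ^ 11 + q ^ 8 + q ^ 7 + q ^ 5 + q ^ 4 + q)
    (h : 2 * (q ^ 2 - 1) * q ^ 11 ≤ q ^ 2 * n ∨
    (n ∣ (L.map fun k => q ^ (11 - k) + q ^ (10 + k)).sum * (q - 1) * q ^ 11 ∧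
      (q - 1) * (L.map fun k => q ^ k).sum ≤ q * n)) : q * A ≤ n := by
  by_contra hn
  have h2 : (2 : ℤ) ≤ q := by exact_mod_cast hq
  have p : ∀ k, 2 * (q : ℤ) ^ k ≤ q * q ^ k := fun k => by gcongr
  obtain ⟨j, hj⟩ := Nat.exists_eq_add_of_le (not_le.mp hn).le
  have hj' : (n : ℤ) + j = q * A := by exact_mod_cast hj.symm
  rcases h with h | ⟨h1, h3⟩
  · zify [Nat.one_le_pow 2 q (by omega)] at h hn
    have : (q : ℤ) ^ 2 * n ≤ q ^ 2 * (q * A) := by gcongr; omega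
    rw [hA] at this
    linarith [p 0, p 1, p 2, p 3, p 4, p 5, p 6, p 7, p 8, p 9, p 10, p 11, p 12]
  have e1 : (L.map fun k => q ^ (11 - k) + q ^ (10 + k)).sum * (q - 1) =
      A * (q ^ (5 + 6 + 1) - 1) := by
    simp only [L, List.map_cons, List.map_nil, List.sum_cons, List.sum_nil, Nat.reduceAdd, Nat.reduceSub]
    zify [Nat.one_le_pow 12 q (by omega), show 1 ≤ q by omega]
    refine mul_left_cancel₀ (show (q : ℤ) ≠ 0 by omega) ?_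
    rw [← mul_assoc _ (A : ℤ), hA]
    ring
  have e0 : (q - 1) * (L.map fun k => q ^ k).sum + q * 6 = q * (q * A) := by
    simp only [L, List.map_cons, List.map_nil, List.sum_cons, List.sum_nil]
    zify [show 1 ≤ q by omega]
    rw [hA]
    ring
  have e2 : j ≤ 6 := by
    rw [hj, mul_add] at e0
    exact Nat.le_of_mul_le_mul_left (show q * j ≤ q * 6 by omega) (by omega)
  rw [e1] at h1
  have e3 : j ≠ 0 := by omega
  by_cases hq' : q < 115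
  · have : ∀ x : ℕ, x < 115 → 2 ≤ x → ∀ j : ℕ, j ≤ 6 → j ≠ 0 → ¬ (x ^ 11 + x ^ 8 + x ^ 7 + x ^ 5 + x ^ 4 + x - j : ℤ) ∣
        (x ^ 10 + x ^ 7 + x ^ 6 + x ^ 4 + x ^ 3 + 1) * (x ^ 12 - 1) * x ^ 11 := by
      decide +kernel
    refine this q hq' hq j e2 e3 ?_
    have := Int.natCast_dvd_natCast.mpr h1
    rw [show (n : ℤ) = q * A - j by omega, hA] at this
    push_cast [Nat.cast_pred (show 0 < q ^ (5 + 6 + 1) by positivity)] at this
    convert this using 3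
    exact mul_left_cancel₀ (show (q : ℤ) ≠ 0 by omega) (by rw [hA]; ring)
  obtain ⟨x, hx⟩ : ∃ x : ℤ, x = q := ⟨_, rfl⟩
  have e4 := H38.MD.excl (M := (x - 1) * (x ^ 2 + 1) * (x ^ 2 - x + 1))
    (M' := (x + 1) * ((x ^ 2 + x + 1) * ((x ^ 4 - x ^ 2 + 1) * 1))) [2, 3, 1] hq hj.symm h1 (by rw [← hx]; ring) (by
      rw [← hx] at hA ⊢
      exact (mul_dvd_mul ⟨x ^ 10 - x ^ 9 + x ^ 8 + x ^ 6 - x ^ 5 + 2 * x ^ 4 - x ^ 3 + x ^ 2 - x + 2, by rw [hA]; ring⟩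
      (mul_dvd_mul ⟨x ^ 9 - x ^ 8 + 2 * x ^ 6 - x ^ 5 - x ^ 4 + 3 * x ^ 3 - x ^ 2 - 2 * x + 3, by rw [hA]; ring⟩
      (mul_dvd_mul ⟨x ^ 7 + x ^ 5 + x ^ 4 + x ^ 3 + x ^ 2 + x + 1, by rw [hA]; ring⟩
      dvd_rfl))))
    (by rw [← hx] at p h2 ⊢; simp only [Nat.reduceAdd]; linarith [p 0, p 1, p 2, p 3, p 4, p 5, p 6]) e3
    (by interval_cases j <;> simp_all)
  have e5 : (j : ℤ) ^ (11 + 1) * |([2, 3, 1].map ((j : ℤ) + ·)).prod| * 2 ≤ q ^ 6 :=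
    le_trans (b := 115 ^ 6) (by interval_cases j <;> decide +kernel) (by gcongr; omega)
  have e6 := mul_le_mul_of_nonneg_right e5 (show (0 : ℤ) ≤ q ^ 5 by positivity)
  have e7 : (j : ℤ) ≤ 6 := by omega
  linarith [p 0, p 1, p 2, p 3, p 4, p 5, p 6, p 7, p 8, p 9, p 10, p 11]

/-- For the Chevalley group of type E₆ over a finite field with q elements (the group generated by the root elements), every irreducible complex representation of degree at least 2 has degree at least q(q⁶ + q³ + 1)(q⁴ + 1). -/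
theorem result {F : Type*} [Field F] [Fintype F] :
    (∀ (k : ℕ) (ρ : Representation ℂ (Cfsg.Lie.chevE6.group F) (Fin k → ℂ)), ρ.IsIrreducible → 2 ≤ k → Fintype.card F * (Fintype.card F ^ 6 + Fintype.card F ^ 3 + 1) * (Fintype.card F ^ 4 + 1) ≤ k) := by
  intro k ρ hρ hk
  rw [mul_assoc]
  exact arith Fintype.one_lt_card (by push_cast; ring) (H38.MD.untw (by simp)
    (fun h => by rcases h with h | h <;> exact absurd (congrArg (·.rank) h) (by decide)) ρ hρ hk (i := 0)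
    (w := [0, 0, 0, 0, 0, 0, 0, 0, 0, 0, 0, 0, 0, 0, 0, 0, 0, 0, 0, 0, 0, 0, 0, 0, 0, 0, 0, 0, 0, 0, 0, 0, 0, 0, 0, 0, 23, 24, 24, 25, 25, 25, 43, 42, 42, 42, 30, 33, 35, 36, 42, 42, 42, 43, 43, 44, 0, 0, 0, 0, 0, 0, 0, 0, 0, 0, 0, 22, 23, 24, 25, 46])
    (d := [0, 3, 1, 2, 3, 4]) (by decide +kernel) (by decide +kernel) rfl)

end Cfsg.Agent.S2340
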