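import Cfsg.Statements.S2468
import Cfsg.Agent.Lib.MatConj.PSLSpec

set_option autoImplicit false
open Cfsg

namespace Cfsg.Agent.S2468

open H65 Polynomial Module


/-- Adjacency of two odd primes in the prime graph of PSL(n,q): let F be a finite field of characteristic p with q elements, n ≥ 2 with PSL(n,F) simple, and let r ≠ s be odd primes different from p dividing the order of PSL(n,F). Let k and l be the multiplicative orders of q modulo r and modulo s, and suppose 2 ≤ k ≤ l. Then PSL(n,F) has NO element of order r·s if and only if k + l > n and k does not divide l. -/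
theorem result {F : Type*} [Field F] [Fintype F] (p : ℕ) [Fact p.Prime] [CharP F p] (n : ℕ) (hn : 2 ≤ n) (hsmall : n = 2 → 4 ≤ Fintype.card F)
    (r s : ℕ) (hr : r.Prime) (hs : s.Prime) (hr2 : r ≠ 2) (hs2 : s ≠ 2) (hrp : r ≠ p) (hsp : s ≠ p) (hrs : r ≠ s)
    (hrG : r ∣ Nat.card (Matrix.ProjectiveSpecialLinearGroup (Fin n) F)) (hsG : s ∣ Nat.card (Matrix.ProjectiveSpecialLinearGroup (Fin n) F))
    (k l : ℕ) (hk : k = orderOf ((Fintype.card F : ℕ) : ZMod r)) (hl : l = orderOf ((Fintype.card F : ℕ) : ZMod s))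
    (h2k : 2 ≤ k) (hkl : k ≤ l) :
    (r * s ∉ Set.range (orderOf : Matrix.ProjectiveSpecialLinearGroup (Fin n) F → ℕ)) ↔ (n < k + l ∧ ¬ k ∣ l) := by
  have hq := Fintype.card_pos (α := F)
  have hl' := exists_dvd_of_dvd_card_psl p hs hsp hsG
  rw [← hl, Fintype.card_fin] at hl'
  have hr' : ∀ d, r ∣ Fintype.card F ^ d - 1 ↔ k ∣ d := fun d => hk ▸ dvd_pow_sub_one_iff hq r d
  have hs' : ∀ d, s ∣ Fintype.card F ^ d - 1 ↔ l ∣ d := fun d => hl ▸ dvd_pow_sub_one_iff hq s d
  have hc : (r * s).Coprime (Fintype.card F - 1) := by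
    refine Nat.Coprime.mul_left ((Nat.Prime.coprime_iff_not_dvd hr).2 fun h => ?_)
      ((Nat.Prime.coprime_iff_not_dvd hs).2 fun h => ?_)
    · have := Nat.dvd_one.1 ((hr' 1).1 (by rwa [pow_one])); omega
    · have := Nat.dvd_one.1 ((hs' 1).1 (by rwa [pow_one])); omega
  have hrs' : r.Coprime s := (Nat.coprime_primes hr hs).2 hrs
  have : Nonempty (Fin n) := ⟨⟨0, by omega⟩⟩
  have h0 := Nat.mul_pos hr.pos hs.pos
  constructor
  · intro h
    refine ⟨Nat.lt_of_not_le fun h1 => h ?_, fun h1 => h ?_⟩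
    · obtain ⟨f, hf⟩ := exists_end_orderOf (F := F) (N := k) (by omega) le_rfl ((hr' k).2 dvd_rfl)
      obtain ⟨g, hg⟩ := exists_end_orderOf (F := F) (N := n - k) (by omega) (by omega)
        ((hs' l).2 dvd_rfl)
      have h2 := orderOf_prodMap f g
      rw [hf, hg, hrs'.lcm_eq_mul] at h2
      rw [← h2] at h0 hc ⊢
      exact exists_psl_orderOf_of_coprime _ (by simp; omega) h0 hc
    · obtain ⟨f, hf⟩ := exists_end_orderOf (F := F) (N := n) hl'.1 hl'.2
        (hrs'.mul_dvd_of_dvd_of_dvd ((hr' l).2 h1) ((hs' l).2 dvd_rfl))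
      rw [← hf] at h0 hc ⊢
      exact exists_psl_orderOf_of_coprime _ (by simp) h0 hc
  · rintro ⟨h1, h2⟩ ⟨x, hx⟩
    obtain ⟨x, rfl⟩ := QuotientGroup.mk_surjective x
    obtain ⟨t, π, e, h3, -, h4, h5, h6, h7⟩ := exists_model_unit (isUnit_toLin'_sl x)
    obtain ⟨i, hi⟩ := exists_dvd_natDegree p h3 h5 h7 hr hrp (hx ▸ dvd_mul_right r s)
    obtain ⟨j, hj⟩ := exists_dvd_natDegree p h3 h5 h7 hs hsp (hx ▸ dvd_mul_left s r)
    rw [hr'] at hi
    rw [hs'] at hj
    rw [finrank_fintype_fun_eq_card, Fintype.card_fin] at h6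
    have h8 : ∀ i, (π i).natDegree ≤ e i * (π i).natDegree := fun i =>
      Nat.le_mul_of_pos_left _ (h4 i)
    have h9 := Nat.le_of_dvd (h3 i).natDegree_pos hi
    by_cases hij : i = j
    · subst hij
      obtain ⟨c, hc⟩ := hj
      have h10 := (h8 i).trans (Finset.single_le_sum (f := fun i => e i * (π i).natDegree)
        (fun _ _ => Nat.zero_le _) (Finset.mem_univ i))
      have h11 := (h3 i).natDegree_pos
      rcases c with _ | _ | c
      · omega
      · exact h2 (by rwa [hc, zero_add, mul_one] at hi)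
      · rw [hc, h6] at h10; nlinarith
    · have h10 := add_le_sum_of_ne (fun i => e i * (π i).natDegree) hij
      have h11 := Nat.le_of_dvd (h3 j).natDegree_pos hj
      have := h8 i
      have := h8 j
      omega

end Cfsg.Agent.S2468
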