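import Cfsg.Statements.S2469
import Cfsg.Agent.Lib.MatConj.SpEig

set_option autoImplicit false
open Cfsg

namespace Cfsg.Agent.S2469

open H65


/-- Adjacency of two odd primes in the prime graph of PSp(2n,q): let F be a finite field of characteristic p with q elements, n ≥ 2 with PSp(2n,F) simple, and let r ≠ s be odd primes different from p dividing the order of PSp(2n,F). Let k, l be the multiplicative orders of q modulo r and s, put η(m) = m for odd m and η(m) = m/2 for even m, and suppose η(k) ≤ η(l). Then PSp(2n,F) has NO element of order r·s if and only if η(k) + η(l) > n and l/k is not an odd integer. -/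
theorem result {F : Type*} [Field F] [Fintype F] (p : ℕ) [Fact p.Prime] [CharP F p] (n : ℕ) (hn : 2 ≤ n) (hsmall : n = 2 → 3 ≤ Fintype.card F)
    (r s : ℕ) (hr : r.Prime) (hs : s.Prime) (hr2 : r ≠ 2) (hs2 : s ≠ 2) (hrp : r ≠ p) (hsp : s ≠ p) (hrs : r ≠ s)
    (hrG : r ∣ Nat.card (Cfsg.PSp n F)) (hsG : s ∣ Nat.card (Cfsg.PSp n F))
    (k l ηk ηl : ℕ) (hk : k = orderOf ((Fintype.card F : ℕ) : ZMod r)) (hl : l = orderOf ((Fintype.card F : ℕ) : ZMod s))
    (hηk : (Odd k ∧ ηk = k) ∨ (Even k ∧ 2 * ηk = k)) (hηl : (Odd l ∧ ηl = l) ∨ (Even l ∧ 2 * ηl = l)) (hkl : ηk ≤ ηl) :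
    (r * s ∉ Set.range (orderOf : Cfsg.PSp n F → ℕ)) ↔ (n < ηk + ηl ∧ ¬ ∃ t : ℕ, Odd t ∧ l = k * t) := by
  classical
  have hq := Fintype.card_pos (α := F)
  have h1 := eta_le_of_dvd_card_psp p hr hr2 hrp hrG hk hηk
  have h2 := eta_le_of_dvd_card_psp p hs hs2 hsp hsG hl hηl
  have hrs' : r.Coprime s := (Nat.coprime_primes hr hs).2 hrs
  have hodd : Odd (r * s) := (hr.odd_of_ne_two hr2).mul (hs.odd_of_ne_two hs2)
  have key : (∃ A : Matrix.symplecticGroup (Fin n) F, orderOf A = r * s) →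
      r * s ∈ Set.range (orderOf : Cfsg.PSp n F → ℕ) := fun ⟨A, hA⟩ =>
    ⟨A, (orderOf_psp_of_odd (by omega) (hA ▸ hodd)).trans hA⟩
  constructor
  · intro h
    refine ⟨Nat.lt_of_not_le fun h3 => h (key ?_), fun ⟨t, ht, h3⟩ => h (key ?_)⟩
    · obtain ⟨e, rfl⟩ := Nat.exists_eq_add_of_le h1.2
      obtain ⟨A, hA⟩ := exists_sp_orderOf h1.1 le_rfl (dvd_pow_eta hq hr hr2 hk hηk h1.1)
      obtain ⟨B, hB⟩ := exists_sp_orderOf (N := e) h2.1 (by omega) (dvd_pow_eta hq hs hs2 hl hηl h2.1)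
      obtain ⟨C, hC⟩ := exists_sp_orderOf_lcm A B
      exact ⟨C, by rw [hC, hA, hB, hrs'.lcm_eq_mul]⟩
    · refine exists_sp_orderOf h2.1 h2.2 ?_
      rcases hηl with ⟨-, rfl⟩ | ⟨h4, h5⟩
      · exact Or.inl (hrs'.mul_dvd_of_dvd_of_dvd
          ((dvd_pow_sub_one_iff hq _ _).2 (hk ▸ h3 ▸ dvd_mul_right _ _))
          ((dvd_pow_sub_one_iff hq _ _).2 (hl ▸ dvd_rfl)))
      · refine Or.inr (hrs'.mul_dvd_of_dvd_of_dvd ((dvd_pow_add_one_iff hq hr hr2).2 ?_)
          ((dvd_pow_add_one_iff hq hs hs2).2 ?_))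
        · rw [← hk, h5, h3]
          refine ⟨dvd_mul_right _ _, fun ⟨c, hc⟩ => ?_⟩
          rw [hc, h3, mul_left_comm, Nat.mul_right_inj (by omega)] at h5
          exact Nat.not_even_iff_odd.2 ht ⟨c, by omega⟩
        · rw [← hl, ← h5]
          exact ⟨dvd_rfl, fun h => by have := Nat.le_of_dvd h2.1 h; omega⟩
  · rintro ⟨h3, h4⟩ ⟨x, hx⟩
    obtain ⟨x, rfl⟩ := QuotientGroup.mk_surjective x
    have h5 : ∀ k, x.1 ^ k = 1 → r * s ∣ k := fun k hk =>
      hx ▸ orderOf_psp_dvd (c := 1) (by rw [hk, one_smul])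
    obtain ⟨α, hα, a1⟩ := exists_ev_of_prime_dvd (AlgebraicClosure F) p (det_sp_ne_zero x) hr hrp
      fun k hk => (dvd_mul_right r s).trans (h5 k hk)
    obtain ⟨β, hβ, b1⟩ := exists_ev_of_prime_dvd (AlgebraicClosure F) p (det_sp_ne_zero x) hs hsp
      fun k hk => (dvd_mul_left s r).trans (h5 k hk)
    obtain ⟨a, O, a2, a3, a4, a5, a6, a7⟩ := exists_orbit_ev (det_sp_ne_zero x) (ev_map_inv_sp x) hα
      (not_orderOf_dvd_two hr hr2 a1)
    obtain ⟨b, O', b2, b3, b4, b5, b6, b7⟩ := exists_orbit_ev (det_sp_ne_zero x) (ev_map_inv_sp x) hβ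
      (not_orderOf_dvd_two hs hs2 b1)
    have a8 := eta_dvd hηk (hk ▸ orderOf_dvd_two_mul hq (a4.imp a1.trans a1.trans))
    have b8 := eta_dvd hηl (hl ▸ orderOf_dvd_two_mul hq (b4.imp b1.trans b1.trans))
    have a9 := Nat.le_mul_of_pos_right O.card (Multiset.count_pos.2 hα)
    have b9 := Nat.le_mul_of_pos_right O'.card (Multiset.count_pos.2 hβ)
    by_cases hd : Disjoint O O'
    · have := card_mul_count_add_le a7 b7 hd
      rw [card_ev, Fintype.card_sum, Fintype.card_fin] at this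
      have := Nat.le_of_dvd a2 a8
      have := Nat.le_of_dvd b2 b8
      omega
    · obtain ⟨γ, c1, c2⟩ := Finset.not_disjoint_iff.1 hd
      have c3 := card_mul_count_le b7
      rw [card_ev, Fintype.card_sum, Fintype.card_fin] at c3
      rw [← a6 γ c1, b6 γ c2] at a1
      obtain ⟨c, hc⟩ := b8
      have c4 : b = ηl := by
        rcases c with _ | _ | c
        · omega
        · omega
        · nlinarith
      subst c4
      rcases b4 with h | h
      · have c5 := (dvd_pow_sub_one_iff hq _ _).1 (a1.trans h)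
        have c6 := Nat.le_of_dvd b2 ((dvd_pow_sub_one_iff hq _ _).1 (b1.trans h))
        rw [← hk] at c5
        rw [← hl] at c6
        obtain ⟨t, ht⟩ := c5
        rcases hηl with ⟨c7, rfl⟩ | ⟨-, c7⟩
        · exact h4 ⟨t, (Nat.odd_mul.1 (ht ▸ c7)).2, ht⟩
        · omega
      · obtain ⟨⟨t, ht⟩, c5⟩ := (dvd_pow_add_one_iff hq hr hr2).1 (a1.trans h)
        have c6 := ((dvd_pow_add_one_iff hq hs hs2).1 (b1.trans h)).2
        rw [← hk] at ht c5
        rw [← hl] at c6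
        rcases hηl with ⟨-, rfl⟩ | ⟨-, c7⟩
        · exact c6 dvd_rfl
        · refine h4 ⟨t, Nat.not_even_iff_odd.1 fun ⟨u, hu⟩ => c5 ⟨u, ?_⟩, c7 ▸ ht⟩
          rw [hu, mul_add] at ht
          omega

end Cfsg.Agent.S2469
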