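import Cfsg.Statements.S2470
import Cfsg.Agent.Lib.MatConj.PSLChar
import Cfsg.Agent.S2476

set_option autoImplicit false
open Cfsg

namespace Cfsg.Agent.S2470

open H65


/-- Adjacency of an odd prime and the characteristic in the prime graph of PSL(n,q): let F be a finite field of characteristic p with q elements, n ≥ 2 with PSL(n,F) simple, and let r ≠ p be an odd prime dividing the order of PSL(n,F), with k the multiplicative order of q modulo r. Then PSL(n,F) has NO element of order r·p if and only if either k > n − 2, or n = 3, r = 3 and 3 divides q − 1 exactly once. -/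
theorem result {F : Type*} [Field F] [Fintype F] (p : ℕ) [Fact p.Prime] [CharP F p] (n : ℕ) (hn : 2 ≤ n) (hsmall : n = 2 → 4 ≤ Fintype.card F)
    (r : ℕ) (hr : r.Prime) (hr2 : r ≠ 2) (hrp : r ≠ p) (hrG : r ∣ Nat.card (Matrix.ProjectiveSpecialLinearGroup (Fin n) F))
    (k : ℕ) (hk : k = orderOf ((Fintype.card F : ℕ) : ZMod r)) :
    (r * p ∉ Set.range (orderOf : Matrix.ProjectiveSpecialLinearGroup (Fin n) F → ℕ)) ↔
      (n - 2 < k ∨ (n = 3 ∧ r = 3 ∧ 3 ∣ Fintype.card F - 1 ∧ ¬ 9 ∣ Fintype.card F - 1)) := by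
  have hk0 := (exists_dvd_of_dvd_card_psl p hr hrp hrG).1
  rw [← hk] at hk0
  have hp : p.Prime := Fact.out
  have hq := Fintype.card_pos (α := F)
  have hpq : p ∣ Fintype.card F := Nat.card_eq_fintype_card (α := F) ▸ H10.char_dvd_card p
  constructor
  · intro h
    by_contra hc
    push Not at hc
    refine h ?_
    have h1 := (dvd_pow_sub_one_iff hq r k).2 (hk ▸ dvd_rfl)
    by_cases h3 : n = 3
    · subst h3
      rw [show k = 1 by omega, pow_one] at h1
      rw [Cfsg.Agent.S2476.result p]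
      refine Or.inr (Or.inr (Or.inr (Or.inl ?_)))
      rw [Nat.mul_div_assoc _ (Nat.gcd_dvd_right _ _), mul_comm]
      refine Nat.mul_dvd_mul_left _ ((Nat.dvd_div_iff_mul_dvd (Nat.gcd_dvd_right _ _)).2 ?_)
      by_cases h4 : r = 3
      · subst h4
        exact (Nat.mul_dvd_mul_right (Nat.gcd_dvd_left _ _) 3).trans (hc.2 rfl rfl h1)
      · exact (((Nat.coprime_primes Nat.prime_three hr).2 (Ne.symm h4)).coprime_dvd_left
          (Nat.gcd_dvd_left _ _)).mul_dvd_of_dvd_of_dvd (Nat.gcd_dvd_right _ _) h1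
    · obtain ⟨m, rfl⟩ := Nat.exists_eq_add_of_le' hn
      have := Fact.mk hr
      obtain ⟨g, hg⟩ := exists_prime_orderOf_dvd_card' r
        (h1.trans (pow_sub_one_dvd_card_sl (m := m) (by omega) hk0 (by omega)))
      obtain ⟨x, hx⟩ := exists_psl_orderOf_lcm p g
      exact ⟨x, by rw [hx, hg, ((Nat.coprime_primes hr hp).2 hrp).lcm_eq_mul]⟩
  · rintro (h | ⟨rfl, rfl, h1, h2⟩) h3
    · obtain ⟨x, hx⟩ := h3
      have := orderOf_add_two_le p hr hrp (hx ▸ dvd_mul_right r p) (hx ▸ dvd_mul_left p r)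
      rw [Fintype.card_fin] at this
      omega
    · rw [Cfsg.Agent.S2476.result p, Nat.gcd_eq_left h1] at h3
      have h4 : ∀ k, 0 < k → ¬ p ∣ Fintype.card F ^ k - 1 := fun k hk =>
        Nat.card_eq_fintype_card (α := F) ▸ H10.not_char_dvd_pow_sub_one p hk
      have h5 : ∀ N, 3 * p ∣ N / 3 → 3 ∣ N → p ∣ N := fun N h h' =>
        (dvd_mul_left p 3).trans (h.trans (Nat.div_dvd_of_dvd h'))
      obtain ⟨c, hc⟩ := h1
      have h6 : Fintype.card F = 3 * c + 1 := by omega
      rcases h3 with h | h | h | h | ⟨-, h⟩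
      · have h7 := h5 _ h ⟨3 * c ^ 2 + 3 * c + 1, by rw [h6]; ring⟩
        exact hp.one_lt.ne' (Nat.dvd_one.1 ((Nat.dvd_add_right
          (dvd_add (dvd_pow hpq two_ne_zero) hpq)).1 h7))
      · exact h4 2 two_pos (h5 _ h ⟨3 * c ^ 2 + 2 * c, by
          rw [h6, Nat.sub_eq_iff_eq_add (Nat.one_le_pow _ _ (by omega))]; ring⟩)
      · exact h4 1 one_pos ((dvd_mul_left p 3).trans (by rwa [pow_one]))
      · rw [hc, Nat.mul_div_assoc _ (dvd_mul_right 3 c), Nat.mul_div_cancel_left _ three_pos,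
          mul_comm, Nat.mul_dvd_mul_iff_left hp.pos] at h
        exact h2 (hc ▸ Nat.mul_dvd_mul_left 3 h)
      · exact absurd ((dvd_mul_right 3 p).trans h) (by norm_num)

end Cfsg.Agent.S2470
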