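import Cfsg.Statements.S2472
import Cfsg.Agent.Lib.MatConj.SpEig

set_option autoImplicit false
open Cfsg

namespace Cfsg.Agent.S2472

open H65


/-- Adjacency of a prime and the characteristic in the prime graph of PSp(2n,q): let F be a finite field of characteristic p with q elements, n ≥ 2 with PSp(2n,F) simple, and let r ≠ p be an odd prime dividing the order of PSp(2n,F), with k the multiplicative order of q modulo r and η(k) = k for odd k, k/2 for even k. Then PSp(2n,F) has NO element of order r·p if and only if η(k) > n − 1. -/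
theorem result {F : Type*} [Field F] [Fintype F] (p : ℕ) [Fact p.Prime] [CharP F p] (n : ℕ) (hn : 2 ≤ n) (hsmall : n = 2 → 3 ≤ Fintype.card F)
    (r : ℕ) (hr : r.Prime) (hr2 : r ≠ 2) (hrp : r ≠ p) (hrG : r ∣ Nat.card (Cfsg.PSp n F))
    (k ηk : ℕ) (hk : k = orderOf ((Fintype.card F : ℕ) : ZMod r)) (hηk : (Odd k ∧ ηk = k) ∨ (Even k ∧ 2 * ηk = k)) :
    (r * p ∉ Set.range (orderOf : Cfsg.PSp n F → ℕ)) ↔ n - 1 < ηk := by
  classical
  have hq := Fintype.card_pos (α := F)
  have h1 := eta_le_of_dvd_card_psp p hr hr2 hrp hrG hk hηk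
  have hp : p.Prime := Fact.out
  constructor
  · intro h
    refine Nat.lt_of_not_le fun h3 => h ?_
    obtain ⟨A, hA⟩ := exists_sp_orderOf h1.1 h3 (dvd_pow_eta hq hr hr2 hk hηk h1.1)
    have := finiteDimensional_adjoinRoot (F := F) (pow_ne_zero (2 * 1) Polynomial.X_ne_zero)
    have := nontrivial_adjoinRoot_X_pow (F := F) (e := 2 * 1) two_pos
    obtain ⟨x, hx⟩ := ((pres_symplectic A).prodMap (pres_cyc_even 1)).exists_psp (n := n) (by
      rw [Module.finrank_prod, finrank_adjoinRoot_X_pow]; simp; omega)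
    have hu : orderOf (cyc ((Polynomial.X : Polynomial F) ^ (2 * 1)) + 1) = p := by
      refine orderOf_eq_prime ?_ fun h => ?_
      · rw [← pow_one p, pow_char_pow_eq_one_iff (F := F), add_sub_cancel_right,
          cyc_X_pow_pow_eq_zero_iff, pow_one]
        exact hp.two_le
      · have := (cyc_X_pow_pow_eq_zero_iff (F := F) (2 * 1) 1).1 (by rw [pow_one]; simpa using h)
        omega
    refine ⟨x, eq_of_forall_dvd fun m => ?_⟩
    rw [← ((Nat.coprime_primes hr hp).2 hrp).lcm_eq_mul, orderOf_dvd_iff_pow_eq_one, hx,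
      Nat.lcm_dvd_iff, ← hu, ← hA, ← orderOf_toLin'_sp, orderOf_dvd_iff_pow_eq_one,
      orderOf_dvd_iff_pow_eq_one]
    simp only [prodMap_pow_eq_smul_iff]
    refine ⟨fun ⟨c, h4, h5⟩ => ?_, fun h => ⟨1, by simpa only [one_smul] using h⟩⟩
    rw [unipotent_pow_eq_smul (isNilpotent_cyc_add_one_sub_one _) h5, one_smul] at h4 h5
    exact ⟨h4, h5⟩
  · rintro h3 ⟨x, hx⟩
    obtain ⟨x, rfl⟩ := QuotientGroup.mk_surjective x
    have h5 : ∀ k, x.1 ^ k = 1 → r * p ∣ k := fun k hk =>
      hx ▸ orderOf_psp_dvd (c := 1) (by rw [hk, one_smul])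
    obtain ⟨α, hα, a1⟩ := exists_ev_of_prime_dvd (AlgebraicClosure F) p (det_sp_ne_zero x) hr hrp
      fun k hk => (dvd_mul_right r p).trans (h5 k hk)
    obtain ⟨β, hβ⟩ := exists_two_le_count_ev (AlgebraicClosure F) p (det_sp_ne_zero x)
      fun k hk => (dvd_mul_left p r).trans (h5 k hk)
    obtain ⟨a, O, a2, a3, a4, a5, a6, a7⟩ := exists_orbit_ev (det_sp_ne_zero x) (ev_map_inv_sp x) hα
      (not_orderOf_dvd_two hr hr2 a1)
    have a8 := Nat.le_of_dvd a2 (eta_dvd hηk (hk ▸ orderOf_dvd_two_mul hq (a4.imp a1.trans a1.trans)))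
    by_cases hd : β ∈ O
    · have := card_mul_count_le a7
      rw [card_ev, Fintype.card_sum, Fintype.card_fin, ← a7 β hd] at this
      have := Nat.mul_le_mul_left O.card hβ
      omega
    · have := card_mul_count_add_le a7 (O' := {β}) (fun γ hγ => by rw [Finset.mem_singleton.1 hγ])
        (Finset.disjoint_singleton_right.2 hd)
      rw [card_ev, Fintype.card_sum, Fintype.card_fin, Finset.card_singleton] at this
      have := Nat.le_mul_of_pos_right O.card (Multiset.count_pos.2 hα)
      omega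

end Cfsg.Agent.S2472
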