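import Cfsg.Statements.S2509
import Cfsg.Agent.Lib.SpPron.Main

set_option autoImplicit false
open Cfsg

namespace Cfsg.Agent.S2509


/-- Let G be a finite direct product of groups PSp_{2m_i}(F_i) (the symplectic group on a 2m_i-dimensional space modulo its centre), where each m_i is a power of 2 (m_i = 1, giving PSL₂, is allowed), each F_i is a finite field of odd order, and each factor PSp_{2m_i}(F_i) is a simple group. Then every subgroup H of G of odd index is pronormal in G: for every g ∈ G the subgroups H and gHg⁻¹ are conjugate by an element of the subgroup they generate. -/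
theorem result {t : ℕ}
    (m : Fin t → ℕ) (F : Fin t → Type*) [∀ i, Field (F i)] [∀ i, Fintype (F i)]
    (hm : ∀ i, ∃ k : ℕ, m i = 2 ^ k) (hodd : ∀ i, Odd (Fintype.card (F i)))
    (hs : ∀ i, IsSimpleGroup (Cfsg.PSp (m i) (F i)))
    (H : Subgroup (Π i, Cfsg.PSp (m i) (F i))) (hH : Odd H.index) : Cfsg.IsPronormal H := by
  choose k hk using hm
  have h1 : ∀ i, Odd (Nat.card (F i)) := fun i => by rw [Nat.card_eq_fintype_card]; exact hodd i
  have : ∀ i, NeZero (2 : F i) := fun i => ⟨H10.two_ne_zero_of_odd_card (h1 i)⟩
  obtain rfl : m = fun i => 2 ^ k i := funext hk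
  choose S hS using fun i => H82.SpP.exists_pn (h1 i) (k i)
  have e := fun i => (H82.SpP.exists_equiv (F := F i) (2 ^ k i)).some
  let f : (Π i, H82.SpP.UM (Fin (2 ^ k i)) (F i)) →* Π i, Cfsg.PSp (2 ^ k i) (F i) :=
    MonoidHom.pi fun i => ((QuotientGroup.mk' _).comp (e i).toMonoidHom).comp (Pi.evalMonoidHom _ i)
  have hf : Function.Surjective f := fun x => by
    choose y hy using fun i => ((QuotientGroup.mk'_surjective _).comp (e i).surjective) (x i)
    exact ⟨y, funext hy⟩
  exact H82.pronormal_of_comap hf (H82.SpP.pronormal_pi hS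
    (by rwa [Subgroup.index_comap_of_surjective _ hf]))

end Cfsg.Agent.S2509
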