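import Cfsg.Statements.S2511
import Cfsg.Agent.Lib.MatConj.SUSpec
import Cfsg.Agent.Lib.Unitary.Order

set_option autoImplicit false
open Cfsg

namespace Cfsg.Agent.S2511

open H65 H66 Polynomial Module

theorem lt_of_lt_clog {p k j : ℕ} (hp : 1 < p) (h : j < Nat.clog p k) : p ^ j < k := by
  by_contra h1
  exact h.not_ge ((Nat.clog_le_iff_le_pow hp).mpr (not_lt.mp h1))

theorem psu_mk_pow_eq_one_iff {F : Type*} [Field F] [Fintype F] {n q : ℕ}
    (hF : Fintype.card F = q ^ 2) (hn : 2 ≤ n) (A : Cfsg.SU n F q) (k : ℕ) :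
    (A : Cfsg.PSU n F q) ^ k = 1 ↔ ∃ c : F, (A.1.1 : Matrix (Fin n) (Fin n) F) ^ k = c • 1 := by
  have : H11.U.IsSq F q := ⟨hF⟩
  rw [← QuotientGroup.mk_pow, QuotientGroup.eq_one_iff, H11.U.mem_center_SU_iff hn]
  rfl

theorem pow_dvd_of_regular {F : Type*} [Field F] (p : ℕ) [Fact p.Prime] [CharP F p] {m : ℕ}
    (hm : 0 < m) {u : Matrix (Fin m) (Fin m) F}
    (hu : Similar (Matrix.toLin' u - 1) (nilModel F fun _ : Fin 1 => m)) {k : ℕ} {c : F}
    (h : u ^ k = c • 1) : c = 1 ∧ ∀ J, (∀ j < J, p ^ j < m) → p ^ J ∣ k := by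
  have h1 : Similar (Matrix.toLin' u) (cyc ((X : F[X]) ^ m) + 1) := by
    simpa using (hu.trans (similar_cyc_nilModel_one m).symm).add_one
  rw [← toLin'_eq_smul_one_iff, toLin'_pow', (h1.pow k).eq_smul_one_iff] at h
  have := nontrivial_adjoinRoot_X_pow (F := F) hm
  obtain rfl := unipotent_pow_eq_smul (isNilpotent_cyc_add_one_sub_one _) h
  exact ⟨rfl, fun J hJ => pow_dvd_of_cyc_pow_eq_one p hJ (h.trans (one_smul _ _))⟩


/-- Let F be a finite field with q² elements, q = p^a, n ≥ 3 with (n, q) ≠ (3, 2), L = PSU(n, q) realised over F, and let r be a prime dividing q + 1 and not dividing n. Then for every m the direct product L × L × L × (ℤ/r)^m has the same set of element orders as L × L × L; and if n − 1 is not a power of p, then already L × L × (ℤ/r)^m has the same set of element orders as L × L. -/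
theorem result {F : Type*} [Field F] [Fintype F] (p a n q r m : ℕ) (hp : p.Prime) (ha : 1 ≤ a) (hq : q = p ^ a) (hF : Fintype.card F = q ^ 2)
    (hn : 3 ≤ n) (hn3 : ¬ (n = 3 ∧ q = 2)) (hr : r.Prime) (hrq : r ∣ q + 1) (hrn : ¬ r ∣ n) :
    Set.range (orderOf : Cfsg.PSU n F q × Cfsg.PSU n F q × Cfsg.PSU n F q × Multiplicative (Fin m → ZMod r) → ℕ) = Set.range (orderOf : Cfsg.PSU n F q × Cfsg.PSU n F q × Cfsg.PSU n F q → ℕ) ∧
    ((¬ ∃ j : ℕ, n - 1 = p ^ j) →
      Set.range (orderOf : Cfsg.PSU n F q × Cfsg.PSU n F q × Multiplicative (Fin m → ZMod r) → ℕ) = Set.range (orderOf : Cfsg.PSU n F q × Cfsg.PSU n F q → ℕ)) := by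
  classical
  have := Fact.mk hp
  have := Fact.mk hr
  have hpq : p ∣ q := hq ▸ dvd_pow_self p (by omega)
  have : CharP F p := by
    obtain ⟨p', hp'⟩ := CharP.exists F
    obtain ⟨k, hk1, hk2⟩ := FiniteField.card F p'
    have : p = p' := (Nat.prime_dvd_prime_iff_eq hp hk1).mp
      (hp.dvd_of_dvd_pow (hk2 ▸ hF ▸ dvd_pow hpq two_ne_zero))
    exact this ▸ hp'
  have : Nonempty (Fin n) := ⟨⟨0, by omega⟩⟩
  obtain ⟨σ, hσ, hσσ, hne⟩ := exists_conjHom hF
  have hq1 : 1 ≤ q := hq ▸ Nat.one_le_pow _ _ hp.pos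
  obtain ⟨l, hl⟩ : ∃ l : F, orderOf l = r := by
    obtain ⟨l, hl⟩ := exists_prime_orderOf_dvd_card (G := Fˣ) r (by
      rw [Fintype.card_units, hF, show q ^ 2 - 1 = (q + 1) * (q - 1) by
        rw [← Nat.sq_sub_sq, one_pow]]
      exact hrq.mul_right _)
    exact ⟨l, by rwa [orderOf_units]⟩
  have hlr : ∀ k, l ^ k = 1 ↔ r ∣ k := fun k => by rw [← hl, orderOf_dvd_iff_pow_eq_one]
  have hl0 : l ≠ 0 := by
    rintro rfl
    rw [orderOf_zero] at hl
    exact hr.ne_zero hl.symm
  have hlσ : ∀ k, σ (l ^ k) * l ^ k = 1 := fun k => by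
    rw [hσ, ← pow_succ, ← pow_mul, hlr]
    exact hrq.mul_left _
  have mkSU : ∀ A : Matrix (Fin n) (Fin n) F, cstar σ A * A = 1 → A.det = 1 →
      ∃ x : Cfsg.SU n F q, x.1.1 = A := fun A h1 h2 => ⟨⟨⟨A, h2⟩, (mem_SU_iff hσ _).mpr h1⟩, rfl⟩
  have hpow := psu_mk_pow_eq_one_iff hF (n := n) (by omega)
  set M := (∑ i ∈ Finset.range n, (-q : ℤ) ^ i).natAbs with hM
  have hMq : M * (q + 1) = q ^ n - 1 ∨ M * (q + 1) = q ^ n + 1 :=
    (Nat.even_or_odd n).imp (natAbs_geom_sum_of_even hq1) natAbs_geom_sum_of_odd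
  have hqn : 1 < q ^ n := Nat.one_lt_pow (by omega) (hp.one_lt.trans_le (Nat.le_of_dvd hq1 hpq))
  have hM0 : 0 < M := by
    rcases Nat.eq_zero_or_pos M with h | h
    · rw [h] at hMq; omega
    · exact h
  set N := M / M.gcd (q + 1)
  have h1 : ∀ x : Cfsg.PSU n F q, (∃ x' : Cfsg.PSU n F q,
      orderOf x ∣ orderOf x' ∧ r ∣ orderOf x') ∨ orderOf x ∣ N * p ^ Nat.clog p n := by
    intro x
    obtain ⟨g, rfl⟩ := QuotientGroup.mk_surjective x
    rcases unitary_dichotomy hq hF hσ hσσ ((mem_SU_iff hσ _).mp g.2) g.1.2 (N := N)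
      (by simpa using dvd_div_gcd_mul M _) with ⟨e, he, he0, he1, he', hge⟩ | ⟨c, hc⟩
    · left
      obtain ⟨s, t, hst, hdet⟩ := det_smul_idem he
      have hmul : ∀ x y x' y' : F, (x • e + y • (1 - e)) * (x' • e + y' • (1 - e)) =
          (x * x') • e + (y * y') • (1 - e) := fun x y x' y' => by
        simp only [mul_add, add_mul, smul_mul_smul_comm, mul_sub, sub_mul, mul_one, one_mul, he,
          sub_self, smul_zero, add_zero, zero_add, sub_zero]
      have hpw : ∀ (x y : F) (k : ℕ), (x • e + y • (1 - e)) ^ k = x ^ k • e + y ^ k • (1 - e) := by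
        intro x y k
        induction k with
        | zero => simp
        | succ k ih => rw [pow_succ, ih, hmul, pow_succ, pow_succ]
      have hrs : (r - 1) * s + s = r * s := by
        obtain ⟨r', rfl⟩ : ∃ r', r = r' + 1 := ⟨r - 1, by have := hr.pos; omega⟩
        simp only [Nat.add_sub_cancel]; ring
      obtain ⟨z, hz⟩ := mkSU (l ^ t • e + l ^ ((r - 1) * s) • (1 - e)) (by
        rw [map_add, cstar_smul, cstar_smul, map_sub, cstar_one, he', hmul, hlσ, hlσ]
        simp) (by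
        rw [hdet, ← pow_mul, ← pow_mul, ← pow_add, hlr, mul_comm t, ← add_mul, add_comm, hrs]
        exact (dvd_mul_right _ _).mul_right _)
      refine exists_dvd_orderOf_of_commute hr (z := (z : Cfsg.PSU n F q))
        (orderOf_eq_prime ((hpow _ _).mpr ⟨1, ?_⟩) fun h => ?_)
        (Commute.map ?_ (QuotientGroup.mk' _))
      · rw [hz, hpw, ← pow_mul, ← pow_mul, (hlr _).mpr (dvd_mul_left _ _),
          (hlr _).mpr (dvd_mul_left _ _)]
        simp
      · obtain ⟨c, hc⟩ := (hpow z 1).mp (by rw [h, one_pow])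
        rw [pow_one, hz] at hc
        have h2 := congrArg (· * e) hc
        have h3 := congrArg (· * (1 - e)) hc
        simp only [add_mul, smul_mul_assoc, mul_sub, sub_mul, mul_one, one_mul, he, sub_self,
          smul_zero, add_zero] at h2 h3
        have h4 : l ^ t = c := smul_left_injective F he0 h2
        have h5 : l ^ ((r - 1) * s) = c := smul_left_injective F (sub_ne_zero.mpr he1.symm) (by
          simp only [smul_sub]
          linear_combination (norm := module) h3)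
        apply hrn
        rw [← hlr, ← Fintype.card_fin n, ← hst, pow_add, h4, ← h5, ← pow_add, add_comm, hrs, hlr]
        exact dvd_mul_right _ _
      · apply Subtype.ext
        apply Subtype.ext
        change g.1.1 * z.1.1 = z.1.1 * g.1.1
        rw [hz]
        exact ((hge.smul_right _).add_right
          (((Commute.one_right _).sub_right hge).smul_right _)).eq
    · right
      apply orderOf_dvd_of_pow_eq_one
      rw [hpow]
      have h2 := pow_mul_pow_eq_smul_of_isNilpotent p hc (J := Nat.clog p n)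
        (by simpa using Nat.le_pow_clog hp.one_lt n)
      exact ⟨_, by rwa [← toLin'_pow', toLin'_eq_smul_one_iff] at h2⟩
  have hNP : N.Coprime (p ^ Nat.clog p n) := by
    refine Nat.Coprime.pow_right _ (Nat.Coprime.coprime_dvd_left
      ((Nat.div_dvd_of_dvd (Nat.gcd_dvd_left _ _)).mul_right (q + 1)) ?_)
    have h5 : p ∣ q ^ n := dvd_pow hpq (by omega)
    rw [Nat.coprime_comm, hp.coprime_iff_not_dvd]
    intro h7
    apply hp.not_dvd_one
    rcases hMq with h | h <;> rw [h] at h7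
    · simpa [Nat.sub_sub_self hqn.le] using Nat.dvd_sub h5 h7
    · exact (Nat.dvd_add_right h5).mp h7
  have hs : ∃ s : Cfsg.PSU n F q, N ∣ orderOf s := by
    obtain ⟨s, h2, h3, h4⟩ := exists_unitary_singer (n := Fin n) hq hF hσ hσσ hne
    obtain ⟨s, rfl⟩ := mkSU s h2 h3
    obtain ⟨c, hc⟩ := (hpow s _).mp (pow_orderOf_eq_one _)
    exact ⟨s, dvd_of_dvd_mul_div_gcd hM0 (by simpa using h4 _ c hc)⟩
  have hu : ∃ u : Cfsg.PSU n F q, r ∣ orderOf u ∧
      ∀ J, (∀ j < J, p ^ j < n - 1) → p ^ J ∣ orderOf u := by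
    obtain ⟨n', rfl⟩ : ∃ n', n = n' + 1 := ⟨n - 1, by omega⟩
    obtain ⟨u, hu, hu'⟩ := exists_unitary_unipotent (n := Fin n') hσσ hne (fun _ : Fin 1 => n')
      (by simp)
    have hrs : (r - 1) * n' + n' = r * n' := by
      obtain ⟨r', rfl⟩ : ∃ r', r = r' + 1 := ⟨r - 1, by have := hr.pos; omega⟩
      simp only [Nat.add_sub_cancel]; ring
    let A := Matrix.fromBlocks (l • u) 0 0 (l ^ ((r - 1) * n') • (1 : Matrix (Fin 1) (Fin 1) F))
    obtain ⟨x, hx⟩ := mkSU (Matrix.reindexAlgEquiv F F finSumFinEquiv A) (by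
      have h2 : cstar σ (Matrix.reindexAlgEquiv F F finSumFinEquiv A) =
        Matrix.reindexAlgEquiv F F finSumFinEquiv (Matrix.fromBlocks (cstar σ (l • u)) 0 0
          (cstar σ (l ^ ((r - 1) * n') • (1 : Matrix (Fin 1) (Fin 1) F)))) := by
        change Matrix.reindexAlgEquiv F F finSumFinEquiv (cstar σ A) = _
        congr 1
        simp [A, cstar_apply, Matrix.fromBlocks_map, Matrix.fromBlocks_transpose]
      have h3 := hlσ 1
      rw [pow_one] at h3
      rw [h2, ← map_mul, Matrix.fromBlocks_multiply, cstar_smul, cstar_smul, cstar_one,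
        smul_mul_smul_comm, smul_mul_smul_comm, hu, h3, hlσ]
      simp) (by
      rw [Matrix.det_reindexAlgEquiv, Matrix.det_fromBlocks_zero₂₁, Matrix.det_smul,
        det_eq_one_of_unipotent (isNilpotent_of_similar_nilModel hu')]
      simp only [Fintype.card_fin, mul_one, Matrix.det_smul, Matrix.det_one, pow_one]
      rw [← pow_add, add_comm, hrs, hlr]
      exact dvd_mul_right _ _)
    obtain ⟨c, hc⟩ := (hpow x _).mp (pow_orderOf_eq_one _)
    refine ⟨x, ?_⟩
    generalize orderOf (x : Cfsg.PSU (n' + 1) F q) = k at hc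
    rw [hx, ← map_pow, ← map_one (Matrix.reindexAlgEquiv F F finSumFinEquiv), ← map_smul,
      (Matrix.reindexAlgEquiv F F finSumFinEquiv).injective.eq_iff, Matrix.fromBlocks_diagonal_pow,
      ← Matrix.fromBlocks_one, Matrix.fromBlocks_smul, Matrix.fromBlocks_inj] at hc
    obtain ⟨h2, -, -, h3⟩ := hc
    have h4 : u ^ k = ((l ^ k)⁻¹ * c) • 1 := by
      rw [mul_smul, ← h2, _root_.smul_pow, inv_smul_smul₀ (pow_ne_zero _ hl0)]
    obtain ⟨h5, h6⟩ := pow_dvd_of_regular p (by omega) hu' h4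
    refine ⟨?_, h6⟩
    have h7 : (l ^ ((r - 1) * n')) ^ k = c := by simpa [_root_.smul_pow] using congrFun (congrFun h3 0) 0
    rw [inv_mul_eq_one₀ (pow_ne_zero _ hl0), ← h7] at h5
    refine (hr.dvd_mul.mp ((hlr ((n' + 1) * k)).mp ?_)).resolve_left hrn
    rw [add_mul, one_mul, pow_add, h5, ← pow_mul, ← pow_add, ← add_mul, add_comm, hrs, hlr]
    exact (dvd_mul_right _ _).mul_right _
  obtain ⟨u, hu, hu'⟩ := hu
  refine ⟨spec_cube (multiplicative_zmod_pow_eq_one m r) _ _ h1 hNP hs ?_ ⟨u, hu⟩,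
    fun hj => spec_square (multiplicative_zmod_pow_eq_one m r) _ _ h1 hNP hs
      ⟨u, hu' _ fun j hj' => ?_, hu⟩⟩
  · obtain ⟨v, hv, hv'⟩ := exists_unitary_unipotent (n := Fin n) hσσ hne (fun _ : Fin 1 => n)
      (by simp)
    obtain ⟨v, rfl⟩ := mkSU v hv (det_eq_one_of_unipotent (isNilpotent_of_similar_nilModel hv'))
    obtain ⟨c, hc⟩ := (hpow v _).mp (pow_orderOf_eq_one _)
    exact ⟨v, (pow_dvd_of_regular p (by omega) hv' hc).2 _ fun j hj => lt_of_lt_clog hp.one_lt hj⟩
  · have h3 := lt_of_lt_clog hp.one_lt hj'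
    have h4 : n - 1 ≠ p ^ j := fun h => hj ⟨j, h⟩
    omega

end Cfsg.Agent.S2511
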