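import Cfsg.Statements.S2518
import Cfsg.Agent.Lib.LieSpec.G2
import Cfsg.Agent.S2475

set_option autoImplicit false
open Cfsg

namespace Cfsg.Agent.S2518

/-- Let F₃ be the field with 3 elements and F₁₃ the field with 13 elements. The Chevalley group G₂(F₃) and PSL(2, F₁₃) have the same prime graph: the same prime divisors of their orders, and for distinct primes r, s an element of order rs in one iff in the other. -/
theorem result {F : Type*} [Field F] [Fintype F] (hF : Fintype.card F = 3) {E : Type*} [Field E] [Fintype E] (hE : Fintype.card E = 13) :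
    ((∀ r : ℕ, r.Prime → (r ∣ Nat.card ↥(Cfsg.Lie.chevG2.group F) ↔ r ∣ Nat.card (Matrix.ProjectiveSpecialLinearGroup (Fin 2) E))) ∧
      (∀ r s : ℕ, r.Prime → s.Prime → r ≠ s → ((∃ x : ↥(Cfsg.Lie.chevG2.group F), orderOf x = r * s) ↔ (∃ y : (Matrix.ProjectiveSpecialLinearGroup (Fin 2) E), orderOf y = r * s)))) := by
  have h3 : Fintype.card F = 3 ^ 1 := hF
  have := Fact.mk (show Nat.Prime 13 by norm_num)
  have : CharP E 13 := charP_of_card_eq_prime hE
  have : Finite (Cfsg.Lie.chevG2.group F) := inferInstance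
  have key : ∀ m, Squarefree m → ((∃ x : Cfsg.Lie.chevG2.group F, orderOf x = m) ↔
      ∃ y : Matrix.ProjectiveSpecialLinearGroup (Fin 2) E, orderOf y = m) := fun m hm => by
    have h := Set.ext_iff.1 (Cfsg.Agent.S2475.result (F := E) 13 (by omega)) m
    rw [hE] at h
    refine Iff.trans ?_ h.symm
    change _ ↔ m ∣ 13 ∨ m ∣ 6 ∨ m ∣ 7
    constructor
    · rintro ⟨g, rfl⟩
      have h4 : ¬ 2 * 2 ∣ orderOf g := fun h => by simpa using hm 2 h
      have h9 : ¬ 3 * 3 ∣ orderOf g := fun h => by simpa using hm 3 h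
      have := H61.g2_orderOf_dvd Nat.prime_three le_rfl h3 g
      generalize orderOf g = m at *
      have : m ≤ 13 := by
        rcases this with h | h | h | h | h | ⟨h, -⟩ | ⟨-, h⟩ <;>
          first | omega | exact (Nat.le_of_dvd (by norm_num) h).trans (by norm_num)
      interval_cases m <;> simp_all
    · obtain ⟨⟨a, ha⟩, -, -, ⟨b, hb⟩, c, hc⟩ := H61.g2_mem Nat.prime_three le_rfl h3
      have e : ∀ x : Cfsg.Lie.chevG2.group F, m ∣ orderOf x → ∃ y : Cfsg.Lie.chevG2.group F,
        orderOf y = m := fun x h => ⟨_, orderOf_pow_orderOf_div (orderOf_pos x).ne' h⟩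
      rintro (h | h | h)
      exacts [e b (hb ▸ h), e a (ha ▸ h.trans (by norm_num)), e c (hc ▸ h)]
  refine ⟨fun r hr => ?_, fun r s hr hs hrs => key _ ((Nat.squarefree_mul
    ((Nat.coprime_primes hr hs).2 hrs)).2 ⟨hr.squarefree, hs.squarefree⟩)⟩
  have := Fact.mk hr
  constructor <;> intro h
  · obtain ⟨y, rfl⟩ := (key r hr.squarefree).1 (exists_prime_orderOf_dvd_card' r h)
    exact orderOf_dvd_natCard y
  · obtain ⟨y, rfl⟩ := (key r hr.squarefree).2 (exists_prime_orderOf_dvd_card' r h)
    exact orderOf_dvd_natCard y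

end Cfsg.Agent.S2518
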