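import Cfsg.Statements.S2530
import Mathlib
import Cfsg.Agent.Lib.ThreeTrans.Basic
import Cfsg.Agent.Lib.ThreeTrans.SymHom

set_option autoImplicit false
open Cfsg

namespace Cfsg.Agent.S2530

/-- The Coxeter presentation of the symmetric group: for every n, the symmetric group on n+1 letters is the Coxeter group of type A_n with the adjacent transpositions (i, i+1) as simple reflections; that is, it is presented by generators r_1, …, r_n subject to r_i² = 1, (r_i r_j)² = 1 for |i − j| > 1 and (r_i r_{i+1})³ = 1, with r_i mapping to (i, i+1). -/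
theorem result (n : ℕ) :
    ∃ cs : CoxeterSystem (CoxeterMatrix.A n) (Equiv.Perm (Fin (n + 1))), ∀ i : Fin n, cs.simple i = Equiv.swap i.castSucc i.succ := by
  let M := CoxeterMatrix.A n
  let cs := M.toCoxeterSystem
  have hM : ∀ i j : Fin n, M i j = if i = j then 1
      else (if (j : ℕ) + 1 = i ∨ (i : ℕ) + 1 = j then 3 else 2) := fun i j => rfl
  have hsq : ∀ i : Fin n, cs.simple i * cs.simple i = 1 := cs.simple_mul_simple_self
  have hC : H94.CoxA (fun i => if h : i < n then cs.simple ⟨i, h⟩ else 1) n := by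
    refine ⟨fun i hi => ?_, fun i hi => ?_, fun i j h1 h2 => ?_⟩
    · simp only [dif_pos hi, hsq]
    · have hi' : i < n := by omega
      simp only [dif_pos hi, dif_pos hi']
      have := cs.simple_mul_simple_pow ⟨i, hi'⟩ ⟨i + 1, hi⟩
      rw [hM, if_neg (by simp), if_pos (by simp)] at this
      exact (H94.braid_iff_cube (hsq _) (hsq _)).2 this
    · have hi' : i < n := by omega
      simp only [dif_pos h2, dif_pos hi']
      have := cs.simple_mul_simple_pow ⟨i, hi'⟩ ⟨j, h2⟩
      rw [hM, if_neg (by simp; omega), if_neg (by simp; omega)] at this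
      exact (H94.commute_iff_sq (hsq _) (hsq _)).2 this
  obtain ⟨φ, hφ⟩ := hC.exists_hom
  have hφ' : ∀ i : Fin n, φ (Equiv.swap i.castSucc i.succ) = cs.simple i := fun i => by
    rw [hφ i]; simp only [dif_pos i.2]
  have hl : M.IsLiftable (fun i : Fin n => (Equiv.swap i.castSucc i.succ : Equiv.Perm (Fin (n + 1)))) := by
    intro i j
    rw [hM]
    split_ifs with h1 h2
    · subst h1; simp
    · refine (H94.braid_iff_cube (Equiv.swap_mul_self _ _) (Equiv.swap_mul_self _ _)).1 ?_
      have key : ∀ i j : Fin n, (i : ℕ) + 1 = j →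
          Equiv.swap i.castSucc i.succ * Equiv.swap j.castSucc j.succ * Equiv.swap i.castSucc i.succ =
          Equiv.swap j.castSucc j.succ * Equiv.swap i.castSucc i.succ * Equiv.swap j.castSucc j.succ := by
        intro i j h
        have e : j.castSucc = i.succ := Fin.ext (by simp; omega)
        rw [e]
        have n1 : i.castSucc ≠ i.succ := by simp [Fin.ext_iff]
        have n2 : i.castSucc ≠ j.succ := by simp [Fin.ext_iff]; omega
        have n3 : j.succ ≠ i.succ := by simp [Fin.ext_iff]; omega
        have h1 := Equiv.swap_mul_swap_mul_swap (x := j.succ) (y := i.succ) (z := i.castSucc) n3 n2.symm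
        have h2 := Equiv.swap_mul_swap_mul_swap (x := i.castSucc) (y := i.succ) (z := j.succ) n1 n2
        rw [Equiv.swap_comm i.succ i.castSucc, Equiv.swap_comm j.succ i.succ] at h1
        rw [h1, h2, Equiv.swap_comm]
      rcases h2 with h2 | h2
      · exact (key j i h2).symm
      · exact key i j h2
    · refine (H94.commute_iff_sq (Equiv.swap_mul_self _ _) (Equiv.swap_mul_self _ _)).1 ?_
      apply Equiv.Perm.Disjoint.commute
      apply Equiv.Perm.disjoint_swap_swap
      have h1' : (i : ℕ) ≠ j := fun h => h1 (Fin.ext h)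
      simp [Fin.ext_iff]; omega
  let ψ := cs.lift ⟨_, hl⟩
  have hψ : ∀ i, ψ (cs.simple i) = Equiv.swap i.castSucc i.succ := cs.lift_apply_simple hl
  have h1 : ψ.comp φ = MonoidHom.id _ :=
    MonoidHom.eq_of_eqOn_denseM (Equiv.Perm.mclosure_swap_castSucc_succ n) (by
      rintro _ ⟨i, rfl⟩; simp [hφ', hψ])
  have h2 : φ.comp ψ = MonoidHom.id _ := cs.ext_simple fun i => by simp [hφ', hψ]
  let e : Equiv.Perm (Fin (n + 1)) ≃* M.Group := MonoidHom.toMulEquiv φ ψ h1 h2
  refine ⟨⟨e⟩, fun i => ?_⟩
  exact hψ i

end Cfsg.Agent.S2530
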