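import Cfsg.Statements.S2553
import Cfsg.Agent.Lib.H81.SubA8
import Cfsg.Agent.S0256
import Cfsg.Agent.S0255
import Cfsg.Agent.S0495
import Cfsg.Agent.Lib.Core.PCore

set_option autoImplicit false
open Cfsg

namespace Cfsg.Agent.S2553


/-- Let H be a nontrivial subgroup of GL(4,2) (a group isomorphic to the alternating group of degree 8) whose largest normal 2-subgroup and largest normal subgroup of odd order are both trivial. Then H is isomorphic to an alternating group of degree n for some 5 ≤ n ≤ 8, to the symmetric group of degree 5 or 6, or to GL(3,2). -/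
theorem result (H : Subgroup (GL (Fin 4) (ZMod 2))) (hH : H ≠ ⊥) (hO : Cfsg.pPrimeCore 2 ↥H = ⊥) (hO2 : Cfsg.pCore 2 ↥H = ⊥) :
    (∃ n : ℕ, 5 ≤ n ∧ n ≤ 8 ∧ Nonempty (↥H ≃* alternatingGroup (Fin n))) ∨
    Nonempty (↥H ≃* Equiv.Perm (Fin 5)) ∨ Nonempty (↥H ≃* Equiv.Perm (Fin 6)) ∨ Nonempty (↥H ≃* GL (Fin 3) (ZMod 2)) := by
  obtain ⟨e1⟩ := H81.A8.nonempty_GL_equiv 4 (by norm_num)
  obtain ⟨e2⟩ := Cfsg.Agent.S0256.result (F := ZMod 2) (by simp)
  haveI : Nontrivial H := (Subgroup.nontrivial_iff_ne_bot H).2 hH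
  have hsol : ∀ K : Subgroup H, K.Normal → Group.IsSolvable K → K = ⊥ := by
    intro K hK hs
    by_contra hne
    obtain ⟨N, hN, -, -, p, hp, -, -, hpg⟩ := H3.exists_normal_elementary_le K hne hs
    haveI := hN.1
    haveI := Fact.mk hp
    apply hN.2
    by_cases h2 : p = 2
    · subst h2
      exact eq_bot_iff.2 (hO2 ▸ H1.le_pCore hpg)
    · obtain ⟨k, hk⟩ := hpg.exists_card_eq
      refine eq_bot_iff.2 (hO ▸ H1.le_pPrimeCore ?_)
      rw [hk]
      exact ((Nat.coprime_primes hp Nat.prime_two).2 h2).pow_left _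
  rcases H81.A8.classify ((e1.trans e2).toMonoidHom.comp H.subtype)
    ((e1.trans e2).injective.comp H.subtype_injective) hsol with h | h | h | ⟨h, h'⟩
  · exact Or.inl h
  · exact Or.inr (Or.inl h)
  · exact Or.inr (Or.inr (Or.inl h))
  · haveI : Fact (Nat.Prime 7) := ⟨by norm_num⟩
    obtain ⟨e3⟩ := Cfsg.Agent.S0495.result h' (F := ZMod 7) (by simp)
    obtain ⟨e4⟩ := Cfsg.Agent.S0255.result (F := ZMod 7) (K := ZMod 2) (by simp) (by simp)
    obtain ⟨e5⟩ := H81.A8.nonempty_GL_equiv 3 (by norm_num)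
    exact Or.inr (Or.inr (Or.inr ⟨(e3.trans e4).trans e5.symm⟩))

end Cfsg.Agent.S2553
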