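import Mathlib
import Cfsg.Statements.S2648
import Cfsg.Agent.Lib.Jordan.DerLen2
import Cfsg.Agent.Lib.Syl2.Lin
-- import your own Cfsg.Agent.* helpers here

set_option autoImplicit false
set_option linter.style.haveILetI false
set_option linter.unusedVariables false
open Cfsg

namespace Cfsg.Agent.S2648

open Subgroup H31.DL

universe u

theorem exists_mono {D : Type u} [Group D] [Finite D] {p d : ℕ} [hp : Fact p.Prime] (hD : IsPGroup p D)
    (hd : derivedSeries D d ≠ ⊥) (j : ℕ) : ∃ (W : Type u) (Λ : Type) (_ : Group W) (_ : Finite W)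
      (_ : Finite Λ) (π : W →* Equiv.Perm Λ) (c : W → Λ → D),
      (∀ a b i, c (a * b) i = c a i * c b ((π a)⁻¹ i)) ∧
      (∀ w, π w = 1 → (∀ i, c w i = 1) → w = 1) ∧ IsPGroup p W ∧ derivedSeries W (d + j) ≠ ⊥ ∧
      Nat.card Λ = p ^ j := by
  induction j with
  | zero => exact ⟨D, Unit, _, inferInstance, inferInstance, 1, fun w _ => w, fun _ _ _ => rfl,
      fun w _ h => h (), hD, hd, by simp⟩
  | succ j ih =>
    obtain ⟨W, Λ, _, _, _, π, c, h1, h2, h3, h4, h5⟩ := ih
    let _ := MulAction.compHom Λ π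
    have : Nonempty Λ := (Nat.card_pos_iff.1 (h5 ▸ pow_pos hp.out.pos j)).1
    refine ⟨W ≀ᵣ Multiplicative (ZMod p), Λ × Multiplicative (ZMod p), _, inferInstance,
      inferInstance, MulAction.toPermHom _ _, fun w x => c (w.left x.2) x.1, fun a b x => ?_,
      fun w e1 e2 => ?_, isPGroup_wreath h3 (.of_card (n := 1) (by simp)), der_wreath h4,
      by simp [h5, pow_succ]⟩
    · beta_reduce
      rw [RegularWreathProduct.mul_left, Pi.mul_apply, h1, ← map_inv, ← map_inv]
      have e : ∀ y, (a.left x.2)⁻¹ • y = π (a.left x.2)⁻¹ y := fun _ => rfl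
      simp [RegularWreathProduct.smul_def, e]
    · have e3 : ∀ x : Λ × Multiplicative (ZMod p), w • x = x := fun x => Equiv.congr_fun e1 x
      have e4 : w.right = 1 := by
        simpa [RegularWreathProduct.smul_def] using congrArg Prod.snd (e3 (this.some, 1))
      refine RegularWreathProduct.ext (funext fun q => h2 _ (Equiv.ext fun x => ?_)
        fun x => e2 (x, q)) e4
      have e5 : w.left q • x = x := by
        simpa [RegularWreathProduct.smul_def, e4] using congrArg Prod.fst (e3 (x, q))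
      exact e5

theorem exists_hom {G D C ι W Λ : Type*} [Group G] [Group D] [Group C] [Group W]
    (w : H82.Wr G D C ι) (e : Λ ↪ ι) (π : W →* Equiv.Perm Λ) (c : W → Λ → D)
    (h1 : ∀ a b i, c (a * b) i = c a i * c b ((π a)⁻¹ i))
    (h2 : ∀ w, π w = 1 → (∀ i, c w i = 1) → w = 1) : ∃ f : W →* G, Function.Injective f := by
  classical
  let π' := (Equiv.Perm.viaEmbeddingHom e).comp π
  let c' : W → ι → D := fun a => Function.extend e (c a) 1
  have h3 : ∀ a b, c' (a * b) = c' a * fun i => c' b ((π' a)⁻¹ i) := fun a b => funext fun i => by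
    rw [← map_inv]
    by_cases hi : i ∈ Set.range e
    · obtain ⟨x, rfl⟩ := hi
      simp [c', π', Equiv.Perm.viaEmbeddingHom_apply, ← map_inv, Equiv.Perm.viaEmbedding_apply,
        e.injective.extend_apply, h1]
    · simp [c', π', Equiv.Perm.viaEmbeddingHom_apply, ← map_inv,
        Equiv.Perm.viaEmbedding_apply_of_notMem _ _ _ hi, Function.extend_apply' _ _ _ hi]
  refine ⟨MonoidHom.mk' (fun a => w.Φ (c' a, 1) * w.τ (π' a)) fun a b => ?_,
    (injective_iff_map_eq_one _).2 fun a ha => ?_⟩
  · rw [h3, map_mul, map_mul, mul_assoc, ← mul_assoc (w.τ (π' a)), w.conj, ← mul_assoc, ← mul_assoc,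
      ← mul_assoc, ← map_mul w.Φ, Prod.mk_mul_mk, one_mul]
  · have h4 := (w.eq_iff (x := (c' a, 1)) (y := 1) (σ := π' a) (ρ := 1)).1 (by simpa using ha)
    refine h2 a (Equiv.Perm.viaEmbeddingHom_injective e (h4.2.trans (map_one _).symm)) fun i => ?_
    simpa [c', e.injective.extend_apply] using congrFun (congrArg Prod.fst h4.1) (e i)

/-- Let q be odd, F a field with q elements and n ≥ 1. A Sylow 2-subgroup R of the symplectic group Sp_{2n}(F) has derived length exactly k + 1, where 2^k ≤ 2n < 2^{k+1}: the (k+1)-st term of its derived series is trivial and the k-th is not. -/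
theorem result {F : Type*} [Field F] [Fintype F] [DecidableEq F] (q : ℕ) (hF : Fintype.card F = q) (hq : Odd q) (n : ℕ) (hn : 1 ≤ n) (R : Sylow 2 ↥(Matrix.symplecticGroup (Fin n) F)) : derivedSeries ↥(R : Subgroup ↥(Matrix.symplecticGroup (Fin n) F)) (Nat.log 2 (2 * n) + 1) = ⊥ ∧ derivedSeries ↥(R : Subgroup ↥(Matrix.symplecticGroup (Fin n) F)) (Nat.log 2 (2 * n)) ≠ ⊥ := by
  subst hF
  have hq' : Odd (Nat.card F) := by rwa [Nat.card_eq_fintype_card]
  constructor
  · let e : Fin n ⊕ Fin n ≃ Fin (2 * n) := finSumFinEquiv.trans (finCongr (two_mul n).symm)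
    refine der_GL_finite (F := F) (p := 2) (n := 2 * n) hq.not_two_dvd_nat R.isPGroup'
      ((Units.map (Matrix.reindexAlgEquiv F F e).toMonoidHom).comp ((H82.spToGL n F).comp (Subgroup.subtype _)))
      ((Units.map_injective (Matrix.reindexAlgEquiv F F e).injective).comp
        ((H82.spToGL_injective n).comp (subtype_injective _))) ?_
    exact (Nat.div_le_self _ _).trans_lt (Nat.lt_pow_succ_log_self one_lt_two _)
  obtain ⟨Q⟩ : Nonempty (Sylow 2 (Matrix.SpecialLinearGroup (Fin 2) F)) := inferInstance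
  obtain ⟨k, hk, -, -, h, -⟩ := H10.exists_sylow_two_SL_two hq'
  obtain ⟨e⟩ := h Q
  have hQ : derivedSeries Q 1 ≠ ⊥ := by
    refine der_ne_bot_of_injective e.symm.toMonoidHom e.symm.injective fun h => ?_
    have h1 := (eq_bot_iff_forall _).1 h _ (commutator_mem_commutator
      (mem_top (QuaternionGroup.a 1)) (mem_top (QuaternionGroup.xa 0)))
    rw [commutatorElement_eq_one_iff_mul_comm] at h1
    have h2 : ((2 : ℕ) : ZMod (2 * 2 ^ k)) = 0 := by
      simp at h1
      push_cast
      linear_combination -h1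
    have := Nat.le_of_dvd two_pos ((ZMod.natCast_eq_zero_iff _ _).1 h2)
    have := Nat.one_lt_two_pow (n := k) (by omega)
    omega
  obtain ⟨W, Λ, _, _, _, π, c, h1, h2, h3, h4, h5⟩ := exists_mono Q.isPGroup' hQ (Nat.log 2 n)
  have := Fintype.ofFinite Λ
  obtain ⟨ι⟩ : Nonempty (Λ ↪ Fin n) := Function.Embedding.nonempty_of_card_le (by
    rw [← Nat.card_eq_fintype_card, h5, Fintype.card_fin]
    exact Nat.pow_log_le_self 2 (by omega))
  obtain ⟨f, hf⟩ := exists_hom (H82.spWr n F) ι π (fun w i => c w i) (fun a b i => by simp [h1])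
    fun w e1 e2 => h2 w e1 fun i => Subtype.ext (e2 i)
  rw [mul_comm, Nat.log_mul_base one_lt_two (by omega), add_comm]
  exact der_ne_bot_sylow h3 f hf h4 R

end Cfsg.Agent.S2648
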