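import Cfsg.Statements.S2793
import Mathlib
import Cfsg.Agent.Base
import Cfsg.Agent.Lib.ZJF59.Main
import Cfsg.Agent.Lib.ZJF59.Recog
import Cfsg.Agent.S2791

set_option autoImplicit false
open Cfsg

namespace Cfsg.Agent.S2793

open Subgroup H69 H59 H59.ZF

/-- Let p be an odd prime, S a Sylow p-subgroup of the finite group G, J(S) the subgroup generated by the abelian subgroups of S of largest order, and suppose Z(J(S)) does not control strong fusion in G. Put H = N_G(Z(J(S))). Then the group F(p) of upper triangular 3 × 3 matrices (a b c; 0 a⁻¹ d; 0 0 1) over the field with p elements is involved in H, and Z(J(S)) contains a subgroup C of order p with |N_H(C) : C_H(C)| = p − 1. -/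
theorem result {G : Type*} [Group G] [Finite G] {p : ℕ} [Fact p.Prime] (hp : p ≠ 2) (S : Sylow p G) (h : ¬ Cfsg.ControlsStrongFusion p (Cfsg.centerThompsonAOf (S : Subgroup G))) (H : Subgroup G) (hH : H = Subgroup.normalizer ((Cfsg.centerThompsonAOf (S : Subgroup G)) : Set G)) : Cfsg.Involves ↥(Cfsg.fOver (ZMod p)) ↥H ∧ ∃ C : Subgroup G, C ≤ (Cfsg.centerThompsonAOf (S : Subgroup G)) ∧ Nat.card C = p ∧ (H ⊓ Subgroup.centralizer (C : Set G)).relIndex (H ⊓ Subgroup.normalizer (C : Set G)) = p - 1 := by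
  obtain ⟨μ, h0, hμ⟩ := exists_primitive p
  have hy : Hyp p ⊤ (S : Subgroup G) (centerThompsonAOf (S : Subgroup G)) :=
    ⟨isSylowIn_top S, le_rfl,
      inf_le_right.trans (H24.normalizer_thompsonA_le_normalizer_centerThompsonAOf _)⟩
  rcases sig hp h0 hy with h1 | ⟨⟨k, hk, he⟩, hΦ⟩
  · exact absurd (Cfsg.Agent.S2791.result S _ (le_centralizer_iff_isMulCommutative.1 hy.ab)
      ⟨hy.le_S, fun x hx g => h1 x hx g trivial⟩) h
  · subst hH
    exact ⟨involves_of_phi hp h0 hμ (hΦ.mono inf_le_right),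
      exists_full_automizer hμ (S.isPGroup'.to_le hy.le_S) hk.2 he⟩

end Cfsg.Agent.S2793
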