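import Cfsg.Statements.S2806
import Mathlib
import Cfsg.Agent.Lib.LocStruct.SnSylow
import Cfsg.Agent.Lib.LocStruct.PReduced
import Cfsg.Agent.S2805

set_option autoImplicit false
open Cfsg

namespace Cfsg.Agent.S2806

open Subgroup H69
open scoped commutatorElement Pointwise

section
variable {G : Type*} [Group G] [Finite G] {p : ℕ} [Fact p.Prime]

theorem pec_sup {S U A B : Subgroup G} (hS : IsSylowIn p S ⊤) (hSU : S ≤ U) (hA : A.IsSubnormal)
    (hB : B.IsSubnormal) : pElementClosure p ((A ⊔ B) ⊓ U) =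
      pElementClosure p (A ⊓ U) ⊔ pElementClosure p (B ⊓ U) := by
  refine le_antisymm (H68.pElementClosure_le_iff.2 fun x hx ⟨k, hk⟩ => ?_)
    (sup_le (H68.pElementClosure_mono (inf_le_inf_right _ le_sup_left))
      (H68.pElementClosure_mono (inf_le_inf_right _ le_sup_right)))
  have hxp : IsPGroup p (zpowers x) := H70.isPGroup_zpowers (by rw [← hk, pow_orderOf_eq_one])
  obtain ⟨u, hu, hxu⟩ := (hS.mono hSU le_top).exists_le_cj hxp (zpowers_le.2 hx.2)
  have hS' := hS.cj_of_mem (mem_top u)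
  have hS'U : S ^ᶜ u ≤ U := cj_le_of_mem hSU hu
  have : x ∈ S ^ᶜ u ⊓ (A ⊔ B) := ⟨hxu (mem_zpowers x), hx.1⟩
  rw [sylow_inf_sup hS' hA hB] at this
  have hle : ∀ X : Subgroup G, S ^ᶜ u ⊓ X ≤ pElementClosure p (X ⊓ U) := fun X =>
    H68.le_pElementClosure (hS'.isP.to_le inf_le_left)
      (le_inf inf_le_right (inf_le_left.trans hS'U))
  exact sup_le_sup (hle A) (hle B) this

theorem step' (hH : ∀ T : Subgroup G, IsPGroup p T → T ≠ ⊥ → H70.CharP p 𝐍(T))
    {L M R X : Subgroup G} (hM : M.IsSubnormal) (hR : IsSylowIn p R M) (hLM : L ≤ M)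
    (hn : M ≤ 𝐍(L)) (hX : IsPGroup p X) (hX0 : X ≠ ⊥) (hRX : R ≤ 𝐍(X)) :
    L ⊓ 𝐍(X) ⊓ 𝐂(H68.oz p R) = L ⊓ 𝐍(X) ⊓ 𝐂(H68.oz p (R ⊓ L)) := by
  have hsn : SN (M ⊓ 𝐍(X)) 𝐍(X) := by
    have := (sn_top_iff.2 hM).inf_right 𝐍(X)
    rwa [top_inf_eq] at this
  have := Cfsg.Agent.S2805.step (hsn.charP (hH X hX hX0))
    (hR.mono (le_inf hR.le hRX) inf_le_left) (inf_le_inf_right _ hLM)
    (H69.le_normalizer_inf (inf_le_left.trans hn) (H69.le_normalizer_of_le inf_le_right))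
  rwa [show R ⊓ (L ⊓ 𝐍(X)) = R ⊓ L from le_antisymm (inf_le_inf_left _ inf_le_left)
    (le_inf inf_le_left (le_inf inf_le_right (inf_le_left.trans hRX)))] at this

theorem kieler (hH : ∀ T : Subgroup G, IsPGroup p T → T ≠ ⊥ → H70.CharP p 𝐍(T))
    {T L : Subgroup G} (hT : IsSylowIn p T ⊤) (hL : L.IsSubnormal) (h0 : T ⊓ L ≠ ⊥) :
    L ⊓ 𝐂(H68.oz p T) = L ⊓ 𝐂(H68.oz p (T ⊓ L)) := by
  induction hL with
  | top => rw [inf_top_eq]
  | step L M hLM hM hn ih =>
    have hn' : M ≤ 𝐍(L) := (normal_subgroupOf_iff_le_normalizer hLM).1 hn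
    have hR : IsSylowIn p (T ⊓ M) M := (sn_top_iff.2 hM).isSylowIn_inf hT
    have h0' : T ⊓ M ≠ ⊥ := fun e => h0 (le_bot_iff.1 (e ▸ inf_le_inf_left _ hLM))
    have e : T ⊓ M ⊓ L = T ⊓ L := by rw [inf_assoc, inf_eq_right.2 hLM]
    have hp1 : IsPGroup p (T ⊓ L : Subgroup G) := hT.isP.to_le inf_le_left
    have h1 := step' hH hM hR hLM hn' (hR.isP.to_le (H68.oz_le _)) (H68.oz_ne_bot hR.isP h0')
      (le_normalizer.trans (H68.normalizer_le_normalizer_oz _))
    have h2 := step' hH hM hR hLM hn' (hp1.to_le (H68.oz_le _)) (H68.oz_ne_bot hp1 h0)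
      ((H69.le_normalizer_inf (H69.le_normalizer_of_le inf_le_left) (inf_le_right.trans hn')).trans
        (H68.normalizer_le_normalizer_oz _))
    rw [e] at h1 h2
    have h3 : L ⊓ 𝐂(H68.oz p (T ⊓ M)) = L ⊓ 𝐂(H68.oz p (T ⊓ L)) := by
      apply le_antisymm
      · refine le_inf inf_le_left (le_trans (le_inf (le_inf inf_le_left
          (inf_le_right.trans (centralizer_le_normalizer _))) inf_le_right)
          (h1.le.trans inf_le_right))
      · refine le_inf inf_le_left (le_trans (le_inf (le_inf inf_le_left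
          (inf_le_right.trans (centralizer_le_normalizer _))) inf_le_right)
          (h2.ge.trans inf_le_right))
    rw [← h3, ← inf_eq_left.2 hLM, inf_assoc, ih h0', ← inf_assoc]

theorem pec_eq (hH : ∀ T : Subgroup G, IsPGroup p T → T ≠ ⊥ → H70.CharP p 𝐍(T))
    {T L : Subgroup G} (hT : IsSylowIn p T ⊤) (hL : L.IsSubnormal) :
    pointStabilizer p L (T ⊓ L) = pElementClosure p (L ⊓ 𝐂(H68.oz p T)) := by
  change pElementClosure p (L ⊓ 𝐂(H68.oz p (T ⊓ L))) = _
  by_cases h0 : T ⊓ L = ⊥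
  · have hb : pElementClosure p L = ⊥ := by
      rw [← le_bot_iff]
      refine H68.pElementClosure_le_of_le_normalizer
        ((sn_top_iff.2 hL).isSylowIn_inf hT).sylowIn h0.le ?_
      rw [normalizer_eq_top]; exact le_top
    rw [le_bot_iff.1 ((H68.pElementClosure_mono inf_le_left).trans hb.le),
      le_bot_iff.1 ((H68.pElementClosure_mono inf_le_left).trans hb.le)]
  · rw [kieler hH hT hL h0]

end


/-- Let H be a finite group of local characteristic p, T a Sylow p-subgroup, and L₁, L₂ subnormal subgroups of H generating the subgroup L. Then the point stabilizer of L with respect to T ∩ L is generated by the point stabilizers of L₁ and L₂ with respect to T ∩ L₁ and T ∩ L₂ (point stabilizer of X w.r.t. R: the subgroup generated by the p-elements of X centralizing Ω₁(Z(R))). -/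
theorem result {H : Type*} [Group H] [Finite H] {p : ℕ} [Fact p.Prime] (hH : Cfsg.IsOfLocalCharacteristic p H) (T : Sylow p H) (L₁ L₂ : Subgroup H) (h₁ : L₁.IsSubnormal) (h₂ : L₂.IsSubnormal) : Cfsg.pointStabilizer p (L₁ ⊔ L₂) ((T : Subgroup H) ⊓ (L₁ ⊔ L₂)) = Cfsg.pointStabilizer p L₁ ((T : Subgroup H) ⊓ L₁) ⊔ Cfsg.pointStabilizer p L₂ ((T : Subgroup H) ⊓ L₂) := by
  have hH' : ∀ T : Subgroup H, IsPGroup p T → T ≠ ⊥ → H70.CharP p 𝐍(T) :=
    fun T h1 h2 => H70.charP_iff.2 (hH.2 T h1 h2)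
  have hT := isSylowIn_top T
  rw [pec_eq hH' hT h₁, pec_eq hH' hT h₂, pec_eq hH' hT (H21.isSubnormal_sup h₁ h₂)]
  exact pec_sup hT (H68.le_centralizer_oz _) h₁ h₂

end Cfsg.Agent.S2806
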