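import Cfsg.Statements.S2810
import Mathlib
import Cfsg.Agent.Lib.LocStruct.SnCl

set_option autoImplicit false
open Cfsg

namespace Cfsg.Agent.S2810

open Subgroup H69
open scoped commutatorElement Pointwise


/-- Let H be a finite group of characteristic p and L a subgroup of H centralizing every factor of some H-invariant chain 1 = A₀ ≤ A₁ ≤ … ≤ Aₙ = O_p(H) of normal subgroups (that is, [A_{i+1}, L] ≤ Aᵢ for each i). Then L ≤ O_p(H). -/
theorem result {H : Type*} [Group H] [Finite H] {p : ℕ} [Fact p.Prime] (hchar : Subgroup.centralizer (Cfsg.pCore p H : Set H) ≤ Cfsg.pCore p H) (L : Subgroup H) (n : ℕ) (A : Fin (n + 1) → Subgroup H) (h0 : A 0 = ⊥) (hn : A (Fin.last n) = Cfsg.pCore p H) (hmono : Monotone A) (hnorm : ∀ i, (A i).Normal) (hcent : ∀ i : Fin n, ⁅A i.succ, L⁆ ≤ A i.castSucc) : L ≤ Cfsg.pCore p H := by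
  have hc := H70.charP_top_iff.2 hchar
  rw [← H70.pCoreOf_top] at hn ⊢
  refine (le_ncl L ⊤).trans (le_pCoreOf_of_res_le_centralizer hc
    (sn_of_normal le_top (le_normalizer_ncl L ⊤)) ?_)
  rw [← hn]
  have key : ∀ i, 𝐑(p, ncl L ⊤) ≤ 𝐂(A i) := by
    intro i
    induction i using Fin.induction with
    | zero => rw [h0, centralizer_bot]; exact le_top
    | succ i ih =>
      rw [← res_res]
      have hp : IsPGroup p (A i.castSucc) :=
        (H70.isPGroup_pCoreOf p (⊤ : Subgroup H)).to_le (hn ▸ hmono (Fin.le_last _))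
      refine res_le_centralizer_of_commutator_le hp ?_ ih
      refine (commutator_mono le_rfl (res_le _)).trans ?_
      have := hnorm i.castSucc
      have := hnorm i.succ
      rw [ncl_def]
      refine commutator_iSup_le_right (fun _ => le_normalizer_of_normal) fun g => ?_
      conv_lhs => rw [← cj_eq_of_normal (A i.succ) (g : H)]
      rw [← cj_commutator]
      exact cj_le_of_mem_normalizer (hcent i) (le_normalizer_of_normal (mem_top _))
  exact key _

end Cfsg.Agent.S2810
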