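import Cfsg.Statements.S2812
import Mathlib
import Cfsg.Agent.Base
import Cfsg.Agent.Lib.LocEven.FStarP

set_option autoImplicit false
open Cfsg

namespace Cfsg.Agent.S2812

open Subgroup H68 H69

/-- Let H be a subgroup of the finite group G with O_p(H) = 1, Y a p-subgroup of G normalizing H, and L a subgroup of the generalized Fitting subgroup F*(H) that is subnormal in H and normalized by Y. Then L = [L, Y]·C_L(Y) and [L, Y] = [L, Y, Y]. -/
theorem result {G : Type*} [Group G] [Finite G] {p : ℕ} [Fact p.Prime] (H : Subgroup G) (hO : Cfsg.pCore p ↥H = ⊥) (Y : Subgroup G) (hY : IsPGroup p ↥Y) (hYH : Y ≤ Subgroup.normalizer (H : Set G)) (L : Subgroup G) (hLF : L ≤ (Cfsg.generalizedFittingSubgroup ↥H).map H.subtype) (hLsn : (L.subgroupOf H).IsSubnormal) (hYL : Y ≤ Subgroup.normalizer (L : Set G)) : ⁅L, Y⁆ ⊔ (L ⊓ Subgroup.centralizer (Y : Set G)) = L ∧ ⁅L, Y⁆ = ⁅⁅L, Y⁆, Y⁆ := by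
  set X := H ⊔ Y with hX
  have hHX : H ≤ X := le_sup_left
  have hYX : Y ≤ X := le_sup_right
  have hLH : L ≤ H := hLF.trans (map_subtype_le _)
  have hLX : L ≤ X := hLH.trans hHX
  have hHn : (H.subgroupOf X).Normal :=
    (normal_subgroupOf_iff_le_normalizer hHX).2 (sup_le le_normalizer hYH)
  have hLsn' : (L.subgroupOf X).IsSubnormal :=
    H23.isSubnormal_subgroupOf_trans hLH hHX hLsn (Normal.isSubnormal hHn)
  let e := subgroupOfEquivOfLe hHX
  have hmap : ∀ A : Subgroup (H.subgroupOf X),
      (A.map (H.subgroupOf X).subtype).map X.subtype = (A.map (e : _ →* _)).map H.subtype := fun A => by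
    rw [map_map, map_map]; rfl
  have h1 : L.subgroupOf X ≤ generalizedFittingSubgroup X := by
    refine le_trans ?_ (H23.map_fStar_subtype_le_of_isSubnormal (Normal.isSubnormal hHn))
    rw [subgroupOf_le_iff hLX, hmap, H23.map_fStar_equiv]; exact hLF
  have h2 : (Nat.card (fittingSubgroup X ⊓ L.subgroupOf X : Subgroup X)).Coprime p := by
    have : fittingSubgroup X ⊓ L.subgroupOf X ≤
        (fittingSubgroup (H.subgroupOf X)).map (H.subgroupOf X).subtype :=
      (inf_le_inf_left _ (comap_mono hLH)).trans (H1.fitting_inf_le_map_subtype _)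
    refine Nat.Coprime.coprime_dvd_left (card_dvd_of_le this) ?_
    rw [← card_map_subtype, hmap, H1.map_fitting_equiv, card_map_subtype]
    exact coprime_card_fitting hO
  have h3 : Y.subgroupOf X ≤ 𝐍(L.subgroupOf X) := by
    rw [subgroupOf_le_iff hYX, map_subtype_normalizer, map_subgroupOf_eq_of_le hLX]
    exact le_inf hYX hYL
  obtain ⟨h4, h5⟩ := fStar_split (H69.isPGroup_subgroupOf hY X) h1
    (H23.layer_le_normalizer_of_isSubnormal hLsn') h3 h2
  have h4' := congrArg (Subgroup.map X.subtype) h4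
  have h5' := congrArg (Subgroup.map X.subtype) h5
  simp only [Subgroup.map_sup, map_commutator, H24.map_inf_centralizer X.subtype_injective,
    map_subgroupOf_eq_of_le hLX, map_subgroupOf_eq_of_le hYX] at h4' h5'
  exact ⟨h4', h5'.symm⟩

end Cfsg.Agent.S2812
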