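import Cfsg.Statements.S2815
import Mathlib
import Cfsg.Agent.Base
import Cfsg.Agent.Lib.LocEven.FStarP

set_option autoImplicit false
open Cfsg

namespace Cfsg.Agent.S2815

open Subgroup H68 H69

/-- Let H be a finite group and p a prime dividing its order with O_p(H) = 1, and suppose K = O^p(H) (generated by the elements of order prime to p) is quasisimple. Then K = F*(H); for every nontrivial p-subgroup Y of H, K = [K, Y] and K lies in the subgroup generated by the K-conjugates of Y; every normal subgroup of H not containing K has order prime to p; and H is p-irreducible. -/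
theorem result {H : Type*} [Group H] [Finite H] {p : ℕ} [Fact p.Prime] (hp : p ∣ Nat.card H) (hO : Cfsg.pCore p H = ⊥) (hq : Cfsg.IsQuasisimple ↥(Cfsg.pResidual p H)) : Cfsg.pResidual p H = Cfsg.generalizedFittingSubgroup H ∧ (∀ Y : Subgroup H, IsPGroup p ↥Y → Y ≠ ⊥ → ⁅Cfsg.pResidual p H, Y⁆ = Cfsg.pResidual p H ∧ Cfsg.pResidual p H ≤ ⨆ k : ↥(Cfsg.pResidual p H), Y.map (MulAut.conj (k : H)).toMonoidHom) ∧ (∀ C : Subgroup H, C.Normal → ¬ Cfsg.pResidual p H ≤ C → (Nat.card ↥C).Coprime p) ∧ Cfsg.IsPIrreducible p H := by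
  haveI := H4.pResidual_normal p H
  have hc : IsComponent (pResidual p H) := ⟨Normal.isSubnormal inferInstance, hq⟩
  have h1 : pResidual p H = generalizedFittingSubgroup H := by
    refine le_antisymm (H23.IsComponent.le_fStar hc) ?_
    rw [H23.fStar_def]
    refine sup_le (H23.layer_le_iff.2 fun L hL => ?_) (le_of_coprime_card_res (coprime_card_fitting hO))
    rw [← res_eq_of_perfect (p := p) (H23.IsComponent.commutator_self hL)]
    exact H4.map_subtype_pResidual_le L
  have h2 : ∀ Y : Subgroup H, IsPGroup p ↥Y → Y ≠ ⊥ → ⁅pResidual p H, Y⁆ = pResidual p H := by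
    intro Y hY hY1
    refine (H23.IsComponent.commutator_eq_self_or hc
      (le_top.trans (normal_iff_top_le_normalizer.1 inferInstance))).resolve_right fun h => hY1 ?_
    refine eq_bot_of_le_centralizer_fStar hO hY ?_
    rw [← h1]
    exact le_centralizer_of_commutator_eq_bot ((commutator_comm _ _).trans h)
  have h3 : ∀ C : Subgroup H, C.Normal → ¬ pResidual p H ≤ C → (Nat.card ↥C).Coprime p := by
    intro C hC hne
    rw [Nat.coprime_comm, (Fact.out : p.Prime).coprime_iff_not_dvd]
    intro hd
    obtain ⟨Y, hYC, hY, hY1⟩ := H69.exists_isPGroup_ne_bot_of_dvd hd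
    apply hne
    rw [← h2 Y hY hY1]
    exact (commutator_mono le_rfl hYC).trans (commutator_le_right _ _)
  refine ⟨h1, fun Y hY hY1 => ⟨h2 Y hY hY1, ?_⟩, h3, fun h => ?_, fun N hN h => ?_⟩
  · conv_lhs => rw [← h2 Y hY hY1, commutator_comm]
    exact commutator_le_ncl Y _
  · obtain ⟨Y, -, hY, hY1⟩ := H69.exists_isPGroup_ne_bot_of_dvd (p := p) (L := (⊤ : Subgroup H))
      (by rwa [card_top])
    have := isPClosed_iff_le_pCore.1 h Y hY
    rw [hO, le_bot_iff] at this
    exact hY1 this
  · by_contra hne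
    apply h
    rw [isPClosed_iff_forall]
    intro R hRN hR
    rw [eq_bot_of_not_dvd hR hRN ((Fact.out : p.Prime).coprime_iff_not_dvd.1 (h3 N hN hne).symm)]
    exact bot_le

end Cfsg.Agent.S2815
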