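import Cfsg.Statements.S2816
import Mathlib
import Cfsg.Agent.Base
import Cfsg.Agent.Lib.LocEven.FStarP

set_option autoImplicit false
open Cfsg

namespace Cfsg.Agent.S2816

open Subgroup H68 H69

/-- Let H be a finite group and p a prime with O_p(H) = 1, and Y a p-subgroup of H. Then for every subnormal subgroup K of H containing Y, [F*(H), Y] = [F*(K), Y] = [F*(K), Y, Y]; and if Y₀ ≤ Y with [F*(H), Y, Y₀] = 1 then Y₀ = 1 (in particular [F*(H), Y] = 1 forces Y = 1). -/
theorem result {H : Type*} [Group H] [Finite H] {p : ℕ} [Fact p.Prime] (hO : Cfsg.pCore p H = ⊥) (Y : Subgroup H) (hY : IsPGroup p ↥Y) : (∀ K : Subgroup H, K.IsSubnormal → Y ≤ K → ⁅Cfsg.generalizedFittingSubgroup H, Y⁆ = ⁅(Cfsg.generalizedFittingSubgroup ↥K).map K.subtype, Y⁆ ∧ ⁅(Cfsg.generalizedFittingSubgroup ↥K).map K.subtype, Y⁆ = ⁅⁅(Cfsg.generalizedFittingSubgroup ↥K).map K.subtype, Y⁆, Y⁆) ∧ (∀ Y₀ : Subgroup H, Y₀ ≤ Y → ⁅⁅Cfsg.generalizedFittingSubgroup H, Y⁆, Y₀⁆ = ⊥ →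 Y₀ = ⊥) := by
  obtain ⟨h1, h2⟩ := fStar_split_top hO hY
  refine ⟨fun K hK hYK => ?_, fun Y₀ hY₀ h => ?_⟩
  · rw [H23.map_fStar_subtype_of_isSubnormal hK]
    refine ⟨le_antisymm ?_ (commutator_mono inf_le_left le_rfl), ?_⟩
    · rw [← h2]
      exact commutator_mono (le_inf (commutator_le_left _ _)
        (le_of_commutator_eq_of_isSubnormal hK hYK h2)) le_rfl
    · exact (fStar_split' hO hY inf_le_left (IsSubnormal.inf (Normal.isSubnormal inferInstance) hK)
        (le_normalizer_inf (le_top.trans (normal_iff_top_le_normalizer.1 inferInstance))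
          (hYK.trans le_normalizer))).2.symm
  · refine eq_bot_of_le_centralizer_fStar hO (hY.to_le hY₀) (le_centralizer_comm.1 ?_)
    rw [← h1]
    exact sup_le (le_centralizer_of_commutator_eq_bot h) (inf_le_right.trans (centralizer_anti hY₀))

end Cfsg.Agent.S2816
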