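import Cfsg.Statements.S2817
import Mathlib
import Cfsg.Agent.Base
import Cfsg.Agent.Lib.LocEven.FStarP

set_option autoImplicit false
open Cfsg

namespace Cfsg.Agent.S2817

open Subgroup H68 H69
open scoped commutatorElement

/-- Let H be a finite group and p a prime with O_p(H) = 1, Q a p-subgroup of H, L = [F*(H), Q], and F the largest normal subgroup of F*(H) centralized by Q (a normal subgroup of F*(H) centralized by Q and containing every such). Then F = C_{F*(H)}(LQ); L = [L, Q]; L ∩ F ≤ Φ(L); every p-subgroup B of N_H(Q) with [L, B] ≤ F satisfies [L, B] = 1; and C_H(FL) has order prime to p. -/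
theorem result {H : Type*} [Group H] [Finite H] {p : ℕ} [Fact p.Prime] (hO : Cfsg.pCore p H = ⊥) (Q : Subgroup H) (hQ : IsPGroup p ↥Q) (L : Subgroup H) (hL : L = ⁅Cfsg.generalizedFittingSubgroup H, Q⁆) (F : Subgroup H) (hF : F ≤ Cfsg.generalizedFittingSubgroup H ∧ Cfsg.generalizedFittingSubgroup H ≤ Subgroup.normalizer (F : Set H) ∧ Q ≤ Subgroup.centralizer (F : Set H) ∧ ∀ N : Subgroup H, N ≤ Cfsg.generalizedFittingSubgroup H → Cfsg.generalizedFittingSubgroup H ≤ Subgroup.normalizer (N : Set H) → Q ≤ Subgroup.centralizer (N : Set H) → N ≤ F) : F = Cfsg.generalizedFittingSubgroup H ⊓ Subgroup.centralizer ((L ⊔ Q : Subgroup H) : Set H) ∧ ⁅L, Q⁆ = L ∧ L ⊓ F ≤ (frattini ↥L).map L.subtype ∧ (∀ B : Subgroup H, IsPGroup p ↥B → B ≤ Subgroup.normalizer (Q : Set H) → ⁅L, B⁆ ≤ F → ⁅L, B⁆ = ⊥) ∧ (Nat.card ↥(Subgroup.centralizer ((F ⊔ L : Subgroup H) : Set H))).Coprime p := by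
  obtain ⟨hF1, hF2, hF3, hF4⟩ := hF
  obtain ⟨h1, h2⟩ := fStar_split_top hO hQ
  rw [← hL] at h1 h2
  set E := generalizedFittingSubgroup H with hE
  have hn : ∀ X : Subgroup H, X ≤ 𝐍(E) := fun X =>
    le_top.trans (normal_iff_top_le_normalizer.1 inferInstance)
  have hLE : L ≤ E := by rw [hL]; exact commutator_le_left _ _
  have hEL : E ≤ 𝐍(L) := by rw [hL]; exact normalizer_commutator_ge_left _ _
  have hQL : Q ≤ 𝐍(L) := by rw [hL]; exact normalizer_commutator_ge_right _ _
  have hncl : ncl Q E = L ⊔ Q := by rw [ncl_eq_sup_commutator, commutator_comm, ← hL, sup_comm]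
  have hLsn : L.IsSubnormal := H23.isSubnormal_of_le_normalizer (Normal.isSubnormal inferInstance) hLE hEL
  have ha : F = E ⊓ 𝐂(L ⊔ Q) := by
    refine le_antisymm (le_inf hF1 (le_centralizer_comm.1 ?_)) (hF4 _ inf_le_left
      (le_normalizer_inf le_normalizer (le_normalizer_centralizer ?_))
      (le_centralizer_comm.1 (inf_le_right.trans (centralizer_anti le_sup_right))))
    · rw [← hncl]; exact ncl_le_centralizer hF3 hF2
    · rw [← hncl]; exact le_normalizer_ncl _ _
  have hFL : F ≤ 𝐂(L) := ha.le.trans (inf_le_right.trans (centralizer_anti le_sup_left))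
  have hc : L ⊓ F ≤ ⁅L, L⁆ := by
    intro x hx
    have hdec := H23.eq_sSup_components_sup_fitting_inf hLE (H23.layer_le_normalizer_of_isSubnormal hLsn)
    have e : (fittingSubgroup H ⊓ L) ⊔ ⁅L, L⁆ = L := by
      refine le_antisymm (sup_le inf_le_right (commutator_le_self L)) ?_
      conv_lhs => rw [hdec]
      refine sup_le (sSup_le fun K hK => le_sup_of_le_right ?_) le_sup_left
      rw [← H23.IsComponent.commutator_self hK.1]; exact commutator_mono hK.2 hK.2
    refine H2.mem_of_mem_commutator_of_fixed hQL (le_normalizer_commutator hQL hQL) le_rfl ?_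
      (h2.symm ▸ hx.1) fun a ha' => ?_
    · apply H1.coprime_card_of_isPGroup_of_coprime hQ
      have e2 := H1.relIndex_sup_of_le_normalizer (H := fittingSubgroup H ⊓ L) (N := ⁅L, L⁆)
        (inf_le_right.trans (normalizer_commutator_ge_left _ _))
      rw [e] at e2
      rw [e2]
      exact (coprime_card_of_le_fitting hO inf_le_left).coprime_dvd_left (relIndex_dvd_card _ _)
    · have : ⁅x⁻¹, a⁆ = 1 := commutatorElement_eq_one_iff_mul_comm.2
        (mem_centralizer_iff.1 (hF3 ha') _ (inv_mem hx.2))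
      rw [this]; exact one_mem _
  refine ⟨ha, h2, le_frattini_of_le_center (inf_le_right.trans hFL) hc, fun B hB hBQ h => ?_, ?_⟩
  · have hBL : B ≤ 𝐍(L) := by rw [hL]; exact le_normalizer_commutator (hn _) hBQ
    have h3 : ⁅L, L⁆ ≤ 𝐂(B) :=
      three_subgroups_cent (h.trans hFL) (by rw [commutator_comm]; exact h.trans hFL)
    rw [← (fStar_split' hO hB hLE hLsn hBL).2]
    exact commutator_eq_bot_of_le_centralizer
      ((le_inf (commutator_le_left_of_le_normalizer hBL) h).trans (hc.trans h3))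
  · rw [Nat.coprime_comm, (Fact.out : p.Prime).coprime_iff_not_dvd]
    intro hd
    set C := 𝐂(F ⊔ L) with hC
    have hQC : Q ≤ 𝐍(C) :=
      le_normalizer_centralizer (le_normalizer_sup (le_normalizer_of_le_centralizer hF3) hQL)
    obtain ⟨S, hS, hQS⟩ := exists_isSylowIn_le hQ (le_sup_right : Q ≤ C ⊔ Q)
    have hB := hS.inf_normal (N := C) le_sup_left (sup_le le_normalizer hQC)
    have hB1 := hB.dvd_card_iff.1 hd
    have hB0 := H69.inf_centralizer_ne_bot hB.isP hQ
      (le_normalizer_inf (hQS.trans le_normalizer) hQC) hB1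
    set B := S ⊓ C ⊓ 𝐂(Q) with hBdef
    have hBp : IsPGroup p B := hB.isP.to_le inf_le_left
    have hBC : B ≤ C := inf_le_left.trans inf_le_right
    have h3 : ⁅E, B⁆ ≤ 𝐂(Q) := by
      rw [← h1, commutator_comm, sup_comm, commutator_sup_eq_of_le_centralizer_right'
        (le_centralizer_comm.1 (hBC.trans (centralizer_anti le_sup_right))) (inf_le_left.trans hEL)]
      exact commutator_le_of_le inf_le_right inf_le_right
    have h4 : ⁅E, B⁆ ≤ F := hF4 _ (commutator_le_left _ _) (normalizer_commutator_ge_left _ _)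
      (le_centralizer_comm.1 h3)
    apply hB0
    refine eq_bot_of_le_centralizer_fStar hO hBp (le_centralizer_comm.1
      (le_centralizer_of_commutator_eq_bot ?_))
    rw [← (fStar_split_top hO hBp).2]
    exact commutator_eq_bot_of_le_centralizer
      (h4.trans (le_centralizer_comm.1 (hBC.trans (centralizer_anti le_sup_left))))

end Cfsg.Agent.S2817
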