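import Cfsg.Statements.S2818
import Mathlib
import Cfsg.Agent.Base
import Cfsg.Agent.Lib.LocEven.PIrr
import Cfsg.Agent.Lib.LocStruct.ResAct
import Cfsg.Agent.Lib.PGroup.Frattini

set_option autoImplicit false
open Cfsg

namespace Cfsg.Agent.S2818

open Subgroup H68 H69
open scoped commutatorElement

/-- Let P be a finite p-subgroup of a group G and H a subgroup of N_G(P) with [P, H] ≤ Ω₁(Z(P)) (the elements of order dividing p in the centre of P). Then H centralizes the Frattini subgroup of P. -/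
theorem result {G : Type*} [Group G] [Finite G] {p : ℕ} [Fact p.Prime] (P : Subgroup G) (hP : IsPGroup p ↥P) (H : Subgroup G) (hH : H ≤ Subgroup.normalizer (P : Set G)) (h : ⁅P, H⁆ ≤ Cfsg.omegaOne p (P ⊓ Subgroup.centralizer (P : Set G))) : ⁅(frattini ↥P).map P.subtype, H⁆ = ⊥ := by
  have h1 : ⁅P, H⁆ ≤ 𝐂(P) := h.trans (oz_le_centralizer P)
  rw [commutator_eq_bot_iff_le_centralizer, H5.map_frattini_le_iff hP]
  refine ⟨three_subgroups_cent h1 (by rw [commutator_comm]; exact h1), fun x hx => ?_⟩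
  rw [mem_centralizer_iff]
  intro g hg
  have hz := mem_oz.1 (h (commutator_mem_commutator hx hg))
  set z := ⁅x, g⁆ with hzd
  have hc : Commute z⁻¹ x := (Commute.symm (mem_centralizer_iff.1 hz.2.1 x hx)).inv_left
  have e : g * x * g⁻¹ = z⁻¹ * x := by rw [hzd, commutatorElement_def]; group
  have e2 : g * x ^ p * g⁻¹ = x ^ p := by
    rw [← conj_pow, e, hc.mul_pow, inv_pow, hz.2.2, inv_one, one_mul]
  calc g * x ^ p = g * x ^ p * g⁻¹ * g := by group
    _ = x ^ p * g := by rw [e2]

end Cfsg.Agent.S2818
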