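import Cfsg.Statements.S2819
import Mathlib
import Cfsg.Agent.Base
import Cfsg.Agent.Lib.LocEven.PIrr
import Cfsg.Agent.Lib.LocStruct.ResAct
import Cfsg.Agent.Lib.PGroup.Frattini

set_option autoImplicit false
open Cfsg

namespace Cfsg.Agent.S2819

open Subgroup H68 H69
open scoped commutatorElement

theorem pow_mul_mem {G : Type*} [Group G] {P : Subgroup G} {a c : G} (ha : a ∈ P) (hc : c ∈ P) (n : ℕ) :
    a ^ n * (a⁻¹ * c) ^ n * (c ^ n)⁻¹ ∈ ⁅P, P⁆ := by
  have : (⟨a, ha⟩ : P) ^ n * ((⟨a, ha⟩ : P)⁻¹ * ⟨c, hc⟩) ^ n * ((⟨c, hc⟩ : P) ^ n)⁻¹ ∈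
      _root_.commutator P := by
    rw [← Abelianization.ker_of, MonoidHom.mem_ker]
    simp only [map_mul, map_pow, map_inv, mul_pow, inv_pow]
    group
  rw [← map_subtype_commutator]
  exact ⟨_, this, rfl⟩

/-- Let P be a finite p-subgroup of a group G, H a subgroup of N_G(P), and Y a subgroup of H centralizing the derived subgroup P' such that [P, Y] is elementary abelian. Then O^p(⟨Y^H⟩), the subgroup of the normal closure of Y in H generated by its elements of order prime to p, centralizes the Frattini subgroup of P. -/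
theorem result {G : Type*} [Group G] [Finite G] {p : ℕ} [Fact p.Prime] (P : Subgroup G) (hP : IsPGroup p ↥P) (H : Subgroup G) (hH : H ≤ Subgroup.normalizer (P : Set G)) (Y : Subgroup G) (hYH : Y ≤ H) (hYc : Y ≤ Subgroup.centralizer ((⁅P, P⁆ : Subgroup G) : Set G)) (hel : Cfsg.IsElementaryAbelian p ⁅P, Y⁆) (NY : Subgroup G) (hNY : NY = (Subgroup.normalClosure ((Y.subgroupOf H : Subgroup ↥H) : Set ↥H)).map H.subtype) : (Cfsg.pResidual p ↥NY).map NY.subtype ≤ Subgroup.centralizer (((frattini ↥P).map P.subtype : Subgroup G) : Set G) := by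
  have hN : NY = ncl Y H := by rw [hNY, map_normalClosure_subgroupOf hYH]
  have hH' : H ≤ 𝐍(⁅P, P⁆) := le_normalizer_commutator hH hH
  have hHF : H ≤ 𝐍((frattini P).map P.subtype) :=
    H2.le_normalizer_map_subtype_of_characteristic hH _
  have h1 : ⁅(frattini P).map P.subtype, Y⁆ ≤ ⁅P, P⁆ := by
    refine (H2.le_relCentralizer_iff.1 ((H5.map_frattini_le_iff hP).2 ⟨?_, fun x hx => ?_⟩)).2
    · exact H2.le_relCentralizer_iff.2 ⟨le_normalizer,
        commutator_le_left_of_le_normalizer (hYH.trans hH')⟩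
    · refine H2.mem_relCentralizer.2 ⟨normalizer_commutator_ge_left _ _ (pow_mem hx p), fun y hy => ?_⟩
      have hc : ⁅x, y⁆ ∈ ⁅P, Y⁆ := commutator_mem_commutator hx hy
      have := pow_mul_mem hx (commutator_le_left_of_le_normalizer (hYH.trans hH) hc) p
      rw [hel.2 _ hc, inv_one, mul_one] at this
      have e : x⁻¹ * ⁅x, y⁆ = y * x⁻¹ * y⁻¹ := by rw [commutatorElement_def]; group
      rw [e, conj_pow, inv_pow] at this
      rw [commutatorElement_def]
      simpa [mul_assoc] using this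
  rw [hN]
  refine res_le_centralizer_of_commutator_le (D := ⁅P, P⁆) (hP.to_le (commutator_le_self P)) ?_
    (ncl_le_centralizer hYc hH')
  rw [ncl_def]
  refine commutator_iSup_le_right (fun l => cj_le_of_mem hYH l.2 |>.trans hH') fun l => ?_
  rw [← H69.cj_eq_of_mem_normalizer (hHF l.2), ← H69.cj_commutator]
  exact H69.cj_le_of_mem_normalizer h1 (hH' l.2)

end Cfsg.Agent.S2819
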