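import Cfsg.Statements.S2825
import Mathlib
import Cfsg.Agent.Lib.LocStruct.PReduced

set_option autoImplicit false
open Cfsg

namespace Cfsg.Agent.S2825

open Subgroup H69
open scoped commutatorElement Pointwise


/-- Let L be a subnormal subgroup of the finite group H, p a prime, Y_H and Y_L the largest p-reduced normal subgroups. Then Y_H ∩ L = Y_H ∩ Y_L and this subgroup is a p-reduced normal subgroup of L; C_L(Y_L) = C_L(Y_H) = C_L(Y_H ∩ L); and if O^p(H) ≤ L, then [Y_L, L] = 1 if and only if [Y_H, H] = 1. -/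
theorem result {H : Type*} [Group H] [Finite H] {p : ℕ} [Fact p.Prime] (L : Subgroup H) (hL : L.IsSubnormal) : Cfsg.largestPReduced p H ⊓ L = Cfsg.largestPReduced p H ⊓ (Cfsg.largestPReducedOf p L) ∧ Cfsg.IsPReducedNormal p ((Cfsg.largestPReduced p H ⊓ L).subgroupOf L) ∧ L ⊓ Subgroup.centralizer ((Cfsg.largestPReducedOf p L : Subgroup H) : Set H) = L ⊓ Subgroup.centralizer (Cfsg.largestPReduced p H : Set H) ∧ L ⊓ Subgroup.centralizer (Cfsg.largestPReduced p H : Set H) = L ⊓ Subgroup.centralizer ((Cfsg.largestPReduced p H ⊓ L : Subgroup H) : Set H) ∧ (Cfsg.pResidual p H ≤ L → (⁅(Cfsg.largestPReducedOf p L), L⁆ = ⊥ ↔ ⁅Cfsg.largestPReduced p H, (⊤ : Subgroup H)⁆ = ⊥)) := by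
  have hS := sn_top_iff.2 hL
  rw [← Y_top]
  have hP := pred_Y p (⊤ : Subgroup H)
  refine ⟨le_antisymm (le_inf inf_le_left hS.inf_Y_le) (inf_le_inf_left _ (Y_le L)),
    (isPReducedNormal_subgroupOf_iff inf_le_right).2 (hP.inf_sn hS), hS.inf_centralizer_Y,
    (hP.inf_centralizer_inf_sn hS).symm, fun hR => ⟨fun h => ?_, fun h => ?_⟩⟩
  · have h1 : L ≤ 𝐂(𝐘(p, (⊤ : Subgroup H))) :=
      ((le_inf le_rfl (le_centralizer_comm.1 (le_centralizer_of_commutator_eq_bot h))).trans
        hS.inf_centralizer_Y.le).trans inf_le_right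
    refine commutator_eq_bot_of_le_centralizer (le_centralizer_comm.1 ?_)
    refine hP.red ⊤ le_rfl le_normalizer_of_normal ?_
    rw [res_top]
    exact hR.trans h1
  · have h1 := le_centralizer_comm.1 (le_centralizer_of_commutator_eq_bot h)
    exact commutator_eq_bot_of_le_centralizer (le_centralizer_comm.1
      (((le_inf le_rfl (le_top.trans h1)).trans hS.inf_centralizer_Y.ge).trans inf_le_right))

end Cfsg.Agent.S2825
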