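import Cfsg.Statements.S2826
import Mathlib
import Cfsg.Agent.Base
import Cfsg.Agent.Lib.LocEven.PIrr

set_option autoImplicit false
open Cfsg

namespace Cfsg.Agent.S2826

open Subgroup H68 H69
open scoped commutatorElement

/-- Let H be a finite group of characteristic p, T a Sylow p-subgroup, and V a normal elementary abelian p-subgroup of H containing Ω₁(Z(T)). Then C_H(Ω₁(Z(T))) = C_H([V, O^p(H)] ∩ Ω₁(Z(T))), O^p(H) being generated by the elements of order prime to p. -/
theorem result {H : Type*} [Group H] [Finite H] {p : ℕ} [Fact p.Prime] (hH : Subgroup.centralizer (Cfsg.pCore p H : Set H) ≤ Cfsg.pCore p H) (T : Sylow p H) (V : Subgroup H) [V.Normal] (hV : Cfsg.IsElementaryAbelian p V) (hZV : (Cfsg.omegaOne p ((T : Subgroup H) ⊓ Subgroup.centralizer (((T : Subgroup H) : Subgroup H) : Set H))) ≤ V) : Subgroup.centralizer ((Cfsg.omegaOne p ((T : Subgroup H) ⊓ Subgroup.centralizer (((T : Subgroup H) : Subgroup H) : Set H))) : Set H) = Subgroup.centralizer (((⁅V, Cfsg.pResidual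 p H⁆ ⊓ (Cfsg.omegaOne p ((T : Subgroup H) ⊓ Subgroup.centralizer (((T : Subgroup H) : Subgroup H) : Set H)))) : Subgroup H) : Set H) := by
  have := H4.pResidual_normal p H
  refine le_antisymm (centralizer_anti inf_le_right) fun g hg => ?_
  rw [mem_centralizer_iff]
  intro z hz
  have hzT := (mem_oz.1 hz)
  have hWV : ⁅V, pResidual p H⁆ ≤ V := commutator_le_left _ _
  obtain ⟨w, hw, c, hc, e⟩ := gaschutz_fixed_sylow (W := ⁅V, pResidual p H⁆) (L := ⊤) (T := T)
    (H24.isMulCommutative_of_le hV.1 hWV) ((H24.EA.isPGroup hV).to_le hWV)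
    (normal_iff_top_le_normalizer.1 inferInstance) (isSylowIn_top T) hzT.2.1
    (fun x _ => by
      have hx : x ∈ pResidual p H ⊔ T := by rw [H4.pResidual_sup_sylow]; exact mem_top x
      obtain ⟨k, hk, t, ht, rfl⟩ := (mem_sup_of_le_normalizer_left
        (le_top.trans (normal_iff_top_le_normalizer.1 inferInstance))).1 hx
      have : ⁅z, k * t⁆ = ⁅z, k⁆ := by
        have h1 := mem_centralizer_iff.1 hzT.2.1 t ht
        simp only [commutatorElement_def]
        calc z * (k * t) * z⁻¹ * (k * t)⁻¹ = z * k * z⁻¹ * (z * t) * z⁻¹ * t⁻¹ * k⁻¹ := by group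
          _ = z * k * z⁻¹ * (t * z) * z⁻¹ * t⁻¹ * k⁻¹ := by rw [h1]
          _ = z * k * z⁻¹ * k⁻¹ := by group
      rw [this]; exact commutator_mem_commutator (hZV hz) hk)
  have hcg : ∀ x, x * c = c * x := fun x => mem_centralizer_iff.1 hc x (mem_top x)
  have hwz : w ∈ oz p (T : Subgroup H) := by
    have hVT : V ≤ T := (H1.le_pCore (H24.EA.isPGroup hV)).trans (H1.pCore_le_sylow T)
    refine mem_oz.2 ⟨hVT (hWV hw), ?_, hV.2 _ (hWV hw)⟩
    rw [mem_centralizer_iff]
    intro t ht
    have h1 := mem_centralizer_iff.1 hzT.2.1 t ht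
    rw [e] at h1
    calc t * w = t * (w * c) * c⁻¹ := by group
      _ = w * (c * t) * c⁻¹ := by rw [h1, mul_assoc w]
      _ = w * t := by rw [← hcg t]; group
  have h2 := mem_centralizer_iff.1 hg w ⟨hw, hwz⟩
  rw [e]
  calc w * c * g = w * g * c := by rw [mul_assoc, ← hcg g, mul_assoc]
    _ = g * (w * c) := by rw [h2, mul_assoc]

end Cfsg.Agent.S2826
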