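import Cfsg.Statements.S2828
import Mathlib
import Cfsg.Agent.Base
import Cfsg.Agent.Lib.LocEven.PIrr

set_option autoImplicit false
open Cfsg

namespace Cfsg.Agent.S2828

open Subgroup H68 H69

/-- Let H be a finite group, p a prime and D a normal p-subgroup of H. Then H is p-irreducible if and only if H/D is p-irreducible, and H is strongly p-irreducible if and only if H/D is strongly p-irreducible. -/
theorem result {H : Type*} [Group H] [Finite H] {p : ℕ} [Fact p.Prime] (D : Subgroup H) [D.Normal] (hD : IsPGroup p ↥D) : (Cfsg.IsPIrreducible p H ↔ Cfsg.IsPIrreducible p (H ⧸ D)) ∧ (Cfsg.IsStronglyPIrreducible p H ↔ Cfsg.IsStronglyPIrreducible p (H ⧸ D)) := by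
  have hf := QuotientGroup.mk'_surjective D
  have hk : IsPGroup p (QuotientGroup.mk' D).ker := by rw [QuotientGroup.ker_mk']; exact hD
  have hc := isPClosed_iff_of_surjective hf hk
  have hr := H4.map_pResidual_eq_of_surjective (n := p) hf
  have key1 : ∀ N : Subgroup (H ⧸ D), pResidual p H ≤ N.comap (QuotientGroup.mk' D) →
      pResidual p (H ⧸ D) ≤ N := fun N h => by rw [← hr]; exact map_le_iff_le_comap.2 h
  have key2 : ∀ N : Subgroup H, N.Normal → pResidual p (H ⧸ D) ≤ N.map (QuotientGroup.mk' D) →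
      pResidual p H ≤ N := fun N hN h => by
    rw [← hr, map_le_iff_le_comap, comap_map_eq] at h
    exact pResidual_le_of_le_sup hk (le_top.trans (normal_iff_top_le_normalizer.1 hN)) h
  have key3 : ∀ N : Subgroup H, ⁅N.map (QuotientGroup.mk' D), (⊤ : Subgroup (H ⧸ D))⁆ ≤ pCore p (H ⧸ D) ↔
      ⁅N, (⊤ : Subgroup H)⁆ ≤ pCore p H := fun N => by
    rw [← map_top_of_surjective _ hf, ← map_commutator, map_le_iff_le_comap, H1.comap_mk'_pCore hD]
  refine ⟨⟨fun h => ⟨fun e => h.1 (hc.1 e), fun N hN hN' => key1 N (h.2 _ (hN.comap _) fun e => hN' ?_)⟩,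
    fun h => ⟨fun e => h.1 (hc.2 e), fun N hN hN' => key2 N hN (h.2 _ (hN.map _ hf) fun e => hN' ?_)⟩⟩,
    ⟨fun h => ⟨fun e => h.1 (hc.1 e), fun N hN hN' => key1 N (h.2 _ (hN.comap _) fun e => hN' ?_)⟩,
    fun h => ⟨fun e => h.1 (hc.2 e), fun N hN hN' => key2 N hN (h.2 _ (hN.map _ hf) fun e => hN' ?_)⟩⟩⟩
  · rw [← map_comap_eq_self_of_surjective hf N]; exact IsPClosed.map' _ e
  · exact isPClosed_of_map hk e
  · rw [← map_comap_eq_self_of_surjective hf N]; exact (key3 _).2 e
  · exact (key3 _).1 e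

end Cfsg.Agent.S2828
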