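import Cfsg.Statements.S2829
import Mathlib
import Cfsg.Agent.Base
import Cfsg.Agent.Lib.LocEven.PIrr

set_option autoImplicit false
open Cfsg

namespace Cfsg.Agent.S2829

open Subgroup H68 H69

/-- Every strongly p-irreducible finite group is p-irreducible. -/
theorem result {H : Type*} [Group H] [Finite H] {p : ℕ} [Fact p.Prime] (hH : Cfsg.IsStronglyPIrreducible p H) : Cfsg.IsPIrreducible p H := by
  refine ⟨hH.1, fun N hN hc => hH.2 N hN fun h => hc ?_⟩
  obtain ⟨T, hT⟩ := exists_isSylowIn p N
  refine isPClosed_of_normal_sylow hT (le_normalizer_of_commutator_le_right ?_)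
  refine le_trans ?_ hT.pCoreOf_le
  rw [H1.pCoreOf_eq_inf]
  exact le_inf ((commutator_mono le_rfl le_top).trans h) (commutator_le_left _ _)

end Cfsg.Agent.S2829
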