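import Cfsg.Statements.S2830
import Mathlib
import Cfsg.Agent.Base
import Cfsg.Agent.Lib.LocEven.PIrr

set_option autoImplicit false
open Cfsg

namespace Cfsg.Agent.S2830

open Subgroup H68 H69

/-- Let H act by conjugation on the elementary abelian p-subgroup V of a finite group G (H ≤ N(V)), with H p-irreducible and O^p(H) not centralizing V. Then C_H(V) is p-closed and C_T(V) ≤ O_p(H) for every p-subgroup T of H. If in addition O_p(H) centralizes V, then C_T(V) = T ∩ O_p(H) for every p-subgroup T of H, and V is p-reduced for H: O_p(H/C_H(V)) = 1. -/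
theorem result {G : Type*} [Group G] [Finite G] {p : ℕ} [Fact p.Prime] (V H : Subgroup G) (hV : Cfsg.IsElementaryAbelian p V) (hHV : H ≤ Subgroup.normalizer (V : Set G)) (hH : Cfsg.IsPIrreducible p ↥H) (hnc : ¬ (Cfsg.pResidual p ↥H).map H.subtype ≤ Subgroup.centralizer (V : Set G)) [hn : ((Subgroup.centralizer (V : Set G)).subgroupOf H).Normal] : Cfsg.IsPClosed p ↥(H ⊓ Subgroup.centralizer (V : Set G)) ∧ (∀ T : Subgroup G, T ≤ H → IsPGroup p ↥T → T ⊓ Subgroup.centralizer (V : Set G) ≤ Cfsg.pCoreOf p H) ∧ (Cfsg.pCoreOf p H ≤ Subgroup.centralizer (V : Set G) → (∀ T : Subgroup G, T ≤ H → IsPGroup p ↥T → T ⊓ Subgroup.centralizer (V : Set G) = T ⊓ Cfsg.pCoreOf p H) ∧ Cfsg.pCore p (↥H ⧸ (Subgroup.centralizer (V : Set G)).subgroupOf H) = ⊥) := by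
  have hmap : (𝐂(V).subgroupOf H).map H.subtype = H ⊓ 𝐂(V) := by rw [subgroupOf_map_subtype, inf_comm]
  have h1 : IsPClosed p ↥(H ⊓ 𝐂(V)) := by
    rw [← hmap, isPClosed_map_subtype_iff]
    by_contra hc
    exact hnc (le_subgroupOf_iff.1 (hH.2 _ hn hc))
  have h2 : ∀ T : Subgroup G, T ≤ H → IsPGroup p ↥T → T ⊓ 𝐂(V) ≤ pCoreOf p H := fun T hT hTp =>
    (isPClosed_iff_forall.1 h1 _ (inf_le_inf_right _ hT) (hTp.to_le inf_le_left)).trans
      (H70.pCoreOf_le_pCoreOf_of_normal inf_le_left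
        (le_normalizer_inf le_normalizer (le_normalizer_centralizer hHV)))
  refine ⟨h1, h2, fun h => ⟨fun T hT hTp => le_antisymm (le_inf inf_le_left (h2 T hT hTp))
    (inf_le_inf_left _ h), ?_⟩⟩
  set C := 𝐂(V).subgroupOf H with hC
  set D := (pCore p (H ⧸ C)).comap (QuotientGroup.mk' C) with hD
  have hDn : D.Normal := Normal.comap inferInstance _
  have hres : 𝐑(p, D) ≤ C := by
    apply res_le_of_pow_mem
    intro x hx
    obtain ⟨k, hk⟩ := H69.isPGroup_iff_mem.1 (H1.isPGroup_pCore (p := p) (G := H ⧸ C)) _ hx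
    exact ⟨k, by rw [← QuotientGroup.eq_one_iff, QuotientGroup.mk_pow]; exact hk⟩
  have hDc : IsPClosed p D := by
    by_contra hc
    apply hnc
    rw [← le_subgroupOf_iff, ← res_pResidual]
    exact (res_mono (hH.2 D hDn hc)).trans hres
  obtain ⟨S, hS⟩ := exists_isSylowIn p D
  have hSC : S ≤ C := by
    refine (le_pCore_of_isPClosed hDc hS.isP hS.le).trans ?_
    rw [hC, le_subgroupOf_iff]; exact h
  have hDC : D ≤ C := hS.eq_of_res_le hSC hres
  rw [eq_bot_iff, ← map_comap_eq_self_of_surjective (QuotientGroup.mk'_surjective C) (pCore p (H ⧸ C)),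
    map_le_iff_le_comap, MonoidHom.comap_bot, QuotientGroup.ker_mk']
  exact hDC

end Cfsg.Agent.S2830
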