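import Cfsg.Statements.S2833
import Mathlib
import Cfsg.Agent.Base
import Cfsg.Agent.Lib.LocEven.PIrr

set_option autoImplicit false
open Cfsg

namespace Cfsg.Agent.S2833

open Subgroup H69

/-- Let V be a subgroup of a finite group G normalized by the subgroup L, let X ≤ L and g ∈ L with [V, X, X] = 1 and L generated by X and gXg⁻¹. Put W = [V, L]. Then W = [V, X]·[V, gXg⁻¹], C_W(X) = [V, X], and C_W(L) = [V, X] ∩ [V, gXg⁻¹]. -/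
theorem result {G : Type*} [Group G] [Finite G] (V L : Subgroup G) (hLV : L ≤ Subgroup.normalizer (V : Set G)) (X : Subgroup G) (hX : X ≤ L) (g : G) (hg : g ∈ L) (hq : ⁅⁅V, X⁆, X⁆ = ⊥) (hgen : X ⊔ X.map (MulAut.conj g).toMonoidHom = L) (W : Subgroup G) (hW : W = ⁅V, L⁆) : ⁅V, X⁆ ⊔ ⁅V, X.map (MulAut.conj g).toMonoidHom⁆ = W ∧ W ⊓ Subgroup.centralizer (X : Set G) = ⁅V, X⁆ ∧ W ⊓ Subgroup.centralizer (L : Set G) = ⁅V, X⁆ ⊓ ⁅V, X.map (MulAut.conj g).toMonoidHom⁆ := by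
  have hgV : V ^ᶜ g = V := cj_eq_of_mem_normalizer (hLV hg)
  have hgL : L ^ᶜ g = L := cj_eq_of_mem hg
  have hXg : X ^ᶜ g ≤ L := cj_le_of_mem hX hg
  have hB : ⁅V, X⁆ ^ᶜ g = ⁅V, X ^ᶜ g⁆ := by rw [cj_commutator, hgV]
  have hAc : ⁅V, X⁆ ≤ 𝐂(X) := le_centralizer_of_commutator_eq_bot hq
  have hBc : ⁅V, X ^ᶜ g⁆ ≤ 𝐂(X ^ᶜ g) := by rw [← hB, ← cj_centralizer]; exact cj_mono g hAc
  have hAV : ⁅V, X⁆ ≤ V := commutator_le_left_of_le_normalizer (hX.trans hLV)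
  have hBV : ⁅V, X ^ᶜ g⁆ ≤ V := commutator_le_left_of_le_normalizer (hXg.trans hLV)
  have hVn : V ≤ 𝐍(⁅V, X⁆ ⊔ ⁅V, X ^ᶜ g⁆) :=
    le_normalizer_sup (normalizer_commutator_ge_left _ _) (normalizer_commutator_ge_left _ _)
  have hn : ∀ Y : Subgroup G, ⁅V, Y⁆ ≤ ⁅V, X⁆ ⊔ ⁅V, X ^ᶜ g⁆ → Y ≤ 𝐍(⁅V, X⁆ ⊔ ⁅V, X ^ᶜ g⁆) :=
    fun Y hY => le_normalizer_of_commutator_le_left ((commutator_mono (sup_le hAV hBV) le_rfl).trans hY)
  have h1 : ⁅V, X⁆ ⊔ ⁅V, X ^ᶜ g⁆ = W := by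
    rw [hW]
    refine le_antisymm (sup_le (commutator_mono le_rfl hX) (commutator_mono le_rfl hXg)) ?_
    rw [← hgen]
    exact commutator_sup_le_right (hn _ le_sup_left) (hn _ le_sup_right) le_sup_left le_sup_right
  have h2 : W ⊓ 𝐂(X) = ⁅V, X⁆ := by
    rw [← h1, dedekind_right (hAV.trans (normalizer_commutator_ge_left _ _)) hAc]
    refine sup_eq_left.2 fun b hb => ?_
    have hbL : b ∈ 𝐂(L) := by rw [← hgen, centralizer_sup]; exact ⟨hb.2, hBc hb.1⟩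
    have hb1 := hb.1
    rw [← hB] at hb1
    have := mem_cj.1 hb1
    have e : g⁻¹ * b * g = b := by
      rw [mul_assoc, ← mem_centralizer_iff.1 hbL g hg]; group
    rwa [e] at this
  refine ⟨h1, h2, ?_⟩
  have h3 : W ⊓ 𝐂(X ^ᶜ g) = ⁅V, X ^ᶜ g⁆ := by
    rw [← hB, ← h2, cj_inf, cj_centralizer, hW, cj_commutator, hgV, hgL]
  rw [← h2, ← h3, ← hgen, centralizer_sup, inf_inf_distrib_left]

end Cfsg.Agent.S2833
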