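import Cfsg.Statements.S2835
import Mathlib
import Cfsg.Agent.Base
import Cfsg.Agent.Lib.LocEven.PIrr

set_option autoImplicit false
open Cfsg

namespace Cfsg.Agent.S2835

open Subgroup H68 H69

/-- Let L be a finite group, L₀ a maximal subgroup, T a Sylow p-subgroup of L₀ and Y ≤ T, and suppose L is Y-minimal (generated by the conjugates of Y, with Y in exactly one maximal subgroup, necessarily L₀). Then N_L(T) ≤ L₀, O_p(L) ≤ L₀ and T is a Sylow p-subgroup of L; N_L(L₀) = L₀; L = ⟨Y, gYg⁻¹⟩ for each g ∈ L outside L₀; and if Y is abelian then Y ∩ gYg⁻¹ = C_Y(L) for each such g. -/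
theorem result {L : Type*} [Group L] [Finite L] {p : ℕ} [Fact p.Prime] (L₀ : Subgroup L) (hL₀ : IsCoatom L₀) (T : Sylow p ↥L₀) (Y : Subgroup L) (hYT : Y ≤ (T : Subgroup ↥L₀).map L₀.subtype) (hmin : Cfsg.IsMinimalOver Y) : Subgroup.normalizer (((T : Subgroup ↥L₀).map L₀.subtype : Subgroup L) : Set L) ≤ L₀ ∧ Cfsg.pCore p L ≤ L₀ ∧ (∃ P : Sylow p L, (P : Subgroup L) = (T : Subgroup ↥L₀).map L₀.subtype) ∧ Subgroup.normalizer (L₀ : Set L) = L₀ ∧ (∀ g : L, g ∉ L₀ → Y ⊔ Y.map (MulAut.conj g).toMonoidHom = ⊤) ∧ (IsMulCommutative ↥Y → ∀ g : L, g ∉ L₀ → Y ⊓ Y.map (MulAut.conj g).toMonoidHom = Y ⊓ Subgroup.center L) := by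
  set S := (T : Subgroup ↥L₀).map L₀.subtype with hS
  have hSL : S ≤ L₀ := map_subtype_le _
  have hY : Y ≤ L₀ := hYT.trans hSL
  have h1 : 𝐍(S) ≤ L₀ := fun g hg =>
    minOver_mem_of_cj_le hmin hL₀ hY ((H69.cj_le_of_mem_normalizer hYT hg).trans hSL)
  have h2 : IsSylowIn p S ⊤ := isSylowIn_of_normalizer le_top
    ((isSylowIn_map_subtype T).mono (le_inf le_top le_normalizer) (inf_le_right.trans h1))
  refine ⟨h1, ?_, h2.exists_sylow_top, minOver_normalizer hmin hL₀ hY,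
    fun g hg => minOver_sup_cj hmin hL₀ hY hg, fun hc g hg => le_antisymm (le_inf inf_le_left ?_) ?_⟩
  · rw [← H1.pCoreOf_top]; exact h2.pCoreOf_le.trans hSL
  · have hYc : Y ≤ 𝐂(Y) := le_centralizer Y
    rw [← centralizer_top, ← minOver_sup_cj hmin hL₀ hY hg, centralizer_sup]
    refine inf_le_inf hYc ?_
    rw [← H69.cj_centralizer]; exact H69.cj_mono g hYc
  · refine le_inf inf_le_left fun y hy => H69.mem_cj.2 ?_
    have e : g⁻¹ * y * g = y := by
      rw [mul_assoc, ← mem_center_iff.1 hy.2 g]; group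
    rw [e]; exact hy.1

end Cfsg.Agent.S2835
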