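import Cfsg.Statements.S2836
import Mathlib
import Cfsg.Agent.Lib.LocStruct.YMin

set_option autoImplicit false
open Cfsg

namespace Cfsg.Agent.S2836

open Subgroup H69
open scoped commutatorElement Pointwise


/-- Let L be a finite group, L₀ a maximal subgroup, T a Sylow p-subgroup of L₀, Y ≤ T, and suppose L is Y-minimal. Let D be the intersection of the conjugates of L₀ (the core of L₀). Then D contains O_p(L) and D/O_p(L) is the Frattini subgroup of L/O_p(L), so D is p-closed; and every normal subgroup N of L contained in L₀ is p-closed with N/O_p(N) a nilpotent group of order prime to p. -/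
theorem result {L : Type*} [Group L] [Finite L] {p : ℕ} [Fact p.Prime] (L₀ : Subgroup L) (hL₀ : IsCoatom L₀) (T : Sylow p ↥L₀) (Y : Subgroup L) (hYT : Y ≤ (T : Subgroup ↥L₀).map L₀.subtype) (hmin : Cfsg.IsMinimalOver Y) : (Cfsg.pCore p L ≤ L₀.normalCore ∧ (L₀.normalCore).map (QuotientGroup.mk' (Cfsg.pCore p L)) = frattini (L ⧸ Cfsg.pCore p L) ∧ Cfsg.IsPClosed p ↥(L₀.normalCore)) ∧ ∀ (N : Subgroup L) [N.Normal], N ≤ L₀ → Cfsg.IsPClosed p ↥N ∧ Group.IsNilpotent (↥N ⧸ Cfsg.pCore p ↥N) ∧ (Nat.card (↥N ⧸ Cfsg.pCore p ↥N)).Coprime p := by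
  have h := ym_top_of hmin hL₀ (hYT.trans (map_subtype_le _))
  have hY : IsPGroup p Y := (T.isPGroup'.map _).to_le hYT
  have hn : ∀ (N : Subgroup L) [N.Normal], (⊤ : Subgroup L) ≤ 𝐍(N) := fun N _ =>
    normalizer_eq_top N |>.ge
  have hO : Cfsg.pCore p L ≤ L₀ := by
    have := h.pCoreOf_le hY
    rwa [H70.pCoreOf_top] at this
  have hle : ∀ (N : Subgroup L) [N.Normal], N ≤ L₀ →
      N.map (QuotientGroup.mk' (Cfsg.pCore p L)) ≤ frattini (L ⧸ Cfsg.pCore p L) := by
    intro N _ hN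
    rw [map_mk'_le_frattini_iff]
    intro X hX hOX
    refine h.le_of_maximal hY hN (hn N) hX.lt_top ?_ fun Z hZ _ => hX.2 Z hZ
    rw [H70.pCoreOf_top]
    exact inf_le_left.trans hOX
  refine ⟨⟨normal_le_normalCore.2 hO, le_antisymm (hle _ (normalCore_le _)) ?_,
    h.isPClosed hY (normalCore_le _) (hn _)⟩, fun N _ hN => ⟨h.isPClosed hY hN (hn N), ?_, ?_⟩⟩
  · have h1 : ((frattini (L ⧸ Cfsg.pCore p L)).comap (QuotientGroup.mk' (Cfsg.pCore p L))).map
        (QuotientGroup.mk' (Cfsg.pCore p L)) = frattini (L ⧸ Cfsg.pCore p L) :=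
      map_comap_eq_self_of_surjective (QuotientGroup.mk'_surjective _) _
    rw [← h1]
    exact map_mono (normal_le_normalCore.2 ((map_mk'_le_frattini_iff _ _).1 h1.le L₀ hL₀ hO))
  · let φ : N →* L ⧸ Cfsg.pCore p L := (QuotientGroup.mk' (Cfsg.pCore p L)).comp N.subtype
    have hk : Cfsg.pCore p N = φ.ker := by
      rw [← MonoidHom.comap_ker, QuotientGroup.ker_mk', ← H70.pCoreOf_subgroupOf,
        H1.pCoreOf_eq_inf, inf_subgroupOf_right]
      rfl
    have hr : φ.range ≤ frattini (L ⧸ Cfsg.pCore p L) := by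
      rw [MonoidHom.range_comp, range_subtype]
      exact hle N hN
    haveI : Group.IsNilpotent (frattini (L ⧸ Cfsg.pCore p L)) := frattini_nilpotent
    haveI : Group.IsNilpotent φ.range :=
      Group.nilpotent_of_mulEquiv (subgroupOfEquivOfLe hr)
    exact Group.nilpotent_of_mulEquiv
      ((QuotientGroup.quotientMulEquivOfEq hk).trans (QuotientGroup.quotientKerEquivRange φ)).symm
  · have h1 := (isPClosed_iff_isSylowIn.1 (h.isPClosed hY hN (hn N))).not_dvd_relIndex
    rw [relIndex, H70.pCoreOf_subgroupOf, index] at h1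
    exact ((Nat.Prime.coprime_iff_not_dvd Fact.out).2 h1).symm

end Cfsg.Agent.S2836
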