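import Cfsg.Statements.S2837
import Mathlib
import Cfsg.Agent.Lib.LocStruct.YMin

set_option autoImplicit false
open Cfsg

namespace Cfsg.Agent.S2837

open Subgroup H69
open scoped commutatorElement Pointwise


/-- Let L be a finite group of characteristic p, L₀ a maximal subgroup, Y an elementary abelian p-subgroup of L₀ with L Y-minimal and O_p(L) ≤ N_L(Y). Put A = the normal closure of O_p(L) ∩ Y in L. Then for every g ∈ L outside L₀: Φ(A) = A' = [A ∩ Y, A] = [A ∩ Y, A ∩ gYg⁻¹] ≤ C_Y(L), and Y ∩ gYg⁻¹ = (A ∩ Y) ∩ (A ∩ gYg⁻¹) = C_Y(L) = C_A(L). -/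
theorem result {L : Type*} [Group L] [Finite L] {p : ℕ} [Fact p.Prime] (hchar : Subgroup.centralizer (Cfsg.pCore p L : Set L) ≤ Cfsg.pCore p L) (L₀ : Subgroup L) (hL₀ : IsCoatom L₀) (Y : Subgroup L) (hYL₀ : Y ≤ L₀) (hYel : Cfsg.IsElementaryAbelian p Y) (hmin : Cfsg.IsMinimalOver Y) (hOY : Cfsg.pCore p L ≤ Subgroup.normalizer (Y : Set L)) (A : Subgroup L) (hA : A = Subgroup.normalClosure (((Cfsg.pCore p L ⊓ Y : Subgroup L)) : Set L)) (g : L) (hg : g ∉ L₀) : (frattini ↥A).map A.subtype = ⁅A, A⁆ ∧ ⁅A, A⁆ = ⁅A ⊓ Y, A⁆ ∧ ⁅A ⊓ Y, A⁆ = ⁅A ⊓ Y, A ⊓ Y.map (MulAut.conj g).toMonoidHom⁆ ∧ ⁅A ⊓ Y, A⁆ ≤ Y ⊓ Subgroup.center L ∧ Y ⊓ Y.map (MulAut.conj g).toMonoidHom = Y ⊓ Subgroup.center L ∧ (A ⊓ Y) ⊓ (A ⊓ Y.map (MulAut.conj g).toMonoidHom) = Y ⊓ Subgroup.center L ∧ A ⊓ Subgroup.center L = Y ⊓ Subgroup.center L := by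
  have h := ym_top_of hmin hL₀ hYL₀
  have hYc : Y ≤ 𝐂(Y) := le_centralizer_iff_isMulCommutative.2 hYel.1
  have hYc' : Y ^ᶜ g ≤ 𝐂(Y ^ᶜ g) := by
    rw [← cj_centralizer]; exact cj_mono g hYc
  set O := Cfsg.pCore p L with hO
  have hn : (⊤ : Subgroup L) ≤ 𝐍(O) := (normalizer_eq_top O).ge
  have hOY' : O ≤ 𝐍(Y ^ᶜ g) := by
    rw [← cj_normalizer, ← cj_eq_of_normal O g]
    exact cj_mono g hOY
  have hA2 : A = (O ⊓ Y) ⊔ (O ⊓ Y ^ᶜ g) := by
    rw [hA, ← ncl_top, h.ncl_inf_eq hn hOY (mem_top g) hg]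
  have hAO : A ≤ O := hA2 ▸ sup_le inf_le_left inf_le_left
  have e1 : A ⊓ Y = O ⊓ Y :=
    le_antisymm (inf_le_inf_right _ hAO) (le_inf (hA2 ▸ le_sup_left) inf_le_right)
  have e2 : A ⊓ Y ^ᶜ g = O ⊓ Y ^ᶜ g :=
    le_antisymm (inf_le_inf_right _ hAO) (le_inf (hA2 ▸ le_sup_right) inf_le_right)
  have hC : ⁅O ⊓ Y, O ⊓ Y ^ᶜ g⁆ ≤ Y ⊓ center L := by
    rw [← centralizer_top]
    exact h.commutator_inf_le hYc hn hOY (mem_top g) hg
  have hCn : (⊤ : Subgroup L) ≤ 𝐍(⁅O ⊓ Y, O ⊓ Y ^ᶜ g⁆) :=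
    le_normalizer_of_le_centralizer (le_centralizer_comm.1 (by
      rw [centralizer_top]; exact hC.trans inf_le_right))
  have e3 : ⁅A, A⁆ ≤ ⁅O ⊓ Y, O ⊓ Y ^ᶜ g⁆ := by
    rw [hA2]
    refine commutator_sup_sup_le (le_top.trans hCn) (le_top.trans hCn) ?_ ?_ le_rfl
    · rw [commutator_eq_bot_of_le_centralizer
        ((inf_le_right.trans hYc).trans (centralizer_anti inf_le_right))]
      exact bot_le
    · rw [commutator_eq_bot_of_le_centralizer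
        ((inf_le_right.trans hYc').trans (centralizer_anti inf_le_right))]
      exact bot_le
  have e4 : ⁅O ⊓ Y, O ⊓ Y ^ᶜ g⁆ ≤ ⁅O ⊓ Y, A⁆ := commutator_mono le_rfl (e2.ge.trans inf_le_left)
  have e5 : ⁅O ⊓ Y, A⁆ ≤ ⁅A, A⁆ := commutator_mono (e1.ge.trans inf_le_left) le_rfl
  have hdec : ∀ x ∈ A, ∃ a ∈ O ⊓ Y, ∃ b ∈ O ⊓ Y ^ᶜ g, x = a * b := by
    intro x hx
    rw [hA2] at hx
    exact (mem_sup_of_le_normalizer_right (inf_le_left.trans
      (le_normalizer_inf (le_top.trans hn) hOY'))).1 hx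
  have hAp : IsPGroup p A := H1.isPGroup_pCore.to_le hAO
  have e6 : Y ⊓ Y ^ᶜ g = Y ⊓ center L := by
    rw [← centralizer_top]
    exact h.inf_cj_eq hYc (mem_top g) hg
  have hZO : center L ≤ O := by
    refine le_trans ?_ hchar
    rw [← centralizer_top]
    exact centralizer_anti le_top
  rw [e1, e2]
  refine ⟨le_antisymm ((H1.map_subtype_frattini_le_iff hAp).2 ⟨le_rfl, fun x hx => ?_⟩)
    ((H1.map_subtype_frattini_le_iff hAp).1 le_rfl).1, le_antisymm (e3.trans e4) e5,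
    le_antisymm (e5.trans e3) e4, (e5.trans e3).trans hC, e6, ?_, ?_⟩
  · obtain ⟨a, ha, b, hb, rfl⟩ := hdec x hx
    haveI : (⁅O ⊓ Y, O ⊓ Y ^ᶜ g⁆ : Subgroup L).Normal := normal_iff_top_le_normalizer.2 hCn
    refine (e4.trans e5) ((QuotientGroup.eq_one_iff _).1 ?_)
    rw [QuotientGroup.mk_pow, QuotientGroup.mk_mul]
    have hc : Commute (a : L ⧸ (⁅O ⊓ Y, O ⊓ Y ^ᶜ g⁆ : Subgroup L)) b := by
      rw [← commutatorElement_eq_one_iff_commute]
      have := (QuotientGroup.eq_one_iff _).2 (commutator_mem_commutator ha hb)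
      exact this
    have hb' : b ^ p = 1 := by
      obtain ⟨c, hc', rfl⟩ := mem_cj'.1 hb.2
      rw [conj_pow, hYel.2 c hc']; simp
    rw [hc.mul_pow, ← QuotientGroup.mk_pow, ← QuotientGroup.mk_pow, hYel.2 a ha.2, hb']
    exact mul_one _
  · refine le_antisymm ((inf_le_inf inf_le_right inf_le_right).trans e6.le) ?_
    exact le_inf (le_inf (inf_le_right.trans hZO) inf_le_left)
      (le_inf (inf_le_right.trans hZO) (e6.ge.trans inf_le_right))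
  · refine le_antisymm (fun x hx => ⟨?_, hx.2⟩)
      (le_inf ((le_inf (inf_le_right.trans hZO) inf_le_left).trans (e1.ge.trans inf_le_left))
        inf_le_right)
    obtain ⟨a, ha, b, hb, rfl⟩ := hdec x hx.1
    have hx2 : a * b ∈ 𝐂(Y) := by
      refine centralizer_anti (le_top (a := Y)) ?_
      rw [centralizer_top]; exact hx.2
    have hb1 : b ∈ 𝐂(Y) := by
      have := (𝐂(Y)).mul_mem ((𝐂(Y)).inv_mem (hYc ha.2)) hx2
      simpa using this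
    have hb2 : b ∈ center L := by
      rw [← centralizer_top, ← h.sup_cj (mem_top g) hg, centralizer_sup]
      exact ⟨hb1, hYc' hb.2⟩
    have hb3 : b ∈ Y := by
      have := mem_cj.1 hb.2
      rwa [mem_center_iff.1 hb2 g⁻¹, mul_assoc, inv_mul_cancel, mul_one] at this
    exact Y.mul_mem ha.2 hb3

end Cfsg.Agent.S2837
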