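import Cfsg.Statements.S2838
import Mathlib
import Cfsg.Agent.Lib.LocStruct.WeakClosed

set_option autoImplicit false
open Cfsg

namespace Cfsg.Agent.S2838

open Subgroup H69
open scoped commutatorElement Pointwise


/-- For a nontrivial p-subgroup Q of a finite group H the following are equivalent: Q is a weakly closed subgroup (it is the only H-conjugate of itself inside some Sylow p-subgroup containing it); Q = P for every conjugate P of Q with [Q, P] ≤ Q ∩ P; Q is normal in N_H(R) for every p-subgroup R of H containing Q. -/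
theorem result {H : Type*} [Group H] [Finite H] {p : ℕ} [Fact p.Prime] (Q : Subgroup H) (hQp : IsPGroup p ↥Q) (hQ1 : Q ≠ ⊥) : (Cfsg.IsWeaklyClosedSubgroup p Q ↔ ∀ g : H, ⁅Q, ((Q : Subgroup H).map (MulAut.conj (g : H)).toMonoidHom)⁆ ≤ Q ⊓ ((Q : Subgroup H).map (MulAut.conj (g : H)).toMonoidHom) → ((Q : Subgroup H).map (MulAut.conj (g : H)).toMonoidHom) = Q) ∧ (Cfsg.IsWeaklyClosedSubgroup p Q ↔ ∀ R : Subgroup H, IsPGroup p ↥R → Q ≤ R → Subgroup.normalizer ((R : Subgroup H) : Set H) ≤ Subgroup.normalizer ((Q : Subgroup H) : Set H)) := by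
  rw [isWeaklyClosedSubgroup_iff]
  refine ⟨⟨fun h g hg => h.eq_of_le_normalizer
    (le_normalizer_of_commutator_le_left (hg.trans inf_le_left)), fun h => ?_⟩,
    ⟨fun h R hR hQR => h.normalizer_le hR hQR, fun h => ?_⟩⟩
  · exact wc_of_forall_normalizes hQp fun g h1 h2 => h g (le_inf
      (commutator_le_left_of_le_normalizer h2) (commutator_le_right_of_le_normalizer h1))
  · exact wc_of_forall_normalizer hQp fun T hT hQT => h T hT.isP hQT

end Cfsg.Agent.S2838
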