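import Cfsg.Statements.S2840
import Mathlib
import Cfsg.Agent.Lib.LocStruct.WeakClosed

set_option autoImplicit false
open Cfsg

namespace Cfsg.Agent.S2840

open Subgroup H69
open scoped commutatorElement Pointwise


/-- Let Q be a nontrivial p-subgroup of the finite group H that is a weakly closed subgroup and K a subgroup containing Q; let K° be the weak closure of Q in K (generated by the H-conjugates of Q inside K). Then K° is generated by the K-conjugates of Q, and K° is the subnormal closure of Q in K. -/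
theorem result {H : Type*} [Group H] [Finite H] {p : ℕ} [Fact p.Prime] (Q : Subgroup H) (hQp : IsPGroup p ↥Q) (hQ1 : Q ≠ ⊥) (hwc : Cfsg.IsWeaklyClosedSubgroup p Q) (K : Subgroup H) (hQK : Q ≤ K) (Kc : Subgroup H) (hKc : Kc = Cfsg.weakClosure Q K) : Kc = ⨆ k : ↥K, ((Q : Subgroup H).map (MulAut.conj ((k : H) : H)).toMonoidHom) ∧ Kc = (Cfsg.subnormalClosure (Q.subgroupOf K)).map K.subtype := by
  have h := wc_of_isWeaklyClosedSubgroup hwc
  subst hKc
  refine ⟨h.weakClosure_eq_ncl hQK, le_antisymm ?_ ?_⟩
  · rw [← subgroupOf_le_iff (weakClosure_le Q K)]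
    refine le_sInf fun X hX => ?_
    rw [subgroupOf_le_iff (weakClosure_le Q K)]
    exact h.weakClosure_le_of_sn (sn_map_subtype_iff.2 hX.2) ((subgroupOf_le_iff hQK).1 hX.1)
  · rw [← le_subgroupOf_iff]
    exact sInf_le ⟨comap_mono (le_weakClosure hQK),
      (sn_iff.1 (sn_of_normal (weakClosure_le Q K) (le_normalizer_weakClosure Q K))).2⟩

end Cfsg.Agent.S2840
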