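import Cfsg.Statements.S2844
import Mathlib
import Cfsg.Agent.Lib.LocStruct.WeakClosed

set_option autoImplicit false
open Cfsg

namespace Cfsg.Agent.S2844

open Subgroup H69
open scoped commutatorElement Pointwise


/-- Let Q be a nontrivial large p-subgroup of the finite group H and Q• = O_p(N_H(Q)). Then for every g ∈ H outside N_H(Q): C_H(Q) ∩ C_H(gQg⁻¹) = 1, C_H(Q•) ∩ C_H(gQ•g⁻¹) = 1, Z(Q) ∩ Z(gQg⁻¹) = 1 and Z(Q•) ∩ Z(gQ•g⁻¹) = 1; moreover N_H(Q) = N_H(Q•) and Q• is large in H. -/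
theorem result {H : Type*} [Group H] [Finite H] {p : ℕ} [Fact p.Prime] (Q : Subgroup H) (hQp : IsPGroup p ↥Q) (hQ1 : Q ≠ ⊥) (hL : Cfsg.IsLarge Q) (Qb : Subgroup H) (hQb : Qb = Cfsg.largeBullet p Q) : (∀ g : H, g ∉ Subgroup.normalizer ((Q : Subgroup H) : Set H) → Subgroup.centralizer ((Q : Subgroup H) : Set H) ⊓ Subgroup.centralizer ((((Q : Subgroup H).map (MulAut.conj (g : H)).toMonoidHom) : Subgroup H) : Set H) = ⊥ ∧ Subgroup.centralizer ((Qb : Subgroup H) : Set H) ⊓ Subgroup.centralizer ((((Qb : Subgroup H).map (MulAut.conj (g : H)).toMonoidHom) : Subgroup H) : Set H) = ⊥ ∧ (Q ⊓ Subgroup.centralizer ((Q : Subgroup H) : Set H)) ⊓ (((Q : Subgroup H).map (MulAut.conj (g : H)).toMonoidHom) ⊓ Subgroup.centralizer ((((Q : Subgroup H).map (MulAut.conj (g : H)).toMonoidHom) : Subgroup H) : Set H)) = ⊥ ∧ (Qb ⊓ Subgroup.centralizer ((Qb : Subgroup H) : Set H)) ⊓ (((Qb : Subgroup H).map (MulAut.conj (g : H)).toMonoidHom)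 ⊓ Subgroup.centralizer ((((Qb : Subgroup H).map (MulAut.conj (g : H)).toMonoidHom) : Subgroup H) : Set H)) = ⊥) ∧ Subgroup.normalizer ((Q : Subgroup H) : Set H) = Subgroup.normalizer ((Qb : Subgroup H) : Set H) ∧ Cfsg.IsLarge Qb := by
  have h := wc_of_isLarge hQp hQ1 hL
  have h1 : Q ≤ Qb := by
    rw [hQb]; exact H70.le_pCoreOf hQp le_normalizer le_rfl
  have h2 : IsPGroup p Qb := by
    rw [hQb]; exact H70.isPGroup_pCoreOf p _
  have h3 : 𝐍(Q) = 𝐍(Qb) := by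
    refine le_antisymm ?_ (h.normalizer_le h2 h1)
    rw [hQb]; exact H70.le_normalizer_pCoreOf p _
  refine ⟨fun g hg => ?_, h3, (centralizer_anti h1).trans (hL.1.trans h1), fun U hU hU1 => ?_⟩
  · have h4 := centralizer_inf_centralizer_cj hQp hQ1 hL hg
    have h5 : 𝐂(Qb) ⊓ 𝐂(Qb ^ᶜ g) = ⊥ := by
      rw [eq_bot_iff, ← h4]
      exact inf_le_inf (centralizer_anti h1) (centralizer_anti (cj_mono g h1))
    refine ⟨h4, h5, ?_, ?_⟩
    · rw [eq_bot_iff, ← h4]; exact inf_le_inf inf_le_right inf_le_right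
    · rw [eq_bot_iff, ← h5]; exact inf_le_inf inf_le_right inf_le_right
  · rw [← h3]; exact hL.2 U (hU.trans (centralizer_anti h1)) hU1

end Cfsg.Agent.S2844
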