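import Cfsg.Statements.S2848
import Mathlib
import Cfsg.Agent.Lib.LocStruct.FrakM

set_option autoImplicit false
open Cfsg

namespace Cfsg.Agent.S2848

open Subgroup H69
open scoped commutatorElement Pointwise


/-- Standing hypotheses: G a finite group, S a Sylow p-subgroup, Q a nontrivial large p-subgroup of G contained in S (C_G(Q) ≤ Q and N_G(U) ≤ N_G(Q) for all nontrivial U ≤ C_G(Q)), and M a subgroup containing S with the basic property (M ∈ 𝔐_G(S)); Y_M denotes the largest p-reduced normal subgroup of M and M† = M·C_G(Y_M). Then O_p(M) is a weakly closed subgroup of M† (for p): it is the only M†-conjugate of itself inside some Sylow p-subgroup of M† containing it. -/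
theorem result {G : Type*} [Group G] [Finite G] {p : ℕ} [Fact p.Prime] (S : Sylow p G) (Q : Subgroup G) (hQp : IsPGroup p ↥Q) (hQ1 : Q ≠ ⊥) (hQS : Q ≤ (S : Subgroup G)) (hQ : Cfsg.IsLarge Q) (M : Subgroup G) (hSM : (S : Subgroup G) ≤ M) (hM : Cfsg.IsInFrakM p M) : Cfsg.IsWeaklyClosedSubgroup p (((Cfsg.pCoreOf p M)).subgroupOf (M ⊔ Subgroup.centralizer (((Cfsg.largestPReducedOf p M) : Subgroup G) : Set G))) := by
  have h := fm_of_isLarge S hQp hQ1 hQ hSM hM
  refine WC.isWeaklyClosedSubgroup ⟨isPGroup_subgroupOf (H70.isPGroup_pCoreOf p M) _,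
    fun R g hR h1 h2 => ?_⟩
  have hle : Cfsg.pCoreOf p M ≤ M ⊔ 𝐂(𝐘(p, M)) := (H70.pCoreOf_le p M).trans le_sup_left
  have hg : (g : G) ∈ 𝐍(𝐘(p, M)) := h.normalizer_Y.ge g.2
  rw [subgroupOf_cj] at h2 ⊢
  rw [subgroupOf_le_iff hle] at h1
  rw [subgroupOf_le_iff (cj_le_of_mem hle g.2)] at h2
  have h3 := h.sylC.max (R.map (M ⊔ 𝐂(𝐘(p, M))).subtype ⊓ 𝐂(𝐘(p, M))) (le_inf h1 h.sylC.le)
    inf_le_right ((isPGroup_map_subtype_iff.2 hR).to_le inf_le_left)
  rw [cj_eq_of_cj_le ((le_inf h2 (cj_le_of_mem_normalizer h.sylC.le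
    (H69.normalizer_le_normalizer_centralizer _ hg))).trans h3.le)]

end Cfsg.Agent.S2848
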