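import Cfsg.Statements.S2850
import Mathlib
import Cfsg.Agent.Lib.LocStruct.FrakM

set_option autoImplicit false
open Cfsg

namespace Cfsg.Agent.S2850

open Subgroup H69
open scoped commutatorElement Pointwise


/-- Standing hypotheses: G a finite group, S a Sylow p-subgroup, Q a nontrivial large p-subgroup of G contained in S (C_G(Q) ≤ Q and N_G(U) ≤ N_G(Q) for all nontrivial U ≤ C_G(Q)), and M a subgroup containing S with the basic property (M ∈ 𝔐_G(S)); Y_M denotes the largest p-reduced normal subgroup of M and M† = M·C_G(Y_M). Suppose Y_M is asymmetric in G. Then N_G(L) ≤ N_G(O_p(M)) ≤ M† for every p-subgroup L containing O_p(M); O_p(M) is a weakly closed subgroup of G; for every subgroup L containing O_p(M), L ∩ M† contains a Sylow p-subgroup of L; and two elements of Y_M conjugate in G are conjugate in M. -/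
theorem result {G : Type*} [Group G] [Finite G] {p : ℕ} [Fact p.Prime] (S : Sylow p G) (Q : Subgroup G) (hQp : IsPGroup p ↥Q) (hQ1 : Q ≠ ⊥) (hQS : Q ≤ (S : Subgroup G)) (hQ : Cfsg.IsLarge Q) (M : Subgroup G) (hSM : (S : Subgroup G) ≤ M) (hM : Cfsg.IsInFrakM p M) (hasym : ¬ Cfsg.IsSymmetricIn (Cfsg.largestPReducedOf p M)) : (∀ L : Subgroup G, IsPGroup p ↥L → (Cfsg.pCoreOf p M) ≤ L → Subgroup.normalizer ((L : Subgroup G) : Set G) ≤ Subgroup.normalizer (((Cfsg.pCoreOf p M) : Subgroup G) : Set G) ∧ Subgroup.normalizer (((Cfsg.pCoreOf p M) : Subgroup G) : Set G) ≤ (M ⊔ Subgroup.centralizer (((Cfsg.largestPReducedOf p M) : Subgroup G) : Set G))) ∧ Cfsg.IsWeaklyClosedSubgroup p (Cfsg.pCoreOf p M) ∧ (∀ L : Subgroup G, (Cfsg.pCoreOf p M) ≤ L → Cfsg.IsParabolic p ((L ⊓ (M ⊔ Subgroup.centralizer (((Cfsg.largestPReducedOf p M) : Subgroup G) : Set G))).subgroupOf L)) ∧ (∀ x ∈ (Cfsg.largestPReducedOf p M), ∀ g : G, g * x * g⁻¹ ∈ (Cfsg.largestPReducedOf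 p M) → ∃ m ∈ M, m * x * m⁻¹ = g * x * g⁻¹) := by
  have h := fm_of_isLarge S hQp hQ1 hQ hSM hM
  have hw := h.wc hasym
  have hN := h.normalizer_O_le.trans h.normalizer_Y.le
  refine ⟨fun L hL h1 => ⟨hw.normalizer_le hL h1, hN⟩, hw.isWeaklyClosedSubgroup,
    fun L hL => ?_, fun x hx g hg => ?_⟩
  · obtain ⟨T, hT, -, h2⟩ := h.exists_sylow_le hasym hL
    obtain ⟨P, hP⟩ := hT.exists_sylow_subgroupOf
    exact ⟨P, hP ▸ comap_mono (le_inf hT.le (h2.trans hN))⟩
  · have h1 : ∀ y ∈ 𝐘(p, M), Cfsg.pCoreOf p M ≤ centralizer ({y} : Set G) := fun y hy =>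
      H70.le_centralizer_singleton_iff.2 (Y_le_centralizer_pCoreOf M hy)
    obtain ⟨k, hk, hk2⟩ := hw.exists_cj_eq (h1 _ hg) (g := g) (by
      rw [← cj_centralizer_singleton]
      exact cj_mono g (h1 x hx))
    rw [cj_eq_iff, cj_cj, eq_comm, cj_eq_self_iff] at hk2
    obtain ⟨m, hm, c, hc, he⟩ := (mem_sup_of_le_normalizer_right
      (H69.le_normalizer_centralizer (le_normalizer_Y M))).1 (hN (inv_mem hk2))
    refine ⟨m, hm, ?_⟩
    have h2 := conj_eq_of_mem_centralizer hc hx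
    have h3 := mem_centralizer_singleton_iff.1 hk
    calc m * x * m⁻¹ = (m * c) * x * (m * c)⁻¹ := by
          conv_lhs => rw [← h2]
          group
      _ = k⁻¹ * (g * x * g⁻¹ * k) := by rw [← he]; group
      _ = g * x * g⁻¹ := by rw [← h3]; group

end Cfsg.Agent.S2850
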