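import Cfsg.Statements.S2851
import Mathlib
import Cfsg.Agent.Lib.LocStruct.FrakM
import Cfsg.Agent.Lib.Comp.FStar

set_option autoImplicit false
open Cfsg

namespace Cfsg.Agent.S2851

open Subgroup H69
open scoped commutatorElement Pointwise

theorem aux {N : Type*} [Group N] [Finite N] {p : ℕ} [Fact p.Prime] (h : Cfsg.pCore p N = ⊥)
    {X : Subgroup N} (hX : IsPGroup p X) (hn : Cfsg.generalizedFittingSubgroup N ≤ 𝐍(X)) :
    X = ⊥ := by
  have h1 : X ⊓ Cfsg.generalizedFittingSubgroup N = ⊥ := by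
    rw [← le_bot_iff, ← h, ← H70.pCoreOf_top]
    exact (SN.step inf_le_right (H69.le_normalizer_inf hn le_normalizer_of_normal)
      (sn_of_normal le_top le_normalizer_of_normal)).le_pCoreOf (hX.to_le inf_le_left)
  rw [← h1, eq_comm, inf_eq_left]
  refine le_trans (le_centralizer_of_commutator_eq_bot ?_) H23.centralizer_fStar_le
  rw [← le_bot_iff, ← h1]
  exact le_inf (commutator_le_left_of_le_normalizer hn)
    (commutator_le_right_of_le_normalizer le_normalizer_of_normal)

theorem aux2 {G : Type*} [Group G] [Finite G] {p : ℕ} [Fact p.Prime] {V N R : Subgroup G}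
    [hn : ((𝐂(V)).subgroupOf N).Normal] (hV : Red p V N) (hRN : R ≤ N)
    (hF : ((Cfsg.generalizedFittingSubgroup (N ⧸ (𝐂(V)).subgroupOf N)).comap
      (QuotientGroup.mk' ((𝐂(V)).subgroupOf N))).map N.subtype ≤ R) : Red p V R := by
  intro X h1 h2 h3
  have hXN := h1.trans hRN
  have h4 : Cfsg.pCore p (N ⧸ (𝐂(V)).subgroupOf N) = ⊥ := by
    rw [pCore_quotient_eq_bot_iff, le_subgroupOf_iff]
    refine hV _ (map_subtype_le _) (normal_iff_le_normalizer_map.1
      (normal_iff_top_le_normalizer.2 (le_normalizer_modCore _ _))) ?_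
    rw [← map_subtype_res, ← le_subgroupOf_iff]
    exact res_modCore_le _ _
  have h5 : (X.subgroupOf N).map (QuotientGroup.mk' ((𝐂(V)).subgroupOf N)) = ⊥ := by
    refine aux h4 ?_ ?_
    · rw [← res_eq_bot_iff, ← map_res, Subgroup.map_eq_bot_iff, QuotientGroup.ker_mk',
        res_subgroupOf_of_le hXN]
      exact comap_mono h3
    · rw [← map_comap_eq_self_of_surjective (QuotientGroup.mk'_surjective _)
        (Cfsg.generalizedFittingSubgroup _)]
      refine H70.map_normalizer_le _ ?_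
      rw [← map_subtype_le_iff, map_subtype_normalizer, subgroupOf_map_subtype, inf_eq_left.2 hXN]
      exact le_inf (map_subtype_le _) (hF.trans h2)
  rwa [Subgroup.map_eq_bot_iff, QuotientGroup.ker_mk', subgroupOf_le_subgroupOf_iff hXN] at h5

/-- Standing hypotheses: G a finite group, S a Sylow p-subgroup, Q a nontrivial large p-subgroup of G contained in S, M a subgroup containing S with the basic property (M ∈ 𝔐_G(S)); Y_M the largest p-reduced normal subgroup of M and M† = M·C_G(Y_M). Let F be the preimage in M† of the generalized Fitting subgroup of M†/C_{M†}(Y_M). If Y_M is asymmetric in G and H is a subgroup of characteristic p containing F, then Y_M ≤ Y_H. -/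
theorem result {G : Type*} [Group G] [Finite G] {p : ℕ} [Fact p.Prime] (S : Sylow p G) (Q : Subgroup G) (hQp : IsPGroup p ↥Q) (hQ1 : Q ≠ ⊥) (hQS : Q ≤ (S : Subgroup G)) (hQ : Cfsg.IsLarge Q) (M : Subgroup G) (hSM : (S : Subgroup G) ≤ M) (hM : Cfsg.IsInFrakM p M) (hasym : ¬ Cfsg.IsSymmetricIn (Cfsg.largestPReducedOf p M)) [hn : ((Subgroup.centralizer (((Cfsg.largestPReducedOf p M) : Subgroup G) : Set G)).subgroupOf (M ⊔ Subgroup.centralizer (((Cfsg.largestPReducedOf p M) : Subgroup G) : Set G))).Normal] (F : Subgroup G) (hF : F = ((Cfsg.generalizedFittingSubgroup (↥(M ⊔ Subgroup.centralizer (((Cfsg.largestPReducedOf p M) : Subgroup G) : Set G)) ⧸ (Subgroup.centralizer (((Cfsg.largestPReducedOf p M) : Subgroup G) : Set G)).subgroupOf (M ⊔ Subgroup.centralizer (((Cfsg.largestPReducedOf p M) : Subgroup G) : Set G)))).comap (QuotientGroup.mk' ((Subgroup.centralizer (((Cfsg.largestPReducedOf p M) : Subgroup G) : Set G)).subgroupOf (M ⊔ Subgroup.centralizer (((Cfsg.largestPReducedOf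 p M) : Subgroup G) : Set G))))).map ((M ⊔ Subgroup.centralizer (((Cfsg.largestPReducedOf p M) : Subgroup G) : Set G))).subtype) (H : Subgroup G) (hFH : F ≤ H) (hH : Subgroup.centralizer (Cfsg.pCore p ↥H : Set ↥H) ≤ Cfsg.pCore p ↥H) : (Cfsg.largestPReducedOf p M) ≤ Cfsg.largestPReducedOf p H := by
  have h := fm_of_isLarge S hQp hQ1 hQ hSM hM
  have hN := h.normalizer_O_le.trans h.normalizer_Y.le
  have hCF : 𝐂(𝐘(p, M)) ≤ F := by
    rw [hF, ← subgroupOf_le_iff le_sup_right]
    exact (QuotientGroup.ker_mk' _).ge.trans (ker_le_comap _ _)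
  obtain ⟨T, hT, h1, h2⟩ := h.exists_sylow_le hasym ((h.sylC.le.trans hCF).trans hFH)
  have h3 : PRed p 𝐘(p, M) (H ⊓ (M ⊔ 𝐂(𝐘(p, M)))) :=
    ⟨le_inf (((Y_le_centralizer M).trans hCF).trans hFH) ((Y_le M).trans le_sup_left),
      inf_le_right.trans h.normalizer_Y.ge, Y_ea M,
      aux2 h.pred_dagger.red inf_le_right (le_inf (hF ▸ hFH) (map_subtype_le _))⟩
  exact h3.le_Y_of_le (H70.charP_iff.2 hH) hT (le_inf hT.le (h2.trans hN)) inf_le_left

end Cfsg.Agent.S2851
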