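import Cfsg.Statements.S2852
import Mathlib
import Cfsg.Agent.Lib.LocStruct.FrakM

set_option autoImplicit false
open Cfsg

namespace Cfsg.Agent.S2852

open Subgroup H69
open scoped commutatorElement Pointwise


/-- Standing hypotheses: G a finite group, S a Sylow p-subgroup, Q a nontrivial large p-subgroup of G contained in S, M a subgroup containing S with the basic property (M ∈ 𝔐_G(S)); Y_M the largest p-reduced normal subgroup of M. If Y_M is char-p-tall and asymmetric in G, then some subgroup H of G lies in ℌ_G(O_p(M)): H has characteristic p, O_p(M) ≤ H, Y_M ≰ O_p(H), and Y_M ≤ O_p(P) for every proper subgroup P of H containing O_p(M). -/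
theorem result {G : Type*} [Group G] [Finite G] {p : ℕ} [Fact p.Prime] (S : Sylow p G) (Q : Subgroup G) (hQp : IsPGroup p ↥Q) (hQ1 : Q ≠ ⊥) (hQS : Q ≤ (S : Subgroup G)) (hQ : Cfsg.IsLarge Q) (M : Subgroup G) (hSM : (S : Subgroup G) ≤ M) (hM : Cfsg.IsInFrakM p M) (htall : Cfsg.IsCharPTall p (Cfsg.largestPReducedOf p M)) (hasym : ¬ Cfsg.IsSymmetricIn (Cfsg.largestPReducedOf p M)) : ∃ H : Subgroup G, Cfsg.IsInFrakH p M H := by
  have h := fm_of_isLarge S hQp hQ1 hQ hSM hM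
  obtain ⟨T, L, h1, h2, h3⟩ := htall
  obtain ⟨c, hc, hc2⟩ := (isSylowIn_map_subtype T).conj h.sylC
  have h4 : Cfsg.pCoreOf p M ≤ L ^ᶜ c := hc2 ▸ cj_mono c h1
  have h5 : ¬ 𝐘(p, M) ≤ Cfsg.pCoreOf p (L ^ᶜ c) := by
    rw [← cj_pCoreOf, ← cj_eq_of_mem_centralizer hc, cj_le_cj_iff]
    exact h3
  obtain ⟨H, hH, hmin⟩ := WellFounded.has_min (wellFounded_lt (α := Subgroup G))
    {H | H ≤ L ^ᶜ c ∧ Cfsg.pCoreOf p M ≤ H ∧ ¬ 𝐘(p, M) ≤ Cfsg.pCoreOf p H} ⟨_, le_rfl, h4, h5⟩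
  refine ⟨H, H70.charP_iff.1 (h.charP_of_le hasym ((H70.charP_iff.2 h2).conj c) hH.2.1 hH.1),
    hH.2.1, hH.2.2, fun P hP1 hP2 => ?_⟩
  by_contra hc
  exact hmin P ⟨hP2.le.trans hH.1, hP1, hc⟩ hP2

end Cfsg.Agent.S2852
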