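import Cfsg.Statements.S2854
import Mathlib
import Cfsg.Agent.Lib.LocStruct.FrakM

set_option autoImplicit false
open Cfsg

namespace Cfsg.Agent.S2854

open Subgroup H69
open scoped commutatorElement Pointwise


/-- Standing hypotheses: G a finite group, S a Sylow p-subgroup, Q a nontrivial large p-subgroup of G contained in S, M a subgroup containing S with the basic property (M ∈ 𝔐_G(S)); Y_M the largest p-reduced normal subgroup of M and M† = M·C_G(Y_M). Suppose Y_M is asymmetric in G, H ∈ ℌ_G(O_p(M)), and H ≤ N_G(gQg⁻¹) for some g ∈ G. Then gQg⁻¹ ≤ O_p(H·gQg⁻¹) ≤ N_G(O_p(M)) ≤ N_G(Y_M) = M†; H is normal in H·gQg⁻¹ with O^p(H) = O^p(H·gQg⁻¹); and H·gQg⁻¹ is p-irreducible. -/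
theorem result {G : Type*} [Group G] [Finite G] {p : ℕ} [Fact p.Prime] (S : Sylow p G) (Q : Subgroup G) (hQp : IsPGroup p ↥Q) (hQ1 : Q ≠ ⊥) (hQS : Q ≤ (S : Subgroup G)) (hQ : Cfsg.IsLarge Q) (M : Subgroup G) (hSM : (S : Subgroup G) ≤ M) (hM : Cfsg.IsInFrakM p M) (hasym : ¬ Cfsg.IsSymmetricIn (Cfsg.largestPReducedOf p M)) (H : Subgroup G) (hH : Cfsg.IsInFrakH p M H) (g : G) (hHQ : H ≤ Subgroup.normalizer ((((Q : Subgroup G).map (MulAut.conj (g : G)).toMonoidHom) : Subgroup G) : Set G)) : ((Q : Subgroup G).map (MulAut.conj (g : G)).toMonoidHom) ≤ Cfsg.pCoreOf p (H ⊔ ((Q : Subgroup G).map (MulAut.conj (g : G)).toMonoidHom)) ∧ Cfsg.pCoreOf p (H ⊔ ((Q : Subgroup G).map (MulAut.conj (g : G)).toMonoidHom)) ≤ Subgroup.normalizer (((Cfsg.pCoreOf p M) : Subgroup G) : Set G) ∧ Subgroup.normalizer (((Cfsg.pCoreOf p M) : Subgroup G) : Set G) ≤ Subgroup.normalizer (((Cfsg.largestPReducedOf p M) : Subgroup G) : Set G) ∧ Subgroup.normalizer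 (((Cfsg.largestPReducedOf p M) : Subgroup G) : Set G) = (M ⊔ Subgroup.centralizer (((Cfsg.largestPReducedOf p M) : Subgroup G) : Set G)) ∧ (H.subgroupOf (H ⊔ ((Q : Subgroup G).map (MulAut.conj (g : G)).toMonoidHom))).Normal ∧ (Cfsg.pResidual p ↥H).map H.subtype = (Cfsg.pResidual p ↥(H ⊔ ((Q : Subgroup G).map (MulAut.conj (g : G)).toMonoidHom))).map (H ⊔ ((Q : Subgroup G).map (MulAut.conj (g : G)).toMonoidHom)).subtype ∧ Cfsg.IsPIrreducible p ↥(H ⊔ ((Q : Subgroup G).map (MulAut.conj (g : G)).toMonoidHom)) := by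
  have h := fm_of_isLarge S hQp hQ1 hQ hSM hM
  have hf := fh_of_isInFrakH hH
  have hP := isPGroup_cj hQp g
  generalize Q ^ᶜ g = R at hP hHQ ⊢
  have h1 : R ≤ Cfsg.pCoreOf p (H ⊔ R) :=
    H70.le_pCoreOf hP le_sup_right (sup_le hHQ (H69.le_normalizer_of_le le_rfl))
  have h2 : Cfsg.pCoreOf p (H ⊔ R) ≤ 𝐍(Cfsg.pCoreOf p M) :=
    h.pCoreOf_le_normalizer hasym (H69.le_normalizer_of_le (hf.OH.trans le_sup_left))
  have h3 : R ≤ 𝐍(H) := by
    refine le_normalizer_of_commutator_le_right (le_trans ?_ (inf_le_left : H ⊓ R ≤ H))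
    have hn : H ≤ 𝐍(H ⊓ R) := H69.le_normalizer_inf (H69.le_normalizer_of_le le_rfl) hHQ
    conv_lhs => rw [← hf.ncl_O, ncl_def]
    refine commutator_iSup_le_right (fun k => (cj_le_of_mem hf.OH k.2).trans hn) fun k => ?_
    rw [← cj_eq_of_mem_normalizer (hHQ k.2), ← cj_commutator, cj_eq_of_mem_normalizer (hHQ k.2)]
    refine cj_le_of_mem_normalizer ?_ (hn k.2)
    exact le_inf ((commutator_le_right_of_le_normalizer (h1.trans h2)).trans hf.OH)
      (commutator_le_left_of_le_normalizer (hf.OH.trans hHQ))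
  have h4 : 𝐑(p, H ⊔ R) = 𝐑(p, H) := res_sup_eq hP h3
  have h5 : H ⊔ R ≤ 𝐍(H) := sup_le (H69.le_normalizer_of_le le_rfl) h3
  refine ⟨h1, h2, h.normalizer_O_le, h.normalizer_Y,
    (normal_subgroupOf_iff_le_normalizer le_sup_left).2 h5, h4.symm,
    isPIrreducible_iff.2 ⟨hf.not_isPClosed le_sup_left, fun N hN1 hN2 hN3 => ?_⟩⟩
  by_contra hc
  rw [h4] at hc
  refine hN3 (isPClosed_of_commutator_res_le (H70.isPGroup_pCoreOf p (H ⊔ R))
    (hN1.trans (H70.le_normalizer_pCoreOf p _)) ?_)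
  have hRN : R ≤ 𝐍(N) := le_sup_right.trans hN2
  have hn : H ≤ 𝐍((N ⊔ R) ⊓ H) := H69.le_normalizer_inf
    (H69.le_normalizer_sup (le_sup_left.trans hN2) hHQ) (H69.le_normalizer_of_le le_rfl)
  have h6 := hf.commutator_ncl_le (N := (N ⊔ R) ⊓ H) inf_le_right hn fun h7 => hc (by
    rw [← res_res]
    exact (res_mono (h7.trans inf_le_left)).trans (res_sup_le hP hRN))
  have h7 : N ≤ ((N ⊔ R) ⊓ H) ⊔ R := by
    rw [sup_comm _ R, inf_comm, ← dedekind_right h3 le_sup_right]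
    exact le_inf (hN1.trans (sup_comm H R).le) le_sup_left
  have h8 : 𝐑(p, N) ≤ ncl 𝐘(p, M) H := ((res_mono hN1).trans h4.le).trans hf.res_le_ncl
  refine (commutator_mono h8 h7).trans (commutator_sup_le_right
    ((inf_le_right.trans le_sup_left).trans (H70.le_normalizer_pCoreOf p _))
    (le_sup_right.trans (H70.le_normalizer_pCoreOf p _))
    (h6.trans (H70.pCoreOf_le_pCoreOf_of_normal le_sup_left h5)) ?_)
  exact (commutator_le_right_of_le_normalizer ((ncl_le_self hf.YH).trans hHQ)).trans h1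

end Cfsg.Agent.S2854
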