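import Cfsg.Statements.S2855
import Mathlib
import Cfsg.Agent.Lib.LocStruct.QuadPair

set_option autoImplicit false
open Cfsg

namespace Cfsg.Agent.S2855

open Subgroup H69
open scoped commutatorElement Pointwise

theorem spi {G : Type*} [Group G] {p : ℕ} {E D : Subgroup G} (h : IsStronglyPIrreducible p E)
    (h1 : D ≤ E) (h2 : E ≤ 𝐍(D)) : ⁅D, E⁆ ≤ pCoreOf p E ∨ 𝐑(p, E) ≤ D := by
  by_cases hc : ⁅D.subgroupOf E, (⊤ : Subgroup E)⁆ ≤ pCore p E
  · left
    have := map_mono (f := E.subtype) hc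
    rwa [map_commutator, map_subgroupOf_eq_of_le h1, map_subtype_top] at this
  · exact Or.inr (le_subgroupOf_iff.1 (h.2 _ (normal_subgroupOf_of_le_normalizer h2) hc))

theorem spi_ncl {G : Type*} [Group G] [Finite G] {p : ℕ} [Fact p.Prime] {E T : Subgroup G}
    (h : IsStronglyPIrreducible p E) (hT : IsSylowIn p T E) : ncl T E = E := by
  rcases spi h (ncl_le_self hT.le) (le_normalizer_ncl T E) with h1 | h1
  · exact absurd (isPClosed_of_normal_sylow hT (le_normalizer_of_commutator_le_left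
      (((commutator_mono (le_ncl T E) le_rfl).trans h1).trans hT.pCoreOf_le))) h.1
  · exact le_antisymm (ncl_le_self hT.le) (hT.eq_of_res_le (le_ncl T E) h1)

/-- Let H be a finite group, p a prime, and 𝒦 a nonempty set of subgroups of H permuted transitively by conjugation, with R the subgroup generated by the members of 𝒦. Suppose O^p(H) ≤ R, each E ∈ 𝒦 has E·O_p(H) normal in R·O_p(H), and each E ∈ 𝒦 is p-minimal (generated by the conjugates of a Sylow p-subgroup T_E of E, with T_E in exactly one maximal subgroup of E). Then H is p-minimal in the same sense. If instead each E ∈ 𝒦 is strongly p-irreducible, then H is p-irreducible and, for E, K ∈ 𝒦, either O^p(E·O_p(H)) = O^p(K·O_p(H)) or [E, K] ≤ O_p(H). -/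
theorem result {H : Type*} [Group H] [Finite H] {p : ℕ} [Fact p.Prime] (𝒦 : Set (Subgroup H)) (hne : 𝒦.Nonempty) (hinv : ∀ h : H, ∀ E ∈ 𝒦, E.map (MulAut.conj h).toMonoidHom ∈ 𝒦) (htr : ∀ E ∈ 𝒦, ∀ K ∈ 𝒦, ∃ h : H, K = E.map (MulAut.conj h).toMonoidHom) (hres : Cfsg.pResidual p H ≤ sSup 𝒦) (hnorm : ∀ E ∈ 𝒦, sSup 𝒦 ⊔ Cfsg.pCore p H ≤ Subgroup.normalizer ((E ⊔ Cfsg.pCore p H : Subgroup H) : Set H)) : ((∀ E ∈ 𝒦, ∀ T : Sylow p ↥E, Cfsg.IsMinimalOver (T : Subgroup ↥E)) → ∀ T : Sylow p H, Cfsg.IsMinimalOver (T : Subgroup H)) ∧ ((∀ E ∈ 𝒦, Cfsg.IsStronglyPIrreducible p ↥E) → Cfsg.IsPIrreducible p H ∧ ∀ E ∈ 𝒦, ∀ K ∈ 𝒦, (Cfsg.pResidual p ↥(E ⊔ Cfsg.pCore p H)).map (E ⊔ Cfsg.pCore p H).subtype = (Cfsg.pResidual p ↥(K ⊔ Cfsg.pCore p H)).map (K ⊔ Cfsg.pCore p H).subtype ∨ ⁅E, K⁆ ≤ Cfsg.pCore p H) := by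
  set O := pCore p H with hO
  set R := sSup 𝒦 ⊔ O with hR
  have hOp : IsPGroup p O := H1.isPGroup_pCore
  have hnO : ∀ X : Subgroup H, X ≤ 𝐍(O) := fun X => le_top.trans (normalizer_eq_top O).ge
  have hER : ∀ E ∈ 𝒦, E ≤ R := fun E hE => (le_sSup hE).trans le_sup_left
  have hER' : ∀ E ∈ 𝒦, E ⊔ O ≤ R := fun E hE => sup_le (hER E hE) le_sup_right
  have hcj : ∀ (E : Subgroup H) (g : H), (E ⊔ O) ^ᶜ g = E ^ᶜ g ⊔ O := fun E g => by
    rw [cj_sup, cj_eq_of_normal O]
  have hRn : (⊤ : Subgroup H) ≤ 𝐍(R) := le_normalizer_of_cj_le fun g _ => by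
    rw [hcj, sSup_eq_iSup', cj_iSup]
    exact sup_le (iSup_le fun E => hER _ (hinv g E E.2)) le_sup_right
  have hsn : ∀ E ∈ 𝒦, SN (E ⊔ O) ⊤ := fun E hE =>
    (sn_of_normal (hER' E hE) (hnorm E hE)).trans (sn_of_normal le_top hRn)
  have hres' : 𝐑(p, (⊤ : Subgroup H)) ≤ R := by rw [res_top]; exact hres.trans le_sup_left
  refine ⟨fun hmin T => ?_, fun hs => ?_⟩
  · have hT := isSylowIn_top T
    have hOT : O ≤ T := H1.pCore_le_sylow T
    have hdec : ∀ g : H, ∃ r ∈ R, ∃ t ∈ (T : Subgroup H), g = r * t := fun g =>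
      (mem_sup_of_le_normalizer_left (le_top.trans hRn)).1
        (hT.eq_of_res_le le_sup_right (hres'.trans le_sup_left) (mem_top g))
    let mx : Subgroup H → Subgroup H := fun K => sSup {X | (T : Subgroup H) ⊓ K ≤ X ∧ X < K}
    have hmx : ∀ K A : Subgroup H, YM ((T : Subgroup H) ⊓ K) A K → mx K = A := fun K A h =>
      le_antisymm (sSup_le fun X hX => h.uniq X hX.1 hX.2) (le_sSup ⟨h.le, h.lt⟩)
    have hym : ∀ E ∈ 𝒦, YM ((T : Subgroup H) ⊓ (E ⊔ O)) (mx (E ⊔ O)) (E ⊔ O) := by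
      intro E hE
      have hd : ∀ X : Subgroup H, O ≤ X → (E ⊔ O) ⊓ X = O ⊔ (E ⊓ X) := fun X hX => by
        rw [sup_comm, dedekind_left (hnO E) hX]
      have h1 := (hsn E hE).isSylowIn_inf hT
      have h2 : IsSylowIn p (E ⊓ (T : Subgroup H)) E := by
        refine ⟨inf_le_left, T.isPGroup'.to_le inf_le_right, fun P h3 h4 h5 => le_antisymm
          (le_inf h4 (le_trans le_sup_right (le_trans (h1.max (O ⊔ P) ?_ (sup_le le_sup_right
            (h4.trans le_sup_left)) (isPGroup_sup_of_le_normalizer_left hOp h5 (hnO P))).le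
            inf_le_left))) h3⟩
        rw [inf_comm, hd _ hOT]
        exact sup_le_sup_left h3 _
      obtain ⟨P, hP⟩ := h2.exists_sylow_subgroupOf
      obtain ⟨E₀, h3⟩ := exists_ym_of_isMinimalOver h2.le (hP ▸ hmin E hE P)
      have h4 : YM ((T : Subgroup H) ⊓ (E ⊔ O)) (O ⊔ E₀) (E ⊔ O) := by
        refine ⟨?_, lt_of_le_of_ne (sup_le le_sup_right (h3.lt.le.trans le_sup_left)) fun e => ?_,
          fun X h5 h6 => ?_, le_antisymm (ncl_le_self inf_le_right) (sup_le (h3.gen.ge.trans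
            (ncl_mono (le_inf inf_le_right (inf_le_left.trans le_sup_left)) le_sup_left))
            ((le_inf hOT le_sup_right).trans (le_ncl _ _)))⟩
        · rw [inf_comm, hd _ hOT]
          exact sup_le_sup_left h3.le _
        · have h5 : E ≤ (E₀ ⊔ O) ⊓ E := le_inf (le_sup_left.trans (e.ge.trans (sup_comm _ _).le)) le_rfl
          rw [dedekind_right (hnO E₀) h3.lt.le] at h5
          exact h3.lt.not_ge (h5.trans (sup_le le_rfl ((le_inf inf_le_right
            (inf_le_left.trans hOT)).trans h3.le)))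
        · have h7 : O ≤ X := (le_inf hOT le_sup_right).trans h5
          rw [← inf_eq_right.2 h6.le, hd X h7]
          refine sup_le_sup_left (h3.uniq _ (le_inf inf_le_left ((le_inf inf_le_right
            (inf_le_left.trans le_sup_left)).trans h5)) (lt_of_le_of_ne inf_le_left fun e => ?_)) _
          exact h6.not_ge (sup_le (e.ge.trans inf_le_right) h7)
      rw [hmx _ _ h4]
      exact h4
    let M : Subgroup H :=
      { carrier := {g | ∀ E ∈ 𝒦, mx (E ⊔ O) ^ᶜ g = mx (E ^ᶜ g ⊔ O)}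
        one_mem' := fun E _ => by rw [cj_one, cj_one]
        mul_mem' := fun {a b} ha hb E hE => by
          rw [← cj_cj, ← cj_cj, hb E hE, ha _ (hinv b E hE)]
        inv_mem' := fun {a} ha E hE => by
          rw [cj_eq_iff, inv_inv, ha _ (hinv a⁻¹ E hE), cj_inv_cj] }
    have hTM : (T : Subgroup H) ≤ M := fun t ht E hE => by
      have := (hym E hE).cj t
      rw [cj_inf, cj_eq_of_mem ht, hcj] at this
      exact (hmx _ _ this).symm
    refine H68.isMinimalOver_of (M := M) ?_ (fun e => ?_) hTM fun X h1 h2 x hx => ?_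
    · rw [← ncl_top, eq_top_iff]
      refine hT.eq_of_res_le (le_ncl _ _) (hres'.trans (sup_le (sSup_le fun E hE => ?_)
        (hOT.trans (le_ncl _ _))))
      exact (le_sup_left.trans (hym E hE).gen.ge).trans (ncl_mono inf_le_left le_top)
    · obtain ⟨E, hE⟩ := hne
      refine (hym E hE).lt.not_ge fun g hg => (hym E hE).inf_normalizer.le ⟨hg, ?_⟩
      have := e.ge (mem_top g) E hE
      rwa [← hcj, cj_eq_of_mem hg, cj_eq_self_iff] at this
    · obtain ⟨r, hr, t, ht, rfl⟩ := hdec x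
      have hrX : r ∈ X := (Subgroup.mul_mem_cancel_right X (h1 ht)).1 hx
      refine M.mul_mem (fun E hE => ?_) (hTM ht)
      have h3 := (hym E hE).cj r
      rw [cj_eq_of_mem_normalizer (hnorm E hE hr)] at h3
      rw [← hcj, cj_eq_of_mem_normalizer (hnorm E hE hr), cj_eq_self_iff]
      have h4 : X ⊓ (E ⊔ O) < E ⊔ O := lt_of_le_of_ne inf_le_right fun e => h2 (eq_top_iff.2
        (hT.eq_of_res_le h1 (hres'.trans (sup_le (sSup_le fun K hK => ?_) (hOT.trans h1)))))
      · have h5 := h3.uniq _ ((cj_le_of_mem_normalizer (inf_le_inf_right _ h1)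
          (le_normalizer_inf (le_normalizer_of_le (inf_le_left : X ⊓ R ≤ X))
            (inf_le_right.trans (hnorm E hE)) ⟨hrX, hr⟩)).trans
          ((hym E hE).uniq _ (inf_le_inf_right _ h1) h4)) (hym E hE).lt
        rw [le_cj_iff] at h5
        exact (Subgroup.inv_mem_iff _).1 (mem_normalizer_of_cj_le h5)
      · obtain ⟨g, rfl⟩ := htr E hE K hK
        obtain ⟨r', hr', t', ht', hg⟩ := hdec g⁻¹
        have h5 : (E ⊔ O) ^ᶜ g ≤ X := by
          rw [show g = t'⁻¹ * r'⁻¹ by rw [← mul_inv_rev, ← hg, inv_inv], ← cj_cj,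
            cj_eq_of_mem_normalizer (hnorm E hE (inv_mem hr'))]
          exact cj_le_of_mem (e.ge.trans inf_le_left) (inv_mem (h1 ht'))
        exact (cj_mono g le_sup_left).trans h5
  · have hsnO : ∀ W : Subgroup H, SN W ⊤ → pCoreOf p W ≤ O := fun W hW => by
      have := hW.pCoreOf_le (p := p)
      rwa [H70.pCoreOf_top] at this
    have hEO : ∀ E ∈ 𝒦, pCoreOf p E ≤ O := fun E hE => by
      refine le_trans ?_ (hsnO _ (hsn E hE))
      exact le_sup_left.trans (H70.le_pCoreOf (isPGroup_sup_of_le_normalizer_right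
        (H70.isPGroup_pCoreOf p E) hOp (hnO _)) (sup_le_sup_right (H70.pCoreOf_le p E) _)
        (sup_le (le_normalizer_sup (H70.le_normalizer_pCoreOf p E) (hnO _))
          (le_normalizer_of_le le_sup_right)))
    have L2 : ∀ E ∈ 𝒦, ∀ W : Subgroup H, W ≤ R → E ⊔ O ≤ 𝐍(W) → SN W ⊤ →
        𝐑(p, E) ≤ W ⊔ O ∨ ⁅W, E⁆ ≤ O := by
      intro E hE W h1 h2 h3
      have hEW : E ≤ 𝐍(W) := le_sup_left.trans h2
      rcases spi (hs E hE) (inf_le_left : E ⊓ (W ⊔ O) ≤ E) (le_normalizer_inf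
        (le_normalizer_of_le le_rfl) (le_normalizer_sup hEW (hnO E))) with h4 | h4
      · right
        have h5 : ⁅W, E ⊔ O⁆ ≤ O ⊔ (E ⊓ (W ⊔ O)) := by
          rw [← dedekind_left (hnO E) le_sup_right, sup_comm O]
          exact le_inf (commutator_le_right_of_le_normalizer (h1.trans (hnorm E hE)))
            ((commutator_le_left_of_le_normalizer h2).trans le_sup_left)
        have h6 : ⁅⁅W, E ⊔ O⁆, E ⊔ O⁆ ≤ O := by
          refine (commutator_mono h5 le_rfl).trans (commutator_sup_le_left (hnO _) (hnO _)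
            (commutator_le_left _ _) (commutator_sup_le_right (hnO _) (hnO _)
              (h4.trans (hEO E hE)) (commutator_le_right _ _)))
        obtain ⟨T, hT⟩ := exists_isSylowIn p E
        have hTE : T ⊔ O ≤ E ⊔ O := sup_le_sup_right hT.le _
        have h7 := (commutator_le_pCoreOf_of_quadratic (K := W) (Y := T ⊔ O)
          (isPGroup_sup_of_le_normalizer_right hT.isP hOp (hnO _)) (hTE.trans h2)
          (le_normalizer_of_commutator_le_right (((commutator_mono (commutator_mono le_rfl hTE)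
            hTE).trans h6).trans le_sup_right))).trans (hsnO W h3)
        rw [← spi_ncl (hs E hE) hT, ncl_def]
        refine commutator_iSup_le_right (fun _ => hnO _) fun g => ?_
        have := cj_le_of_mem_normalizer ((commutator_mono le_rfl le_sup_left).trans h7)
          (hnO ⊤ (mem_top (g : H)))
        rwa [cj_commutator, cj_eq_of_mem_normalizer (hEW g.2)] at this
      · exact Or.inl (h4.trans inf_le_right)
    have hresEO : ∀ E X : Subgroup H, E ≤ 𝐍(X) → O ≤ X → 𝐑(p, E) ≤ X → 𝐑(p, E ⊔ O) ≤ X :=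
      fun E X h1 h2 h3 => (res_mono (sup_le_sup_left h2 E)).trans (res_sup_le_of_res_le' h1 h3)
    have L3 : ∀ X : Subgroup H, ⊤ ≤ 𝐍(X) → O ≤ X → (∀ E ∈ 𝒦, 𝐑(p, E) ≤ X) →
        𝐑(p, (⊤ : Subgroup H)) ≤ X := by
      intro X h1 h2 h3
      obtain ⟨E₀, hE₀⟩ := hne
      have h4 : ∀ E ∈ 𝒦, E ⊔ O ≤ modCore p X R := fun E hE =>
        le_modCore (hER' E hE) (hnorm E hE) (hresEO E X (le_top.trans h1) h2 (h3 E hE))
      rw [← res_eq_of_le hres' le_top]
      exact (res_mono (sup_le (sSup_le fun E hE => le_sup_left.trans (h4 E hE))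
        (le_sup_right.trans (h4 E₀ hE₀)))).trans (res_modCore_le X R)
    refine ⟨⟨fun hc => ?_, fun N hN hc => ?_⟩, fun E hE K hK => ?_⟩
    · obtain ⟨E, hE⟩ := hne
      exact (hs E hE).1 (isPClosed_of_le (isPClosed_top_iff.2 hc) le_top)
    · have hNn : (⊤ : Subgroup H) ≤ 𝐍(N) := normal_iff_top_le_normalizer.1 hN
      have hNO : (⊤ : Subgroup H) ≤ 𝐍(N ⊔ O) := le_normalizer_sup hNn (hnO _)
      have hW : (⊤ : Subgroup H) ≤ 𝐍(N ⊓ R) := le_normalizer_inf hNn hRn
      by_cases h1 : ∃ E ∈ 𝒦, 𝐑(p, E) ≤ N ⊔ O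
      · obtain ⟨E, hE, h1⟩ := h1
        rw [← res_top, ← res_res]
        refine (res_mono (L3 _ hNO le_sup_right fun K hK => ?_)).trans
          (res_sup_le hOp (le_top.trans hNn))
        obtain ⟨g, rfl⟩ := htr E hE K hK
        rw [← cj_res]
        exact cj_le_of_mem_normalizer h1 (hNO (mem_top g))
      · exfalso
        have h2 : ⁅N ⊓ R, R⁆ ≤ O := by
          refine commutator_sup_le_right (hnO _) (hnO _) ?_ (commutator_le_right _ _)
          rw [sSup_eq_iSup']
          refine commutator_iSup_le_right (fun _ => hnO _) fun E => ?_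
          exact (L2 E E.2 _ inf_le_right (le_top.trans hW) (sn_of_normal le_top hW)).resolve_left
            fun e => h1 ⟨E, E.2, e.trans (sup_le_sup_right inf_le_left _)⟩
        have h3 : ⁅R, N⁆ ≤ N ⊓ R := le_inf (commutator_le_right _ _)
          (commutator_le_left_of_le_normalizer (le_top.trans hRn))
        have h4 : ⁅⁅R, R⁆, N⁆ ≤ O := three_subgroups (hnO _) (hnO _) (hnO _)
          ((commutator_mono h3 le_rfl).trans h2)
          ((commutator_mono ((commutator_comm _ _).le.trans h3) le_rfl).trans h2)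
        have h5 := L3 (⁅R, R⁆ ⊔ O) (le_normalizer_sup (le_normalizer_commutator hRn hRn) (hnO _))
          le_sup_right fun E hE => by
            obtain ⟨T, hT⟩ := exists_isSylowIn p E
            rw [← commutator_res_eq_of_ncl_eq hT.isP hT.le (spi_ncl (hs E hE) hT)]
            exact (commutator_mono ((res_le E).trans (hER E hE)) (hT.le.trans (hER E hE))).trans
              le_sup_left
        exact hc (isPClosed_of_commutator_res_le hOp (hnO _) ((commutator_mono
          ((res_mono le_top).trans h5) le_rfl).trans (commutator_sup_le_left (hnO _) (hnO _) h4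
            (commutator_le_left _ _))))
    · rcases L2 E hE (K ⊔ O) (hER' K hK) ((hER' E hE).trans (hnorm K hK)) (hsn K hK) with h1 | h1
      · left
        rw [sup_assoc, sup_idem] at h1
        have h2 := hresEO E _ ((hER E hE).trans (hnorm K hK)) le_sup_right h1
        have h3 : 𝐑(p, E ⊔ O) ≤ 𝐑(p, K ⊔ O) := (res_res _).ge.trans (res_mono h2)
        obtain ⟨g, rfl⟩ := htr E hE K hK
        refine eq_of_le_of_card_ge h3 ?_
        show Nat.card (𝐑(p, E ^ᶜ g ⊔ O)) ≤ _
        rw [← hcj, ← cj_res, card_cj]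
      · right
        rw [commutator_comm]
        exact (commutator_mono le_sup_left le_rfl).trans h1

end Cfsg.Agent.S2855
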