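import Cfsg.Statements.S2859
import Mathlib
import Cfsg.Agent.Lib.LocStruct.QuadPair

set_option autoImplicit false
open Cfsg

namespace Cfsg.Agent.S2859

open Subgroup H69
open scoped commutatorElement Pointwise

theorem aux {G : Type*} [Group G] [Finite G] {p : ℕ} [Fact p.Prime] {Q H H₁ H₂ K : Subgroup G}
    (hwc : WC p Q) (hQH : Q ≤ H) (hH : ncl Q H = H) (h1 : H₁ ≤ H) (h1' : H ≤ 𝐍(H₁)) (h2 : H₂ ≤ H)
    (h2' : H ≤ 𝐍(H₂)) (hprod : H₁ ⊔ H₂ = H) (hcomm : ⁅H₁, H₂⁆ ≤ 𝐍(Q))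
    (hK : K = 𝐑(p, weakClosure Q (H₁ ⊔ Q))) :
    ⁅K, Q⁆ = K ∧ ⁅K, H₁⁆ = K ∧ K ≤ H₁ ∧ H ≤ 𝐍(K) ∧ ⁅K, H₂⁆ ≤ pCoreOf p H ∧ H₁ ≤ 𝐍(K ⊔ Q) := by
  have hQW : Q ≤ weakClosure Q (H₁ ⊔ Q) := le_weakClosure le_sup_right
  have hW := hwc.ncl_weakClosure (le_sup_right : Q ≤ H₁ ⊔ Q)
  have e1 : ⁅K, Q⁆ = K := hK ▸ commutator_res_eq_of_ncl_eq hwc.isP hQW hW
  have e2 : K ⊔ Q = weakClosure Q (H₁ ⊔ Q) := hK ▸ res_sup_eq_of_ncl_eq hQW hW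
  have e3 : K ≤ H₁ :=
    hK.le.trans ((res_mono (weakClosure_le _ _)).trans (res_sup_le hwc.isP (hQH.trans h1')))
  have e4 : 𝐑(p, K) = K := by rw [hK, res_res]
  set O := pCoreOf p H with hO
  have hOH : O ≤ H := H70.pCoreOf_le p H
  have hOp : IsPGroup p O := H70.isPGroup_pCoreOf p H
  have hHO : H ≤ 𝐍(O) := H70.le_normalizer_pCoreOf p H
  have hN : ∀ X, X ≤ 𝐍(H₁ ⊔ Q) → X ≤ 𝐍(K) := fun X hX =>
    hK ▸ le_normalizer_res_of_le (hX.trans (normalizer_le_normalizer_weakClosure _ _))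
  have hH₁K : H₁ ≤ 𝐍(K) := hN _ (le_normalizer_of_le le_sup_left)
  have hOK : O ≤ 𝐍(K) := hN _ (le_normalizer_sup (hOH.trans h1')
    (hwc.pCoreOf_le_normalizer (le_normalizer_of_le hQH)))
  have hD : H ≤ 𝐍(⁅H₁, H₂⁆) := le_normalizer_commutator h1' h2'
  have hDH : ⁅H₁, H₂⁆ ≤ H := commutator_le_of_le h1 h2
  have h3 : ⁅⁅H₁, H₂⁆, Q⁆ ≤ O :=
    ((le_inf (commutator_le_right_of_le_normalizer hcomm)
      (commutator_le_left_of_le_normalizer (hQH.trans hD))).trans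
      (inf_le_pCoreOf hwc.isP hcomm)).trans (sn_of_normal hDH hD).pCoreOf_le
  have h4 : ⁅⁅H₁, H₂⁆, H⁆ ≤ O := by
    conv_lhs => rw [← hH, ncl_def]
    refine commutator_iSup_le_right (fun g => (cj_le_of_mem hQH g.2).trans hHO) fun g => ?_
    have := cj_le_of_mem_normalizer h3 (hHO g.2)
    rwa [cj_commutator, cj_eq_of_mem_normalizer (hD g.2)] at this
  have h5 : ⁅⁅H₁, H₁⁆, H₂⁆ ≤ O := by
    refine three_subgroups (h1.trans hHO) (h1.trans hHO) (h2.trans hHO) ?_ ?_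
    · exact (commutator_mono le_rfl h1).trans h4
    · rw [commutator_comm H₂]
      exact (commutator_mono le_rfl h1).trans h4
  have h6 : K ≤ ⁅H₁, H₁⁆ ⊔ ⁅H₁, H₂⁆ := by
    rw [← e1]
    exact (commutator_mono e3 (hQH.trans hprod.ge)).trans
      (commutator_sup_le_sup (h1.trans h1') (h2.trans h1'))
  have e5 : ⁅K, H₂⁆ ≤ O := (commutator_mono h6 le_rfl).trans (commutator_sup_le_left
    ((commutator_le_of_le h1 h1).trans hHO) (hDH.trans hHO) h5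
    ((commutator_mono le_rfl h2).trans h4))
  have h7 : H₂ ≤ 𝐍(K) := by
    rw [← e4, ← res_sup_eq hOp hOK]
    refine le_normalizer_res_of_le (le_normalizer_of_commutator_le_left ?_)
    exact (commutator_sup_le_left ((e3.trans h1).trans hHO) (hOH.trans hHO) e5
      (commutator_le_left_of_le_normalizer (h2.trans hHO))).trans le_sup_right
  have e6 : H ≤ 𝐍(K) := hprod.ge.trans (sup_le hH₁K h7)
  refine ⟨e1, le_antisymm (commutator_le_left_of_le_normalizer hH₁K) ?_, e3, e6, e5, ?_⟩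
  · have h8 : K ≤ ⁅K, H₁⁆ ⊔ O := by
      conv_lhs => rw [← e1]
      exact ((commutator_mono le_rfl (hQH.trans hprod.ge)).trans
        (commutator_sup_le_sup hH₁K h7)).trans (sup_le_sup_left e5 _)
    conv_lhs => rw [← e4]
    exact (res_mono h8).trans (res_sup_le hOp (hOH.trans (le_normalizer_commutator e6 h1')))
  · rw [e2]
    exact le_sup_left.trans (le_normalizer_weakClosure _ _)

/-- Let Q be a nontrivial p-subgroup of the finite group H that is a weakly closed subgroup, H° the weak closure of Q in H (generated by the conjugates of Q) and H_∘ = O^p(H°). Suppose H₁, H₂ are normal subgroups of H° with H° = H₁H₂ and [H₁, H₂] ≤ N_H(Q), and put Kᵢ = O^p of the weak closure of Q in HᵢQ. Then for i = 1, 2: Kᵢ = [Kᵢ, Q] = [Kᵢ, Hᵢ] ≤ Hᵢ′ and Kᵢ is normal in H°; H_∘ = K₁K₂; and [K₁, K₂] ≤ O_p(H°). -/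
theorem result {G : Type*} [Group G] [Finite G] {p : ℕ} [Fact p.Prime] (Q : Subgroup G) (hQp : IsPGroup p ↥Q) (hQ1 : Q ≠ ⊥) (hwc : Cfsg.IsWeaklyClosedSubgroup p Q) (Hc : Subgroup G) (hHc : Hc = Cfsg.weakClosure Q ⊤) (H₁ H₂ : Subgroup G) (hn₁ : H₁ ≤ Hc ∧ Hc ≤ Subgroup.normalizer ((H₁ : Subgroup G) : Set G)) (hn₂ : H₂ ≤ Hc ∧ Hc ≤ Subgroup.normalizer ((H₂ : Subgroup G) : Set G)) (hprod : H₁ ⊔ H₂ = Hc) (hcomm : ⁅H₁, H₂⁆ ≤ Subgroup.normalizer ((Q : Subgroup G) : Set G)) (K₁ K₂ : Subgroup G) (hK₁ : K₁ = ((Cfsg.pResidual p ↥(Cfsg.weakClosure Q (H₁ ⊔ Q))).map ((Cfsg.weakClosure Q (H₁ ⊔ Q))).subtype)) (hK₂ : K₂ = ((Cfsg.pResidual p ↥(Cfsg.weakClosure Q (H₂ ⊔ Q))).map ((Cfsg.weakClosure Q (H₂ ⊔ Q))).subtype)) : (⁅K₁, Q⁆ = K₁ ∧ ⁅K₁, H₁⁆ = K₁ ∧ K₁ ≤ ⁅H₁, H₁⁆ ∧ Hc ≤ Subgroup.normalizer ((K₁ : Subgroup G) : Set G)) ∧ (⁅K₂, Q⁆ = K₂ ∧ ⁅K₂, H₂⁆ = K₂ ∧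 K₂ ≤ ⁅H₂, H₂⁆ ∧ Hc ≤ Subgroup.normalizer ((K₂ : Subgroup G) : Set G)) ∧ K₁ ⊔ K₂ = ((Cfsg.pResidual p ↥Hc).map (Hc).subtype) ∧ ⁅K₁, K₂⁆ ≤ (Cfsg.pCoreOf p Hc) := by
  have hw := wc_of_isWeaklyClosedSubgroup hwc
  have hQH : Q ≤ Hc := hHc ▸ le_weakClosure le_top
  have hH : ncl Q Hc = Hc := hHc ▸ hw.ncl_weakClosure le_top
  obtain ⟨a1, a2, a3, a4, a5, a6⟩ := aux hw hQH hH hn₁.1 hn₁.2 hn₂.1 hn₂.2 hprod hcomm hK₁
  obtain ⟨b1, b2, b3, b4, b5, b6⟩ := aux hw hQH hH hn₂.1 hn₂.2 hn₁.1 hn₁.2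
    (by rw [sup_comm]; exact hprod) (by rw [commutator_comm]; exact hcomm) hK₂
  have hr : ∀ X K : Subgroup G, X ≤ Hc → K = 𝐑(p, weakClosure Q (X ⊔ Q)) → K ≤ 𝐑(p, Hc) :=
    fun X K hX hK => hK.le.trans (res_mono ((weakClosure_le _ _).trans (sup_le hX hQH)))
  refine ⟨⟨a1, a2, a2.ge.trans (commutator_mono a3 le_rfl), a4⟩,
    ⟨b1, b2, b2.ge.trans (commutator_mono b3 le_rfl), b4⟩,
    le_antisymm (sup_le (hr _ _ hn₁.1 hK₁) (hr _ _ hn₂.1 hK₂)) ?_,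
    (commutator_mono le_rfl b3).trans a5⟩
  have h1 : Hc ≤ 𝐍((K₁ ⊔ K₂) ⊔ Q) := by
    rw [← hprod]
    refine sup_le ?_ ?_
    · rw [sup_right_comm]
      exact le_normalizer_sup a6 (hn₁.1.trans b4)
    · rw [sup_assoc]
      exact le_normalizer_sup (hn₂.1.trans a4) b6
  exact (res_mono (hH.ge.trans (ncl_le le_sup_right h1))).trans
    (res_sup_le hQp (hQH.trans (le_normalizer_sup a4 b4)))

end Cfsg.Agent.S2859
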