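import Cfsg.Statements.S2860
import Mathlib
import Cfsg.Agent.Lib.LocStruct.QuadPair
import Cfsg.Agent.Lib.LocEven.FStarP

set_option autoImplicit false
open Cfsg

namespace Cfsg.Agent.S2860

open Subgroup H69
open scoped commutatorElement Pointwise

theorem aux {X : Type*} [Group X] [Finite X] {p : ℕ} [Fact p.Prime] (hO : pCore p X = ⊥)
    (hq : IsQuasisimple (𝐑(p, (⊤ : Subgroup X)))) {Y : Subgroup X} (hY : IsPGroup p Y)
    (h1 : Y ≠ ⊥) : ⁅𝐑(p, (⊤ : Subgroup X)), Y⁆ = 𝐑(p, (⊤ : Subgroup X)) := by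
  haveI : (𝐑(p, (⊤ : Subgroup X))).Normal := normal_iff_top_le_normalizer.2 (le_normalizer_res ⊤)
  have hK : IsComponent (𝐑(p, (⊤ : Subgroup X))) := ⟨Normal.isSubnormal inferInstance, hq⟩
  refine (H23.IsComponent.commutator_eq_self_or hK
    (le_top.trans (le_normalizer_res ⊤))).resolve_right fun e => h1 ?_
  rw [← le_bot_iff, ← hO]
  refine H68.le_pCore_of_isPClosed (N := 𝐂(𝐑(p, (⊤ : Subgroup X))))
    (isPClosed_of_commutator_res_le (D := ⊥) IsPGroup.of_bot
      (le_top.trans (normalizer_eq_top _).ge) ?_) hY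
    (le_centralizer_comm.1 (le_centralizer_of_commutator_eq_bot e))
  exact (commutator_eq_bot_of_le_centralizer
    ((res_mono le_top).trans (le_centralizer_comm.1 le_rfl))).le

theorem subgroupOf_commutator {G : Type*} [Group G] {E X Y : Subgroup G} (hX : X ≤ E) (hY : Y ≤ E) :
    (⁅X, Y⁆ : Subgroup G).subgroupOf E = ⁅X.subgroupOf E, Y.subgroupOf E⁆ := by
  rw [← H69.map_subtype_inj, map_commutator, map_subgroupOf_eq_of_le hX, map_subgroupOf_eq_of_le hY,
    map_subgroupOf_eq_of_le (commutator_le_of_le hX hY)]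

/-- Let Q be a nontrivial large p-subgroup of the finite group H, U a nontrivial elementary abelian p-subgroup of H, and Q ≤ E ≤ N_H(U) with Q not normal in E. Suppose O_p(E/C_E(U)) = 1 and O^p(E)·C_E(U)/C_E(U) is quasisimple. Let E° be the weak closure of Q in E (generated by the conjugates of Q inside E) and E_∘ = O^p(E°). Then O^p(E)·C_E(U) = E_∘·C_E(U); E_∘ is perfect and equals O^p(E_∘); E_∘/C_{E_∘}(U) and E_∘/O_p(E_∘) are quasisimple; and E_∘ = [E_∘, Y] for every p-subgroup Y of E not centralizing U. -/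
theorem result {G : Type*} [Group G] [Finite G] {p : ℕ} [Fact p.Prime] (Q : Subgroup G) (hQp : IsPGroup p ↥Q) (hQ1 : Q ≠ ⊥) (hQ : Cfsg.IsLarge Q) (U : Subgroup G) (hU : Cfsg.IsElementaryAbelian p U) (hU1 : U ≠ ⊥) (E : Subgroup G) (hQE : Q ≤ E) (hEU : E ≤ Subgroup.normalizer ((U : Subgroup G) : Set G)) (hQn : ¬ E ≤ Subgroup.normalizer ((Q : Subgroup G) : Set G)) [hn : ((Subgroup.centralizer ((U : Subgroup G) : Set G)).subgroupOf E).Normal] (hred : Cfsg.pCore p (↥E ⧸ (Subgroup.centralizer ((U : Subgroup G) : Set G)).subgroupOf E) = ⊥) (hqs : Cfsg.IsQuasisimple ↥(((Cfsg.pResidual p ↥E) ⊔ (Subgroup.centralizer ((U : Subgroup G) : Set G)).subgroupOf E).map (QuotientGroup.mk' ((Subgroup.centralizer ((U : Subgroup G) : Set G)).subgroupOf E)))) (Er : Subgroup G) (hEr : Er = ((Cfsg.pResidual p ↥(Cfsg.weakClosure Q E)).map ((Cfsg.weakClosure Q E)).subtype)) [hn2 : ((Subgroup.centralizer ((U : Subgroup G) : Set G)).subgroupOf Er).Normal] : ((Cfsg.pResidual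 p ↥E).map (E).subtype) ⊔ (E ⊓ Subgroup.centralizer ((U : Subgroup G) : Set G)) = Er ⊔ (E ⊓ Subgroup.centralizer ((U : Subgroup G) : Set G)) ∧ ⁅Er, Er⁆ = Er ∧ ((Cfsg.pResidual p ↥Er).map (Er).subtype) = Er ∧ Cfsg.IsQuasisimple (↥Er ⧸ (Subgroup.centralizer ((U : Subgroup G) : Set G)).subgroupOf Er) ∧ Cfsg.IsQuasisimple (↥Er ⧸ Cfsg.pCore p ↥Er) ∧ ∀ Y : Subgroup G, Y ≤ E → IsPGroup p ↥Y → ¬ Y ≤ Subgroup.centralizer ((U : Subgroup G) : Set G) → ⁅Er, Y⁆ = Er := by
  have hUp := H24.EA.isPGroup hU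
  have hw := wc_of_isLarge hQp hQ1 hQ
  let f := QuotientGroup.mk' ((𝐂(U)).subgroupOf E)
  have hf : Function.Surjective f := QuotientGroup.mk'_surjective _
  have hk : f.ker = (𝐂(U)).subgroupOf E := QuotientGroup.ker_mk' _
  have hle : ∀ X Y : Subgroup G, X ≤ E → Y ≤ E →
      (X.subgroupOf E).map f ≤ (Y.subgroupOf E).map f → X ≤ Y ⊔ (E ⊓ 𝐂(U)) := by
    intro X Y hX hY h
    rw [map_le_iff_le_comap, comap_map_eq, hk, ← inf_subgroupOf_left 𝐂(U) E,
      ← subgroupOf_sup hY inf_le_left, subgroupOf_le_subgroupOf_iff hX] at h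
    exact h
  have hbot : ∀ X : Subgroup G, X ≤ E → ((X.subgroupOf E).map f = ⊥ ↔ X ≤ 𝐂(U)) := fun X hX => by
    rw [Subgroup.map_eq_bot_iff, hk, subgroupOf_le_subgroupOf_iff hX]
  have hres : ∀ X : Subgroup G, X ≤ E →
      ((𝐑(p, X)).subgroupOf E).map f = 𝐑(p, (X.subgroupOf E).map f) := fun X hX => by
    rw [← res_subgroupOf_of_le hX, map_res]
  have hK : ((𝐑(p, E)).subgroupOf E).map f = 𝐑(p, ⊤) := by
    rw [hres E le_rfl, subgroupOf_self, map_top_of_surjective f hf]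
  have hq : IsQuasisimple (𝐑(p, (⊤ : Subgroup (E ⧸ (𝐂(U)).subgroupOf E)))) := by
    rw [Subgroup.map_sup, (Subgroup.map_eq_bot_iff _).2 hk.ge, sup_bot_eq, ← res_subgroupOf,
      hK] at hqs
    exact hqs
  have hcomm : ∀ Y : Subgroup G, Y ≤ E → IsPGroup p Y → ¬ Y ≤ 𝐂(U) →
      ⁅𝐑(p, ⊤), (Y.subgroupOf E).map f⁆ = 𝐑(p, ⊤) := fun Y h1 h2 h3 =>
    aux hred hq ((isPGroup_subgroupOf h2 E).map f) fun e => h3 ((hbot Y h1).1 e)
  have hQC : ¬ Q ≤ 𝐂(U) := fun hc => hQn (hEU.trans (hQ.2 U (le_centralizer_comm.1 hc) hU1))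
  set W := weakClosure Q E with hW
  have hWE : W ≤ E := weakClosure_le Q E
  have hEW : E ≤ 𝐍(W) := le_normalizer_weakClosure Q E
  have hQW : Q ≤ W := le_weakClosure hQE
  have hR : Er = 𝐑(p, W) := hEr
  have hRW : Er ≤ W := hR ▸ res_le W
  have hRE : Er ≤ E := hRW.trans hWE
  have hER : E ≤ 𝐍(Er) := hR ▸ le_normalizer_res_of_le hEW
  have e3 : 𝐑(p, Er) = Er := by rw [hR, res_res]
  have hKR : (Er.subgroupOf E).map f = 𝐑(p, ⊤) := by
    rw [hR, hres W hWE]
    refine res_eq_of_le ?_ le_top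
    haveI : (W.subgroupOf E).Normal := normal_subgroupOf_of_le_normalizer hEW
    haveI : ((W.subgroupOf E).map f).Normal := Normal.map inferInstance f hf
    rw [← hcomm Q hQE hQp hQC]
    exact (commutator_mono le_top (map_mono (comap_mono hQW))).trans
      (commutator_le_right _ ((W.subgroupOf E).map f))
  have hO : ⁅W, 𝐂(U)⁆ ≤ pCoreOf p W :=
    (isLarge_weakClosure_sup_centralizer hQp hQ1 hQ hQE hUp hU1 hEU).2.1
  have hO' : ⁅Er ⊓ 𝐂(U), W⁆ ≤ pCoreOf p Er := by
    rw [(sn_of_normal hRW (hWE.trans hER)).pCoreOf_eq, commutator_comm]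
    exact le_inf ((commutator_mono le_rfl inf_le_right).trans hO)
      ((commutator_mono le_rfl inf_le_left).trans
        (commutator_le_right_of_le_normalizer (hWE.trans hER)))
  -- a subgroup of `Er` covering the quasisimple section
  have hcov : ∀ X Z : Subgroup G, X ≤ Er → Z ≤ W → Er ≤ 𝐍(X) → Z ≤ 𝐍(X) → ⁅Er, Z⁆ = Er →
      (X.subgroupOf E).map f = 𝐑(p, ⊤) → X = Er := by
    intro X Z h1 h2 h3 h4 h5 h6
    have h7 : Er ≤ X ⊔ (Er ⊓ 𝐂(U)) := by
      have := le_inf (hle Er X hRE (h1.trans hRE) (hKR.trans h6.symm).le) (le_refl Er)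
      rwa [dedekind_right ((h1.trans hRE).trans (le_normalizer_inf (le_normalizer_of_le le_rfl)
        (le_normalizer_centralizer hEU))) h1, inf_right_comm, inf_eq_right.2 hRE] at this
    have hn : Er ≤ 𝐍(X ⊔ pCoreOf p Er) := le_normalizer_sup h3 (H70.le_normalizer_pCoreOf p Er)
    have h8 : Er ≤ X ⊔ pCoreOf p Er := by
      conv_lhs => rw [← h5]
      exact (commutator_mono h7 le_rfl).trans (commutator_sup_le_left (h1.trans hn)
        (inf_le_left.trans hn) ((commutator_le_left_of_le_normalizer h4).trans le_sup_left)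
        (((commutator_mono le_rfl h2).trans hO').trans le_sup_right))
    refine le_antisymm h1 ?_
    conv_lhs => rw [← e3]
    exact (res_mono h8).trans
      (res_sup_le (H70.isPGroup_pCoreOf p Er) ((H70.pCoreOf_le p Er).trans h3))
  have e2 : ⁅Er, Er⁆ = Er := by
    refine hcov _ Q (commutator_le_of_le le_rfl le_rfl) hQW (le_normalizer_commutator_left _ _)
      (hQE.trans (le_normalizer_commutator hER hER))
      (hR ▸ commutator_res_eq_of_ncl_eq hQp hQW (hw.ncl_weakClosure hQE)) ?_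
    rw [subgroupOf_commutator hRE hRE, map_commutator, hKR]
    exact H23.IsQuasisimple.commutator_self hq
  have e4 : IsQuasisimple (Er ⧸ (𝐂(U)).subgroupOf Er) := by
    let ψ : Er →* E ⧸ (𝐂(U)).subgroupOf E := f.comp (inclusion hRE)
    have h1 : (𝐂(U)).subgroupOf Er = ψ.ker := by
      rw [← MonoidHom.comap_ker, hk]; rfl
    have h2 : ψ.range = 𝐑(p, ⊤) := by
      rw [MonoidHom.range_comp, inclusion_range, hKR]
    exact H23.IsQuasisimple.of_mulEquiv (((QuotientGroup.quotientMulEquivOfEq h1).trans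
      (QuotientGroup.quotientKerEquivRange ψ)).trans (MulEquiv.subgroupCongr h2)).symm hq
  refine ⟨le_antisymm (sup_le (hle _ _ (res_le E) hRE (hK.trans hKR.symm).le) le_sup_right)
    (sup_le_sup_right (hR.le.trans (res_mono hWE)) _), e2, e3, e4, ?_, fun Y h1 h2 h3 => ?_⟩
  · have h1 : pCoreOf p Er ≤ 𝐂(U) := by
      have h2 : pCoreOf p Er ≤ E := (H70.pCoreOf_le p Er).trans hRE
      haveI : ((pCoreOf p Er).subgroupOf E).Normal :=
        normal_subgroupOf_of_le_normalizer (le_normalizer_pCoreOf_of_le hER)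
      haveI : (((pCoreOf p Er).subgroupOf E).map f).Normal := Normal.map inferInstance f hf
      rw [← hbot _ h2, ← le_bot_iff, ← hred]
      exact H1.le_pCore ((isPGroup_subgroupOf (H70.isPGroup_pCoreOf p Er) E).map f)
    have h2 : pCore p Er ≤ ((𝐂(U)).subgroupOf Er).comap (MonoidHom.id Er) := by
      rw [← H70.pCoreOf_subgroupOf]
      exact comap_mono h1
    haveI : Group.IsPerfect Er := Subgroup.isPerfect_iff.2 e2
    refine H23.IsQuasisimple.of_ker_le_center (f := QuotientGroup.map _ _ (MonoidHom.id Er) h2)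
      (fun x => ?_) (fun x hx => ?_) inferInstance e4
    · obtain ⟨x, rfl⟩ := QuotientGroup.mk_surjective x
      exact ⟨x, rfl⟩
    · obtain ⟨x, rfl⟩ := QuotientGroup.mk_surjective x
      have hx' : (x : G) ∈ 𝐂(U) := (QuotientGroup.eq_one_iff (N := (𝐂(U)).subgroupOf Er) x).1 hx
      rw [mem_center_iff]
      intro y
      obtain ⟨y, rfl⟩ := QuotientGroup.mk_surjective y
      refine (commutatorElement_eq_one_iff_mul_comm.1 ?_).symm
      exact (QuotientGroup.eq_one_iff ⁅x, y⁆).2 (H70.mem_pCoreOf.1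
        (hO' (commutator_mem_commutator ⟨x.2, hx'⟩ (hRW y.2))))
  · refine hcov _ Er (commutator_le_left_of_le_normalizer (h1.trans hER)) hRW
      (le_normalizer_commutator_left _ _) (le_normalizer_commutator_left _ _) e2 ?_
    rw [subgroupOf_commutator hRE h1, map_commutator, hKR]
    exact hcomm Y h1 h2 h3

end Cfsg.Agent.S2860
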