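import Cfsg.Statements.S2861
import Mathlib
import Cfsg.Agent.Lib.LocStruct.RankOne

set_option autoImplicit false
open Cfsg

namespace Cfsg.Agent.S2861

open Subgroup H69
open scoped commutatorElement Pointwise


/-- Standing hypotheses: G a finite group, S a Sylow p-subgroup, Q a nontrivial large p-subgroup of G contained in S, M a subgroup containing S with the basic property (M ∈ 𝔐_G(S)); Y_M the largest p-reduced normal subgroup of M and M† = M·C_G(Y_M). Let L ∈ 𝔏_G(Y_M) (L ∈ 𝔏_G(Y_M): Y_M ≤ L; O_p(L) is the normal closure in L of Y_M ∩ O_p(L) and normalizes Y_M; L is Y_M-minimal of characteristic p with N_L(Y_M) its unique maximal subgroup over Y_M; and L/O_p(L) ≅ SL₂(q) with q = |Y_M : Y_M ∩ O_p(L)|, or p = 2 and L/O_p(L) is a Suzuki group Sz(q) or dihedral of order 2r, r an odd prime) and A = O_p(L). Then Y_M·A/A is the unique nontrivial elementary abelian normal p-subgroup of N_L(Y_M)/A. -/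
theorem result {G : Type*} [Group G] [Finite G] {p : ℕ} [Fact p.Prime] (S : Sylow p G) (Q : Subgroup G) (hQp : IsPGroup p ↥Q) (hQ1 : Q ≠ ⊥) (hQS : Q ≤ (S : Subgroup G)) (hQ : Cfsg.IsLarge Q) (M : Subgroup G) (hSM : (S : Subgroup G) ≤ M) (hM : Cfsg.IsInFrakM p M) (L : Subgroup G) (hL : Cfsg.IsInFrakL p M L) (NL : Subgroup G) (hNL : NL = L ⊓ Subgroup.normalizer (((Cfsg.largestPReducedOf p M) : Subgroup G) : Set G)) [hn : (((Cfsg.pCoreOf p L)).subgroupOf NL).Normal] : let Ybar : Subgroup (↥NL ⧸ ((Cfsg.pCoreOf p L)).subgroupOf NL) := (((Cfsg.largestPReducedOf p M)).subgroupOf NL).map (QuotientGroup.mk' (((Cfsg.pCoreOf p L)).subgroupOf NL)); Ybar ≠ ⊥ ∧ Ybar.Normal ∧ Cfsg.IsElementaryAbelian p Ybar ∧ ∀ (V : Subgroup (↥NL ⧸ ((Cfsg.pCoreOf p L)).subgroupOf NL)), V.Normal → Cfsg.IsElementaryAbelian p V → V ≠ ⊥ → V = Ybar := by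
  intro Ybar
  have hym := ym_of_isInFrakL hL
  have hrk := rk_of_isInFrakL hL
  have hYp := Y_isPGroup (p := p) M
  have hYea := Y_ea (p := p) M
  rw [← hNL] at hym
  have hNY : NL ≤ 𝐍(𝐘(p, M)) := hNL.le.trans inf_le_right
  have hle : NL ≤ L := hym.lt.le
  have hne : Ybar ≠ ⊥ := fun e => by
    rw [Subgroup.map_eq_bot_iff, QuotientGroup.ker_mk', subgroupOf_le_subgroupOf_iff hym.le] at e
    exact hym.not_le_pCoreOf hYp e
  have hnorm : Ybar.Normal :=
    (normal_subgroupOf_of_le_normalizer hNY).map _ (QuotientGroup.mk'_surjective _)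
  have hea : IsElementaryAbelian p Ybar := ea_map _ (H24.EA.subgroupOf hYea NL)
  refine ⟨hne, hnorm, hea, fun V hV hVea hV1 => ?_⟩
  have hk : (pCoreOf p L).subgroupOf NL = (pCore p L).comap (inclusion hle) := by
    rw [← H70.pCoreOf_subgroupOf]; rfl
  let φ : NL ⧸ (pCoreOf p L).subgroupOf NL →* L ⧸ pCore p L :=
    QuotientGroup.map _ _ (inclusion hle) hk.le
  have hφ : Function.Injective φ := by
    rw [injective_iff_map_eq_one]
    intro x hx
    obtain ⟨x, rfl⟩ := QuotientGroup.mk_surjective x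
    rw [QuotientGroup.eq_one_iff, hk]
    exact (QuotientGroup.eq_one_iff (inclusion hle x)).1 hx
  have hU : Ybar.map φ = (𝐘(p, M).subgroupOf L).map (QuotientGroup.mk' (pCore p L)) := by
    ext x
    constructor
    · rintro ⟨_, ⟨y, hy, rfl⟩, rfl⟩
      exact ⟨inclusion hle y, hy, rfl⟩
    · rintro ⟨y, hy, rfl⟩
      exact ⟨_, ⟨⟨y, hym.le hy⟩, hy, rfl⟩, rfl⟩
  rw [← hU] at hrk
  have hN : ∀ W : Subgroup (NL ⧸ (pCoreOf p L).subgroupOf NL), W.Normal →
      (⊤ : Subgroup _).map φ ≤ 𝐍(W.map φ) := fun W hW =>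
    H70.map_normalizer_le φ (normal_iff_top_le_normalizer.1 hW)
  have hK : 𝐍(Ybar.map φ) ≤ (⊤ : Subgroup _).map φ := by
    have h1 : ((𝐍(Ybar.map φ)).comap (QuotientGroup.mk' (pCore p L))).map L.subtype ≤ NL := by
      refine hym.uniq _ ((subgroupOf_le_iff hym.YL).1 ?_)
        (lt_of_le_of_ne (map_subtype_le _) fun e => hne ?_)
      · rw [← map_le_iff_le_comap, ← hU]
        exact le_normalizer
      · rw [map_subtype_eq_self_iff, ← comap_top (QuotientGroup.mk' (pCore p L))] at e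
        haveI := normal_iff_top_le_normalizer.2
          (comap_injective (QuotientGroup.mk'_surjective _) e).ge
        have h2 := H1.le_pCore ((H24.EA.isPGroup hea).map φ)
        rw [H1.pCore_quotient_pCore, le_bot_iff, Subgroup.map_eq_bot_iff_of_injective _ hφ] at h2
        exact h2
    intro x hx
    obtain ⟨x, rfl⟩ := QuotientGroup.mk_surjective x
    exact ⟨QuotientGroup.mk ⟨x, h1 (mem_map_of_mem _ hx)⟩, mem_top _, rfl⟩
  refine map_injective hφ (hrk.uniq _ ((map_mono le_top).trans (hN _ hnorm)) (hK.trans (hN V hV))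
    (ea_map _ hVea) fun e => hV1 ?_)
  rwa [Subgroup.map_eq_bot_iff_of_injective _ hφ] at e

end Cfsg.Agent.S2861
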