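import Cfsg.Statements.S2862
import Mathlib
import Cfsg.Agent.Lib.LocStruct.QuadPair

set_option autoImplicit false
open Cfsg

namespace Cfsg.Agent.S2862

open Subgroup H69
open scoped commutatorElement Pointwise


/-- Standing hypotheses: G a finite group, S a Sylow p-subgroup, Q a nontrivial large p-subgroup of G contained in S, M a subgroup containing S with the basic property (M ∈ 𝔐_G(S)); Y_M the largest p-reduced normal subgroup of M and M† = M·C_G(Y_M). Suppose Y_M is char-p-tall and asymmetric in G, H ∈ ℌ_G(O_p(M)), and L is minimal among the subgroups of H containing Y_M with Y_M ≰ O_p(L). Then H = ⟨L, O_p(M)⟩ = ⟨hY_Mh⁻¹, O_p(M)⟩ for every h ∈ L outside N_L(Y_M); L is Y_M-minimal and of characteristic p, with N_L(Y_M) the unique maximal subgroup of L containing Y_M; [V, O^p(L)] ≠ 1 for every noncentral chief factor V/W of H inside O_p(H) (that is, O^p(L) does not act trivially on V/W); and the normal closure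 of O_p(L) ∩ Y_M in L lies in O_p(H). -/
theorem result {G : Type*} [Group G] [Finite G] {p : ℕ} [Fact p.Prime] (S : Sylow p G) (Q : Subgroup G) (hQp : IsPGroup p ↥Q) (hQ1 : Q ≠ ⊥) (hQS : Q ≤ (S : Subgroup G)) (hQ : Cfsg.IsLarge Q) (M : Subgroup G) (hSM : (S : Subgroup G) ≤ M) (hM : Cfsg.IsInFrakM p M) (htall : Cfsg.IsCharPTall p (Cfsg.largestPReducedOf p M)) (hasym : ¬ Cfsg.IsSymmetricIn (Cfsg.largestPReducedOf p M)) (H : Subgroup G) (hH : Cfsg.IsInFrakH p M H) (L : Subgroup G) (hLH : L ≤ H) (hYL : (Cfsg.largestPReducedOf p M) ≤ L) (hYO : ¬ (Cfsg.largestPReducedOf p M) ≤ (Cfsg.pCoreOf p L)) (hmin : ∀ L' : Subgroup G, L' ≤ L → (Cfsg.largestPReducedOf p M) ≤ L' → ¬ (Cfsg.largestPReducedOf p M) ≤ (Cfsg.pCoreOf p L') → L' = L) : (L ⊔ (Cfsg.pCoreOf p M) = H ∧ ∀ h ∈ L, h ∉ Subgroup.normalizer (((Cfsg.largestPReducedOf p M) : Subgroup G) : Set G) → (((Cfsg.largestPReducedOf p M) : Subgroup G).map (MulAut.conj (h : G)).toMonoidHom)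 ⊔ (Cfsg.pCoreOf p M) = H) ∧ (Cfsg.IsMinimalOver (((Cfsg.largestPReducedOf p M)).subgroupOf L) ∧ Subgroup.centralizer (Cfsg.pCore p ↥L : Set ↥L) ≤ Cfsg.pCore p ↥L ∧ L ⊓ Subgroup.normalizer (((Cfsg.largestPReducedOf p M) : Subgroup G) : Set G) < L ∧ ∀ X : Subgroup G, (Cfsg.largestPReducedOf p M) ≤ X → X < L → X ≤ L ⊓ Subgroup.normalizer (((Cfsg.largestPReducedOf p M) : Subgroup G) : Set G)) ∧ (∀ V W' : Subgroup G, V ≤ (Cfsg.pCoreOf p H) → H ≤ Subgroup.normalizer ((V : Subgroup G) : Set G) → H ≤ Subgroup.normalizer ((W' : Subgroup G) : Set G) → W' < V → (∀ Z' : Subgroup G, H ≤ Subgroup.normalizer ((Z' : Subgroup G) : Set G) → W' ≤ Z' → Z' ≤ V → Z' = W' ∨ Z' = V) → ¬ ⁅V, H⁆ ≤ W' → ¬ ⁅V, ((Cfsg.pResidual p ↥L).map (L).subtype)⁆ ≤ W') ∧ (Subgroup.normalClosure (((((Cfsg.pCoreOf p L) ⊓ (Cfsg.largestPReducedOf p M)).subgroupOf L : Subgroup ↥L)) : Set ↥L)).map L.subtype ≤ (Cfsg.pCoreOf p H) := by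
  have h := fm_of_isLarge S hQp hQ1 hQ hSM hM
  have hf := fh_of_isInFrakH hH
  have hwc := h.wc hasym
  have hcH : H70.CharP p H := H70.charP_iff.2 hH.1
  have hNO := h.normalizer_O_le
  have hOY := pCoreOf_le_centralizer_Y (p := p) M
  have hYea := Y_ea (p := p) M
  have hYp := Y_isPGroup (p := p) M
  have hYY := Y_le_centralizer (p := p) M
  show (_ ∧ ∀ h ∈ L, _ → 𝐘(p, M) ^ᶜ h ⊔ _ = H) ∧ _ ∧ (∀ V W' : Subgroup G, _ → _ → _ → _ → _ → _ →
    ¬ ⁅V, 𝐑(p, L)⁆ ≤ W') ∧ _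
  generalize 𝐘(p, M) = Y at *
  generalize pCoreOf p M = O at *
  set A := pCoreOf p H with hA
  have hAp : IsPGroup p A := H70.isPGroup_pCoreOf p H
  have hAH : A ≤ H := H70.pCoreOf_le p H
  have hHA : H ≤ 𝐍(A) := H70.le_normalizer_pCoreOf p H
  have hAY : A ≤ 𝐍(Y) := (hwc.pCoreOf_le_normalizer (le_normalizer_of_le hf.OH)).trans hNO
  have hres : ∀ X, X ≤ H → 𝐑(p, X) ≤ 𝐂(A) → IsPGroup p X := fun X h1 h2 =>
    isPGroup_of_res_le_centralizer hAp ((inf_le_inf_right _ h1).trans hcH) h2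
  have hpg : ∀ (P : Subgroup G) (g : G), Y ≤ pCoreOf p P → Y ^ᶜ g ≤ P →
      IsPGroup p (Y ⊔ Y ^ᶜ g : Subgroup G) := fun P g h1 h2 =>
    (isPGroup_sup_of_le_normalizer_left (H70.isPGroup_pCoreOf p P) (isPGroup_cj hYp g)
      (h2.trans (H70.le_normalizer_pCoreOf p P))).to_le (sup_le_sup_right h1 _)
  have hdich : ∀ l ∈ L, Y ⊔ Y ^ᶜ l ≠ L → IsPGroup p (Y ⊔ Y ^ᶜ l : Subgroup G) := by
    intro l hl hne
    refine hpg (Y ⊔ Y ^ᶜ l) l ?_ le_sup_right
    by_contra hc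
    exact hne (hmin _ (sup_le hYL (cj_le_of_mem hYL hl)) le_sup_left hc)
  obtain ⟨h₀, hh₀, hgen⟩ : ∃ h₀ ∈ L, Y ⊔ Y ^ᶜ h₀ = L := by
    by_contra hc
    exact hYO (le_pCoreOf_of_forall_sup_cj hYL fun g hg => hdich g hg fun e => hc ⟨g, hg, e⟩)
  have q : QP A Y L h₀ := ⟨hLH.trans hHA, hAY, hYY, hh₀, hgen⟩
  have hLp : ¬ IsPGroup p L := fun hc => hYO (by rw [H70.pCoreOf_eq_self hc]; exact hYL)
  have hR : ¬ 𝐑(p, L) ≤ 𝐂(A) := fun hc => hLp (hres L hLH hc)
  have claim1 : L ⊓ 𝐍(A ⊓ Y) ≤ 𝐍(O) := by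
    intro l hl
    have h1 : IsPGroup p (⁅O, L ⊓ 𝐍(A ⊓ Y)⁆ : Subgroup G) :=
      hres _ (commutator_le_of_le hf.OH (inf_le_left.trans hLH))
        (q.res_commutator_le hAp (hf.OH.trans hHA) hOY)
    refine cj_eq_self_iff.1 (hwc.eq _ l (isPGroup_sup_of_le_normalizer_right hf.isP h1
      (le_normalizer_commutator_left _ _)) le_sup_left ?_)
    rw [← ncl_eq_sup_commutator]
    exact cj_le_ncl O hl
  have hgenH : ∀ g ∈ L, Y ⊔ Y ^ᶜ g = L → Y ^ᶜ g ⊔ O = H := by
    intro g hg e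
    by_contra hc
    refine hLp (e ▸ hpg _ g (hf.min _ le_sup_right (lt_of_le_of_ne
      (sup_le ((q.cjL hg).trans hLH) hf.OH) hc)) le_sup_left)
  have claim2 : ∀ l ∈ L, Y ⊔ Y ^ᶜ l ≠ L → l ∈ 𝐍(O) := by
    intro l hl hne
    refine claim1 ⟨hl, ?_⟩
    obtain ⟨w, hw, hw'⟩ := q.exists_mem_inf hAp hR hl (hdich l hl hne)
    have h1 : O ≤ H ⊓ 𝐂(zpowers w) :=
      le_inf hf.OH (hOY.trans (centralizer_anti (zpowers_le.2 hw.1.2)))
    have h2 : O ^ᶜ l ≤ H ⊓ 𝐂(zpowers w) := by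
      refine le_inf (cj_le_of_mem hf.OH (hLH hl)) ((cj_mono l hOY).trans ?_)
      rw [cj_centralizer]
      exact centralizer_anti (zpowers_le.2 hw.2)
    have h3 : H ⊓ 𝐂(zpowers w) < H := lt_of_le_of_ne inf_le_left fun e => hw' (by
      rw [← conj_eq_of_mem_centralizer (e.ge (hLH hh₀)).2 (mem_zpowers w)]
      exact cj_mem h₀ hw.1.2)
    have h4 := ea_ncl_of_asym hasym hYea (hf.min _ h1 h3)
      ((hwc.pCoreOf_le_normalizer (le_normalizer_of_le h1)).trans hNO)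
    obtain ⟨k, hk, hk2⟩ := hwc.exists_cj_eq h1 h2
    have h5 : Y ^ᶜ l = Y ^ᶜ k := by
      rw [cj_eq_iff, cj_cj] at hk2 ⊢
      exact (cj_eq_of_mem_normalizer (hNO (cj_eq_self_iff.1 hk2.symm))).symm
    have h6 : Y ^ᶜ l ≤ 𝐂(Y) := by
      rw [h5]
      exact ((cj_le_ncl Y (H70.le_normalizer_pCoreOf p _ hk)).trans
        (H24.EA.le_centralizer h4)).trans (centralizer_anti (le_ncl _ _))
    refine mem_normalizer_of_cj_le ?_
    rw [q.cj_B hl]
    exact le_inf inf_le_left ((le_inf (q.cj_B_le hl) (inf_le_right.trans h6)).trans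
      q.W_inf_centralizer)
  have key : ∀ l ∈ L, l ∉ 𝐍(Y) → Y ⊔ Y ^ᶜ l = L := fun l hl hn => by
    by_contra hc
    exact hn (hNO (claim2 l hl hc))
  have hlt : L ⊓ 𝐍(Y) < L := lt_of_le_of_ne inf_le_left fun e =>
    hYO (H70.le_pCoreOf hYp hYL (e.ge.trans inf_le_right))
  have huniq : ∀ X, Y ≤ X → X < L → X ≤ L ⊓ 𝐍(Y) := fun X h1 h2 x hx => ⟨h2.le hx, by
    by_contra hc
    exact h2.not_ge ((key x (h2.le hx) hc).ge.trans (sup_le h1 (cj_le_of_mem h1 hx)))⟩
  have hym : YM Y (L ⊓ 𝐍(Y)) L := ⟨le_inf hYL (le_normalizer_of_le le_rfl), hlt, huniq,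
    le_antisymm (ncl_le_self hYL) (hgen.ge.trans (sup_le (le_ncl _ _) (cj_le_ncl _ hh₀)))⟩
  have hH0 := hgenH h₀ hh₀ hgen
  refine ⟨⟨le_antisymm (sup_le hLH hf.OH) (hH0.ge.trans (sup_le_sup_right (q.cjL hh₀) _)),
    fun g hg hn => hgenH g hg (key g hg hn)⟩, ⟨hym.isMinimalOver,
    H70.charP_iff.1 (hcH.of_le_normalizer hLH q.A_le_normalizer), hlt, huniq⟩,
    fun V W hVA hV hW hWV hch hnc hc => ?_, ?_⟩
  · have hVH : V ≤ H := hVA.trans hAH
    let N := H ⊓ H2.relCentralizer V W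
    have hN : ∀ X, X ≤ H → (X ≤ N ↔ ⁅V, X⁆ ≤ W) := fun X hX => by
      rw [le_inf_iff, H2.le_relCentralizer_iff, commutator_comm]
      exact ⟨fun h1 => h1.2.2, fun h1 => ⟨hX, hX.trans hW, h1⟩⟩
    have hNn : H ≤ 𝐍(N) := le_normalizer_of_cj_le fun g hg => by
      have h0 := cj_le_of_mem_normalizer ((hN N inf_le_left).1 le_rfl) (hW hg)
      rw [cj_commutator, cj_eq_of_mem_normalizer (hV hg)] at h0
      exact (hN _ (cj_le_of_mem inf_le_left hg)).2 h0
    have h1 : 𝐑(p, L) ≤ N := (hN _ ((res_le L).trans hLH)).2 hc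
    by_cases h2 : 𝐑(p, H) ≤ N
    · have h3 := (hN _ (res_le H)).1 h2
      rcases hch (W ⊔ ⁅V, H⁆) (le_normalizer_sup hW (le_normalizer_commutator_right _ _))
        le_sup_left (sup_le hWV.le (commutator_le_left_of_le_normalizer hV)) with e | e
      · exact hnc (le_sup_right.trans e.le)
      · refine hWV.not_ge (le_of_le_sup_commutator (hAp.to_le hVA) hf.isP (hf.OH.trans hV) hWV.le
          (hf.OH.trans hW) (e.ge.trans (sup_le le_sup_left ?_)))
        conv_lhs => rw [← hf.res_sup_O]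
        exact (commutator_sup_le_sup ((res_le H).trans hV) (hf.OH.trans hV)).trans
          (sup_le_sup_right h3 _)
    · have h3 := hf.commutator_ncl_le inf_le_left hNn h2
      refine hLp (isPGroup_of_res_le hAp ?_)
      rw [← hym.commutator_res hYp, commutator_comm]
      exact (commutator_mono (le_ncl _ _) h1).trans h3
  · rw [map_normalClosure_subgroupOf (inf_le_right.trans hYL)]
    set Y₀ := pCoreOf p L ⊓ Y with hY₀
    set Z := A ⊓ (Y ⊓ Y ^ᶜ h₀) with hZ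
    have hY₀H : Y₀ ≤ H := inf_le_right.trans hf.YH
    have hZH : Z ≤ 𝐂(H) := by
      rw [← hH0, centralizer_sup]
      exact le_inf ((inf_le_right.trans inf_le_right).trans (q.ab' h₀))
        ((inf_le_right.trans inf_le_left).trans (le_centralizer_comm.1 hOY))
    have hHZ : H ≤ 𝐍(Z) := le_normalizer_of_le_of_centralizer hZH
    have hD : pCoreOf p L ≤ 𝐍(Y ^ᶜ h₀) := by
      rw [← cj_normalizer, ← cj_eq_of_mem_normalizer (H70.le_normalizer_pCoreOf p L hh₀)]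
      exact cj_mono h₀ ((hym.pCoreOf_le hYp).trans inf_le_right)
    have h1 : ⁅⁅A, H⁆, Y₀⁆ ≤ Z := by
      have h2 : ⁅A, H⁆ ≤ ⁅A, Y ^ᶜ h₀⁆ ⊔ ⁅A, O⁆ := by
        conv_lhs => rw [← hH0]
        exact commutator_sup_le_sup ((q.cjL hh₀).trans q.LA) (hf.OH.trans hHA)
      have h3 : ⁅A, O⁆ ≤ 𝐂(Y) := by
        refine three_subgroups_cent ?_ ?_
        · rw [commutator_eq_bot_of_le_centralizer hOY]; exact bot_le
        · rw [commutator_comm]
          exact (q.commutator_Y_le.trans inf_le_right).trans (le_centralizer_comm.1 hOY)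
      refine (commutator_mono h2 le_rfl).trans (commutator_sup_le_left
        ((commutator_le_of_le hAH ((q.cjL hh₀).trans hLH)).trans hHZ)
        ((commutator_le_of_le hAH hf.OH).trans hHZ) ?_ ?_)
      · refine (commutator_mono (q.commutator_cj_le hh₀) le_rfl).trans (le_inf ?_ (le_inf ?_ ?_))
        · exact (commutator_mono inf_le_left le_rfl).trans
            (commutator_le_left_of_le_normalizer (hY₀H.trans hHA))
        · exact (commutator_mono inf_le_left inf_le_right).trans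
            (commutator_le_right_of_le_normalizer hAY)
        · exact (commutator_mono inf_le_right inf_le_left).trans
            (commutator_le_left_of_le_normalizer hD)
      · rw [commutator_eq_bot_of_le_centralizer (h3.trans (centralizer_anti inf_le_right))]
        exact bot_le
    have h4 : ⁅⁅A, H⁆, ncl Y₀ H⁆ ≤ Z := by
      rw [ncl_def]
      refine commutator_iSup_le_right (fun g => (cj_le_of_mem hY₀H g.2).trans hHZ) fun g => ?_
      have := cj_mono (g : G) h1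
      rwa [cj_commutator, cj_eq_of_mem_normalizer (le_normalizer_commutator_right A H g.2),
        cj_eq_of_mem_normalizer (hHZ g.2)] at this
    have h5 : ncl Y₀ H ≤ H := ncl_le_self hY₀H
    refine (ncl_mono le_rfl hLH).trans (H70.le_pCoreOf (hres _ h5 ?_) h5 (le_normalizer_ncl _ _))
    refine res_le_centralizer_of_chain (fun i => if i = 0 then A else if i = 1 then ⁅A, H⁆
      else Z) 2 hAp (h5.trans hHA) (fun i hi => ?_) (h5.trans (le_centralizer_comm.1 hZH))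
    obtain rfl | rfl : i = 0 ∨ i = 1 := by omega
    · exact commutator_mono le_rfl h5
    · exact h4

end Cfsg.Agent.S2862
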