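import Cfsg.Statements.S2863
import Mathlib
import Cfsg.Agent.Lib.LocStruct.RankOne

set_option autoImplicit false
open Cfsg

namespace Cfsg.Agent.S2863

open Subgroup H69
open scoped commutatorElement Pointwise

theorem exists_fixed_mod {G : Type*} [Group G] [Finite G] {p : ℕ} [Fact p.Prime]
    {W K Z : Subgroup G} (hW : IsPGroup p W) (hK : IsPGroup p K) (hn : K ≤ 𝐍(W)) (hne : ¬ W ≤ Z) :
    ∃ w ∈ W, w ∉ Z ∧ ∀ k ∈ K, ⁅w, k⁆ ∈ Z := by
  obtain ⟨U, hU, hmin⟩ := (wellFounded_lt (α := Subgroup G)).has_min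
    {U | U ≤ W ∧ K ≤ 𝐍(U) ∧ ¬ U ≤ Z} ⟨W, le_rfl, hn, hne⟩
  have h1 : ⁅U, K⁆ < U := commutator_lt_of_isPGroup (hW.to_le hU.1) hK hU.2.1
    fun e => hU.2.2 (e.le.trans bot_le)
  have h2 : ⁅U, K⁆ ≤ Z := by
    by_contra h3
    exact hmin _ ⟨h1.le.trans hU.1, le_normalizer_commutator_right _ _, h3⟩ h1
  obtain ⟨u, hu, huZ⟩ := SetLike.not_le_iff_exists.1 hU.2.2
  exact ⟨u, hU.1 hu, huZ, fun k hk => h2 (commutator_mem_commutator hu hk)⟩

/-- Standing hypotheses: G a finite group, S a Sylow p-subgroup, Q a nontrivial large p-subgroup of G contained in S, M a subgroup containing S with the basic property (M ∈ 𝔐_G(S)); Y_M the largest p-reduced normal subgroup of M and M† = M·C_G(Y_M). Let L ∈ 𝔏_G(Y_M) (L ∈ 𝔏_G(Y_M): Y_M ≤ L; O_p(L) is the normal closure in L of Y_M ∩ O_p(L) and normalizes Y_M; L is Y_M-minimal of characteristic p with N_L(Y_M) its unique maximal subgroup over Y_M; and L/O_p(L) ≅ SL₂(q) with q = |Y_M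 : Y_M ∩ O_p(L)|, or p = 2 and L/O_p(L) is a Suzuki group Sz(q) or dihedral of order 2r, r an odd prime), A = O_p(L), and C = C_{Y_M}(L). Then every element h of L whose order is not a power of p acts without nontrivial fixed points on A/C: for a ∈ A, hah⁻¹a⁻¹ ∈ C implies a ∈ C. -/
theorem result {G : Type*} [Group G] [Finite G] {p : ℕ} [Fact p.Prime] (S : Sylow p G) (Q : Subgroup G) (hQp : IsPGroup p ↥Q) (hQ1 : Q ≠ ⊥) (hQS : Q ≤ (S : Subgroup G)) (hQ : Cfsg.IsLarge Q) (M : Subgroup G) (hSM : (S : Subgroup G) ≤ M) (hM : Cfsg.IsInFrakM p M) (L : Subgroup G) (hL : Cfsg.IsInFrakL p M L) (h : G) (hh : h ∈ L) (hnp : ¬ ∃ k : ℕ, orderOf h = p ^ k) : ∀ a ∈ (Cfsg.pCoreOf p L), h * a * h⁻¹ * a⁻¹ ∈ (Cfsg.largestPReducedOf p M) ⊓ Subgroup.centralizer ((L : Subgroup G) : Set G) → a ∈ (Cfsg.largestPReducedOf p M) ⊓ Subgroup.centralizer ((L : Subgroup G) : Set G) := by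
  have hym := ym_of_isInFrakL hL
  have hrk := rk_of_isInFrakL hL
  have hYp := Y_isPGroup (p := p) M
  have hYea := Y_ea (p := p) M
  have hYY := Y_le_centralizer (p := p) M
  have hcL : H70.CharP p L := H70.charP_iff.2 hL.2.2.2.2.1
  have hAY : pCoreOf p L ≤ 𝐍(𝐘(p, M)) := hL.2.2.1
  have hAncl := hL.2.1
  rw [map_normalClosure_subgroupOf (inf_le_left.trans hym.YL), inf_comm] at hAncl
  generalize 𝐘(p, M) = Y at *
  set A := pCoreOf p L with hA
  set C := Y ⊓ 𝐂(L) with hC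
  have hAp : IsPGroup p A := H70.isPGroup_pCoreOf p L
  have hAL : A ≤ L := H70.pCoreOf_le p L
  have hLA : L ≤ 𝐍(A) := H70.le_normalizer_pCoreOf p L
  have hLC : L ≤ 𝐍(C) := le_normalizer_of_le_of_centralizer inf_le_right
  obtain ⟨g₀, hg₀, hg₀'⟩ := SetLike.exists_of_lt hym.lt
  have q : QP A Y L g₀ := ⟨hLA, hAY, hYY, hg₀, hym.sup_cj hg₀ hg₀'⟩
  have hAW : A = (A ⊓ Y) ⊔ (A ⊓ Y ^ᶜ g₀) := by
    rw [← hym.ncl_inf_eq hLA hAY hg₀ hg₀']; exact hAncl
  have hZ : Y ⊓ Y ^ᶜ g₀ = C := hym.inf_cj_eq hYY hg₀ hg₀'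
  have hAA : ⁅A, A⁆ ≤ C := by
    rw [hAW]
    refine commutator_sup_sup_le ((inf_le_left.trans hAL).trans hLC)
      ((inf_le_left.trans hAL).trans hLC) ?_ ?_ (hym.commutator_inf_le hYY hLA hAY hg₀ hg₀')
    · rw [commutator_eq_bot_of_le_centralizer
        ((inf_le_right.trans hYY).trans (centralizer_anti inf_le_right))]
      exact bot_le
    · rw [commutator_eq_bot_of_le_centralizer
        ((inf_le_right.trans (q.ab' g₀)).trans (centralizer_anti inf_le_right))]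
      exact bot_le
  haveI : (C.subgroupOf L).Normal := normal_subgroupOf_of_le_normalizer hLC
  let π := QuotientGroup.mk' (C.subgroupOf L)
  have hπ : ∀ x y : L, Commute (π x) (π y) ↔ ⁅(x : G), (y : G)⁆ ∈ C := fun x y => by
    rw [← commutatorElement_eq_one_iff_commute, ← map_commutatorElement]
    exact QuotientGroup.eq_one_iff _
  have hπA : ∀ x y : L, (x : G) ∈ A → (y : G) ∈ A → Commute (π x) (π y) := fun x y hx hy =>
    (hπ x y).2 (hAA (commutator_mem_commutator hx hy))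
  have hπY : ∀ (g : G) (x y : L), (x : G) ∈ Y ^ᶜ g → (y : G) ∈ Y ^ᶜ g → Commute (π x) (π y) :=
    fun g x y hx hy => Commute.map
      (Subtype.ext (mem_centralizer_iff_commute.1 (q.ab' g hy) x hx)) π
  -- elements of `Y` normalizing `Y^{g₀}` lie in `A`
  have F0 : ∀ y ∈ Y, y ∈ 𝐍(Y ^ᶜ g₀) → y ∈ A := by
    intro y hy hn
    let N := L ⊓ H2.relCentralizer A C
    have hN : ∀ X, X ≤ L → (X ≤ N ↔ ⁅A, X⁆ ≤ C) := fun X hX => by
      rw [le_inf_iff, H2.le_relCentralizer_iff, commutator_comm]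
      exact ⟨fun h1 => h1.2.2, fun h1 => ⟨hX, hX.trans hLC, h1⟩⟩
    have hNn : L ≤ 𝐍(N) := le_normalizer_of_cj_le fun g hg => by
      have h0 := cj_le_of_mem_normalizer ((hN N inf_le_left).1 le_rfl) (hLC hg)
      rw [cj_commutator, cj_eq_of_mem_normalizer (hLA hg)] at h0
      exact (hN _ (cj_le_of_mem inf_le_left hg)).2 h0
    have hNp : IsPGroup p N := isPGroup_of_res_le_centralizer hAp
      ((inf_le_inf_right _ inf_le_left).trans hcL)
      (res_le_centralizer_of_commutator_le (hYp.to_le inf_le_left) ((hN N inf_le_left).1 le_rfl)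
        (inf_le_left.trans (le_centralizer_comm.1 inf_le_right)))
    have hy' : zpowers y ≤ Y := zpowers_le.2 hy
    refine H70.le_pCoreOf hNp inf_le_left hNn ((hN _ (hy'.trans q.YL)).2 ?_ (mem_zpowers y))
    conv_lhs => rw [hAW]
    refine commutator_sup_le_left ((inf_le_left.trans hAL).trans hLC)
      ((inf_le_left.trans hAL).trans hLC) ?_ ?_
    · rw [commutator_eq_bot_of_le_centralizer
        ((inf_le_right.trans hYY).trans (centralizer_anti hy'))]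
      exact bot_le
    · rw [← hZ]
      exact le_inf ((commutator_mono inf_le_left hy').trans
        (commutator_le_right_of_le_normalizer hAY)) ((commutator_mono inf_le_right le_rfl).trans
        (commutator_le_left_of_le_normalizer (zpowers_le.2 hn)))
  have F1 : ∀ y a : L, (y : G) ∈ Y → (y : G) ∉ A → (a : G) ∈ A → Commute (π y) (π a) →
      (a : G) ∈ Y := by
    intro y a hy hyA ha hc
    obtain ⟨b, hb, c, hc', e⟩ := q.mem_W (hAW.le ha)
    have e' : a = (⟨b, hAL hb.1⟩ : L) * ⟨c, hAL hc'.1⟩ := Subtype.ext e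
    have h1 : Commute (π y) (π ⟨c, hAL hc'.1⟩) := by
      rw [e', map_mul] at hc
      have := (hπY 1 y ⟨b, hAL hb.1⟩ (by rwa [cj_one])
        (by rw [cj_one]; exact hb.2)).inv_right.mul_right hc
      rwa [inv_mul_cancel_left] at this
    let K := ((centralizer {π ⟨c, hAL hc'.1⟩}).comap π).map L.subtype
    have hK : ∀ x : L, Commute (π x) (π ⟨c, hAL hc'.1⟩) → (x : G) ∈ K := fun x hx =>
      mem_map_of_mem _ (mem_centralizer_singleton_iff.2 hx)
    have h2 : K = L := by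
      by_contra hne
      have h3 := (hym.cj_of_mem hg₀).uniq K
        (fun x hx => hK ⟨x, q.cjL hg₀ hx⟩ (hπY g₀ _ _ hx hc'.2))
        (lt_of_le_of_ne (map_subtype_le _) hne)
      rw [cj_inf, cj_normalizer] at h3
      exact hyA (F0 _ hy (h3 (hK y h1)).2)
    rw [e]
    refine Y.mul_mem hb.2 (q.mem_of_commutator (mem_sup_right hc') fun z hz => ?_)
    obtain ⟨z, hz', rfl⟩ := h2.ge (q.YL hz)
    rw [hZ]
    exact (hπ ⟨c, hAL hc'.1⟩ z).1 (mem_centralizer_singleton_iff.1 hz').symm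
  have F1' : ∀ g y a : L, (y : G) ∈ Y → (y : G) ∉ A → (a : G) ∈ A →
      Commute (π (g * y * g⁻¹)) (π a) → (a : G) ∈ Y ^ᶜ (g : G) := by
    intro g y a hy hyA ha hc
    rw [mem_cj]
    refine F1 y (g⁻¹ * a * g) hy hyA (conj_mem_of_mem_normalizer' (hLA g.2) ha) ?_
    have := (Commute.conj_iff (π g⁻¹)).2 hc
    simp only [← map_mul, ← map_inv, inv_inv] at this
    rwa [show g⁻¹ * (g * y * g⁻¹) * g = y by group] at this
  have hCY : ∀ g ∈ L, C ≤ Y ^ᶜ g := fun g hg => by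
    rw [← cj_eq_of_mem_normalizer (hLC hg)]
    exact cj_mono g inf_le_left
  have hinf : ∀ a b : L, Y ^ᶜ (a : G) ≠ Y ^ᶜ (b : G) → Y ^ᶜ (a : G) ⊓ Y ^ᶜ (b : G) ≤ C := by
    intro a b hne
    have h1 := hym.inf_cj_eq hYY (a⁻¹ * b).2 fun hc => hne (by
      conv_lhs => rw [← cj_eq_of_mem_normalizer hc.2, cj_cj]
      simp)
    rw [← cj_eq_of_mem_normalizer (hLC a.2), hC, ← h1, cj_inf, cj_cj]
    simp
  have F2 : ∀ a b y z d : L, (y : G) ∈ Y → (y : G) ∉ A → (z : G) ∈ Y → (z : G) ∉ A →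
      Y ^ᶜ (a : G) ≠ Y ^ᶜ (b : G) → (d : G) ∈ A →
      Commute (π (a * y * a⁻¹ * (b * z * b⁻¹))) (π d) → (d : G) ∈ C := by
    intro a b y z d hy hyA hz hzA hne hd hc
    have hy1 : ((a * y * a⁻¹ : L) : G) ∈ Y ^ᶜ (a : G) := cj_mem _ hy
    have hz1 : ((b * z * b⁻¹ : L) : G) ∈ Y ^ᶜ (b : G) := cj_mem _ hz
    have h0 : ∀ (g : L) (x : G), x ∈ Y ^ᶜ (g : G) → ⁅x, (d : G)⁆ ∈ Y ^ᶜ (g : G) := fun g x hx =>
      commutator_le_left_of_le_normalizer (q.AY' g.2) (commutator_mem_commutator hx hd)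
    have h1 : Commute (π (b * z * b⁻¹)) (π d) := by
      rw [hπ]
      refine hinf a b hne ⟨?_, h0 b _ hz1⟩
      have h2 := hCY a a.2 ((hπ _ _).1 hc)
      rw [coe_mul, commutatorElement_mul_left_eq_conj_mul] at h2
      have h3 := (Subgroup.mul_mem_cancel_right _ (h0 a _ hy1)).1 h2
      rwa [Subgroup.mul_mem_cancel_right _ (inv_mem hy1), Subgroup.mul_mem_cancel_left _ hy1] at h3
    have h4 : Commute (π (a * y * a⁻¹)) (π d) := by
      rw [map_mul] at hc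
      have := hc.mul_left h1.inv_left
      rwa [mul_inv_cancel_right] at this
    exact hinf a b hne ⟨F1' a y d hy hyA hd h4, F1' b z d hz hzA hd h1⟩
  intro a₀ ha₀ hc₀
  by_contra hnC
  let ρ := QuotientGroup.mk' (pCore p L)
  have hρ : ∀ x : L, ρ x = 1 ↔ (x : G) ∈ A := fun x =>
    (QuotientGroup.eq_one_iff _).trans H70.mem_pCoreOf.symm
  obtain ⟨k, hk⟩ := H4.exists_pow_coprime_orderOf (isOfFinOrder_of_finite (⟨h, hh⟩ : L)) p
  set x : L := ⟨h, hh⟩ ^ p ^ k with hx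
  have hx1 : ρ x ≠ 1 := fun e => by
    have h1 := H70.eq_one_of_mem_isPGroup H1.isPGroup_pCore (H70.mem_pCoreOf.1 ((hρ x).1 e)) hk
    obtain ⟨j, -, hj⟩ := (Nat.dvd_prime_pow Fact.out).1 (orderOf_dvd_of_pow_eq_one h1)
    exact hnp ⟨j, by rw [← hj]; exact orderOf_mk _ _ |>.symm⟩
  have hxc : (orderOf (ρ x)).Coprime p := hk.coprime_dvd_left (orderOf_map_dvd ρ x)
  obtain ⟨u, ⟨j, hj⟩, hu, a, b, _, _, ⟨y, hy, rfl⟩, ⟨z, hz, rfl⟩, hy1, hz1, he⟩ :=
    hrk.prod (ρ x) hx1 hxc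
  obtain ⟨u, rfl⟩ := QuotientGroup.mk'_surjective _ u
  obtain ⟨a, rfl⟩ := QuotientGroup.mk'_surjective _ a
  obtain ⟨b, rfl⟩ := QuotientGroup.mk'_surjective _ b
  have hcongr : ∀ s t d : L, ρ s = ρ t → (d : G) ∈ A → Commute (π s) (π d) → Commute (π t) (π d) := by
    intro s t d hst hd hc
    rw [show t = s * (s⁻¹ * t) by group, map_mul]
    exact hc.mul_left (hπA _ _ ((hρ _).1 (by rw [map_mul, map_inv, hst, inv_mul_cancel])) hd)
  let D : Subgroup L := A.subgroupOf L ⊓ (centralizer {π x}).comap π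
  have hD : ∀ d : L, d ∈ D ↔ (d : G) ∈ A ∧ Commute (π x) (π d) := fun d =>
    and_congr Iff.rfl (mem_centralizer_singleton_iff.trans eq_comm)
  have hup : IsPGroup p (zpowers u) := by
    obtain ⟨i, hi⟩ := isPGroup_iff_mem.1 H1.isPGroup_pCore (u ^ p ^ j)
      (H70.mem_pCoreOf.1 ((hρ _).1 (by rw [map_pow]; exact hj)))
    rw [← pow_mul, ← pow_add] at hi
    exact H70.isPGroup_zpowers hi
  have huD : zpowers u ≤ 𝐍(D) := zpowers_le.2 (mem_normalizer_of_cj_le fun d hd => by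
    obtain ⟨d, hd', rfl⟩ := mem_cj'.1 hd
    clear hd
    have hd := (hD d).1 hd'
    rw [hD]
    refine ⟨conj_mem_of_mem_normalizer (hLA u.2) hd.1, ?_⟩
    have h1 := hcongr x (u⁻¹ * x * u) d (by
      rw [map_mul, map_mul, mul_assoc, show ρ x * ρ u = ρ u * ρ x from hu.eq, map_inv]
      group) hd.1 hd.2
    have := (Commute.conj_iff (π u)).2 h1
    simp only [← map_mul, ← map_inv] at this
    rwa [show u * (u⁻¹ * x * u) * u⁻¹ = x by group] at this)
  obtain ⟨d, hd, hdC, hdu⟩ := exists_fixed_mod (Z := C.subgroupOf L)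
    ((isPGroup_subgroupOf hAp L).to_le inf_le_left) hup huD fun hc => hnC (hc
      ((hD ⟨a₀, hAL ha₀⟩).2 ⟨ha₀, by
        rw [hx, map_pow]
        exact ((hπ ⟨h, hh⟩ ⟨a₀, hAL ha₀⟩).2 hc₀).pow_left _⟩))
  rw [hD] at hd
  refine hdC (F2 a b y z d hy (fun e => hy1 ((hρ y).2 e)) hz (fun e => hz1 ((hρ z).2 e))
    (fun e => hx1 ?_) hd.1 (hcongr (x * u) _ d (by simpa only [map_mul, map_inv] using he) hd.1 ?_))
  · have h1 : ((a * y * a⁻¹ * (b * z * b⁻¹) : L) : G) ∈ Y ^ᶜ (a : G) :=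
      mul_mem (cj_mem _ hy) (e ▸ cj_mem _ hz)
    have h2 : (a * y * a⁻¹ * (b * z * b⁻¹) : L) ^ p = 1 :=
      Subtype.ext ((ea_cj hYea (a : G)).2 _ h1)
    have h3 : (ρ x * ρ u) ^ p = 1 := by
      have := congrArg ρ h2
      rw [map_pow, map_one] at this
      rw [show ρ x * ρ u = _ from he]
      simpa only [map_mul, map_inv] using this
    refine H70.eq_one_of_coprime_of_pow (k := j + 1) hxc ?_
    have h4 : (ρ x * ρ u) ^ p ^ (j + 1) = 1 := by rw [pow_succ', pow_mul, h3, one_pow]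
    have h5 : ρ u ^ p ^ (j + 1) = 1 := by
      rw [pow_succ, pow_mul, show ρ u ^ p ^ j = 1 from hj, one_pow]
    rwa [Commute.mul_pow hu, h5, mul_one] at h4
  · rw [map_mul]
    exact hd.2.mul_left ((hπ d u).2 (hdu u (mem_zpowers u))).symm

end Cfsg.Agent.S2863
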