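import Cfsg.Statements.S2864
import Mathlib
import Cfsg.Agent.Lib.LocStruct.FrakM

set_option autoImplicit false
open Cfsg

namespace Cfsg.Agent.S2864

open Subgroup H69
open scoped commutatorElement Pointwise


/-- Standing hypotheses: G a finite group, S a Sylow p-subgroup, Q a nontrivial large p-subgroup of G contained in S, M a subgroup containing S with the basic property (M ∈ 𝔐_G(S)); Y_M the largest p-reduced normal subgroup of M and M† = M·C_G(Y_M). Let I be a nontrivial normal p-subgroup of M and Y ≤ O_p(M†); let L be a subgroup of G containing Y and A a normal p-subgroup of L with I ≤ A ≤ M. If [Y, A] ≤ [I, A], then Y ≤ O_p(L). -/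
theorem result {G : Type*} [Group G] [Finite G] {p : ℕ} [Fact p.Prime] (S : Sylow p G) (Q : Subgroup G) (hQp : IsPGroup p ↥Q) (hQ1 : Q ≠ ⊥) (hQS : Q ≤ (S : Subgroup G)) (hQ : Cfsg.IsLarge Q) (M : Subgroup G) (hSM : (S : Subgroup G) ≤ M) (hM : Cfsg.IsInFrakM p M) (I : Subgroup G) (hI1 : I ≠ ⊥) (hIp : IsPGroup p ↥I) (hIM : I ≤ M ∧ M ≤ Subgroup.normalizer ((I : Subgroup G) : Set G)) (Y : Subgroup G) (hY : Y ≤ (Cfsg.pCoreOf p (M ⊔ Subgroup.centralizer (((Cfsg.largestPReducedOf p M) : Subgroup G) : Set G)))) (L : Subgroup G) (hYL : Y ≤ L) (A : Subgroup G) (hAp : IsPGroup p ↥A) (hAL : A ≤ L ∧ L ≤ Subgroup.normalizer ((A : Subgroup G) : Set G)) (hIA : I ≤ A) (hAM : A ≤ M) (hc : ⁅Y, A⁆ ≤ ⁅I, A⁆) : Y ≤ (Cfsg.pCoreOf p L) := by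
  have h := fm_of_isLarge S hQp hQ1 hQ hSM hM
  have hHL : ncl Y L ≤ L := ncl_le_self hYL
  have hn : L ≤ 𝐍(⁅A, A⁆) := le_normalizer_commutator hAL.2 hAL.2
  have h1 : ⁅ncl Y L, A⁆ ≤ ⁅A, A⁆ := by
    rw [ncl_def]
    refine commutator_iSup_le_left (fun g => (cj_le_of_mem hYL g.2).trans hn) fun g => ?_
    have := cj_mono (g : G) (hc.trans (commutator_mono hIA le_rfl))
    rwa [cj_commutator, cj_eq_of_mem_normalizer (hAL.2 g.2),
      cj_eq_of_mem_normalizer (hn g.2)] at this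
  have h2 : 𝐑(p, ncl Y L) ≤ 𝐂(A) := res_le_iff.2 fun x hx hxp => by
    have h3 : zpowers x ≤ ncl Y L := zpowers_le.2 hx
    refine H2.le_centralizer_of_commutator_le_frattini ((h3.trans hHL).trans hAL.2)
      ((coprime_card_zpowers hxp hAp).coprime_dvd_right (card_subgroup_dvd_card _)) ?_
      (mem_zpowers x)
    rw [commutator_comm]
    exact ((commutator_mono h3 le_rfl).trans h1).trans
      ((H1.map_subtype_frattini_le_iff hAp).1 le_rfl).1
  have h4 : 𝐑(p, ncl Y L) ⊔ Y ≤ M ⊔ 𝐂(𝐘(p, M)) :=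
    sup_le (((h2.trans (centralizer_anti hIA)).trans (centralizer_le_normalizer' I)).trans
      (h.normalizer_le_dagger hIp hI1 hIM.2)) (hY.trans (H70.pCoreOf_le _ _))
  have h5 : SN (𝐑(p, ncl Y L) ⊔ Y) L :=
    (sn_of_res_le le_sup_left (sup_le (res_le _) (le_ncl _ _))).trans
      (sn_of_normal hHL (le_normalizer_ncl _ _))
  exact ((le_inf hY le_sup_right).trans (H1.pCoreOf_inf_le h4)).trans h5.pCoreOf_le

end Cfsg.Agent.S2864
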