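import Cfsg.Statements.S2872
import Mathlib
import Cfsg.Agent.Lib.LocStruct.ParChar

set_option autoImplicit false
open Cfsg

namespace Cfsg.Agent.S2872

open Subgroup H69
open scoped commutatorElement Pointwise


/-- Let S be a Sylow 2-subgroup of the finite group G. Then G has a proper normal subgroup of 2-power index (O²(G) ≠ G), or Ω₁(Z(S)) is contained in the Frattini subgroup of S, or N_G(S) acts nontrivially on Ω₁(Z(S)) by conjugation. -/
theorem result {G : Type*} [Group G] [Finite G] (S : Sylow 2 G) : Cfsg.pResidual 2 G ≠ ⊤ ∨ Cfsg.omegaOne 2 ((S : Subgroup G) ⊓ Subgroup.centralizer ((S : Subgroup G) : Set G)) ≤ (frattini ↥(S : Subgroup G)).map (S : Subgroup G).subtype ∨ ∃ g ∈ Subgroup.normalizer ((S : Subgroup G) : Set G), ∃ z ∈ Cfsg.omegaOne 2 ((S : Subgroup G) ⊓ Subgroup.centralizer ((S : Subgroup G) : Set G)), g * z * g⁻¹ ≠ z := by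
  by_contra hc
  push Not at hc
  obtain ⟨h1, h2, h3⟩ := hc
  refine h2 fun z hz => ?_
  obtain ⟨hz1, hz2, hz3⟩ := H68.mem_oz.1 hz
  refine ⟨⟨z, hz1⟩, H1.mem_frattini_iff.2 fun M hM => ?_, rfl⟩
  by_contra hzM
  have hz4 : orderOf z = 2 := orderOf_eq_prime hz3 (by
    rintro rfl
    exact hzM M.one_mem)
  obtain ⟨g, hg1, hg2⟩ := exists_extremal_conj_mem h1 S (map_subtype_le M)
    (by rw [relIndex, subgroupOf_map_subtype']; exact H5.index_of_isCoatom S.isPGroup' hM) hz4
    S.isPGroup' (H70.le_centralizer_singleton_iff.2 hz2)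
  have h4 := h3 g⁻¹ (H69.mem_normalizer_of_cj_le (le_cj_iff.1 hg2)) z hz
  rw [inv_inv] at h4
  rw [h4] at hg1
  obtain ⟨y, hy, rfl⟩ := hg1
  exact hzM hy

end Cfsg.Agent.S2872
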