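import Cfsg.Statements.S2873
import Mathlib
import Cfsg.Agent.Lib.LocStruct.ParChar
import Cfsg.Agent.Lib.Invol.Dihedral

set_option autoImplicit false
open Cfsg

namespace Cfsg.Agent.S2873

open Subgroup H69
open scoped commutatorElement Pointwise

theorem exists_conj_eq_of_fpf {G : Type*} [Group G] [Finite G] {K : Subgroup G} {c : G}
    (hc : c ∈ 𝐍(K)) (h : K ⊓ centralizer ({c} : Set G) = ⊥) {y : G} (hy : y * c⁻¹ ∈ K) :
    ∃ o ∈ K, o * c * o⁻¹ = y := by
  let φ : K →* K := (K.normalizerMonoidHom ⟨c, hc⟩).toMonoidHom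
  have hφ : ∀ y : K, (φ y : G) = c * y * c⁻¹ := fun _ => rfl
  have h1 : MonoidHom.FixedPointFree φ := by
    intro y hy
    have h2 := congrArg Subtype.val hy
    rw [hφ] at h2
    have : (y : G) ∈ K ⊓ centralizer ({c} : Set G) :=
      ⟨y.2, mem_centralizer_singleton_iff.2 (mul_inv_eq_iff_eq_mul.1 h2).symm⟩
    rw [h, mem_bot] at this
    exact Subtype.ext this
  obtain ⟨o, ho⟩ := h1.commutatorMap_surjective ⟨_, hy⟩
  refine ⟨o, o.2, ?_⟩
  have h2 := congrArg Subtype.val ho
  rw [MonoidHom.commutatorMap_apply, div_eq_mul_inv, coe_mul, coe_inv, hφ] at h2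
  calc (o : G) * c * (o : G)⁻¹ = o * (c * o * c⁻¹)⁻¹ * c := by group
    _ = y := by rw [h2]; group

theorem eq_sr {r : ℕ} [Fact r.Prime] (hr : r ≠ 2) {x : DihedralGroup r} (h1 : x ≠ 1)
    (h2 : x * x = 1) : ∃ i, x = DihedralGroup.sr i := by
  rcases x with i | i
  · exfalso
    rw [DihedralGroup.r_mul_r, DihedralGroup.one_def, DihedralGroup.r.injEq, ← two_mul,
      mul_eq_zero] at h2
    rcases h2 with h2 | h2
    · have h3 : ((2 : ℕ) : ZMod r) = 0 := by exact_mod_cast h2
      rw [ZMod.natCast_eq_zero_iff] at h3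
      exact hr ((Nat.prime_dvd_prime_iff_eq Fact.out Nat.prime_two).1 h3)
    · exact h1 (by rw [h2, DihedralGroup.one_def])
  · exact ⟨i, rfl⟩

/-- Let G be a finite group and r an odd prime such that G ⧸ O₂(G) is dihedral of order 2r, and let R be a Sylow r-subgroup of G with C_{O₂(G)}(R) = 1. Then N_G(R) is dihedral of order 2r; for any involution a of N_G(R), every involution of G outside O₂(G) is conjugate to a; and |C_{O₂(G)}(a)|² = |O₂(G)|. -/
theorem result {G : Type*} [Group G] [Finite G] {r : ℕ} [Fact r.Prime] (hr : r ≠ 2) [hN : (Cfsg.pCore 2 G).Normal] (hquot : Nonempty (G ⧸ Cfsg.pCore 2 G ≃* DihedralGroup r)) (R : Sylow r G) (hC : Cfsg.pCore 2 G ⊓ Subgroup.centralizer ((R : Subgroup G) : Set G) = ⊥) : Nonempty (↥(Subgroup.normalizer ((R : Subgroup G) : Set G)) ≃* DihedralGroup r) ∧ ∀ a : G, a ∈ Subgroup.normalizer ((R : Subgroup G) : Set G) → orderOf a = 2 → (∀ b : G, orderOf b = 2 → b ∉ Cfsg.pCore 2 G → ∃ g : G, g * a * g⁻¹ = b) ∧ Nat.card ↥(Cfsg.pCore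 2 G ⊓ Subgroup.centralizer ({a} : Set G)) ^ 2 = Nat.card ↥(Cfsg.pCore 2 G) := by
  have hp : r.Prime := Fact.out
  obtain ⟨e⟩ := hquot
  set O := Cfsg.pCore 2 G with hO
  let φ : G →* DihedralGroup r := e.toMonoidHom.comp (QuotientGroup.mk' O)
  have hφs : Function.Surjective φ := e.surjective.comp (QuotientGroup.mk'_surjective O)
  have hker : ∀ x, φ x = 1 ↔ x ∈ O := fun x => by
    simp only [φ, MonoidHom.comp_apply, MulEquiv.coe_toMonoidHom, EmbeddingLike.map_eq_one_iff,
      QuotientGroup.mk'_apply, QuotientGroup.eq_one_iff]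
  have hker' : φ.ker = O := Subgroup.ext hker
  have hcop : (Nat.card (R : Subgroup G)).Coprime (Nat.card O) :=
    IsPGroup.coprime_card_of_ne r 2 hr _ _ R.isPGroup' H1.isPGroup_pCore
  have hRO : (R : Subgroup G) ⊓ O = ⊥ := H2.inf_eq_bot_of_coprime_card hcop
  have hNO : ∀ x ∈ 𝐍((R : Subgroup G)), x ∈ O → x = 1 := by
    intro x h1 h2
    rw [← mem_bot, ← hC]
    refine ⟨h2, le_centralizer_of_commutator_eq_bot (A := 𝐍((R : Subgroup G)) ⊓ O)
      (le_bot_iff.1 (le_trans ?_ hRO.le)) ⟨h1, h2⟩⟩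
    exact le_inf (commutator_le_right_of_le_normalizer inf_le_left)
      ((commutator_mono inf_le_right le_rfl).trans (commutator_le_left _ _))
  have hZc : Nat.card (zpowers (DihedralGroup.r 1 : DihedralGroup r)) = r := by
    rw [Nat.card_zpowers, DihedralGroup.orderOf_r_one]
  have hZi : (zpowers (DihedralGroup.r 1 : DihedralGroup r)).index = 2 := by
    have := (zpowers (DihedralGroup.r 1 : DihedralGroup r)).index_mul_card
    rw [hZc, DihedralGroup.nat_card] at this
    exact Nat.eq_of_mul_eq_mul_right hp.pos this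
  have hZn := normal_of_index_eq_two hZi
  have hZ : IsSylowIn r (zpowers (DihedralGroup.r 1 : DihedralGroup r)) ⊤ := by
    refine isSylowIn_of_not_dvd_relIndex (IsPGroup.of_card (n := 1) (by rw [hZc, pow_one])) le_top ?_
    rw [relIndex_top_right, hZi]
    exact fun h => hr ((Nat.prime_dvd_prime_iff_eq hp Nat.prime_two).1 h)
  have hRZ : (R : Subgroup G).map φ = zpowers (DihedralGroup.r 1) := by
    have h1 := (isSylowIn_top R).map φ
    rw [map_top_of_surjective _ hφs] at h1
    exact hZ.max _ (h1.le_of_le_normalizer hZ.isP le_top le_normalizer_of_normal) le_top h1.isP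
  have hRc : Nat.card (R : Subgroup G) = r := by
    refine Eq.trans ?_ hZc
    rw [← hRZ]
    refine Nat.card_congr (Equiv.ofBijective (φ.subgroupMap R) ⟨?_, φ.subgroupMap_surjective R⟩)
    rw [injective_iff_map_eq_one]
    intro x hx
    exact Subtype.ext (hNO x (H69.le_normalizer_of_le le_rfl x.2)
      ((hker x).1 (congrArg Subtype.val hx)))
  have hRz : ∀ c ∈ (R : Subgroup G), c ≠ 1 → zpowers c = R := by
    intro c hc hc1
    refine eq_of_le_of_card_ge (zpowers_le.2 hc) ?_
    have h1 : Nat.card (zpowers c) ∣ r := hRc ▸ card_dvd_of_le (zpowers_le.2 hc)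
    rcases (Nat.dvd_prime hp).1 h1 with h | h
    · exact absurd (zpowers_eq_bot.1 (card_eq_one.1 h)) hc1
    · rw [h, hRc]
  have hex : ∀ i : ZMod r, ∃ c ∈ (R : Subgroup G), φ c = DihedralGroup.r i := by
    intro i
    have : DihedralGroup.r i ∈ (R : Subgroup G).map φ := by
      rw [hRZ]
      exact ⟨i.val, by simp⟩
    exact this
  have hconj : ∀ c ∈ (R : Subgroup G), φ c ≠ 1 → ∀ y, φ y = φ c → ∃ o ∈ O, o * c * o⁻¹ = y := by
    intro c hc hc1 y hy
    refine exists_conj_eq_of_fpf (le_normalizer_of_normal (mem_top c)) ?_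
      ((hker _).1 (by rw [map_mul, map_inv, hy, mul_inv_cancel]))
    rw [← H69.centralizer_zpowers, hRz c hc (fun h => hc1 (by rw [h, map_one])), hC]
  have hNs : (𝐍((R : Subgroup G))).map φ = ⊤ := by
    rw [H2.map_normalizer_of_surjective φ hφs (hker' ▸ hcop)
      (Or.inl (by have := R.isPGroup'.isNilpotent; infer_instance)), hRZ, normalizer_eq_top]
  refine ⟨⟨MulEquiv.ofBijective (φ.comp (𝐍((R : Subgroup G))).subtype) ⟨?_, ?_⟩⟩, fun a ha ha2 => ?_⟩
  · rw [injective_iff_map_eq_one]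
    exact fun x hx => Subtype.ext (hNO x x.2 ((hker x).1 hx))
  · intro y
    obtain ⟨x, hx, rfl⟩ := hNs.ge (mem_top y)
    exact ⟨⟨x, hx⟩, rfl⟩
  have haa := H9.mul_self_of_orderOf_two ha2
  obtain ⟨i, hi⟩ := eq_sr hr (x := φ a)
    (fun h => H9.ne_one_of_orderOf_two ha2 (hNO a ha ((hker a).1 h)))
    (by rw [← map_mul, haa, map_one])
  obtain ⟨d, hd, hd2⟩ := hex 1
  have ha' : φ (d * a * d⁻¹) = DihedralGroup.sr (i - 2) := by
    rw [map_mul, map_mul, map_inv, hd2, hi, DihedralGroup.inv_r, DihedralGroup.r_mul_sr,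
      DihedralGroup.sr_mul_r]
    congr 1
    ring
  have h2 : (2 : ZMod r) ≠ 0 := fun h => by
    have h3 : ((2 : ℕ) : ZMod r) = 0 := by exact_mod_cast h
    rw [ZMod.natCast_eq_zero_iff] at h3
    exact hr ((Nat.prime_dvd_prime_iff_eq hp Nat.prime_two).1 h3)
  have hne : ∀ k : ZMod r, k ≠ 0 → DihedralGroup.r k ≠ 1 := fun k hk h => by
    rw [DihedralGroup.one_def, DihedralGroup.r.injEq] at h
    exact hk h
  have haa' : d * a * d⁻¹ * (d * a * d⁻¹) = 1 := by
    calc d * a * d⁻¹ * (d * a * d⁻¹) = d * (a * a) * d⁻¹ := by group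
      _ = 1 := by rw [haa]; group
  have key : ∀ (x y : G) (j k : ZMod r), x * x = 1 → y * y = 1 → φ x = DihedralGroup.sr j →
      φ y = DihedralGroup.sr k → j ≠ k → IsConj x y := by
    intro x y j k hx hy h1 h3 hjk
    obtain ⟨c, hc, hc2⟩ := hex (k - j)
    obtain ⟨o, -, ho⟩ := hconj c hc (hc2 ▸ hne _ (sub_ne_zero.2 hjk.symm)) (x * y)
      (by rw [map_mul, h1, h3, hc2, DihedralGroup.sr_mul_sr])
    refine H9.isConj_of_odd hx hy ?_
    rw [← ho, H9.orderOf_conj]
    exact (hp.odd_of_ne_two hr).of_dvd_nat (hRc ▸ orderOf_dvd_natCard _ hc)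
  refine ⟨fun b hb hbO => ?_, ?_⟩
  · have hbb := H9.mul_self_of_orderOf_two hb
    obtain ⟨j, hj⟩ := eq_sr hr (x := φ b) (fun h => hbO ((hker b).1 h))
      (by rw [← map_mul, hbb, map_one])
    rw [← isConj_iff]
    by_cases hij : i = j
    · refine (isConj_iff.2 ⟨d, rfl⟩).trans (key _ b _ j haa' hbb ha' hj fun h => h2 ?_)
      rw [← hij] at h
      exact sub_eq_self.1 h
    · exact key a b i j haa hbb hi hj hij
  · have hc : a * (d * a * d⁻¹) ∈ (R : Subgroup G) := by
      have : a * (d * a * d⁻¹) = a * d * a⁻¹ * d⁻¹ := by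
        rw [inv_eq_of_mul_eq_one_right haa]; group
      rw [this]
      exact mul_mem (conj_mem_of_mem_normalizer ha hd) (inv_mem hd)
    have hc1 : φ (a * (d * a * d⁻¹)) ≠ 1 := by
      rw [map_mul, hi, ha', DihedralGroup.sr_mul_sr]
      exact hne _ (by simpa using h2)
    have hcomp : IsComplement' ((centralizer ({a} : Set G)).subgroupOf O)
        ((centralizer ({d * a * d⁻¹} : Set G)).subgroupOf O) := by
      refine isComplement'_of_disjoint_and_mul_eq_univ ?_ ?_
      · rw [disjoint_def]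
        intro x h1 h3
        have h4 := mem_centralizer_singleton_iff.1 h1
        have h5 := mem_centralizer_singleton_iff.1 h3
        have : (x : G) ∈ O ⊓ 𝐂((R : Subgroup G)) := by
          rw [← hRz _ hc (fun h => hc1 (by rw [h, map_one])), H69.centralizer_zpowers]
          refine ⟨x.2, mem_centralizer_singleton_iff.2 ?_⟩
          change (x : G) * _ = _ * x at h4 h5
          rw [← mul_assoc, h4, mul_assoc, h5, mul_assoc a]
        rw [hC, mem_bot] at this
        exact Subtype.ext this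
      · refine Set.eq_univ_of_forall fun v => ?_
        obtain ⟨o, ho, he⟩ := hconj _ hc hc1 (a * (v * (d * a * d⁻¹) * (v : G)⁻¹)) (by
          simp only [map_mul, map_inv, (hker v).2 v.2, one_mul, inv_one, mul_one])
        have hinv : a * (a * (v * (d * a * d⁻¹) * (v : G)⁻¹)) * a⁻¹ =
            (a * (v * (d * a * d⁻¹) * (v : G)⁻¹))⁻¹ := by
          refine H9.left_inverts haa ?_
          calc (v : G) * (d * a * d⁻¹) * (v : G)⁻¹ * (v * (d * a * d⁻¹) * (v : G)⁻¹)
              = v * (d * a * d⁻¹ * (d * a * d⁻¹)) * (v : G)⁻¹ := by group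
            _ = 1 := by rw [haa']; group
        have h3 : o⁻¹ * a * o ∈ 𝐍((R : Subgroup G)) := by
          rw [← cj_eq_self_iff, ← hRz _ hc (fun h => hc1 (by rw [h, map_one])), cj_zpowers,
            ← zpowers_inv]
          congr 1
          rw [← he] at hinv
          calc (o⁻¹ * a * o * (a * (d * a * d⁻¹)) * (o⁻¹ * a * o)⁻¹)⁻¹
              = (o⁻¹ * (a * (o * (a * (d * a * d⁻¹)) * o⁻¹) * a⁻¹) * o)⁻¹ := by group
            _ = a * (d * a * d⁻¹) := by rw [hinv]; group
        have h4 : o⁻¹ * a * o * a⁻¹ = 1 := hNO _ (mul_mem h3 (inv_mem ha)) (by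
          have : o⁻¹ * a * o * a⁻¹ = o⁻¹ * (a * o * a⁻¹) := by group
          rw [this]
          exact mul_mem (inv_mem ho) (hN.conj_mem o ho a))
        have h5 : o * a = a * o := by
          calc o * a = o * (o⁻¹ * a * o * a⁻¹) * a := by rw [h4, mul_one]
            _ = a * o := by group
        refine ⟨⟨o, ho⟩, mem_centralizer_singleton_iff.2 h5, ⟨o, ho⟩⁻¹ * v,
          mem_centralizer_singleton_iff.2 ?_, by simp⟩
        change o⁻¹ * v * _ = _ * (o⁻¹ * v)
        rw [← mul_assoc o, h5, mul_assoc a, mul_assoc a, mul_right_inj] at he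
        calc o⁻¹ * v * (d * a * d⁻¹) = o⁻¹ * (v * (d * a * d⁻¹) * (v : G)⁻¹) * v := by group
          _ = d * a * d⁻¹ * (o⁻¹ * v) := by rw [← he]; group
    rw [← hcomp.card_mul_card, sq, ← inf_subgroupOf_right, card_subgroupOf inf_le_right,
      ← inf_subgroupOf_right (centralizer {d * a * d⁻¹}), card_subgroupOf inf_le_right,
      ← cj_centralizer_singleton, inf_comm O]
    congr 1
    conv_rhs => rw [← cj_eq_of_normal O d, ← cj_inf, card_cj]

end Cfsg.Agent.S2873
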