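import Cfsg.Statements.S2874
import Mathlib
import Cfsg.Agent.Base
import Cfsg.Agent.Lib.LocStruct.Conj

set_option autoImplicit false
open Cfsg

namespace Cfsg.Agent.S2874

open Subgroup H69 Matrix

theorem a4 : ∃ r t : alternatingGroup (Fin 4), r * r * r = 1 ∧ r ≠ 1 ∧ t ≠ 1 ∧ t * t = 1 ∧
    t * (r * t * (r * r)) = r * r * t * r ∧ t * (r * r * t * r) = r * t * (r * r) ∧
    ∀ g, ∃ i j : Fin 3, g = r ^ i.val ∨ g = r ^ i.val * t * r ^ j.val := by
  refine ⟨⟨Equiv.swap 0 1 * Equiv.swap 1 2, Equiv.Perm.mem_alternatingGroup.2 (by decide)⟩,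
    ⟨Equiv.swap 0 1 * Equiv.swap 2 3, Equiv.Perm.mem_alternatingGroup.2 (by decide)⟩, ?_⟩
  decide +kernel

section
variable {j : ℕ}

theorem pow_eq : (2 : ZMod (2 ^ (j + 1))) ^ (j + 1) = 0 := by
  exact_mod_cast ZMod.natCast_self (2 ^ (j + 1))

theorem unit_odd (b : ZMod (2 ^ (j + 1))) : IsUnit (1 + 2 * b) :=
  IsNilpotent.isUnit_one_add ⟨j + 1, by rw [mul_pow, pow_eq, zero_mul]⟩

theorem parity (a : ZMod (2 ^ (j + 1))) : ∃ b, a = 2 * b ∨ a = 1 + 2 * b := by
  obtain ⟨n, rfl⟩ := ZMod.natCast_zmod_surjective a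
  obtain ⟨m, rfl | rfl⟩ := Nat.even_or_odd' n
  · exact ⟨m, Or.inl (by simp)⟩
  · exact ⟨m, Or.inr (by simp [add_comm])⟩

theorem cube (d : ZMod (2 ^ (j + 1))) (h : d * d * d = 1) : d = 1 := by
  obtain ⟨b, rfl | rfl⟩ := parity d
  · haveI : Fact (1 < 2 ^ (j + 1)) := ⟨Nat.one_lt_two_pow j.succ_ne_zero⟩
    exact absurd (by linear_combination -h) (unit_odd (-4 * b ^ 3)).ne_zero
  · have h1 := (unit_odd (1 + 3 * b + 2 * b ^ 2)).mul_right_eq_zero (b := 2 * b)
    rw [h1.1 (by linear_combination h), add_zero]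

theorem tor (a : ZMod (2 ^ (j + 1))) (h : 2 * a = 0) : a = 0 ∨ a = 2 ^ j := by
  have h1 : ((2 * a.val : ℕ) : ZMod (2 ^ (j + 1))) = 0 := by simpa using h
  rw [ZMod.natCast_eq_zero_iff] at h1
  obtain ⟨m, hm⟩ : 2 ^ j ∣ a.val := (Nat.mul_dvd_mul_iff_left two_pos).1 ((pow_succ' 2 j).symm.dvd.trans h1)
  have h2 := a.val_lt
  rw [hm, pow_succ, Nat.mul_lt_mul_left (by positivity)] at h2
  rw [← ZMod.natCast_zmod_val a, hm]
  interval_cases m <;> simp

theorem conj_C (r : GL (Fin 2) (ZMod (2 ^ (j + 1)))) (h3 : r * r * r = 1) (h1 : r ≠ 1) :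
    ∃ g : GL (Fin 2) (ZMod (2 ^ (j + 1))), (g * r * g⁻¹).val = !![0, -1; 1, -1] := by
  have hm : r.val * r.val * r.val = 1 := congrArg Units.val h3
  have hd := cube r.val.det (by rw [← det_mul, ← det_mul, hm, det_one])
  obtain ⟨p, q, s, u, e⟩ : ∃ p q s u, r.val = !![p, q; s, u] := ⟨_, _, _, _, eta_fin_two _⟩
  rw [e] at hm hd
  rw [det_fin_two_of] at hd
  have e0 := congrFun (congrFun hm 0) 0
  have e1 := congrFun (congrFun hm 0) 1
  have e2 := congrFun (congrFun hm 1) 0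
  have e3 := congrFun (congrFun hm 1) 1
  simp [mul_apply, Fin.sum_univ_two] at e0 e1 e2 e3
  obtain ⟨b, hb | hb⟩ := parity (p + u)
  · have hu := unit_odd (-2 * b ^ 2)
    have hq : q = 0 := hu.mul_right_eq_zero.1 (by linear_combination -e1 - q * hd + q * (p + u + 2 * b) * hb)
    have hs : s = 0 := hu.mul_right_eq_zero.1 (by linear_combination -e2 - s * hd + s * (p + u + 2 * b) * hb)
    subst hq hs
    refine absurd (Units.ext ?_) h1
    rw [e, cube p (by linear_combination e0), cube u (by linear_combination e3)]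
    exact one_fin_two.symm
  · have ht : p + u + 1 = 0 := (unit_odd (-b * p)).mul_right_eq_zero.1 (by
      linear_combination -e0 - (p + (p + u)) * hd + p * (p + u + 1) * hb)
    obtain ⟨c, hc⟩ : ∃ c, p * p + p = 2 * c := by
      obtain ⟨c, rfl | rfl⟩ := parity p
      · exact ⟨c * (2 * c + 1), by ring⟩
      · exact ⟨(1 + 2 * c) * (1 + c), by ring⟩
    have hs : IsUnit s := isUnit_of_mul_isUnit_right (x := -q) (by
      rw [show -q * s = 1 + 2 * c by linear_combination hd + hc - p * ht]; exact unit_odd c)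
    let g : GL (Fin 2) (ZMod (2 ^ (j + 1))) := GeneralLinearGroup.mk'' !![1, p; 0, s] (by simpa using hs)
    refine ⟨g⁻¹, ?_⟩
    have : r.val * g.val = g.val * !![0, -1; 1, -1] := by
      rw [e]
      change _ * !![1, p; 0, s] = !![1, p; 0, s] * _
      ext a b
      fin_cases a <;> fin_cases b <;> simp [mul_apply, Fin.sum_univ_two]
      · linear_combination p * ht - hd
      · linear_combination s * ht
    rw [inv_inv, mul_assoc, Units.val_mul, Units.val_mul, this, Units.inv_mul_cancel_left]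

theorem shape (t : Matrix (Fin 2) (Fin 2) (ZMod (2 ^ (j + 1)))) {C : Matrix (Fin 2) (Fin 2) (ZMod (2 ^ (j + 1)))}
    (hC : C = !![0, -1; 1, -1]) (h1 : t * t = 1) (h2 : t * (C * t * (C * C)) = C * C * t * C)
    (h3 : t * (C * C * t * C) = C * t * (C * C)) :
    ∃ a c, 2 * a = 0 ∧ 2 * c = 0 ∧ t = !![1 + a, c - a; c, 1 - a] := by
  obtain ⟨v, hv⟩ := (unit_odd (j := j) 1).exists_left_inv
  have hu : ∀ x : ZMod (2 ^ (j + 1)), 3 * x = 0 → x = 0 := fun x hx => by linear_combination v * hx - x * hv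
  obtain ⟨α, β, a, c, rfl⟩ : ∃ α β a c, t = !![α + a, c - β - a; β + c, α - β - a] := by
    obtain ⟨x, y, z, w, rfl⟩ : ∃ p q s u, t = !![p, q; s, u] := ⟨_, _, _, _, eta_fin_two _⟩
    refine ⟨v * (x + 2 * w + z - y), v * (2 * (z - y) - (x - w)), v * (2 * (x - w) - (z - y)),
      z - v * (2 * (z - y) - (x - w)), ?_⟩
    ext a b
    fin_cases a <;> fin_cases b <;> simp
    · linear_combination -x * hv
    · linear_combination (z - y) * hv
    · linear_combination -w * hv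
  subst hC
  have e0 := congrFun (congrFun h1 0) 0
  have e1 := congrFun (congrFun h1 0) 1
  have e2 := congrFun (congrFun h1 1) 0
  have e3 := congrFun (congrFun h1 1) 1
  have e5 := congrFun (congrFun h2 0) 1
  have e6 := congrFun (congrFun h2 1) 0
  have e7 := congrFun (congrFun h2 1) 1
  have e8 := congrFun (congrFun h3 0) 0
  have e9 := congrFun (congrFun h3 0) 1
  have e10 := congrFun (congrFun h3 1) 0
  simp only [mul_apply, Fin.sum_univ_two, of_apply, cons_val', cons_val_zero, cons_val_one, cons_val_fin_one,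
    one_apply_eq, one_apply_ne (zero_ne_one), one_apply_ne (one_ne_zero), Fin.isValue] at e0 e1 e2 e3 e5 e6 e7 e8 e9 e10
  have hα : α - 1 = 0 := hu _ (by
    linear_combination e0 - e1 + e2 + 2 * e3 + 2 * e5 - 2 * e6 - 2 * e7 - e8 - e9 + e10)
  have hβ : β = 0 := hu _ (by
    linear_combination -e0 - 2 * e1 + 2 * e2 + e3 + e5 - e6 - e7 + e8 + e9 - e10)
  obtain rfl := sub_eq_zero.1 hα
  subst hβ
  exact ⟨a, c, by linear_combination e2 - e1, by linear_combination e2, by simp⟩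

theorem norm (H : Subgroup (GL (Fin 2) (ZMod (2 ^ (j + 1))))) (e : H ≃* alternatingGroup (Fin 4)) :
    ∃ g, H ^ᶜ g = Subgroup.closure {x : GL (Fin 2) (ZMod (2 ^ (j + 1))) |
      x.val = !![0, -1; 1, -1] ∨ x.val = !![1 + 2 ^ j, 2 ^ j; 0, 1 + 2 ^ j]} := by
  obtain ⟨r, t, h1, h2, h3, h4, h5, h6, h7⟩ := a4
  let f0 : alternatingGroup (Fin 4) →* GL (Fin 2) (ZMod (2 ^ (j + 1))) := H.subtype.comp e.symm.toMonoidHom
  have hf0 : Function.Injective f0 := H.subtype_injective.comp e.symm.injective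
  obtain ⟨g, hg⟩ := conj_C (f0 r) (by rw [← map_mul, ← map_mul, h1, map_one])
    fun h => h2 (hf0 (h.trans (map_one _).symm))
  let f := (MulAut.conj g).toMonoidHom.comp f0
  have hf : Function.Injective f := (MulAut.conj g).injective.comp hf0
  have hr : H ^ᶜ g = f.range := by
    rw [MonoidHom.range_comp, MonoidHom.range_comp, MonoidHom.range_eq_top.2 e.symm.surjective, map_subtype_top]
  change (f r).val = _ at hg
  let F := (Units.coeHom _).comp f
  change F r = _ at hg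
  obtain ⟨a, c, ha, hc, ht⟩ := shape (F t) hg (by rw [← map_mul, h4, map_one])
    (by simp only [← map_mul, h5]) (by simp only [← map_mul, h6])
  have h2j : (2 : ZMod (2 ^ (j + 1))) * 2 ^ j = 0 := by rw [← pow_succ', pow_eq]
  obtain ⟨u, hu, i, l, hil⟩ : ∃ u, F u = !![1 + 2 ^ j, 2 ^ j; 0, 1 + 2 ^ j] ∧
      ∃ i l : ℕ, t = r ^ i * u * r ^ l := by
    have hr3 : r ^ 3 = 1 := by rw [← h1, pow_three']
    rcases tor a ha with rfl | rfl <;> rcases tor c hc with rfl | rfl
    · exact absurd (hf (Units.ext (ht.trans (by simp [← one_fin_two])))) h3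
    · refine ⟨r * t * (r * r), ?_, 2, 1, ?_⟩
      · simp only [map_mul, hg, ht]
        ext a b
        fin_cases a <;> fin_cases b <;> simp [mul_apply, Fin.sum_univ_two] <;>
          first | linear_combination -h2j | ring
      · calc t = r ^ 3 * t * r ^ 3 := by rw [hr3]; group
          _ = _ := by simp only [pow_succ, pow_zero, one_mul, mul_assoc]
    · refine ⟨t, ?_, 0, 0, by simp⟩
      rw [ht]
      ext a b
      fin_cases a <;> fin_cases b <;> simp <;> linear_combination -h2j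
    · refine ⟨r * r * t * r, ?_, 1, 2, ?_⟩
      · simp only [map_mul, hg, ht]
        ext a b
        fin_cases a <;> fin_cases b <;> simp [mul_apply, Fin.sum_univ_two] <;>
          first | linear_combination -h2j | ring
      · calc t = r ^ 3 * t * r ^ 3 := by rw [hr3]; group
          _ = _ := by simp only [pow_succ, pow_zero, one_mul, mul_assoc]
  refine ⟨g, hr.trans (le_antisymm ?_ ((closure_le _).2 ?_))⟩
  · set K := Subgroup.closure {x : GL (Fin 2) (ZMod (2 ^ (j + 1))) |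
      x.val = !![0, -1; 1, -1] ∨ x.val = !![1 + 2 ^ j, 2 ^ j; 0, 1 + 2 ^ j]}
    have k1 : r ∈ K.comap f := Subgroup.subset_closure (Or.inl hg)
    have k2 : u ∈ K.comap f := Subgroup.subset_closure (Or.inr hu)
    have k3 : t ∈ K.comap f := hil ▸ mul_mem (mul_mem (pow_mem k1 _) k2) (pow_mem k1 _)
    rintro _ ⟨x, rfl⟩
    obtain ⟨i, l, rfl | rfl⟩ := h7 x
    · exact (pow_mem k1 _ : _ ∈ K.comap f)
    · exact (mul_mem (mul_mem (pow_mem k1 _) k3) (pow_mem k1 _) : _ ∈ K.comap f)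
  · rintro x (hx | hx)
    · exact ⟨r, Units.ext (hg.trans hx.symm)⟩
    · exact ⟨u, Units.ext (hu.trans hx.symm)⟩

end

/-- For k ≥ 2, any two subgroups of GL₂(ℤ/2ᵏℤ) (the automorphism group of the homocyclic group ℤ/2ᵏ × ℤ/2ᵏ) that are isomorphic to the alternating group of degree 4 are conjugate. -/
theorem result (k : ℕ) (hk : 2 ≤ k) (H₁ H₂ : Subgroup (GL (Fin 2) (ZMod (2 ^ k)))) (h₁ : Nonempty (↥H₁ ≃* ↥(alternatingGroup (Fin 4)))) (h₂ : Nonempty (↥H₂ ≃* ↥(alternatingGroup (Fin 4)))) : ∃ g : GL (Fin 2) (ZMod (2 ^ k)), H₂ = H₁.map (MulAut.conj g).toMonoidHom := by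
  obtain ⟨j, rfl⟩ : ∃ j, k = j + 1 := ⟨k - 1, by omega⟩
  obtain ⟨g₁, e₁⟩ := norm H₁ h₁.some
  obtain ⟨g₂, e₂⟩ := norm H₂ h₂.some
  exact ⟨g₂⁻¹ * g₁, by rw [← cj_cj, e₁, ← e₂, cj_cj_inv]⟩

end Cfsg.Agent.S2874
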