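import Cfsg.Statements.S2879
import Mathlib
import Cfsg.Agent.Lib.GWCor.QGroup

set_option autoImplicit false
open Cfsg

namespace Cfsg.Agent.S2879

open Subgroup

/-- Let G be a finite solvable group with O(G) = 1 whose Sylow 2-subgroup T is dihedral of order at least 8 or semidihedral, with G ≠ T and Z(T) normal in G. Then G has a normal subgroup isomorphic to SL₂(3). -/
theorem result {G : Type*} [Group G] [Finite G] (hsol : IsSolvable G) (hO : Cfsg.oddCore G = ⊥) (T : Sylow 2 G) (hT : (∃ n : ℕ, 4 ≤ n ∧ Nonempty (↥(T : Subgroup G) ≃* DihedralGroup n)) ∨ Cfsg.IsQuasiDihedral ↥(T : Subgroup G)) (hne : (T : Subgroup G) ≠ ⊤) (hZ : ((T : Subgroup G) ⊓ Subgroup.centralizer ((T : Subgroup G) : Set G)).Normal) : ∃ U : Subgroup G, U.Normal ∧ Nonempty (↥U ≃* Matrix.SpecialLinearGroup (Fin 2) (ZMod 3)) := by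
  have hp : ¬ IsPGroup 2 G := fun h => hne (T.3 (h.to_subgroup ⊤) le_top).symm
  rcases hT with ⟨n, hn, ⟨e⟩⟩ | hT
  · obtain ⟨a, b, h⟩ := H73.exists_dihData (by omega) e
    have h1 : ∀ x ∈ (T : Subgroup G) ⊓ centralizer (T : Subgroup G), x ∈ zpowers a ∧ x * x = 1 := by
      intro x hx
      obtain ⟨i, rfl⟩ := h.mem_zpowers_of_commute
        (fun h1 => absurd (Nat.le_of_dvd two_pos h1) (by omega)) hx.1 (hx.2 a h.a_mem).symm
      refine ⟨⟨i, rfl⟩, mul_eq_one_iff_eq_inv.2 ?_⟩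
      rw [← h.conj_zpow, hx.2 b h.b_mem, mul_inv_cancel_right]
    obtain ⟨⟨z, hz⟩, h2⟩ := ne_bot_iff_exists_ne_one.1
      (H69.center_ne_bot T.2 fun h2 => h.notMem ((mem_bot.1 (h2 ▸ h.b_mem)).symm ▸ one_mem _))
    replace h2 : z ≠ 1 := fun e => h2 (Subtype.ext e)
    have h3 : centralizer ({z} : Set G) = ⊤ := eq_top_iff.2 fun g _ =>
      mem_centralizer_singleton_iff.2 (mul_inv_eq_iff_eq_mul.1
        (H29.eq_of_mem_zpowers_of_mul_self (h1 _ (hZ.conj_mem z hz g)).1 (h1 z hz).1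
        (h1 _ (hZ.conj_mem z hz g)).2 (h1 z hz).2 (by simpa using h2) h2))
    refine absurd (fun g => ?_) hp
    obtain ⟨k, m, hm, hk⟩ := Nat.exists_eq_two_pow_mul_odd (orderOf_pos g).ne'
    have h4 := (H29.D2.of_sylow_equiv T e).cd.mem_Od_of_odd
      (H9.orderOf_eq_two_of_mul_self h2 (h1 z hz).2) (X := ⊤) h3.ge (mem_top (g ^ 2 ^ k))
      (hm.of_dvd_nat (orderOf_dvd_of_pow_eq_one (by rw [← pow_mul, ← hk, pow_orderOf_eq_one])))
    refine ⟨k, mem_bot.1 (hO ▸ ?_)⟩
    rwa [H23.GW.Od, H1.piCoreOf_top, ← H1.pPrimeCore_eq_piCore] at h4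
  obtain ⟨k, x, y, h⟩ := H41.exists_qd hT
  have h1 : (T : Subgroup G) ⊓ centralizer (T : Subgroup G) = zpowers h.z := by
    rw [← h.map_center]
    exact Subgroup.ext fun c => H41.mem_map_center_iff.symm
  rw [h1] at hZ
  have hm : ∀ c, c ∈ zpowers h.z ↔ c = 1 ∨ c = h.z := fun _ => H23.GW.mem_zpowers_inv h.orderOf_z
  have hc : h.z ∈ center G := mem_center_iff.2 fun g => mul_inv_eq_iff_eq_mul.1
    (((hm _).1 (hZ.conj_mem _ (mem_zpowers _) g)).resolve_left (by simpa using h.z_ne_one))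
  let f := QuotientGroup.mk' (zpowers h.z)
  have hf : Function.Surjective f := QuotientGroup.mk'_surjective _
  have hk : f.ker = zpowers h.z := QuotientGroup.ker_mk' _
  have hk' : ∀ c, f c = 1 ↔ c = 1 ∨ c = h.z := fun c => (QuotientGroup.eq_one_iff c).trans (hm c)
  have hkp : IsPGroup 2 f.ker := (H23.GW.isPGroup_zpowers_inv h.orderOf_z).to_le hk.le
  have : Group.IsSolvable G := hsol
  have : Group.IsSolvable (G ⧸ zpowers h.z) := Group.isSolvable_of_surjective hf
  rcases (H29.d2_of_qw (Or.inl ⟨k, x, y, h⟩) f hf (h.map_center.trans hk.symm).le).solvable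
    (H29.core_eq_bot_of_central hO f hf (hk.le.trans (zpowers_le.2 hc)) hkp) with
    h2 | ⟨⟨e⟩⟩ | ⟨⟨e⟩⟩
  · exact absurd (((h2.to_subgroup ⊤).comap_of_ker_isPGroup f hkp).of_equiv topEquiv) hp
  · have h2 := card_subgroup_dvd_card (T : Subgroup G)
    rw [h.card, card_eq_card_quotient_mul_card_subgroup (zpowers h.z), Nat.card_congr e.toEquiv,
      H29.card_alt_four, Nat.card_zpowers, h.orderOf_z] at h2
    exact absurd ((Dvd.intro _ rfl).trans h2) (by norm_num)
  obtain ⟨e1⟩ := H29.nonempty_commutator_alt e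
  obtain ⟨e2⟩ := Cfsg.Agent.S0251.result (F := ZMod 3) (by simp)
  have key : ∀ u : (commutator (G ⧸ zpowers h.z)).comap f, u * u = 1 → u ≠ 1 → u.1 = h.z := by
    intro u h2 h3
    by_contra h4
    let φ := e1.toMonoidHom.comp (f.subgroupComap (commutator (G ⧸ zpowers h.z)))
    have hφ : ∀ c, φ c = 1 ↔ c.1 = 1 ∨ c.1 = h.z := fun c => by
      rw [← hk']
      exact (map_eq_one_iff _ e1.injective).trans Subtype.ext_iff
    obtain ⟨g, h5, h6⟩ := (by decide +kernel : ∀ s : alternatingGroup (Fin 4), s * s = 1 → s ≠ 1 →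
      ∃ g, s * (g * s * g⁻¹) ≠ 1 ∧ s * (g * s * g⁻¹) * (g * (g * s * g⁻¹) * g⁻¹) = 1) (φ u)
      (by rw [← map_mul, h2, map_one]) fun e => ((hφ u).1 e).elim (fun e => h3 (Subtype.ext e)) h4
    obtain ⟨g, rfl⟩ := (e1.surjective.comp (f.subgroupComap_surjective_of_surjective _ hf)) g
    change φ u * (φ g * φ u * (φ g)⁻¹) ≠ 1 at h5
    change φ u * (φ g * φ u * (φ g)⁻¹) * (φ g * (φ g * φ u * (φ g)⁻¹) * (φ g)⁻¹) = 1 at h6
    simp only [← map_inv, ← map_mul, Ne, hφ, coe_mul, coe_inv] at h5 h6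
    replace h2 : u.1 * u.1 = 1 := congrArg Subtype.val h2
    replace h3 : u.1 ≠ 1 := fun e => h3 (Subtype.ext e)
    generalize u.1 = u, g.1 = g at *
    have h7 : ∀ s g : G, s * s = 1 → g * s * g⁻¹ * (g * s * g⁻¹) = 1 := fun s g hs => by
      rw [conj_mul, hs, mul_one, mul_inv_cancel]
    have h8 := h7 u g h2
    have h9 := h7 _ g h8
    have h3' : g * u * g⁻¹ ≠ 1 := by simpa using h3
    have h4' : g * u * g⁻¹ ≠ h.z := fun e => h4 (by
      rwa [mul_inv_eq_iff_eq_mul, ← mem_center_iff.1 hc g, mul_right_inj] at e)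
    generalize g * (g * u * g⁻¹) * g⁻¹ = w at *
    generalize g * u * g⁻¹ = v at *
    have h10 : Commute u v := by
      suffices u * v * (u * v) = 1 by
        rw [commute_iff_eq, ← inv_eq_of_mul_eq_one_right this, mul_inv_rev,
          inv_eq_of_mul_eq_one_right h2, inv_eq_of_mul_eq_one_right h8]
      rcases h6 with h6 | h6
      · rw [eq_inv_of_mul_eq_one_left h6, ← mul_inv_rev, h9, inv_one]
      · rw [eq_mul_inv_of_mul_eq h6, mul_assoc, ← mul_assoc w⁻¹, mem_center_iff.1 hc, mul_assoc,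
          ← mul_assoc, h.zz, one_mul, ← mul_inv_rev, h9, inv_one]
    obtain ⟨c, hc'⟩ := H9.exists_conj_mem_sylow T (H9.isPGroup_closure_pair_of_commute h2 h8 h10)
    have hz : ∀ s : G, c * s * c⁻¹ = h.z → s = h.z := fun s e => by
      rwa [mul_inv_eq_iff_eq_mul, ← mem_center_iff.1 hc c, mul_right_inj] at e
    obtain h11 | h11 | ⟨j, h11⟩ := h.invol (hc' u (subset_closure (by simp))) (h7 u c h2)
    · exact h3 (by simpa using h11)
    · exact h4 (hz u h11)
    rcases (h.mem_centralizer (2 * j) (c * v * c⁻¹)).1 ⟨hc' v (subset_closure (by simp)),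
      mem_centralizer_singleton_iff.2 (h11 ▸ (h10.map (MulAut.conj c)).symm)⟩ with h12 | h12 | h12 | h12
    · exact h3' (by simpa using h12)
    · exact h4' (hz v h12)
    · rw [← h11, mul_left_inj, mul_right_inj] at h12
      exact h5 (Or.inl (h12 ▸ h2))
    · refine h5 (Or.inr (hz _ ?_))
      rw [← conj_mul, h12, ← h11, ← mul_assoc, mem_center_iff.1 hc, mul_assoc, h7 u c h2, mul_one]
  exact ⟨_, inferInstance, H29.Cov.sl (f := f.subgroupComap (commutator (G ⧸ zpowers h.z)))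
    (z := ⟨h.z, by rw [mem_comap, (hk' _).2 (Or.inr rfl)]; exact one_mem _⟩)
    ⟨fun u v hu hv h2 h3 => Subtype.ext ((key u hu h2).trans (key v hv h3).symm),
      fun e => h.z_ne_one (congrArg Subtype.val e), f.subgroupComap_surjective_of_surjective _ hf,
      fun x => by simp only [Subtype.ext_iff]; exact hk' x⟩ (by simp; decide) (e1.trans e2.symm)⟩

end Cfsg.Agent.S2879
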