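import Mathlib
import Cfsg.Agent.Lib.LargeExtra.Types
import Cfsg.Statements.S2880
-- import your own Cfsg.Agent.* helpers here

set_option autoImplicit false
open Cfsg

namespace Cfsg.Agent.S2880

theorem count {E : Type*} [Group E] [Finite E] (m : ℕ) (hE : Cfsg.IsExtraspecial 2 E) (hcard : Nat.card E = 2 ^ (2 * m + 1)) (hplus : ∃ A : Subgroup E, Cfsg.IsElementaryAbelian 2 A ∧ Nat.card A = 2 ^ (m + 1)) : Nat.card {x : E // x ^ 2 = 1} = 2 ^ (2 * m) + 2 ^ m := by
  obtain ⟨z, hz, V, _, _, _, P, m', hq, -, hV, hcV, hc⟩ := H95.exists_pres_of_extraspecial hE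
  obtain rfl : m = m' := by
    have := Nat.pow_right_injective le_rfl (hcard.symm.trans hc)
    omega
  have h := P.card_sq_eq_one
  rw [H95.gauss_of_plus hq hV ((P.isPlusType_iff hq hV).2 hplus), hcV] at h
  exact_mod_cast h


/-- Let E be an extraspecial 2-group of order 2^(2m+1) of plus type, that is, containing an elementary abelian subgroup of order 2^(m+1) (equivalently, a central product of m dihedral groups of order 8). Then E has exactly 2^(2m) − 2^m elements of order 4. -/
theorem result {E : Type*} [Group E] [Finite E] (m : ℕ) (hm : 1 ≤ m) (hE : Cfsg.IsExtraspecial 2 E) (hcard : Nat.card E = 2 ^ (2 * m + 1)) (hplus : ∃ A : Subgroup E, Cfsg.IsElementaryAbelian 2 A ∧ Nat.card A = 2 ^ (m + 1)) : Nat.card {x : E // orderOf x = 4} = 2 ^ (2 * m) - 2 ^ m := by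
  have h := count m hE hcard hplus
  obtain ⟨z, hz⟩ := H95.exists_ES_top hE
  have e : ∀ x : E, orderOf x = 4 ↔ ¬ x ^ 2 = 1 := fun x => by
    constructor
    · intro h4 h2
      have := orderOf_dvd_of_pow_eq_one h2
      rw [h4] at this
      omega
    · intro h2
      exact orderOf_eq_prime_pow (p := 2) (n := 1) (by simpa using h2) (hz.pow_four (Subgroup.mem_top x))
  classical
  have := Fintype.ofFinite E
  simp only [e, Nat.card_eq_fintype_card, Fintype.card_subtype_compl] at h hcard ⊢
  rw [h, hcard, pow_succ]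
  omega


end Cfsg.Agent.S2880
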