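import Mathlib
import Cfsg.Agent.Lib.LargeExtra.Types
import Cfsg.Agent.S2880
import Cfsg.Statements.S2881
-- import your own Cfsg.Agent.* helpers here

set_option autoImplicit false
open Cfsg

namespace Cfsg.Agent.S2881


/-- Let E be an extraspecial 2-group of order 2^(2m+1) of plus type (containing an elementary abelian subgroup of order 2^(m+1)), and let ω be an automorphism of E of order 5 whose fixed points are exactly the centre of E. Then m is divisible by 4. -/
theorem result {E : Type*} [Group E] [Finite E] (m : ℕ) (hm : 1 ≤ m) (hE : Cfsg.IsExtraspecial 2 E) (hcard : Nat.card E = 2 ^ (2 * m + 1)) (hplus : ∃ A : Subgroup E, Cfsg.IsElementaryAbelian 2 A ∧ Nat.card A = 2 ^ (m + 1)) (ω : E ≃* E) (hω : orderOf ω = 5) (hfix : ∀ x : E, ω x = x ↔ x ∈ Subgroup.center E) : 4 ∣ m := by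
  have h := Cfsg.Agent.S2880.result m hm hE hcard hplus
  obtain ⟨z, hz⟩ := H95.exists_ES_top hE
  let H := Subgroup.zpowers (show MulAut E from ω)
  have hH : IsPGroup 5 H := IsPGroup.of_card (n := 1) (by rw [Nat.card_zpowers]; exact hω)
  let S : SubMulAction H E :=
    { carrier := {x | orderOf x = 4}
      smul_mem' := fun g x hx => by
        change orderOf (g.1 x) = 4
        rw [MulEquiv.orderOf_eq]
        exact hx }
  have h1 := have : Fact (Nat.Prime 5) := ⟨by norm_num⟩; hH.card_modEq_card_fixedPoints S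
  have h2 : Nat.card (MulAction.fixedPoints H S) = 0 := by
    rw [Nat.card_eq_zero]
    refine Or.inl ⟨fun x => ?_⟩
    have h3 := (hfix _).1 (congrArg Subtype.val (x.2 ⟨ω, Subgroup.mem_zpowers _⟩))
    have h4 : orderOf x.1.1 = 4 := x.1.2
    rcases hz.mem_zpowers.1 (hz.center_top_eq.le h3) with e | e <;> rw [e] at h4
    · simp at h4
    · rw [hz.orderOf_eq] at h4
      omega
  rw [h2, show Nat.card S = _ from h] at h1
  have h5 : 2 ^ m ≤ 2 ^ (2 * m) := Nat.pow_le_pow_right two_pos (by omega)
  have h3 : (2 : ZMod 5) ^ (2 * m) - 2 ^ m = 0 := by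
    have := (ZMod.natCast_eq_natCast_iff _ _ _).2 h1
    rw [Nat.cast_sub h5] at this
    exact_mod_cast this
  obtain ⟨k, r, hr, rfl⟩ : ∃ k r, r < 4 ∧ m = 4 * k + r := ⟨m / 4, m % 4, by omega, by omega⟩
  have h4 : (2 : ZMod 5) ^ 4 = 1 := by decide
  rw [two_mul, pow_add, pow_add, pow_mul, h4, one_pow, one_mul] at h3
  interval_cases r
  · simp
  all_goals exact absurd h3 (by decide)


end Cfsg.Agent.S2881
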