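import Cfsg.Statements.S2932
import Cfsg.Agent.Lib.LocNat.NatSL2

set_option autoImplicit false
open Cfsg

namespace Cfsg.Agent.S2932

/-- Let p be a prime. Inside a finite ambient group let V be an elementary abelian p-subgroup and G a subgroup normalizing V and acting faithfully on it (G ∩ C(V) = 1), and let L ≤ G act on V as SL₂(F) on its natural module, F a finite field of characteristic p, with L ≅ SL₂(F). If every Sylow p-subgroup of N_G(L) is a Sylow p-subgroup of G, then either L is normal in G, or F has 4 elements and G is isomorphic to the alternating group of degree 7. -/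
theorem result {X : Type*} [Group X] [Finite X] {p : ℕ} [Fact p.Prime] (F : Type) [Field F] [Fintype F] [CharP F p] (V G L : Subgroup X) (hV : Cfsg.IsElementaryAbelian p V) (hGV : G ≤ Subgroup.normalizer (V : Set X)) (hfaith : G ⊓ Subgroup.centralizer (V : Set X) = ⊥) (hLG : L ≤ G) (hnat : Cfsg.IsNaturalSL2Module F V L) (hLiso : Nonempty (↥L ≃* Matrix.SpecialLinearGroup (Fin 2) F)) (hSyl : ∀ S : Sylow p ↥(G ⊓ Subgroup.normalizer (L : Set X)), ∀ P : Sylow p ↥G, Nat.card S = Nat.card P) : (L.subgroupOf G).Normal ∨ (Fintype.card F = 4 ∧ Nonempty (↥G ≃* ↥(alternatingGroup (Fin 7)))) := by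
  obtain ⟨-, ρ, ψ, hρ, -, hact⟩ := hnat
  let α : G →* MulAut V := V.normalizerMonoidHom.comp (Subgroup.inclusion hGV)
  let : DistribMulAction G (Fin 2 → F) :=
    { smul := fun g v => ψ (Additive.ofMul (α g (ψ.symm v).toMul))
      one_smul := fun v => by
        change ψ (Additive.ofMul (α 1 (ψ.symm v).toMul)) = v
        simp
      mul_smul := fun a b v => by
        change ψ (Additive.ofMul (α (a * b) (ψ.symm v).toMul)) = ψ (Additive.ofMul (α a (ψ.symm
          (ψ (Additive.ofMul (α b (ψ.symm v).toMul)))).toMul))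
        simp
      smul_zero := fun a => by
        change ψ (Additive.ofMul (α a (ψ.symm 0).toMul)) = 0
        simp
      smul_add := fun a u v => by
        change ψ (Additive.ofMul (α a (ψ.symm (u + v)).toMul)) =
          ψ (Additive.ofMul (α a (ψ.symm u).toMul)) + ψ (Additive.ofMul (α a (ψ.symm v).toMul))
        simp }
  have h : H90.NatL.NatIn (L.subgroupOf G) (ρ.comp (Subgroup.subgroupOfEquivOfLe hLG).toMonoidHom) :=
    { faith := fun g hg => by
        refine Subtype.ext (Subgroup.mem_bot.1 (hfaith.le ⟨g.2, fun v hv => ?_⟩))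
        have : ψ (Additive.ofMul (α g (ψ.symm (ψ (Additive.ofMul ⟨v, hv⟩))).toMul)) = _ :=
          hg (ψ (Additive.ofMul ⟨v, hv⟩))
        rw [ψ.symm_apply_apply] at this
        have h2 : (g : X) * v * (g : X)⁻¹ = v :=
          congrArg Subtype.val (Additive.ofMul.injective (ψ.injective this))
        exact (mul_inv_eq_iff_eq_mul.1 h2).symm
      surj := hρ.comp (Subgroup.subgroupOfEquivOfLe hLG).surjective
      act := fun l v => by
        obtain ⟨w, hw, e⟩ := hact (Subgroup.subgroupOfEquivOfLe hLG l) (ψ.symm v).toMul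
        change ψ (Additive.ofMul (α l (ψ.symm v).toMul)) = _
        rw [show α l (ψ.symm v).toMul = w from Subtype.ext hw.symm, e]
        simp }
  refine (h.main (p := p) fun S P => ?_).imp_right fun h => ⟨Nat.card_eq_fintype_card.symm.trans h.1, h.2⟩
  obtain ⟨S'⟩ : Nonempty (Sylow p ↥(G ⊓ Subgroup.normalizer (L : Set X))) := inferInstance
  rw [← hSyl S' P, S.card_eq_multiplicity, S'.card_eq_multiplicity,
    ← Subgroup.subgroupOf_normalizer_eq hLG, ← Subgroup.inf_subgroupOf_left,
    Nat.card_congr (Subgroup.subgroupOfEquivOfLe inf_le_left).toEquiv]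

end Cfsg.Agent.S2932
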