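import Cfsg.Statements.S2933
import Cfsg.Agent.Lib.CH2.SgE

set_option autoImplicit false
open Cfsg

namespace Cfsg.Agent.S2933

/-- Let T be a 2-subgroup of a finite group G, V ≤ Z(T) a four-group, and t, ρ ∈ N_G(V) ∩ N_G(T) elements of order 2 and 3 with t commuting with ρ and with V. If [V, ρ] = V and C_T(t) = V, then T is elementary abelian of order 16, or homocyclic of rank 2 (ℤ/2ⁿ × ℤ/2ⁿ for some n ≥ 1), or isomorphic to a Sylow 2-subgroup of PSL₃(4) or of PSU₃(4). -/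
theorem result {G : Type*} [Group G] [Finite G] (T V : Subgroup G) (hT : IsPGroup 2 ↥T) (hVT : V ≤ T ⊓ Subgroup.centralizer (T : Set G)) (hV : Nat.card ↥V = 4 ∧ ∀ v ∈ V, v ^ 2 = 1) (t ρ : G) (ht : orderOf t = 2) (hρ : orderOf ρ = 3) (htn : t ∈ Subgroup.normalizer (V : Set G) ⊓ Subgroup.normalizer (T : Set G)) (hρn : ρ ∈ Subgroup.normalizer (V : Set G) ⊓ Subgroup.normalizer (T : Set G)) (htρ : t * ρ = ρ * t) (htV : t ∈ Subgroup.centralizer (V : Set G)) (hVρ : ⁅V, Subgroup.zpowers ρ⁆ = V) (hCt : T ⊓ Subgroup.centralizer ({t} : Set G) = V) : (Nat.card ↥T = 16 ∧ ∀ x ∈ T, x ^ 2 = 1) ∨ (∃ n : ℕ, 1 ≤ n ∧ Nonempty (↥T ≃* Multiplicative (ZMod (2 ^ n)) × Multiplicative (ZMod (2 ^ n)))) ∨ (∃ (F : Type) (_ : Field F) (_ : Fintype F), Fintype.card F = 4 ∧ ∀ P : Sylow 2 (Matrix.ProjectiveSpecialLinearGroup (Fin 3) F), Nonempty (↥T ≃* ↥(P : Subgroup (Matrix.ProjectiveSpecialLinearGroup (Fin 3) F))))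 ∨ (∃ (F : Type) (_ : Field F) (_ : Fintype F), Fintype.card F = 16 ∧ ∀ P : Sylow 2 (Cfsg.PSU 3 F 4), Nonempty (↥T ≃* ↥(P : Subgroup (Cfsg.PSU 3 F 4)))) := by
  let α := T.normalizerMonoidHom ⟨t, htn.2⟩
  let σ := T.normalizerMonoidHom ⟨ρ, hρn.2⟩
  have a1 : ∀ x : T, (α x : G) = t * x * t⁻¹ := fun x => rfl
  have a2 : ∀ x : T, (σ x : G) = ρ * x * ρ⁻¹ := fun x => rfl
  have hle : V ≤ T := hVT.trans inf_le_left
  obtain ⟨w, hw, h1⟩ : ∃ w ∈ V, ρ * w * ρ⁻¹ ≠ w := by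
    by_contra! h
    have : V = ⊥ := by
      rw [← hVρ, Subgroup.commutator_comm, Subgroup.commutator_eq_bot_iff_le_centralizer,
        Subgroup.zpowers_le]
      exact fun v hv => by rw [← mul_inv_eq_iff_eq_mul.1 (h v hv)]
    have h4 := hV.1
    rw [this] at h4
    simp at h4
  have := H22.Sg.main_four (α := α) (σ := σ) (C := V.subgroupOf T) hT
    (fun x => Subtype.ext (by
      rw [a1, a1, show t * (t * x * t⁻¹) * t⁻¹ = t ^ 2 * x * (t ^ 2)⁻¹ by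
        simp [pow_succ, mul_assoc], ← ht, pow_orderOf_eq_one]
      group))
    (fun x => Subtype.ext (by
      rw [a1, a2, a2, a1, show t * (ρ * x * ρ⁻¹) * t⁻¹ = (t * ρ) * x * (t * ρ)⁻¹ by group, htρ]
      group))
    (fun x => by
      rw [Subgroup.mem_subgroupOf, ← hCt, Subgroup.mem_inf, Subgroup.mem_centralizer_singleton_iff,
        Subtype.ext_iff, a1, mul_inv_eq_iff_eq_mul]
      exact ⟨fun h => h.2.symm, fun h => ⟨x.2, h.symm⟩⟩)
    ((Nat.card_congr (Subgroup.subgroupOfEquivOfLe hle).toEquiv).trans hV.1)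
    (fun x hx => Subtype.ext (by simpa [sq] using hV.2 x hx))
    (fun x => Subtype.ext (by
      rw [a2, a2, a2, show ρ * (ρ * (ρ * x * ρ⁻¹) * ρ⁻¹) * ρ⁻¹ = ρ ^ 3 * x * (ρ ^ 3)⁻¹ by
        simp [pow_succ, mul_assoc], ← hρ,
        pow_orderOf_eq_one]
      group))
    (w := ⟨w, hle hw⟩) hw fun e => h1 (congrArg Subtype.val e)
  refine this.imp_left fun h => ⟨h.1, fun x hx => ?_⟩
  rw [sq]
  exact congrArg Subtype.val (h.2 ⟨x, hx⟩)

end Cfsg.Agent.S2933
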