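import Mathlib
import Cfsg.Statements.S2962
import Cfsg.Agent.Lib.ZStar.WClosed2
import Cfsg.Agent.S0205

set_option autoImplicit false
open Cfsg

namespace Cfsg.Agent.S2962

/-- Let G be a finite group with G = QN, where N is a normal subgroup of G and Q is a non-abelian 2-subgroup with Q ∩ N = 1. Suppose that some nontrivial element t of Z(Q) ∩ [Q, Q] satisfies C_N(Q) = C_N(t). Then [N, Q] is solvable of odd order. -/
theorem result {G : Type*} [Group G] [Finite G] (N Q : Subgroup G) [N.Normal] (hG : Q ⊔ N = ⊤) (hQ : IsPGroup 2 ↥Q) (hQna : ¬ IsMulCommutative ↥Q) (hdisj : Q ⊓ N = ⊥) (t : G) (ht1 : t ≠ 1) (htZ : t ∈ Q ⊓ Subgroup.centralizer (Q : Set G)) (htQ : t ∈ ⁅Q, Q⁆) (hC : N ⊓ Subgroup.centralizer (Q : Set G) = N ⊓ Subgroup.centralizer ({t} : Set G)) : Group.IsSolvable ↥⁅N, Q⁆ ∧ Odd (Nat.card ↥⁅N, Q⁆) := by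
  have htc : ∀ q ∈ Q, q * t = t * q := Subgroup.mem_centralizer_iff.1 htZ.2
  have hdec : ∀ g : G, ∃ n ∈ N, ∃ q ∈ Q, g = n * q := fun g => by
    have h1 : g ∈ ((N ⊔ Q : Subgroup G) : Set G) := by
      rw [sup_comm, hG]
      trivial
    rw [Subgroup.normal_mul] at h1
    obtain ⟨n, hn, q, hq, rfl⟩ := h1
    exact ⟨n, hn, q, hq, rfl⟩
  have hNt : ∀ n ∈ N, n * t = t * n → ∀ q ∈ Q, q * n = n * q := fun n hn h => by
    have : n ∈ N ⊓ Subgroup.centralizer (Q : Set G) := by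
      rw [hC]
      exact ⟨hn, Subgroup.mem_centralizer_singleton_iff.2 h⟩
    exact Subgroup.mem_centralizer_iff.1 this.2
  have hcomm : ∀ n ∈ N, ∀ g : G, g * (n * g⁻¹ * n⁻¹) ∈ N := fun n hn g => by
    have := mul_mem (Subgroup.Normal.conj_mem inferInstance n hn g) (inv_mem hn)
    rwa [show g * n * g⁻¹ * n⁻¹ = g * (n * g⁻¹ * n⁻¹) by group] at this
  have key : ∀ g : G, Commute t (g * t * g⁻¹) → g * t * g⁻¹ = t := fun g hg => by
    obtain ⟨n, hn, q, hq, rfl⟩ := hdec g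
    have e1 : n * q * t * (n * q)⁻¹ = n * t * n⁻¹ := by
      calc _ = n * (q * t) * q⁻¹ * n⁻¹ := by group
        _ = _ := by rw [htc q hq]; group
    rw [e1] at hg ⊢
    -- `Q` centralizes `y = n t n⁻¹`
    have hy : ∀ q ∈ Q, Commute q (n * t * n⁻¹) := fun q hq => by
      have h1 : Commute q (t * (n * t⁻¹ * n⁻¹)) := hNt _ (hcomm n hn t) (by
        have h2 : Commute t (t * (n * t * n⁻¹)⁻¹) := (Commute.refl t).mul_right hg.inv_right
        rw [show t * (n * t⁻¹ * n⁻¹) = t * (n * t * n⁻¹)⁻¹ by group]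
        exact h2.symm.eq) q hq
      have h3 : Commute q t := htc q hq
      rw [show n * t * n⁻¹ = (t * (n * t⁻¹ * n⁻¹))⁻¹ * t by group]
      exact h1.inv_right.mul_right h3
    -- `c q = q (n q⁻¹ n⁻¹)` centralizes `n Q n⁻¹`
    have hc1 : ∀ q ∈ Q, ∀ r ∈ Q, Commute (n * r * n⁻¹) (q * (n * q⁻¹ * n⁻¹)) := fun q hq r hr => by
      have h1 : n⁻¹ * (q * (n * q⁻¹ * n⁻¹)) * n⁻¹⁻¹ ∈ N :=
        Subgroup.Normal.conj_mem inferInstance _ (hcomm n hn q) _
      have h2 := hNt _ h1 (by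
        have h3 := (hy q hq).eq
        calc n⁻¹ * (q * (n * q⁻¹ * n⁻¹)) * n⁻¹⁻¹ * t = n⁻¹ * q * n * (q⁻¹ * t) := by group
          _ = n⁻¹ * (q * (n * t * n⁻¹)) * n * q⁻¹ := by rw [htc _ (inv_mem hq)]; group
          _ = _ := by rw [h3]; group) r hr
      calc n * r * n⁻¹ * (q * (n * q⁻¹ * n⁻¹))
          = n * (r * (n⁻¹ * (q * (n * q⁻¹ * n⁻¹)) * n⁻¹⁻¹)) * n⁻¹ := by group
        _ = _ := by rw [h2]; group
    let c : Q →* G := MonoidHom.mk' (fun q => q * (n * (q : G)⁻¹ * n⁻¹)) fun a b => by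
      have h1 := (hc1 b b.2 _ (inv_mem a.2)).eq
      calc ((a * b : Q) : G) * (n * ((a * b : Q) : G)⁻¹ * n⁻¹)
          = a * (b * (n * (b : G)⁻¹ * n⁻¹) * (n * (a : G)⁻¹ * n⁻¹)) := by
            rw [Subgroup.coe_mul]; group
        _ = _ := by rw [← h1]; group
    have hc2 : ∀ q : Q, ∀ r ∈ Q, Commute r (c q) := fun q => by
      refine hNt _ (hcomm n hn q) ?_
      have h1 : Commute (c ⟨t, htZ.1⟩) (c q) :=
        Commute.map (show Commute (⟨t, htZ.1⟩ : Q) q from Subtype.ext (htc q q.2).symm) c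
      have h2 : Commute (c ⟨t, htZ.1⟩ * (n * t * n⁻¹)) (c q) := h1.mul_left (hc1 q q.2 t htZ.1)
      rw [show c ⟨t, htZ.1⟩ * (n * t * n⁻¹) = t by
        change t * (n * t⁻¹ * n⁻¹) * (n * t * n⁻¹) = t
        group] at h2
      exact h2.symm.eq
    have hc3 : ∀ a b : Q, Commute (c a) (c b) := fun a b =>
      (hc2 b a a.2).mul_left (hc1 b b.2 _ (inv_mem a.2))
    have h4 : commutator Q ≤ c.ker := by
      rw [commutator_def, Subgroup.commutator_le]
      intro a _ b _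
      rw [MonoidHom.mem_ker, map_commutatorElement, commutatorElement_eq_one_iff_commute]
      exact hc3 a b
    have h5 : (⟨t, htZ.1⟩ : Q) ∈ commutator Q := by
      rw [← Subgroup.map_subtype_commutator] at htQ
      obtain ⟨x, hx, rfl⟩ := htQ
      exact hx
    have h6 : t * (n * t⁻¹ * n⁻¹) = 1 := h4 h5
    calc n * t * n⁻¹ = (t * (n * t⁻¹ * n⁻¹))⁻¹ * t := by group
      _ = t := by rw [h6]; group
  have hte := H35.isPElt_of_mem hQ htZ.1
  have hO : ¬ 2 ∣ Nat.card (oddCore G) := H1.not_dvd_card_pPrimeCore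
  have hON : oddCore G ≤ N := by
    refine H1.le_of_coprime_index ?_
    obtain ⟨k, hk⟩ := hQ.exists_card_eq
    have h1 : N.index ∣ 2 ^ k := by
      rw [← hk, ← Subgroup.relIndex_top_right, ← hG, Subgroup.relIndex_sup_right]
      exact Subgroup.relIndex_dvd_card N Q
    exact Nat.Coprime.coprime_dvd_right h1
      (Nat.Coprime.pow_right k ((Nat.Prime.coprime_iff_not_dvd Nat.prime_two).2 hO).symm)
  have hle : ⁅N, Q⁆ ≤ oddCore G := by
    rw [Subgroup.commutator_le]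
    intro n hn q hq
    obtain ⟨o, ho, h1⟩ := H34.exists_mul_commute hO hte (H34.zstar_of_commute hte key) n
    have h2 := hNt _ (mul_mem (hON ho) hn) h1.symm.eq q hq
    have h3 : n * q * n⁻¹ * q⁻¹ = o⁻¹ * (q * o * q⁻¹) := by
      calc n * q * n⁻¹ * q⁻¹ = o⁻¹ * (o * n * q) * n⁻¹ * q⁻¹ := by group
        _ = _ := by rw [← h2]; group
    rw [commutatorElement_def, h3]
    exact mul_mem (inv_mem ho) (Subgroup.Normal.conj_mem inferInstance o ho q)
  have hodd : Odd (Nat.card ↥⁅N, Q⁆) :=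
    Nat.odd_iff.2 (Nat.two_dvd_ne_zero.1 fun h => hO (h.trans (Subgroup.card_dvd_of_le hle)))
  exact ⟨Cfsg.Agent.S0205.result hodd, hodd⟩

end Cfsg.Agent.S2962
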