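import Cfsg.Statements.S2970
import Mathlib
import Cfsg.Agent.Lib.LocEven.Isolated

set_option autoImplicit false
open Cfsg

namespace Cfsg.Agent.S2970

/-- Let G be a finite group, p a prime and x ∈ G an element of p-power order which is isolated in G. Then the image of x in any quotient G ⧸ N is isolated in G ⧸ N; and if x ≠ 1 and the Sylow p-subgroups of G are cyclic, then G has a normal p-complement. -/
theorem result {G : Type*} [Group G] [Finite G] {p : ℕ} [Fact p.Prime] (x : G) (hx : ∃ k : ℕ, orderOf x = p ^ k) (hiso : Cfsg.IsIsolated x) : (∀ (N : Subgroup G) [N.Normal], Cfsg.IsIsolated (QuotientGroup.mk x : G ⧸ N)) ∧ (x ≠ 1 → (∀ P : Sylow p G, IsCyclic ↥(P : Subgroup G)) → Cfsg.HasNormalPComplement p G) := by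
  have hp := H70.isPGroup_zpowers_of_orderOf hx
  exact ⟨fun N _ => H70.Iso.map hiso hp (QuotientGroup.mk'_surjective N),
    H70.Iso.hasNormalPComplement_of_isCyclic hiso hp⟩

end Cfsg.Agent.S2970
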