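import Cfsg.Statements.S3052
import Cfsg.Agent.Lib.GC.Main
import Cfsg.Agent.Lib.GC.Fus
import Cfsg.Agent.Lib.TwoFusion.FusionTools

set_option autoImplicit false
open Cfsg Subgroup H69 H68.Push H68B H59.MP H45.GC

namespace Cfsg.Agent.S3052

/-- Let G be a finite group of local characteristic 2 (every 2-local subgroup N has C_N(O₂(N)) ≤ O₂(N)) with T a Sylow 2-subgroup, O₂(G) = 1, O²(G) = G, and G ≠ C*(G,T), the subgroup generated by the centralizer of Ω₁(Z(T)) and the normalizers of the nontrivial characteristic subgroups of the Baumann subgroup B(T). Then one of the following holds: G has a strongly embedded subgroup; T is dihedral or quasi-dihedral; T has order at most 2¹⁰; or T equals its Baumann subgroup, T has nilpotency class 2, and G has a B(T)-block E not contained in C*(G,T) with E/O₂(E) isomorphic to SL(2,2ⁿ) for some n ≥ 3. -/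
theorem result {G : Type*} [Group G] [Finite G] (hloc : Cfsg.IsOfLocalCharacteristic 2 G) (T : Sylow 2 G)
    (hO : Cfsg.pCore 2 G = ⊥) (hO2 : Cfsg.pResidual 2 G = ⊤) (hC : Cfsg.cStarOf 2 (T : Subgroup G) ≠ ⊤)
    [Group.IsNilpotent ↥(T : Subgroup G)] :
    (∃ H : Subgroup G, Cfsg.IsStronglyEmbedded H) ∨
      ((∃ m : ℕ, Nonempty (↥(T : Subgroup G) ≃* DihedralGroup m)) ∨ Cfsg.IsQuasiDihedral ↥(T : Subgroup G)) ∨
      Nat.card (T : Subgroup G) ≤ 2 ^ 10 ∨
      (Cfsg.baumannSubgroupOf 2 (T : Subgroup G) = T ∧ Group.nilpotencyClass ↥(T : Subgroup G) = 2 ∧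
        ∃ (E : Subgroup G) (hE : ((Cfsg.pCoreOf 2 E).subgroupOf E).Normal) (F : Type) (_ : Field F) (_ : Fintype F) (n : ℕ),
          3 ≤ n ∧ Fintype.card F = 2 ^ n ∧ Cfsg.IsBaumannBlock 2 (T : Subgroup G) E ∧ ¬ E ≤ Cfsg.cStarOf 2 (T : Subgroup G) ∧
          Nonempty (↥E ⧸ (Cfsg.pCoreOf 2 E).subgroupOf E ≃* Matrix.SpecialLinearGroup (Fin 2) F)) := by
  have hT := isSylowIn_top T
  have hN := H41.index_ne_two_of_pResidual_eq_top hO2
  by_cases h0 : (T : Subgroup G) = ⊥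
  · exact Or.inr (Or.inr (Or.inl (by rw [h0, card_bot]; norm_num)))
  rcases main (lc_of hloc) hT h0 hO hN hC with h | h | ⟨M, B, s, F, _, _, L, Q₂, ρ, ψ, l, e⟩
  · exact Or.inl h
  · exact Or.inr (Or.inl ((h.iso T.isPGroup').imp_left fun ⟨m, _, h⟩ => ⟨m, h⟩))
  by_cases hq : Nat.card F < 8
  · exact Or.inr (Or.inr (Or.inl (e.toOv.card_le hq)))
  obtain rfl := e.eq_of_big (not_lt.1 hq) hN
  obtain ⟨n, -, hn⟩ := l.exists_pow
  obtain ⟨φ⟩ := quot_equiv e.toNatSec l (by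
    rw [cm_bot]; exact le_antisymm e.cent (le_inf (Q_le _) (H24.EA.le_centralizer e.ea)))
  have e1 : (pCoreOf 2 𝐑(2, L)).subgroupOf 𝐑(2, L) = pCore 2 𝐑(2, L) := subgroupOf_map_subtype' _
  haveI hE : ((pCoreOf 2 𝐑(2, L)).subgroupOf 𝐑(2, L)).Normal := e1 ▸ inferInstance
  refine Or.inr (Or.inr (Or.inr ⟨s.bau, e.toPr.nilClass, 𝐑(2, L), hE, F, _, _, n, ?_,
    Nat.card_eq_fintype_card.symm.trans hn, s.block l, fun h => l.not_res_le_M (h.trans s.cs),
    ⟨(QuotientGroup.quotientMulEquivOfEq e1).trans (φ.trans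
      ((MulEquiv.subgroupCongr (comm_eq_top (by omega))).trans topEquiv))⟩⟩))
  by_contra h
  have := Nat.pow_le_pow_right (n := 2) (by norm_num) (by omega : n ≤ 2)
  omega

end Cfsg.Agent.S3052
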