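import Cfsg.Statements.S3066
import Mathlib
import Cfsg.Agent.Lib.H4.OutSmall
import Cfsg.Agent.Lib.H4.OutBender
import Cfsg.Agent.Lib.Gold.Top
import Cfsg.Agent.S0227

set_option autoImplicit false
open Cfsg

namespace Cfsg.Agent.S3066

open Subgroup

/-- Let G be a finite non-abelian simple group with a nontrivial Sylow 2-subgroup S (that is, G has even order). Then Out(G) = Aut(G)/Inn(G) is solvable provided one of the following holds: (a) S is generated by two elements; (b) S is generated by three elements and N_G(S)/C_G(S) is not a 2-group (some element of N_G(S) of odd order does not centralize S); (c) the involutions of S commute pairwise and are all conjugate in G. -/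
theorem result {G : Type*} [Group G] [Finite G] [IsSimpleGroup G]
    (hG : ¬ IsMulCommutative G) (S : Sylow 2 G) (hS1 : (S : Subgroup G) ≠ ⊥)
    (h : (∃ a b : ↥S, Subgroup.closure ({a, b} : Set ↥S) = ⊤) ∨
      ((∃ a b c : ↥S, Subgroup.closure ({a, b, c} : Set ↥S) = ⊤) ∧
        ∃ g ∈ Subgroup.normalizer ((S : Subgroup G) : Set G), Odd (orderOf g) ∧ g ∉ Subgroup.centralizer ((S : Subgroup G) : Set G)) ∨
      ((∀ s ∈ S, ∀ t ∈ S, orderOf s = 2 → orderOf t = 2 → s * t = t * s) ∧
        (∀ s ∈ S, ∀ t ∈ S, orderOf s = 2 → orderOf t = 2 → ∃ g : G, g * s * g⁻¹ = t))) :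
    Group.IsSolvable (Cfsg.Out G) := by
  classical
  have hfix := (Cfsg.Agent.S0227.result (H4.odd_normal_eq_bot_of_simple S hS1) S _ H4.mem_autFix).2
  rcases h with ⟨a, b, hab⟩ | ⟨⟨a, b, c, habc⟩, g, hg, ho, hc⟩ | ⟨hcomm, hconj⟩
  · refine H4.out_solvable_of S hfix (H4.range_autRes_solvable_four S ?_)
    exact (H1.index_frattini_dvd_pow_card S.isPGroup' {a, b} (by simpa using hab)).trans
      (pow_dvd_pow 2 Finset.card_le_two)
  · refine H4.out_solvable_of S hfix (H4.range_autRes_solvable_eight S ?_ hg ho hc)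
    exact (H1.index_frattini_dvd_pow_card S.isPGroup' {a, b, c} (by simpa using habc)).trans
      (pow_dvd_pow 2 Finset.card_le_three)
  · have ho : ∀ x : G, x * x = 1 → x = 1 ∨ orderOf x = 2 := by
      intro x hx
      by_cases h1 : x = 1
      · exact Or.inl h1
      · exact Or.inr (orderOf_eq_prime (by rw [sq, hx]) h1)
    have hcm : ∀ s ∈ S, ∀ t ∈ S, s * s = 1 → t * t = 1 → s * t = t * s := by
      intro s hs t ht h1 h2
      rcases ho s h1 with rfl | h3
      · simp
      rcases ho t h2 with rfl | h4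
      · simp
      exact hcomm s hs t ht h3 h4
    let A : Subgroup G :=
      { carrier := {x | x ∈ S ∧ x * x = 1}
        one_mem' := ⟨one_mem _, by simp⟩
        mul_mem' := fun {a b} ha hb => ⟨mul_mem ha.1 hb.1, by
          have := hcm a ha.1 b hb.1 ha.2 hb.2
          calc a * b * (a * b) = a * (b * a) * b := by group
            _ = (a * a) * (b * b) := by rw [← this]; group
            _ = 1 := by rw [ha.2, hb.2, one_mul]⟩
        inv_mem' := fun {a} ha => ⟨inv_mem ha.1, by rw [← mul_inv_rev, ha.2, inv_one]⟩ }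
    have hAS : A ≤ S := fun x hx => hx.1
    have hea : IsElementaryAbelian 2 A :=
      H43.ea_mk (fun a ha b hb => hcm a ha.1 b hb.1 ha.2 hb.2) (fun a ha => by rw [sq, ha.2])
    have hne : A ≠ ⊥ := by
      obtain ⟨k, hk⟩ := IsPGroup.iff_card.1 S.isPGroup'
      have hk0 : k ≠ 0 := by
        rintro rfl
        exact hS1 (card_eq_one.1 (by simpa using hk))
      obtain ⟨x, hx⟩ := exists_prime_orderOf_dvd_card' (G := S) 2 (hk ▸ dvd_pow_self 2 hk0)
      rw [← Subgroup.orderOf_coe] at hx
      intro hb
      have : (x : G) ∈ A := ⟨x.2, by have := pow_orderOf_eq_one (x : G); rwa [hx, sq] at this⟩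
      rw [hb, mem_bot] at this
      rw [this, orderOf_one] at hx
      exact absurd hx (by decide)
    have hsc : Gold.SC A ⊤ := (Gold.sc_top_iff S hAS).2 ⟨hAS, fun x hx g hg =>
      ⟨hg, by
        calc g * x * g⁻¹ * (g * x * g⁻¹) = g * (x * x) * g⁻¹ := by group
          _ = 1 := by rw [hx.2]; group⟩⟩
    rcases Gold.gs_top hG A hea hne hsc with ⟨T, hT⟩ | hT
    · exact H4.out_solvable_of_isBender
        (H14.BSE.isBender_of_simple_se (H14.BSE.not_comm_of hG) hT.se)
    · have hAe : (S : Subgroup G) = A := hT.syl.max S hAS le_top S.isPGroup'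
      have hidx : (frattini S).index ∣ Nat.card A := by
        rw [← hAe]; exact index_dvd_card _
      rcases hT.card with h4 | h8
      · exact H4.out_solvable_of S hfix (H4.range_autRes_solvable_four S (by rwa [h4] at hidx))
      · have : ∃ a ∈ A, ∃ b ∈ A, a ≠ 1 ∧ b ≠ 1 ∧ a ≠ b := by
          have h3 : 2 < (A : Set G).ncard := by
            rw [← Nat.card_coe_set_eq]
            change 2 < Nat.card A
            omega
          obtain ⟨x, y, z, hx, hy, hz, h1, h2, h3⟩ := (Set.two_lt_ncard_iff (Set.toFinite _)).1 h3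
          by_cases hx1 : x = 1
          · exact ⟨y, hy, z, hz, fun h => h1 (hx1.trans h.symm), fun h => h2 (hx1.trans h.symm), h3⟩
          by_cases hy1 : y = 1
          · exact ⟨x, hx, z, hz, hx1, fun h => h3 (hy1.trans h.symm), h2⟩
          · exact ⟨x, hx, y, hy, hx1, hy1, h1⟩
        obtain ⟨a, ha, b, hb, ha1, hb1, hab⟩ := this
        obtain ⟨g, hg, hgo, hgab⟩ := Gold.type_trans (Or.inr hT) ha ha1 hb hb1
        refine H4.out_solvable_of S hfix (H4.range_autRes_solvable_eight S (by rwa [h8] at hidx)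
          (g := g) (by rw [hAe]; exact hg.2) hgo (fun hc => hab ?_))
        rw [← hgab, ← mem_centralizer_iff.1 hc a (hAS ha), mul_inv_cancel_right]

end Cfsg.Agent.S3066
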