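import Cfsg.Statements.S3067
import Mathlib
import Cfsg.Agent.Lib.Cop.Pet3


set_option autoImplicit false
open Cfsg

namespace Cfsg.Agent.S3067


/-- Let G be a finite non-abelian simple group, τ an involution of G, and α a nontrivial automorphism of G whose order is coprime to the order of G. Then α moves some element of the centralizer of τ: α does not fix C_G(τ) elementwise. -/
theorem result {G : Type*} [Group G] [Finite G] [IsSimpleGroup G]
    (hG : ¬ IsMulCommutative G) (τ : G) (hτ : orderOf τ = 2) (α : MulAut G) (hα : α ≠ 1)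
    (hcop : (orderOf α).Coprime (Nat.card G)) :
    ∃ c ∈ Subgroup.centralizer ({τ} : Set G), α c ≠ c := by
  classical
  by_contra hcon
  push Not at hcon
  haveI : Finite (MulAut G) := Finite.of_injective (fun f : MulAut G => (f : G → G)) DFunLike.coe_injective
  have hm : orderOf α ≠ 1 := fun e => hα (orderOf_eq_one_iff.1 e)
  obtain ⟨r, hr, hd⟩ := Nat.exists_prime_and_dvd hm
  haveI : Fact r.Prime := ⟨hr⟩
  set β := α ^ (orderOf α / r) with hβ
  have hβr : orderOf β = r := orderOf_pow_orderOf_div (orderOf_pos α).ne' hd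
  have hrG : ¬ r ∣ Nat.card G := fun h =>
    hr.one_lt.ne' (Nat.eq_one_of_dvd_coprimes hcop hd h)
  obtain ⟨t1, t2⟩ := H42.BSE.sq_of_orderOf hτ
  have hfix : ∀ γ ∈ Subgroup.zpowers α, ∀ x : G, x * τ = τ * x → γ x = x := by
    intro γ hγ x hx
    have : Subgroup.zpowers α ≤ MulAction.stabilizer (MulAut G) x :=
      Subgroup.zpowers_le.2 (hcon x (H45.mem_cent1_iff.2 hx))
    exact this hγ
  have hβα : Subgroup.zpowers β ≤ Subgroup.zpowers α :=
    Subgroup.zpowers_le.2 (Subgroup.pow_mem _ (Subgroup.mem_zpowers α) _)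
  let B := Subgroup.zpowers β
  have hB : Nat.card B = r := by rw [Nat.card_zpowers, hβr]
  let Γ := G ⋊[B.subtype] B
  have hΓ : Nat.card Γ = Nat.card G * r := by rw [SemidirectProduct.card, hB]
  haveI : Finite Γ := Nat.finite_of_card_ne_zero (by
    rw [hΓ]; exact Nat.mul_ne_zero Nat.card_pos.ne' hr.ne_zero)
  let e : B ≃* Multiplicative (ZMod r) := mulEquivOfPrimeCardEq hB (by simp)
  let b : B := ⟨β, Subgroup.mem_zpowers β⟩
  have hb : orderOf b = r := by rw [← Subgroup.orderOf_coe]; exact hβr
  have hb1 : b ≠ 1 := fun h => hr.one_lt.ne' (by rw [← hb, h, orderOf_one])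
  have H : H24.Cop.CH r (e.toMonoidHom.comp SemidirectProduct.rightHom) (SemidirectProduct.inr b : Γ)
      (SemidirectProduct.inl τ) := by
    refine ⟨⟨hr, ?_, ?_, ?_, ?_⟩, ?_, ?_, ?_⟩
    · rintro rfl
      exact hrG (hτ ▸ orderOf_dvd_natCard τ)
    · rw [orderOf_injective _ SemidirectProduct.inr_injective, hb]
    · rw [hΓ, pow_two]
      exact fun h => hrG (Nat.dvd_of_mul_dvd_mul_right hr.pos h)
    · simpa using hb1
    · exact fun h => t1 (SemidirectProduct.inl_injective (h.trans (map_one _).symm))
    · rw [← map_mul, t2, map_one]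
    · intro g hg
      have h1 := congrArg SemidirectProduct.left hg
      simp only [SemidirectProduct.mul_left, SemidirectProduct.left_inl, SemidirectProduct.right_inl,
        map_one, MulAut.one_apply, Subgroup.coe_subtype] at h1
      rw [hfix _ (hβα g.right.2) τ rfl] at h1
      ext
      · simp only [SemidirectProduct.mul_left, SemidirectProduct.left_inr, SemidirectProduct.right_inr,
          map_one, mul_one, one_mul, Subgroup.coe_subtype]
        exact (hfix _ (hβα b.2) _ h1).symm
      · simp only [SemidirectProduct.mul_right, SemidirectProduct.right_inr]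
        rw [show g.right * b = b * g.right from e.injective (by rw [map_mul, map_mul, mul_comm])]
  obtain ⟨N, hN, hodd, hbN⟩ := H.odd
  rcases (hN.comap (SemidirectProduct.inl : G →* Γ)).eq_bot_or_eq_top with h | h
  · refine hb1 (Subtype.ext (MulEquiv.ext fun x => ?_))
    have h1 : x * (β x)⁻¹ ∈ N.comap (SemidirectProduct.inl : G →* Γ) := by
      have := N.mul_mem (hN.conj_mem _ hbN (SemidirectProduct.inl x)) (N.inv_mem hbN)
      rw [Subgroup.mem_comap]
      convert this using 1
      ext <;> simp [b]
    rw [h, Subgroup.mem_bot, mul_inv_eq_one] at h1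
    exact h1.symm
  · have h1 : (SemidirectProduct.inl τ : Γ) ∈ N := by
      rw [← Subgroup.mem_comap, h]; trivial
    have := H42.BSE.FourA.odd_orderOf_of_mem hodd h1
    rw [H42.BSE.orderOf_two H.t1 H.t2] at this
    exact absurd this (by decide)

end Cfsg.Agent.S3067
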