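import Cfsg.Statements.S3068
import Mathlib
import Cfsg.Agent.Base
import Cfsg.Agent.Lib.Lin35.JGrp
import Cfsg.Agent.Lib.Lin35.TateG
import Cfsg.Agent.Lib.KInf.Transport
import Cfsg.Agent.Lib.KInf.Iter
import Cfsg.Agent.Lib.KInf.Chief
import Cfsg.Agent.Lib.Fusion.Sparse
import Cfsg.Agent.S1972
import Cfsg.Agent.S0093

set_option autoImplicit false
open Cfsg

namespace Cfsg.Agent.S3068

open Subgroup in
/-- If `J(S)` is not normal, some element of `S` outside `O_p(G)` has degree at most six on the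
chief factors below `O_p(G)`. -/
theorem engel {G : Type*} [Group G] [Finite G] {p : ℕ} [hp : Fact p.Prime] (hp2 : p ≠ 2)
    (S : Sylow p G) (hJ : ¬ (thompsonSubgroupAOf (S : Subgroup G)).Normal) :
    ∃ g : G, g ∈ (S : Subgroup G) ∧ g ∉ pCore p G ∧ ∀ U V : Subgroup G, IsChiefFactor U V →
      U ≤ pCore p G → iterCommutator U (zpowers g) 6 ≤ V := by
  have hTp : IsPGroup p (pCore p G) := H1.isPGroup_pCore
  set T := pCore p G with hT
  have hTS : T ≤ S := hTp.le_sylow_of_normal S
  have h1 : ∃ A ∈ H24.maxAb (S : Subgroup G), ¬ A ≤ T := by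
    by_contra hno
    push Not at hno
    rw [← H24.thompsonSubgroupAOf_eq_of_le (H24.thompsonSubgroupAOf_le_iff.mpr hno) hTS] at hJ
    exact hJ (H24.thompsonSubgroupAOf_normal T)
  obtain ⟨A, ⟨hA, hAT⟩, hmin⟩ := Set.exists_min_image
    {A | A ∈ H24.maxAb (S : Subgroup G) ∧ ¬ A ≤ T} (fun A => Nat.card (A ⊔ T : Subgroup G))
    (Set.toFinite _) h1
  obtain ⟨hAS, hAc, hAmax⟩ := H24.mem_maxAb.mp hA
  have hATS : A ⊔ T ≤ S := sup_le hAS hTS
  have hst : ∀ Q : Subgroup G, Q.Normal → Q ≤ T → ⁅Q, Q⁆ ≤ centralizer (Q : Set G) →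
      H35L.JT.St A T Q := fun Q _ hQT hQ2 =>
    { odd := by
        obtain ⟨k, hk⟩ := IsPGroup.iff_card.mp (hTp.to_le hQT)
        rw [hk]
        exact (hp.out.odd_of_ne_two hp2).pow
      nilp := (S.isPGroup'.to_le hATS).isNilpotent
      nT := le_normalizer_of_normal
      nQ := le_normalizer_of_normal
      QT := hQT
      c2 := fun x y => mem_center_iff.mpr fun z =>
        Subtype.ext (hQ2 (commutator_mem_commutator x.2 y.2) z z.2)
      max := fun W hW hWc => hAmax W (hW.trans hATS) hWc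
      min := fun W hW hWc hc => by
        by_cases hWT : W ≤ T
        · exact Or.inl hWT
        · refine Or.inr (le_sup_left.trans (eq_of_le_of_card_ge (sup_le hW le_sup_right)
            (hmin W ⟨H24.mem_maxAb.mpr ⟨hW.trans hATS, hWc, fun B hB hBc =>
              (hAmax B hB hBc).trans hc⟩, hWT⟩)).ge) }
  obtain ⟨H, hHc, -, hH2, hH3⟩ := Cfsg.Agent.S0093.result hTp
  set Q := H.map T.subtype with hQ
  have hQT : Q ≤ T := map_subtype_le H
  have hQn : Q.Normal := inferInstance
  have htop : (⊤ : Subgroup T).map T.subtype = T := by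
    rw [← MonoidHom.range_eq_map, range_subtype]
  have hQ3 : ⁅T, Q⁆ ≤ Q ⊓ centralizer (Q : Set G) := by
    have := map_mono (f := T.subtype) hH2
    rwa [map_commutator, H24.map_inf_centralizer T.subtype_injective, htop,
      commutator_comm] at this
  have hQ4 : T ⊓ centralizer (Q : Set G) ≤ Q := by
    rintro x ⟨hxT, hx⟩
    exact ⟨⟨x, hxT⟩, hH3 fun y hy => Subtype.ext (hx y ⟨y, hy, rfl⟩), rfl⟩
  have hQ2 : ⁅Q, Q⁆ ≤ centralizer (Q : Set G) :=
    (commutator_mono hQT le_rfl).trans (hQ3.trans inf_le_right)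
  set Z := Q ⊓ centralizer (Q : Set G) with hZ
  have hZZ : Z ≤ centralizer (Z : Set G) := inf_le_right.trans (centralizer_le inf_le_left)
  have hZT : Z ≤ T := inf_le_left.trans hQT
  have h4 := (hst Q hQn hQT hQ2).quartic (hQ3.trans inf_le_right)
  have hZ3 : ∀ U V : Subgroup G, IsChiefFactor U V → U ≤ Z → iterCommutator U A 3 ≤ V :=
    fun U V hUV hU => by
      have := hUV.2.2.1
      refine (hst Z inferInstance hZT ((commutator_le_left _ _).trans hZZ)).cubic hZZ hU ?_
      rw [commutator_comm]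
      exact H57.commutator_le_of_chief hUV (hTp.to_le (hU.trans hZT)) hTp
  obtain ⟨g, hgA, hgT⟩ := SetLike.not_le_iff_exists.mp hAT
  refine ⟨g, hAS hgA, hgT, fun U V hUV hU => (H57.iter_mono le_rfl (zpowers_le.mpr hgA) 6).trans ?_⟩
  refine H57.iter_chief_bound (i := 4) (j := 3) hTp hQT hZT hQ3 hQ4 (by norm_num) ?_ hZ3 hUV hU
  intro U V hUV hU
  have := hUV.2.1
  have := hUV.2.2.1
  rcases H57.chief_dichotomy hUV Z with e | e
  · exact (le_inf (H57.iter_le_self _ _ _) ((H57.iter_mono hU le_rfl 4).trans h4)).trans e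
  · have h5 := hZ3 _ _ (H57.chief_of_cover hUV e) inf_le_right
    rw [← e]
    refine (H57.iter_sup_normal_le _ _ _ _).trans (sup_le ?_ le_rfl)
    exact H57.iter_le_of_le (i := 3) le_normalizer_of_normal (h5.trans inf_le_right) (by norm_num)

/-- Let p ≥ 7 be a prime, S a Sylow p-subgroup of the finite group G, J(S) the subgroup generated by the abelian subgroups of S of largest order and M = N_G(J(S)). Then G/O^p(G) ≅ M/O^p(M): the largest p-factor group of G is that of M (here O^p(X) is the subgroup generated by the elements of X of order prime to p). -/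
theorem result {G : Type*} [Group G] [Finite G] {p : ℕ} [Fact p.Prime]
    (hp : 7 ≤ p) (S : Sylow p G)
    [hn : (Cfsg.pResidual p G).Normal]
    [hm : (Cfsg.pResidual p ↥(Subgroup.normalizer (Cfsg.thompsonSubgroupAOf (S : Subgroup G) : Set G))).Normal] :
    Nonempty (G ⧸ Cfsg.pResidual p G ≃*
      ↥(Subgroup.normalizer (Cfsg.thompsonSubgroupAOf (S : Subgroup G) : Set G)) ⧸
        Cfsg.pResidual p ↥(Subgroup.normalizer (Cfsg.thompsonSubgroupAOf (S : Subgroup G) : Set G))) := by
  have hc : ControlsTransferIn p (inducedFunctor (G := G) (fun Q _ => thompsonSubgroupA Q)) ⊤ := by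
    refine H57.controlsTransferIn_equiv (H92.isCharPFunctor_J p) (H57.topBotEquiv G) ?_
    refine Cfsg.Agent.S1972.result _ (H92.isCharPFunctor_J p) ?_ ⊤ ⊥
    intro K R _ _ T hT
    obtain ⟨g, h1, h2, h3⟩ := engel (by omega) T hT
    refine ⟨g, h1, h2, fun U V hUV hU => ?_⟩
    have := hUV.2.2.1
    exact H57.iter_le_of_le Subgroup.le_normalizer_of_normal (h3 U V hUV hU) (by omega)
  obtain ⟨T, -, hTp, hTi, hT⟩ := hc
  rw [Subgroup.relIndex_top_right] at hTi
  obtain ⟨g, hg⟩ := MulAction.exists_smul_eq G (hTp.toSylow hTi) S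
  have hS : (S : Subgroup G) = T.map (MulAut.conj g).toMonoidHom := by
    rw [← hg]; rfl
  refine H35L.tate_equiv S (Subgroup.le_normalizer.trans
    (H24.normalizer_le_normalizer_thompsonSubgroupAOf _)) ?_
  have h1 := congrArg (Subgroup.map (MulAut.conj g).toMonoidHom) hT
  rw [Subgroup.map_inf _ _ _ (MulAut.conj g).injective,
    Subgroup.map_inf _ _ _ (MulAut.conj g).injective, Subgroup.map_commutator,
    Subgroup.map_commutator, Subgroup.map_top_of_surjective _ (MulAut.conj g).surjective,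
    top_inf_eq, Subgroup.map_equiv_normalizer_eq, H92.iF_J,
    H24.map_thompsonSubgroupAOf (MulAut.conj g).injective, ← hS] at h1
  exact h1.le.trans inf_le_right

end Cfsg.Agent.S3068
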