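import Mathlib
import Cfsg.Statements.S3091
import Cfsg.Agent.Lib.TI2.L3f
-- import your own Cfsg.Agent.* helpers here

set_option autoImplicit false
open Cfsg

namespace Cfsg.Agent.S3091

/-- Let G be a finite group of characteristic 2 type and q = 2ᵉ > 2, F the field with q elements. Let L₁ ≠ L₂ be subgroups of G such that, for i = 1, 2, V_i = O₂(L_i) is elementary abelian with L_i/V_i ≅ SL(2, q) acting on V_i as on its natural 2-dimensional module F² (an additive isomorphism V_i ≅ F² carrying conjugation by g ∈ L_i to multiplication by the matrix of gV_i), and such that J = V₁V₂ is a Sylow 2-subgroup of both L₁ and L₂. Assume that N_G(L₁) and N_G(L₂) are maximal 2-local subgroups of G and that, for a Sylow 2-subgroup T of N_G(L₁), the subgroup generated by T, L₁ and L₂ has no nontrivial normal 2-subgroup. Then G has sectional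 2-rank at most 4, or F*(G) ≅ L₃(q). -/
theorem result
    {G : Type*} [Group G] [Finite G] (hG : Cfsg.IsCharacteristicTwoType G)
    {F : Type*} [Field F] [Fintype F] (e : ℕ) (he : 2 ≤ e) (hF : Fintype.card F = 2 ^ e)
    (L₁ L₂ : Subgroup G) (hne : L₁ ≠ L₂)
    (φ₁ : ↥L₁ ⧸ Cfsg.pCore 2 ↥L₁ ≃* Matrix.SpecialLinearGroup (Fin 2) F)
    (ψ₁ : Additive ↥(Cfsg.pCore 2 ↥L₁) ≃+ (Fin 2 → F))
    (h₁ : ∀ (g : ↥L₁) (v : ↥(Cfsg.pCore 2 ↥L₁)),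
      ψ₁ (Additive.ofMul ⟨g * v * g⁻¹, Subgroup.Normal.conj_mem inferInstance (v : ↥L₁) v.2 g⟩)
        = Matrix.mulVec ((φ₁ (QuotientGroup.mk g) : Matrix.SpecialLinearGroup (Fin 2) F) : Matrix (Fin 2) (Fin 2) F) (ψ₁ (Additive.ofMul v)))
    (φ₂ : ↥L₂ ⧸ Cfsg.pCore 2 ↥L₂ ≃* Matrix.SpecialLinearGroup (Fin 2) F)
    (ψ₂ : Additive ↥(Cfsg.pCore 2 ↥L₂) ≃+ (Fin 2 → F))
    (h₂ : ∀ (g : ↥L₂) (v : ↥(Cfsg.pCore 2 ↥L₂)),
      ψ₂ (Additive.ofMul ⟨g * v * g⁻¹, Subgroup.Normal.conj_mem inferInstance (v : ↥L₂) v.2 g⟩)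
        = Matrix.mulVec ((φ₂ (QuotientGroup.mk g) : Matrix.SpecialLinearGroup (Fin 2) F) : Matrix (Fin 2) (Fin 2) F) (ψ₂ (Additive.ofMul v)))
    (hJ₁ : ∃ S : Sylow 2 ↥L₁, (S : Subgroup ↥L₁).map L₁.subtype = (Cfsg.pCore 2 ↥L₁).map L₁.subtype ⊔ (Cfsg.pCore 2 ↥L₂).map L₂.subtype)
    (hJ₂ : ∃ S : Sylow 2 ↥L₂, (S : Subgroup ↥L₂).map L₂.subtype = (Cfsg.pCore 2 ↥L₁).map L₁.subtype ⊔ (Cfsg.pCore 2 ↥L₂).map L₂.subtype)
    (hM₁ : Cfsg.IsMaximalTwoLocal (Subgroup.normalizer (L₁ : Set G))) (hM₂ : Cfsg.IsMaximalTwoLocal (Subgroup.normalizer (L₂ : Set G)))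
    (T : Sylow 2 ↥(Subgroup.normalizer (L₁ : Set G)))
    (hO : Cfsg.pCore 2 ↥(((T : Subgroup ↥(Subgroup.normalizer (L₁ : Set G))).map (Subgroup.normalizer (L₁ : Set G)).subtype) ⊔ L₁ ⊔ L₂) = ⊥) :
    Cfsg.SectionalPRankLE 2 4 G ∨
      Nonempty (↥(Cfsg.generalizedFittingSubgroup G) ≃* Matrix.ProjectiveSpecialLinearGroup (Fin 3) F) := by
  obtain ⟨ρ₁, χ₁, n₁⟩ := H23.L3.exists_N2 L₁ φ₁ ψ₁ h₁
  obtain ⟨ρ₂, χ₂, n₂⟩ := H23.L3.exists_N2 L₂ φ₂ ψ₂ h₂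
  have h2 : (2 : F) = 0 := H32.two_eq_zero_of_card (n := e) hF
  obtain ⟨S₁, e₁⟩ := hJ₁
  obtain ⟨S₂, e₂⟩ := hJ₂
  have s₁ : H69.IsSylowIn 2 (pCoreOf 2 L₁ ⊔ pCoreOf 2 L₂) L₁ :=
    (show _ = pCoreOf 2 L₁ ⊔ pCoreOf 2 L₂ from e₁) ▸ H69.isSylowIn_map_subtype S₁
  have s₂ : H69.IsSylowIn 2 (pCoreOf 2 L₂ ⊔ pCoreOf 2 L₁) L₂ := sup_comm (pCoreOf 2 L₁) _ ▸
    (show _ = pCoreOf 2 L₁ ⊔ pCoreOf 2 L₂ from e₂) ▸ H69.isSylowIn_map_subtype S₂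
  obtain ⟨b₁, _, _, _, k⟩ := n₁.nb h2 (fun _ => n₂.sq h2) ((le_sup_right.trans s₂.le).trans n₂.nrm) s₁
  obtain ⟨b₂, -⟩ := n₂.nb h2 (fun _ => n₁.sq h2) ((le_sup_right.trans s₁.le).trans n₁.nrm) s₂
  have m₁ := hM₁.2 _ ⟨_, b₁.pA, fun c => b₁.neA (c ▸ bot_le), rfl⟩
    (H70.normalizer_le_normalizer_pCoreOf 2 L₁)
  have m₂ := hM₂.2 _ ⟨_, b₂.pA, fun c => b₂.neA (c ▸ bot_le), rfl⟩
    (H70.normalizer_le_normalizer_pCoreOf 2 L₂)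
  rw [← Nat.card_eq_fintype_card] at hF
  have h := H23.L3.mk_cf hG (hF ▸ (Nat.pow_le_pow_right two_pos he).trans_lt' (by norm_num)) b₁ b₂ k
    m₁.le m₂.le s₁ s₂ (m₁.symm ▸ H69.isSylowIn_map_subtype T) (H69.pCoreOf_eq_bot_iff.2 hO)
  rcases he.eq_or_lt with rfl | he
  · exact Or.inl (h.four hF)
  · exact Or.inr (h.psl3 (hF ▸ Nat.pow_le_pow_right two_pos he) hG)

end Cfsg.Agent.S3091
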