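import Cfsg.Statements.S3095
import Cfsg.Agent.Lib.StdV.Fin
-- import your own Cfsg.Agent.* helpers here

set_option autoImplicit false
open Cfsg

namespace Cfsg.Agent.S3095

/-- Let G be a finite group whose generalized Fitting subgroup is a non-abelian simple group. Then no standard subgroup of G is isomorphic to the O'Nan group, to the Held group or to the sporadic Suzuki group. -/
theorem result {G : Type*} [Group G] [Finite G]
    (hF : IsSimpleGroup ↥(Cfsg.generalizedFittingSubgroup G)) (hF' : ¬ IsMulCommutative ↥(Cfsg.generalizedFittingSubgroup G))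
    (A : Subgroup G) (hA : Cfsg.IsStandardSubgroup A) :
    ¬ (Cfsg.Spor.IsoON ↥A ∨ Cfsg.Spor.IsoHe ↥A ∨ Cfsg.Spor.IsoSuz ↥A) := by
  exact H36.SV.no_std3 hF hF' hA

end Cfsg.Agent.S3095
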