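import Cfsg.Statements.S3110
import Mathlib
import Cfsg.Agent.Lib.CompW.Key2
import Cfsg.Agent.Lib.CompW.KeyFT
import Cfsg.Agent.Lib.CompW.Scn

set_option autoImplicit false
open Cfsg

namespace Cfsg.Agent.S3110

/-- Let G be a finite group in which every 2-local subgroup is 2-constrained and some Sylow 2-subgroup has a self-centralizing abelian normal subgroup of 2-rank at least 3, and let S be any Sylow 2-subgroup of G. Then there is a subgroup W of G of odd order such that, for every subgroup B of S of 2-rank at least 2, W is generated by the largest normal odd-order subgroups O(C_G(b)) of the centralizers of the non-identity elements b of B, and W is normalized by the normalizer of every such B. -/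
theorem result {G : Type*} [Group G] [Finite G]
    (h2c : ∀ T : Subgroup G, IsPGroup 2 T → T ≠ ⊥ → Cfsg.IsPConstrained 2 ↥(Subgroup.normalizer (T : Set G)))
    (S : Sylow 2 G) (A : Subgroup ↥(S : Subgroup G)) (hAn : A.Normal) (hAab : IsMulCommutative ↥A)
    (hAC : Subgroup.centralizer (A : Set ↥(S : Subgroup G)) = A) (hA3 : ¬ Cfsg.PRankLE 2 2 ↥A) (S' : Sylow 2 G) :
    ∃ W : Subgroup G, Odd (Nat.card ↥W) ∧
      ∀ B : Subgroup G, B ≤ (S' : Subgroup G) → ¬ Cfsg.PRankLE 2 1 ↥B →
        W = (⨆ b : {b : G // b ∈ B ∧ b ≠ 1}, Cfsg.centralizerPPrimeCore 2 (b : G)) ∧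
        Subgroup.normalizer (B : Set G) ≤ Subgroup.normalizer (W : Set G) := by

  have hL : ∀ t : G, orderOf t = 2 → Cfsg.pLayerOf 2 (Subgroup.centralizer ({t} : Set G)) = ⊥ :=
    fun t ht => H3.CW.pLayerOf_centralizer_of_locals h2c ht
  have hθ := H3.CW.gsf_core_two (H3.CW.sft2 G) (fun t _ => (H3.CW.ft G).coreOf _) hL
  have hc : H3.CW.Conn (S' : Subgroup G) :=
    (H3.CW.conn_of_normal_abelian S.isPGroup' A hAn hAab hA3).of_sylow (H68.sylowIn_top S)
      (H68.sylowIn_top S')
  obtain ⟨W, hW⟩ := hc.exists_isW hθ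
  refine ⟨W, Nat.odd_iff.2 (Nat.two_dvd_ne_zero.1 hW.not_dvd), fun B hB hr => ?_⟩
  obtain ⟨E, hEB, hE⟩ := H3.CW.exists_eak_of_not_pRankLE hr
  refine ⟨le_antisymm ?_ ?_, hW.normalizer_le hB hEB hE⟩
  · rw [← hW.eq E (hEB.trans hB) hE]
    refine H43.closure_le fun a ha h1 => ?_
    exact le_iSup (fun b : {b : G // b ∈ B ∧ b ≠ 1} => Cfsg.centralizerPPrimeCore 2 (b : G))
      ⟨a, hEB ha, h1⟩
  · refine iSup_le ?_
    rintro ⟨b, hb, h1⟩
    have h2 : Subgroup.zpowers b ≤ (S' : Subgroup G) := Subgroup.zpowers_le_of_mem (hB hb)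
    obtain ⟨t, ht, ht2, h3⟩ := H3.CW.exists_coreOf_centralizer_le hL (S'.isPGroup'.to_le h2) h1
    exact h3.trans ((hW.inf_centralizer hc S'.isPGroup' (h2 ht) ht2).ge.trans inf_le_left)

end Cfsg.Agent.S3110
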