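import Cfsg.Statements.S3229
import Mathlib
import Cfsg.Agent.Base
import Cfsg.Agent.Lib.Co3M.End
import Cfsg.Agent.Lib.Co3M.Wr
import Cfsg.Agent.Lib.Co3M.CA

set_option autoImplicit false
open Cfsg

namespace Cfsg.Agent.S3229

/-- Let G be a finite group with an involution e such that C_G(e) ≅ Z₂ × M₁₂ and e lies in O²(G) (the subgroup generated by the elements of odd order). Then G is isomorphic to the third Conway group Co₃. -/
theorem result {G : Type*} [Group G] [Finite G]
    (e : G) (he : orderOf e = 2) (hC : Nonempty (↥(Subgroup.centralizer ({e} : Set G)) ≃* (Multiplicative (ZMod 2) × ↥Cfsg.Spor.M12)))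
    (hO : e ∈ Cfsg.pResidual 2 G) : Cfsg.Spor.IsoCo3 G := by
  obtain ⟨a, b, s, u, x, y, F⟩ := H30.CM.exists_frame he hC
  obtain ⟨p, q, μ, hμ, κ, hκ, hP⟩ := F.exists_pq hO
  simp only [List.mem_cons, List.not_mem_nil, or_false] at hμ hκ
  rcases hμ with rfl | rfl <;> rcases hκ with rfl | rfl
  · exact (H30.CM.not00 F hP hO).elim
  · exact (H30.CM.not01 F hP).elim
  · exact (H30.CM.not10 F hP).elim
  · obtain ⟨φ, x', y', C⟩ := H30.CM.exists_ca F hP
    exact C.co3

end Cfsg.Agent.S3229
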