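import Cfsg.Statements.S3122
import Mathlib
import Cfsg.Agent.Base
import Cfsg.Agent.S3229
import Cfsg.Agent.Lib.Transfer.Residual

set_option autoImplicit false
open Cfsg

namespace Cfsg.Agent.S3122

/-- Let G be a non-abelian finite simple group containing an involution t whose centralizer is isomorphic to the direct product of a group of order 2 and the Mathieu group of degree 12. Then G is isomorphic to the third Conway group. -/
theorem result {G : Type*} [Group G] [Finite G] [IsSimpleGroup G] (hG : ¬ IsMulCommutative G)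
    (t : G) (ht : orderOf t = 2)
    (hC : Nonempty (↥(Subgroup.centralizer ({t} : Set G)) ≃* Multiplicative (ZMod 2) × ↥Cfsg.Spor.M12)) :
    Cfsg.Spor.IsoCo3 G := by
  refine Cfsg.Agent.S3229.result t ht hC ?_
  obtain ⟨a, b, s, u, x, y, F⟩ := H30.CM.exists_frame ht hC
  have h3 : 3 ∣ Nat.card G :=
    (show 3 ∣ _ by rw [F.c1]; norm_num).trans (Subgroup.card_subgroup_dvd_card _)
  obtain ⟨z, hz⟩ := exists_prime_orderOf_dvd_card' 3 h3
  have hz' : z ∈ Cfsg.pResidual 2 G := Subgroup.subset_closure (by
    show Nat.Coprime (orderOf z) 2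
    rw [hz]; norm_num)
  rcases (H4.pResidual_normal 2 G).eq_bot_or_eq_top with h | h
  · rw [h, Subgroup.mem_bot] at hz'
    rw [hz', orderOf_one] at hz
    exact absurd hz (by norm_num)
  · exact h.ge (Subgroup.mem_top t)

end Cfsg.Agent.S3122
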