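import Cfsg.Statements.S3143
import Cfsg.Agent.Lib.StdJ.Main

set_option autoImplicit false
open Cfsg

namespace Cfsg.Agent.S3143

/-- Let G be a finite group with no nontrivial normal subgroup of odd order and A a standard subgroup of G isomorphic to the fourth Janko group. Then either A is normal in G or the normal closure of A in G is isomorphic to A × A. -/
theorem result {G : Type*} [Group G] [Finite G] (hO : Cfsg.oddCore G = ⊥) (A : Subgroup G) (hA : Cfsg.IsStandardSubgroup A)
    (hAX : Cfsg.Spor.IsoJ4 ↥A) :
    A.Normal ∨ Nonempty (↥(Subgroup.normalClosure (A : Set G)) ≃* ↥A × ↥A) := by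
  exact H59.SJ.stdJ4 hO hA hAX

end Cfsg.Agent.S3143
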