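import Mathlib
import Cfsg.Statements.S3192
import Cfsg.Agent.Lib.CIT.Cls4
import Cfsg.Agent.Lib.GL.Simple

set_option autoImplicit false
open Cfsg

namespace Cfsg.Agent.S3192


/-- Simple groups of conjugate type rank three. For a finite group G consider the set of indices of the centralizers of the non-central elements of G. Then G is a non-abelian simple group for which this set has exactly three members if and only if G is isomorphic to PSL(2, 2^m) for some m ≥ 2. -/
theorem result (G : Type*) [Group G] [Finite G] :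
    (IsSimpleGroup G ∧ ¬ IsMulCommutative G ∧
        Set.ncard {m : ℕ | ∃ x : G, x ∉ Subgroup.center G ∧ m = (Subgroup.centralizer ({x} : Set G)).index} = 3) ↔
      ∃ (m : ℕ) (F : Type) (_ : Field F) (_ : Fintype F), 2 ≤ m ∧ Fintype.card F = 2 ^ m ∧
        Nonempty (G ≃* Matrix.ProjectiveSpecialLinearGroup (Fin 2) F) := by
  rw [H32.sizes_eq]
  constructor
  · rintro ⟨_, h1, h2⟩
    obtain ⟨F, _, _, n, hn, hF, e⟩ := H32.psl2_of_three (H32.center_eq_bot_of_simple h1) h2.le
      (H32.not_solvable_of_simple' h1)
    exact ⟨n, F, inferInstance, inferInstance, hn, hF, e⟩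
  · rintro ⟨m, F, _, _, hm, hF, ⟨e⟩⟩
    haveI := H10.isSimpleGroup_PSL_fin (F := F) 2 le_rfl fun _ => by
      rw [Nat.card_eq_fintype_card, hF]
      exact Nat.pow_le_pow_right (by norm_num : 0 < 2) hm
    have h : (H32.sizes G).ncard = 3 := by
      rw [H32.sizes_equiv (e.trans (H64.SL2.projEquiv (H32.two_eq_zero_of_card hF)).symm)]
      exact H32.ncard_sizes_sl2 hm hF
    exact ⟨e.isSimpleGroup, H32.not_comm_of_sizes h, h⟩

end Cfsg.Agent.S3192
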