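import Cfsg.Statements.S3197
import Cfsg.Agent.Lib.SylT.GoldCor
import Cfsg.Agent.Lib.SylT.A5Mod

set_option autoImplicit false
open Cfsg

namespace Cfsg.Agent.S3197

open Subgroup H69 H45 Gold H55.SylT

universe u

theorem aux {G : Type u} [Group G] [Finite G] (S : Sylow 2 G) (P : Sylow 2 A8)
    (hS : Nonempty (↥(S : Subgroup G) ≃* ↥(P : Subgroup A8)))
    (h3 : Nat.card {c : ConjClasses G // ∃ x ∈ c.carrier, orderOf x = 2} = 3)
    (A : Subgroup G) (hA : IsElementaryAbelian 2 A) (hA16 : Nat.card ↥A = 16)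
    (φ : 𝐍(A) →* A5) (hφ : Function.Surjective φ)
    (hk : ∀ n : 𝐍(A), φ n = 1 ↔ (n : G) ∈ A ⊔ Od 𝐍(A)) : (A ⊔ pPrimeCore 2 G).Normal := by
  obtain ⟨eS⟩ := hS
  have hO : OddS (Od 𝐍(A)) := Od_odd _
  have hMC : A ⊔ Od 𝐍(A) ≤ 𝐂(A) := sup_le (ea_cent hA)
    (le_centralizer_of_norm_of_inf_eq_bot (Od_le _) (le_normalizer.trans (le_norm_Od _))
      (hO.inf_eq_bot (ea2 hA)))
  have hM2 : ∀ x ∈ A ⊔ Od 𝐍(A), El2 x → x ∈ A := fun x hx h => mem_of_el2 hO (Od_le _) hx h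
  -- a Sylow 2-subgroup of `G` between `A` and `N`
  obtain ⟨T0, hT0, hAT0⟩ := exists_isSylowIn_le (ea2 hA) (le_normalizer : A ≤ 𝐍(A))
  have hS64 : Nat.card (S : Subgroup G) = 64 := by
    rw [Nat.card_congr eS.toEquiv, card_sylow_A8]
  have h64 : 64 ∣ Nat.card 𝐍(A) := by
    have h1 := φ.ker.card_mul_index
    rw [index_ker, MonoidHom.range_eq_top.2 hφ, card_top, a5_card] at h1
    have h2 : 16 ∣ Nat.card φ.ker := by
      rw [← hA16, ← card_subgroupOf (le_normalizer : A ≤ 𝐍(A))]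
      exact card_dvd_of_le fun n hn => (hk n).2 (mem_sup_left hn)
    obtain ⟨k, hk'⟩ := h2
    exact ⟨k * 15, by rw [← h1, hk']; ring⟩
  have hT64 : 64 ≤ Nat.card T0 := by
    rw [hT0.card_eq_pow_factorization]
    have : 6 ≤ (Nat.card 𝐍(A)).factorization 2 :=
      (Nat.prime_two.pow_dvd_iff_le_factorization Nat.card_pos.ne').1 h64
    exact Nat.pow_le_pow_right (n := 2) (by norm_num) this
  obtain ⟨T, hT⟩ := ((isSylowIn_top S).of_card_le hT0.isP le_top (hS64 ▸ hT64)).exists_sylow_top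
  have hAT : A ≤ T := hT ▸ hAT0
  have hTN : (T : Subgroup G) ≤ 𝐍(A) := hT ▸ hT0.le
  -- the action is not trivial
  have hnt : ¬ 𝐍(A) ≤ 𝐂(A) := fun h => by
    have h1 := card_center_le P
    rw [← Nat.card_congr (Subgroup.centerCongr ((T.equiv S).trans eS)).toEquiv] at h1
    have h2 : A.subgroupOf T ≤ center (T : Subgroup G) := fun a ha =>
      mem_center_iff.2 fun t => Subtype.ext (h (hTN t.2) a ha).symm
    have := card_le_of_le h2
    rw [card_subgroupOf hAT] at this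
    omega
  have hker : φ.ker ≤ A.normalizerMonoidHom.ker := fun n hn => by
    rw [normalizerMonoidHom_ker]
    exact hMC ((hk n).1 hn)
  set ψ : A5 →* MulAut A := φ.liftOfSurjective hφ ⟨_, hker⟩ with hψ
  let _ : MulDistribMulAction A5 A := MulDistribMulAction.compHom A ψ
  have hact : ∀ (n : 𝐍(A)) (a : A), ((φ n • a : A) : G) = n * a * (n : G)⁻¹ := fun n a => by
    change ((ψ (φ n) a : A) : G) = _
    rw [hψ, MonoidHom.liftOfRightInverse_comp_apply]
    rfl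
  have hf : ∀ g : A5, (∀ v : A, g • v = v) → g = 1 := by
    rcases (inferInstance : ψ.ker.Normal).eq_bot_or_eq_top with e | e
    · intro g hg
      have : g ∈ ψ.ker := MulEquiv.ext hg
      rwa [e, mem_bot] at this
    · refine (hnt fun n hn a ha => ?_).elim
      have h1 : φ ⟨n, hn⟩ ∈ ψ.ker := e ▸ mem_top _
      have h2 := hact ⟨n, hn⟩ ⟨a, ha⟩
      have h3 : φ ⟨n, hn⟩ • (⟨a, ha⟩ : A) = ⟨a, ha⟩ := by
        change ψ (φ ⟨n, hn⟩) ⟨a, ha⟩ = _
        rw [MonoidHom.mem_ker.1 h1]; rfl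
      rw [h3] at h2
      exact eq_mul_inv_iff_mul_eq.1 h2
  have hcent : ∀ n : 𝐍(A), (n : G) ∈ 𝐂(A) → φ n = 1 := fun n hn => hf _ fun v =>
    Subtype.ext (by rw [hact, conj_eq_of_mem_centralizer hn v.2])
  have hc : ∀ a b : A, a * b = b * a := fun a b => Subtype.ext (ea_cent hA b.2 a a.2)
  have hsq : ∀ a : A, a * a = 1 := fun a => Subtype.ext (ea_sq hA a.2)
  -- involutions of `N` outside `A` are conjugate
  have hout : ∀ t ∈ 𝐍(A), t ∉ A → t * t = 1 → ∀ s ∈ 𝐍(A), s ∉ A → s * s = 1 → IsConj t s := by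
    have ne : ∀ t (ht : t ∈ 𝐍(A)), t ∉ A → t * t = 1 → φ ⟨t, ht⟩ ≠ 1 := fun t ht h1 h2 e =>
      h1 (hM2 t ((hk _).1 e) (El2.of_mul_self h2))
    have sq : ∀ t (ht : t ∈ 𝐍(A)), t * t = 1 → φ ⟨t, ht⟩ * φ ⟨t, ht⟩ = 1 := fun t ht h2 => by
      rw [← map_mul, ← φ.map_one]
      exact congrArg φ (Subtype.ext h2)
    intro t0 ht0 h01 h02 s hs hs1 hs2
    obtain ⟨h, hh⟩ := a5_invs _ (ne t0 ht0 h01 h02) (sq t0 ht0 h02) _ (ne s hs hs1 hs2) (sq s hs hs2)
    obtain ⟨n, rfl⟩ := hφ h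
    refine (isConj_iff.2 ⟨(n : G), rfl⟩).trans ?_
    set t := (n : G) * t0 * (n : G)⁻¹ with ht_def
    have ht : t ∈ 𝐍(A) := mul_mem (mul_mem n.2 ht0) (inv_mem n.2)
    have e1 : φ ⟨t, ht⟩ = φ ⟨s, hs⟩ := by
      rw [← hh, ← map_inv, ← map_mul, ← map_mul]; rfl
    have t2 : t * t = 1 := by rw [ht_def, conj_mul, h02]; group
    clear_value t
    have hm : s * t ∈ A ⊔ Od 𝐍(A) := (hk (⟨s, hs⟩ * ⟨t, ht⟩)).1 (by rw [map_mul, e1, sq s hs hs2])
    have ti : t⁻¹ = t := inv_eq_of_mul_eq_one_right t2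
    have hinv : ∀ x ∈ zpowers (s * t), t * x * t⁻¹ = x⁻¹ := by
      rintro _ ⟨k, rfl⟩
      have : t * (s * t) * t⁻¹ = (s * t)⁻¹ := by
        rw [mul_inv_rev, ti, inv_eq_of_mul_eq_one_right hs2, ← mul_assoc, mul_assoc, t2, mul_one]
      simp only
      rw [← conj_zpow, this, inv_zpow']
      simp
    obtain ⟨m1, hm1, m2, hm2, ho, h2, e⟩ := exists_parts (s * t)
    have hz : zpowers (s * t) ≤ A ⊔ Od 𝐍(A) := zpowers_le.2 hm
    have hm2A := hM2 m2 (hz hm2) h2
    obtain ⟨k, hk'⟩ := ho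
    have hu : m1 ^ (k + 1) * m1 ^ (k + 1) = m1 := by
      rw [← pow_add, show k + 1 + (k + 1) = orderOf m1 + 1 by omega, pow_succ,
        pow_orderOf_eq_one, one_mul]
    set u := m1 ^ (k + 1) with hu_def
    have huz : u ∈ zpowers (s * t) := pow_mem hm1 _
    clear_value u
    obtain ⟨b, hb⟩ := free hA16 hf hc hsq (e1 ▸ ne s hs hs1 hs2) (sq t ht t2) (a := ⟨m2, hm2A⟩)
      (Subtype.ext (by rw [hact, hinv m2 hm2, ea_inv hA hm2A]))
    have hb' : m2 = b * (t * b * t⁻¹) := by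
      have := congrArg Subtype.val hb
      rwa [Subgroup.coe_mul, hact] at this
    refine isConj_iff.2 ⟨u * b, ?_⟩
    have e2 : s = u * u * m2 * t := by rw [hu, ← e, mul_assoc, t2, mul_one]
    have e3 : u * m2 = m2 * u := (hMC (hz huz) m2 hm2A).symm
    have e4 : u * t = t * u⁻¹ := by rw [← hinv u huz, ti, ← mul_assoc, ← mul_assoc, t2, one_mul]
    calc u * b * t * (u * b)⁻¹ = u * (b * (t * (b : G)⁻¹ * t⁻¹)) * (t * u⁻¹) := by group
      _ = u * m2 * (u * t) := by rw [ea_inv hA b.2, ← hb', e4]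
      _ = s := by rw [e2, mul_assoc u u m2, ← mul_assoc, mul_assoc u m2 u, ← e3]
  -- `A` is strongly closed
  have hsc : SC A ⊤ := by
    refine (sc_top_iff T hAT).2 ⟨hAT, fun a ha g hg => ?_⟩
    by_contra hx
    obtain ⟨a1, a2, h12⟩ := orbits hA16 hf hc
    have hin : ∀ v ∈ A, v ≠ 1 → IsConj (a1 : G) v ∨ IsConj (a2 : G) v := fun v hv h1 => by
      obtain ⟨h, hh⟩ := h12 ⟨v, hv⟩ fun e => h1 (congrArg Subtype.val e)
      obtain ⟨n, rfl⟩ := hφ h
      refine hh.imp (fun e => isConj_iff.2 ⟨n, ?_⟩) fun e => isConj_iff.2 ⟨n, ?_⟩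
      · rw [← hact, e]
      · rw [← hact, e]
    have ha1 : a ≠ 1 := by
      rintro rfl
      exact hx (by simp)
    have hall : ∀ z : G, orderOf z = 2 → IsConj (a1 : G) z ∨ IsConj (a2 : G) z := fun z hz => by
      have z2 : z * z = 1 := by rw [← pow_two, ← hz, pow_orderOf_eq_one]
      have z1 : z ≠ 1 := by
        rintro rfl
        simp at hz
      obtain ⟨h, -, hh⟩ := (isSylowIn_top T).exists_cj_le (El2.of_mul_self z2).isPGroup le_top
      have h1 : h * z * h⁻¹ ∈ (T : Subgroup G) := hh (cj_mem h (mem_zpowers z))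
      have h2 : IsConj (h * z * h⁻¹) z := (isConj_iff.2 ⟨h, rfl⟩).symm
      by_cases h4 : h * z * h⁻¹ ∈ A
      · exact (hin _ h4 (by simpa using z1)).imp (·.trans h2) (·.trans h2)
      · have h5 := hout _ (hTN hg) hx (by rw [conj_mul, ea_sq hA ha]; group) _ (hTN h1) h4
          (by rw [conj_mul, z2]; group)
        have h6 : IsConj a z := ((isConj_iff.2 ⟨g, rfl⟩).trans h5).trans h2
        exact (hin a ha ha1).imp (·.trans h6) (·.trans h6)
    have h7 : {c : ConjClasses G | ∃ x ∈ c.carrier, orderOf x = 2} ⊆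
        {ConjClasses.mk (a1 : G), ConjClasses.mk (a2 : G)} := by
      rintro c ⟨x, hx1, hx2⟩
      rw [ConjClasses.mem_carrier_iff_mk_eq] at hx1
      rw [← hx1]
      exact (hall x hx2).imp (fun e => (ConjClasses.mk_eq_mk_iff_isConj.2 e).symm)
        fun e => (ConjClasses.mk_eq_mk_iff_isConj.2 e).symm
    have h8 := Set.ncard_le_ncard h7
    have h9 := Set.ncard_insert_le (ConjClasses.mk (a1 : G)) {ConjClasses.mk (a2 : G)}
    rw [Set.ncard_singleton] at h9
    have h10 : Set.ncard {c : ConjClasses G | ∃ x ∈ c.carrier, orderOf x = 2} = 3 := h3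
    omega
  have c := Gold.ctx hA hsc
  by_cases hfac : ∀ C, ¬ IsFac (ncl A ⊤) C
  · exact normal_of_no_fac c hfac
  exfalso
  push Not at hfac
  obtain ⟨C, hC⟩ := hfac
  have hKn : ∀ g : G, g ∈ 𝐍(ncl A ⊤) := fun g => le_normalizer_ncl A ⊤ (mem_top g)
  have h0 : (A0 A ⊤).subgroupOf A = ⊥ := by
    refine (irr hA16 hf _ fun g v hv => ?_).resolve_right fun e => c.not_le hC fun a ha => ?_
    · obtain ⟨n, rfl⟩ := hφ g
      rw [mem_subgroupOf, hact]
      exact conj_mem_A0 hv n.2 (hKn _)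
    · have : (⟨a, ha⟩ : A) ∈ (A0 A ⊤).subgroupOf A := e ▸ mem_top _
      exact (mem_A0.1 this).2 C hC
  have h2c : ∀ n : 𝐍(A), (n : G) ∈ ncl A ⊤ → El2 (n : G) → φ n = 1 := fun n hn h2 => by
    refine hcent n fun a ha => ?_
    have h1 := two_comm_mem_A0 c hn n.2 h2 ha
    have h3 : (⟨_, (mem_A0.1 h1).1⟩ : A) ∈ (A0 A ⊤).subgroupOf A := h1
    rw [h0, mem_bot] at h3
    have h4 : (n : G) * a * (n : G)⁻¹ * a⁻¹ = 1 := congrArg Subtype.val h3
    rw [mul_inv_eq_one, mul_inv_eq_iff_eq_mul] at h4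
    exact h4.symm
  have hKN : ((ncl A ⊤).subgroupOf 𝐍(A)).Normal := by
    have : (ncl A ⊤).Normal := normal_iff_top_le_normalizer.2 (le_normalizer_ncl A ⊤)
    infer_instance
  rcases (hKN.map φ hφ).eq_bot_or_eq_top with e | e
  · refine no_fac_of_cent c (fun g hg hn _ => hMC ((hk ⟨g, hn⟩).1 ?_)) C hC
    rw [← mem_bot, ← e]
    exact mem_map_of_mem φ hg
  · obtain ⟨t, t1, t2⟩ := a5_ex
    obtain ⟨n, hn, rfl⟩ := mem_map.1 (e ▸ mem_top t : t ∈ map φ ((ncl A ⊤).subgroupOf 𝐍(A)))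
    obtain ⟨n1, hn1, n2, hn2, ho, h2, e'⟩ := exists_parts n
    have hz : zpowers n ≤ (ncl A ⊤).subgroupOf 𝐍(A) := zpowers_le.2 hn
    have h3 : φ n2 = 1 := by
      refine h2c n2 (hz hn2) ?_
      obtain ⟨k, hk'⟩ := h2
      exact ⟨k, by simpa using congrArg Subtype.val hk'⟩
    rw [e', map_mul, h3, mul_one] at t1 t2
    exact t1 ((El2.of_mul_self t2).eq_one (Odd.of_dvd_nat ho (orderOf_map_dvd φ n1)))


/-- Let G be a finite group whose Sylow 2-subgroups are isomorphic to those of the alternating group of degree 8, with exactly three conjugacy classes of involutions, and containing an elementary abelian subgroup A of order 16 whose normalizer N satisfies: A·O(N) is normal in N with quotient N/(A·O(N)) isomorphic to the alternating group of degree 5, O(N) being the largest normal subgroup of odd order of N. Then A·O(G) is a normal subgroup of G. -/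
theorem result {G : Type*} [Group G] [Finite G]
    (S : Sylow 2 G) (P : Sylow 2 ↥(alternatingGroup (Fin 8)))
    (hS : Nonempty (↥(S : Subgroup G) ≃* ↥(P : Subgroup ↥(alternatingGroup (Fin 8)))))
    (h3 : Nat.card {c : ConjClasses G // ∃ x ∈ c.carrier, orderOf x = 2} = 3)
    (A : Subgroup G) (hA : Cfsg.IsElementaryAbelian 2 A) (hA16 : Nat.card ↥A = 16)
    (N : Subgroup G) (hN : N = Subgroup.normalizer (A : Set G))
    (hNA : ∃ (_ : (A.subgroupOf N ⊔ Cfsg.oddCore ↥N).Normal),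
      Nonempty (↥N ⧸ (A.subgroupOf N ⊔ Cfsg.oddCore ↥N) ≃* ↥(alternatingGroup (Fin 5)))) :
    (A ⊔ Cfsg.oddCore G).Normal := by
  subst hN
  obtain ⟨hn, ⟨e⟩⟩ := hNA
  refine aux S P hS h3 A hA hA16 (e.toMonoidHom.comp (QuotientGroup.mk' _))
    (e.surjective.comp (QuotientGroup.mk'_surjective _)) fun n => ?_
  rw [MonoidHom.comp_apply, MulEquiv.coe_toMonoidHom, EmbeddingLike.map_eq_one_iff,
    QuotientGroup.mk'_apply, QuotientGroup.eq_one_iff, Gold.Od]
  have := Subgroup.mem_map_iff_mem (f := (Subgroup.normalizer (A : Set G)).subtype)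
    (K := A.subgroupOf _ ⊔ oddCore _) (x := n) Subtype.val_injective
  rw [Subgroup.map_sup, Subgroup.map_subgroupOf_eq_of_le Subgroup.le_normalizer] at this
  exact this.symm

end Cfsg.Agent.S3197
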