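import Cfsg.Statements.S3216
import Mathlib
import Cfsg.Agent.Lib.H4.TL8
import Cfsg.Agent.Lib.Core.PCore

set_option autoImplicit false
open Cfsg

namespace Cfsg.Agent.S3216

/-- Let G be a finite non-abelian simple group and t an involution of G; write C = C_G(t) and C̄ = C/O(C). If the subgroup of C̄ generated by its 2-elements (the smallest normal subgroup of C̄ of odd index) is isomorphic to Z₂ × PSL₂(q) for some prime power q > 3, then the Sylow 2-subgroups of G are elementary abelian of order 8. -/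
theorem result {G : Type*} [Group G] [Finite G] [IsSimpleGroup G]
    (hG : ¬ IsMulCommutative G) (t : G) (ht : orderOf t = 2) {F : Type*} [Field F] [Fintype F] (hF : 3 < Fintype.card F)
    (hL : Nonempty (↥(Subgroup.closure {x : (↥(Subgroup.centralizer ({t} : Set G)) ⧸ Cfsg.oddCore ↥(Subgroup.centralizer ({t} : Set G))) | ∃ k : ℕ, orderOf x = 2 ^ k}) ≃*
      (Multiplicative (ZMod 2) × Matrix.ProjectiveSpecialLinearGroup (Fin 2) F))) (S : Sylow 2 G) :
    Nat.card ↥(S : Subgroup G) = 8 ∧ ∀ x ∈ (S : Subgroup G), x ^ 2 = 1 := by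
  classical
  obtain ⟨e⟩ := hL
  have hi : ∀ K : Subgroup G, K.index ≠ 2 := fun K h => by
    rcases (Subgroup.normal_of_index_eq_two h).eq_bot_or_eq_top with rfl | rfl
    · rw [Subgroup.index_bot] at h
      haveI := isCyclic_of_prime_card h
      exact hG inferInstance
    · simp at h
  set Z := Subgroup.centralizer ({t} : Set G)
  set M := Subgroup.closure {x : (Z ⧸ Cfsg.oddCore Z) | ∃ k : ℕ, orderOf x = 2 ^ k}
  let π := QuotientGroup.mk' (Cfsg.oddCore Z)
  let C : Subgroup G := (M.comap π).map Z.subtype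
  have hC : C ≤ Z := Subgroup.map_subtype_le _
  have hM : ∀ x : C, π (Subgroup.inclusion hC x) ∈ M := by
    rintro ⟨_, x, hx, rfl⟩
    exact hx
  let ψ := e.toMonoidHom.comp ((π.comp (Subgroup.inclusion hC)).codRestrict M hM)
  obtain ⟨T, -, hT⟩ := H4.TL.exists_syl (IsPGroup.of_bot (p := 2)) (bot_le : ⊥ ≤ Z)
  have H : H4.TL.Loc t C T (fun g => if h : g ∈ C then ψ ⟨g, h⟩ else 1) :=
    { tt := by rw [← pow_two, ← ht, pow_orderOf_eq_one]
      t1 := fun h => by rw [h, orderOf_one] at ht; exact absurd ht (by decide)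
      le := fun x hx => H4.YM.mem_cen.1 (hC hx)
      nrm := by
        rintro g hg _ ⟨x, hx, rfl⟩
        have hle : M ≤ M.comap (MulAut.conj (π ⟨g, H4.YM.mem_cen.2 hg⟩)).toMonoidHom :=
          (Subgroup.closure_le _).2 fun y ⟨k, hk⟩ => Subgroup.subset_closure
            ⟨k, (orderOf_injective _ (MulAut.conj _).injective y).trans hk⟩
        exact ⟨⟨g, H4.YM.mem_cen.2 hg⟩ * x * (⟨g, H4.YM.mem_cen.2 hg⟩)⁻¹, hle hx, rfl⟩
      syl := hT
      TC := fun x hx => by
        obtain ⟨k, hk⟩ := H4.TL.pg_pow hT.pg hx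
        obtain ⟨j, -, hj⟩ := (Nat.dvd_prime_pow Nat.prime_two).1
          (orderOf_dvd_of_pow_eq_one (x := π ⟨x, hT.le hx⟩) (n := 2 ^ k)
            (by rw [← map_pow, ← map_one π]; exact congrArg π (Subtype.ext hk)))
        exact ⟨⟨x, hT.le hx⟩, Subgroup.subset_closure ⟨j, hj⟩, rfl⟩
      hom := ⟨ψ, fun m => by
        obtain ⟨⟨y, hy⟩, rfl⟩ := e.surjective m
        obtain ⟨x, rfl⟩ := QuotientGroup.mk'_surjective _ y
        exact ⟨⟨x, x, hy, rfl⟩, rfl⟩, fun x => by simp⟩
      odd := fun x hx h => by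
        rw [dif_pos hx] at h
        have h1 : π (Subgroup.inclusion hC ⟨x, hx⟩) = 1 :=
          congrArg Subtype.val (e.map_eq_one_iff.1 h)
        have h2 := Subgroup.orderOf_dvd_natCard _ ((QuotientGroup.eq_one_iff _).1 h1)
        rw [← Subgroup.orderOf_coe] at h2
        exact H1.odd_card_oddCore.of_dvd_nat h2 }
  obtain ⟨h1, h2, h3⟩ := H.main (fun P hP => H4.TL.psl_cases (by rwa [Nat.card_eq_fintype_card]) hP) hi
  obtain ⟨g, -, hg⟩ := h1.conj S.isPGroup' le_top
  have h4 := S.is_maximal' (H4.TL.pg_cm h1.pg g) hg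
  refine ⟨by rw [← h4, H4.YM.card_cm, h2], fun x hx => ?_⟩
  have := h3 _ (H4.YM.mem_cm.1 (hg hx))
  rwa [← H4.YM.cj_mul, H4.YM.cj_eq_one, ← pow_two] at this

end Cfsg.Agent.S3216
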