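import Mathlib
import Cfsg.Agent.Lib.InvChar.SymSix
import Cfsg.Agent.Lib.InvChar.AbSylow
import Cfsg.Agent.Lib.InvChar.SylowIn
import Cfsg.Agent.Lib.Inv73.D8
import Cfsg.Agent.Lib.Inv73.ZStar
import Cfsg.Agent.Lib.Invol.Count
import Cfsg.Agent.S0848
import Cfsg.Agent.S0497
import Cfsg.Agent.S0144
import Cfsg.Statements.S3222

set_option autoImplicit false
open Cfsg

namespace Cfsg.Agent.S3222

set_option linter.style.haveILetI false
set_option linter.unusedSectionVars false
set_option synthInstance.maxSize 1024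
open Subgroup Equiv

abbrev M : Type := Multiplicative (ZMod 2) × Perm (Fin 4)

def τ : M := (Multiplicative.ofAdd 1, 1)
def z : M := (1, swap 0 1 * swap 2 3)
def s : M := (1, swap 0 1)
def s' : M := (1, swap 0 2)
def v : M := (1, swap 0 2 * swap 1 3)
def ρ : M := (1, swap 1 3 * swap 1 2)
def a : M := τ * s * v

/-- The centralizer of `z`, a Sylow `2`-subgroup. -/
def D : Subgroup M := centralizer ({z} : Set M)

theorem mem_D {m : M} : m ∈ D ↔ m * z = z * m := mem_centralizer_singleton_iff

theorem card_M : Nat.card M = 48 := by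
  simp [M, Nat.card_eq_fintype_card, Fintype.card_perm, Nat.factorial]

theorem card_D : Nat.card D = 16 := by
  have : Nat.card D = Nat.card {m : M // m * z = z * m} :=
    Nat.card_congr (Equiv.subtypeEquivRight fun m => mem_D)
  rw [this, Nat.card_eq_fintype_card]
  decide +kernel

theorem central_eq : ∀ m : M, (∀ g, g * m = m * g) → m = 1 ∨ m = τ := by decide +kernel

theorem τ_comm : ∀ g : M, g * τ = τ * g := by decide +kernel

theorem comm_D : ∀ x y : M, x * z = z * x → y * z = z * y →
    x * y * x⁻¹ * y⁻¹ = 1 ∨ x * y * x⁻¹ * y⁻¹ = z := by decide +kernel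

theorem sq_D : ∀ x : M, x * z = z * x → x * x = 1 ∨ x * x = z := by decide +kernel

theorem invol : ∀ m : M, m * m = 1 → m = 1 ∨ m = τ ∨ ∃ g : M, g * z * g⁻¹ = m ∨
    g * (τ * z) * g⁻¹ = m ∨ g * s * g⁻¹ = m ∨ g * (τ * s) * g⁻¹ = m := by decide +kernel

theorem invol_D : ∀ m : M, m * z = z * m → m * m = 1 → m = 1 ∨ m = τ ∨
    (∃ g : M, g * z * g⁻¹ = m ∨ g * (τ * z) * g⁻¹ = m) ∨
    m = s ∨ m = s * z ∨ m = τ * s ∨ m = τ * s * z := by decide +kernel

theorem mem_E : ∀ x y : M, (x = s ∨ x = s * z ∨ x = τ * s ∨ x = τ * s * z) → y * z = z * y →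
    y * x = x * y → y = 1 ∨ y = τ ∨ y = z ∨ y = τ * z ∨ y = s ∨ y = s * z ∨ y = τ * s ∨
      y = τ * s * z := by decide +kernel

theorem dih_D : ∀ m : M, m * z = z * m → ∃ i : Fin 4, m = a ^ (i : ℕ) ∨ m = a ^ (i : ℕ) * (τ * s) ∨
    τ * m = a ^ (i : ℕ) ∨ τ * m = a ^ (i : ℕ) * (τ * s) := by decide +kernel

theorem pow_a : ∀ i : Fin 4, a ^ (i : ℕ) * z = z * a ^ (i : ℕ) ∧ a ^ (i : ℕ) ≠ τ * s := by
  decide +kernel

/-- The sign character with kernel `⟨A₄, τ s⟩`. -/
def χ : M →* ℤˣ where
  toFun m := (if m.1 = 1 then 1 else -1) * Perm.sign m.2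
  map_one' := by decide +kernel
  map_mul' := by decide +kernel

theorem invol_ker : ∀ m : M, m * z = z * m → m * m = 1 → χ m = 1 → m = 1 ∨
    (∃ g : M, g * z * g⁻¹ = m) ∨ ∃ g : M, g * (τ * s) * g⁻¹ = m := by decide +kernel

/-- The automorphism interchanging `s` and `τ s`. -/
def α : M →* M where
  toFun m := (if Perm.sign m.2 = 1 then m.1 else Multiplicative.ofAdd 1 * m.1, m.2)
  map_one' := by decide +kernel
  map_mul' := by decide +kernel

theorem α_α : ∀ m : M, α (α m) = m := by decide +kernel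

theorem card_seven : (Finset.univ.filter fun m : M => m = τ ∨ ∃ g : M, g * s * g⁻¹ = m).card = 7 := by
  decide +kernel

variable {G : Type*} [Group G] [Finite G]

/-- The hypotheses, in terms of an embedding of `Z₂ × S₄`. -/
structure Hyp (f : M →* G) : Prop where
  inj : Function.Injective f
  range : f.range = centralizer ({f τ} : Set G)
  cz : centralizer ({f z} : Set G) = D.map f
  syl : ∃ S : Sylow 2 G, (S : Subgroup G) = D.map f

variable {f : M →* G}

theorem Hyp.card_t (h : Hyp f) : Nat.card (centralizer ({f τ} : Set G)) = 48 := by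
  rw [← h.range, ← card_M]
  exact (Nat.card_congr (MonoidHom.ofInjective h.inj).toEquiv).symm

theorem Hyp.card_z (h : Hyp f) : Nat.card (centralizer ({f z} : Set G)) = 16 := by
  rw [h.cz, card_map_of_injective h.inj, card_D]

theorem Hyp.not_tz (h : Hyp f) : ¬ IsConj (f τ) (f z) := fun e => by
  have := H9.card_centralizer_eq_of_isConj e
  rw [h.card_t, h.card_z] at this
  omega

theorem Hyp.eq_of_isConj (h : Hyp f) {x y : M} (hx : x ∈ D) (hx' : ∀ m ∈ D, m * x = x * m)
    (hy' : ∀ m ∈ D, m * y = y * m) (e : IsConj (f x) (f y)) : x = y := by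
  obtain ⟨S, hS⟩ := h.syl
  obtain ⟨g, hg⟩ := isConj_iff.1 e
  have hc : ∀ w : M, (∀ m ∈ D, m * w = w * m) → f w ∈ centralizer ((S : Subgroup G) : Set G) := by
    intro w hw
    rw [hS, mem_centralizer_iff]
    rintro _ ⟨m, hm, rfl⟩
    rw [← map_mul, hw m hm, map_mul]
  obtain ⟨n, hn, hn'⟩ := S.conj_eq_normalizer_conj_of_mem_centralizer (f x) g⁻¹ (hc x hx')
    (by rw [inv_inv, hg]; exact hc y hy')
  rw [inv_inv, hg] at hn'
  have ha : f a ∈ (S : Subgroup G) := hS ▸ mem_map_of_mem f (mem_D.2 (by decide))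
  obtain ⟨m, hm, hm'⟩ : n⁻¹ * f a * n ∈ D.map f := hS ▸ H72.inv_conj_mem_of_mem_normalizer hn ha
  have hz : n⁻¹ * f z * n = f (m * m) := by
    rw [map_mul, hm', show z = a * a by decide, map_mul]; group
  have hnz : n ∈ centralizer ({f z} : Set G) := by
    rcases sq_D m (mem_D.1 hm) with e1 | e1
    · rw [e1, map_one] at hz
      have : f z = f 1 := by
        rw [map_one]
        calc f z = n * (n⁻¹ * f z * n) * n⁻¹ := by group
          _ = 1 := by rw [hz]; group
      exact absurd (h.inj this) (by decide)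
    · rw [e1] at hz
      rw [mem_centralizer_singleton_iff]
      calc n * f z = n * (n⁻¹ * f z * n) := by rw [hz]
        _ = f z * n := by group
  rw [h.cz] at hnz
  obtain ⟨k, hk, rfl⟩ := hnz
  apply h.inj
  rw [hn', ← map_inv, ← map_mul, ← map_mul, mul_assoc, ← hx' k hk]
  simp

theorem cent_τ : ∀ m ∈ D, m * τ = τ * m := fun m _ => τ_comm m

theorem cent_z : ∀ m ∈ D, m * z = z * m := fun _ hm => mem_D.1 hm

theorem cent_τz : ∀ m ∈ D, m * (τ * z) = τ * z * m := fun m hm => by
  rw [← mul_assoc, τ_comm m, mul_assoc, mem_D.1 hm, mul_assoc]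

theorem Hyp.not_t_tz (h : Hyp f) : ¬ IsConj (f τ) (f (τ * z)) := fun e =>
  absurd (h.eq_of_isConj (mem_D.2 (by decide)) cent_τ cent_τz e) (by decide)

theorem Hyp.not_z_tz (h : Hyp f) : ¬ IsConj (f z) (f (τ * z)) := fun e =>
  absurd (h.eq_of_isConj (mem_D.2 (by decide)) cent_z cent_τz e) (by decide)

theorem isConj_map (g x : M) : IsConj (f x) (f (g * x * g⁻¹)) :=
  f.map_isConj (isConj_iff.2 ⟨g, rfl⟩)

theorem isConj_sz : IsConj (f s) (f (s * z)) := by
  have := isConj_map (f := f) v s
  rwa [show v * s * v⁻¹ = s * z by decide] at this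

theorem isConj_τsz : IsConj (f (τ * s)) (f (τ * s * z)) := by
  have := isConj_map (f := f) v (τ * s)
  rwa [show v * (τ * s) * v⁻¹ = τ * s * z by decide] at this

theorem Hyp.isConj_z (h : Hyp f) (hc : IsConj (f τ) (f s)) : IsConj (f z) (f (τ * s)) := by
  obtain ⟨S, hS⟩ := h.syl
  obtain ⟨g, hg⟩ := isConj_iff.1 hc
  have hSle : (S : Subgroup G) ≤ centralizer ({f τ} : Set G) := by
    rw [hS, ← h.range]; exact map_le_range f D
  have hττ : f τ * f τ = 1 := by rw [← map_mul, show τ * τ = 1 by decide, map_one]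
  have hzz : f z * f z = 1 := by rw [← map_mul, show z * z = 1 by decide, map_one]
  have hconj : ∀ x : G, x * x = 1 → (g⁻¹ * x * g) * (g⁻¹ * x * g) = 1 := fun x hx => by
    simpa using H73.conj_mul_self hx g⁻¹
  have hcomm : Commute (g⁻¹ * f τ * g) (g⁻¹ * f z * g) := by
    have : Commute (f τ) (f z) := by
      rw [Commute, SemiconjBy, ← map_mul, ← map_mul, τ_comm]
    simpa using (this.map (MulAut.conj g⁻¹))
  obtain ⟨c, hc1, hc2⟩ := H72.exists_conj_mem_sylow_of_le S hSle
    (H9.isPGroup_closure_pair_of_commute (hconj _ hττ) (hconj _ hzz) hcomm) (by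
      rw [closure_le]
      rintro _ (rfl | rfl)
      · rw [SetLike.mem_coe, ← H73.mem_centralizer_conj_iff, hg, mem_centralizer_singleton_iff,
          ← map_mul, ← map_mul, τ_comm]
      · rw [SetLike.mem_coe, ← H73.mem_centralizer_conj_iff, hg, mem_centralizer_singleton_iff,
          ← map_mul, ← map_mul, show z * s = s * z by decide])
  obtain ⟨x, hx, hx'⟩ : c * (g⁻¹ * f τ * g) * c⁻¹ ∈ D.map f :=
    hS ▸ hc2 _ (subset_closure (by simp))
  obtain ⟨y, hy, hy'⟩ : c * (g⁻¹ * f z * g) * c⁻¹ ∈ D.map f :=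
    hS ▸ hc2 _ (subset_closure (by simp))
  have hct := H73.mem_centralizer_singleton_iff_conj.1 hc1
  have hks : c * g⁻¹ * f s * (c * g⁻¹)⁻¹ = f τ := by
    calc c * g⁻¹ * f s * (c * g⁻¹)⁻¹ = c * f τ * c⁻¹ := by rw [← hg]; group
      _ = f τ := hct
  have htx : IsConj (f τ) (f x) := isConj_iff.2 ⟨c * g⁻¹, by rw [hx']; group⟩
  have hzy : IsConj (f z) (f y) := isConj_iff.2 ⟨c * g⁻¹, by rw [hy']; group⟩
  have hxx : x * x = 1 := h.inj (by
    rw [map_mul, hx', map_one]; exact H73.conj_mul_self (hconj _ hττ) c)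
  have hxy : y * x = x * y := h.inj (by
    rw [map_mul, map_mul, hx', hy']
    simpa using (hcomm.map (MulAut.conj c)).eq.symm)
  have hx4 : x = s ∨ x = s * z ∨ x = τ * s ∨ x = τ * s * z := by
    rcases invol_D x (mem_D.1 hx) hxx with rfl | rfl | ⟨k, rfl | rfl⟩ | h4
    · rw [map_one, isConj_one_left, ← map_one f] at htx
      exact absurd (h.inj htx) (by decide)
    · have : f s = f τ := by
        apply (MulAut.conj (c * g⁻¹)).injective
        simp only [MulAut.conj_apply]
        rw [hks]
        exact hx'.trans (by group)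
      exact absurd (h.inj this) (by decide)
    · exact absurd (htx.trans (isConj_map k z).symm) h.not_tz
    · exact absurd (htx.trans (isConj_map k _).symm) h.not_t_tz
    · exact h4
  rcases mem_E x y hx4 (mem_D.1 hy) hxy with rfl | rfl | rfl | rfl | rfl | rfl | rfl | rfl
  · rw [map_one, isConj_one_left, ← map_one f] at hzy
    exact absurd (h.inj hzy) (by decide)
  · exact absurd hzy.symm h.not_tz
  · have : c * g⁻¹ ∈ centralizer ({f z} : Set G) := by
      rw [H73.mem_centralizer_singleton_iff_conj]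
      conv_rhs => rw [hy']
      group
    rw [h.cz] at this
    obtain ⟨k, -, hk⟩ := this
    rw [← hk, ← map_inv, ← map_mul, ← map_mul] at hks
    have h1 := h.inj hks
    have h2 : s = τ := by
      calc s = k⁻¹ * (k * s * k⁻¹) * k := by group
        _ = τ := by rw [h1, τ_comm]; group
    exact absurd h2 (by decide)
  · exact absurd hzy h.not_z_tz
  · exact absurd (hc.trans hzy.symm) h.not_tz
  · exact absurd ((hc.trans isConj_sz).trans hzy.symm) h.not_tz
  · exact hzy
  · exact hzy.trans isConj_τsz.symm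

theorem Hyp.perm_six (h : Hyp f) (hc : IsConj (f τ) (f s)) : Nonempty (G ≃* Perm (Fin 6)) := by
  obtain ⟨S, hS⟩ := h.syl
  have hzs := h.isConj_z hc
  have hτ2 : orderOf (f τ) = 2 := by
    rw [orderOf_injective f h.inj]; exact orderOf_eq_prime (by decide) (by decide)
  have hz2 : orderOf (f z) = 2 := by
    rw [orderOf_injective f h.inj]; exact orderOf_eq_prime (by decide) (by decide)
  obtain ⟨N, hNn, hN, htN⟩ := H73.thompson_transfer (S : Subgroup G) ((D ⊓ χ.ker).map f)
    (H73.odd_index_sylow S) (by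
      rw [hS, relIndex_map_map_of_injective _ _ h.inj, inf_relIndex_left]
      have h1 : χ.ker.relIndex D ∣ 2 := (relIndex_dvd_index_of_normal _ _).trans
        (H73.index_ker_eq_two χ (x := τ) (by decide)).dvd
      refine ((Nat.dvd_prime Nat.prime_two).1 h1).resolve_left fun e => ?_
      exact absurd (relIndex_eq_one.1 e (mem_D.2 (by decide) : τ ∈ D)) (by
        rw [MonoidHom.mem_ker]; decide)) (f τ) hτ2 (by
      rintro g ⟨m, ⟨hm1, hm2⟩, hm⟩
      have h1 : IsConj (f τ) (f m) := isConj_iff.2 ⟨g, hm.symm⟩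
      have hmm : m * m = 1 := h.inj (by
        rw [map_mul, hm, map_one]; exact H73.conj_mul_self (H9.mul_self_of_orderOf_two hτ2) g)
      rcases invol_ker m (mem_D.1 hm1) hmm hm2 with rfl | ⟨k, rfl⟩ | ⟨k, rfl⟩
      · rw [map_one, isConj_one_left] at h1
        exact H9.ne_one_of_orderOf_two hτ2 h1
      · exact h.not_tz (h1.trans (isConj_map k z).symm)
      · exact h.not_tz ((h1.trans (isConj_map k _).symm).trans hzs.symm))
  have hconjN : ∀ {x y : G}, IsConj x y → x ∈ N → y ∈ N := by
    intro x y e hx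
    obtain ⟨g, rfl⟩ := isConj_iff.1 e
    exact hNn.conj_mem x hx g
  have hsq : ∀ m : M, f (m * m) ∈ N := fun m => by
    rw [map_mul]; exact mul_self_mem_of_index_two hN _
  have hzN : f z ∈ N := by have := hsq a; rwa [show a * a = z by decide] at this
  have hρN : f ρ ∈ N := by have := hsq (ρ * ρ); rwa [show ρ * ρ * (ρ * ρ) = ρ by decide] at this
  have hbN : f (τ * s) ∈ N := hconjN hzs hzN
  have hv : f v = f ρ * f z * (f ρ)⁻¹ := by
    rw [← map_inv, ← map_mul, ← map_mul, show ρ * z * ρ⁻¹ = v by decide]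
  have hvN : f v ∈ N := hv ▸ hNn.conj_mem _ hzN _
  have haN : f a ∈ N := by rw [a, map_mul]; exact mul_mem hbN hvN
  let z' : N := ⟨f z, hzN⟩
  let a' : N := ⟨f a, haN⟩
  let b' : N := ⟨f (τ * s), hbN⟩
  have hz' : orderOf z' = 2 := by rw [Subgroup.orderOf_mk, hz2]
  have ha4 : orderOf a = 4 := by
    have : Fact (Nat.Prime 2) := ⟨Nat.prime_two⟩
    exact orderOf_eq_prime_pow (p := 2) (n := 1) (by decide) (by decide)
  have hmod : ∀ i : ℤ, ∃ j : Fin 4, a ^ i = a ^ (j : ℕ) := by
    intro i
    have h1 : 0 ≤ i % 4 := Int.emod_nonneg _ (by norm_num)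
    have h2 : i % 4 < 4 := Int.emod_lt_of_pos _ (by norm_num)
    refine ⟨⟨(i % 4).toNat, by omega⟩, ?_⟩
    rw [← zpow_mod_orderOf, ha4, ← zpow_natCast]
    congr 1
    simp only [Nat.cast_ofNat]
    omega
  have hdih : H73.DihData (centralizer ({z'} : Set N)) (2 ^ (0 + 2)) a' b' := by
    refine ⟨?_, Subtype.ext ?_, Subtype.ext ?_, ?_, fun g => ⟨fun hg => ?_, ?_⟩⟩
    · rw [Subgroup.orderOf_mk, orderOf_injective f h.inj, ha4]; rfl
    · change f (τ * s) * f (τ * s) = 1
      rw [← map_mul, show τ * s * (τ * s) = 1 by decide, map_one]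
    · change f (τ * s) * f a * (f (τ * s))⁻¹ = (f a)⁻¹
      rw [← map_inv, ← map_inv, ← map_mul, ← map_mul, show τ * s * a * (τ * s)⁻¹ = a⁻¹ by decide]
    · rintro ⟨i, hi⟩
      have h1 : f a ^ i = f (τ * s) := congrArg Subtype.val hi
      obtain ⟨j, hj⟩ := hmod i
      rw [← map_zpow, hj] at h1
      exact (pow_a j).2 (h.inj h1)
    · have h1 : (g : G) ∈ centralizer ({f z} : Set G) := by
        rw [mem_centralizer_singleton_iff] at hg ⊢
        exact congrArg Subtype.val hg
      rw [h.cz] at h1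
      obtain ⟨m, hm, hmg⟩ := h1
      have hnot : f (τ * m) ∉ N := by
        rw [map_mul, hmg]
        exact fun e => htN ((N.mul_mem_cancel_right g.2).1 e)
      obtain ⟨i, e | e | e | e⟩ := dih_D m (mem_D.1 hm)
      · refine ⟨(i : ℕ), Or.inl (Subtype.ext ?_)⟩
        rw [← hmg, e]; simp [a']
      · refine ⟨(i : ℕ), Or.inr (Subtype.ext ?_)⟩
        rw [← hmg, e]; simp [a', b']
      · exact absurd (by rw [e, map_pow]; exact pow_mem haN _) hnot
      · exact absurd (by rw [e, map_mul, map_pow]; exact mul_mem (pow_mem haN _) hbN) hnot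
    · have h1 : a' ∈ centralizer ({z'} : Set N) := by
        rw [mem_centralizer_singleton_iff]
        apply Subtype.ext
        change f a * f z = f z * f a
        rw [← map_mul, ← map_mul, show a * z = z * a by decide]
      have h2 : b' ∈ centralizer ({z'} : Set N) := by
        rw [mem_centralizer_singleton_iff]
        apply Subtype.ext
        change f (τ * s) * f z = f z * f (τ * s)
        rw [← map_mul, ← map_mul, show τ * s * z = z * (τ * s) by decide]
      rintro ⟨i, rfl | rfl⟩
      · exact zpow_mem h1 i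
      · exact mul_mem (zpow_mem h1 i) h2
  have hno : ∀ K : Subgroup N, K.Normal → K.index ≠ 2 := by
    intro K hK hK2
    have h1 : z' ∈ K := by
      have : z' = a' * a' := Subtype.ext (by
        change f z = f a * f a
        rw [← map_mul, show a * a = z by decide])
      rw [this]; exact mul_self_mem_of_index_two hK2 _
    have h2 : b' ∈ K := by
      obtain ⟨k, hk⟩ := isConj_iff.1 hzs
      by_cases hkN : k ∈ N
      · have : b' = ⟨k, hkN⟩ * z' * ⟨k, hkN⟩⁻¹ := Subtype.ext hk.symm
        rw [this]; exact hK.conj_mem _ h1 _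
      · have hk' : k * f τ ∈ N := (mul_mem_iff_of_index_two hN).2 (iff_of_false hkN htN)
        have : b' = ⟨_, hk'⟩ * z' * ⟨_, hk'⟩⁻¹ := Subtype.ext (by
          change f (τ * s) = k * f τ * f z * (k * f τ)⁻¹
          rw [← hk, mul_assoc k (f τ), ← map_mul, ← τ_comm, map_mul]; group)
        rw [this]; exact hK.conj_mem _ h1 _
    have h3 : a' ∈ K := by
      have : a' = b' * (⟨_, hρN⟩ * z' * ⟨_, hρN⟩⁻¹) := Subtype.ext (by
        change f a = f (τ * s) * (f ρ * f z * (f ρ)⁻¹)
        rw [← hv, ← map_mul, a])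
      rw [this]; exact mul_mem h2 (hK.conj_mem _ h1 _)
    obtain ⟨P, hP⟩ := H73.exists_sylow_of_dih hz' hdih
    apply P.not_dvd_index
    rw [hP]
    refine hK2.symm.dvd.trans (index_dvd_of_le fun g hg => ?_)
    obtain ⟨i, rfl | rfl⟩ := (hdih.mem g).1 hg
    · exact zpow_mem h3 i
    · exact mul_mem (zpow_mem h3 i) h2
  haveI := H73.isSimpleGroup_of_dih hno hz' hdih
  obtain ⟨e1⟩ := hdih.nonempty_mulEquiv (by norm_num)
  have hcard : Nat.card G = Nat.card N * 2 := by rw [← hN, card_mul_index]
  rcases Cfsg.Agent.S0848.result (H73.commutator_eq_top_of_dih hno hz' hdih) z' hz' e1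
    with h1 | h1
  · exfalso
    have h2 := H9.card_isConj_mul_card_centralizer (f τ)
    rw [h.card_t, hcard, h1] at h2
    have h3 : {y : G | IsConj (f τ) y}.ncard = 7 := by
      rw [← Nat.card_coe_set_eq]
      change Nat.card {y : G // IsConj (f τ) y} = 7
      omega
    have h4 : f '' (Finset.univ.filter fun m : M => m = τ ∨ ∃ g : M, g * s * g⁻¹ = m) =
        {y : G | IsConj (f τ) y} := by
      refine Set.eq_of_subset_of_ncard_le ?_ ?_ (Set.toFinite _)
      · rintro _ ⟨m, hm, rfl⟩
        simp only [Finset.coe_filter, Finset.mem_univ, true_and, Set.mem_ofPred_eq] at hm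
        rcases hm with rfl | ⟨g, rfl⟩
        · exact IsConj.refl _
        · exact hc.trans (isConj_map g s)
      · rw [h3, Set.ncard_image_of_injective _ h.inj, Set.ncard_coe_finset, card_seven]
    obtain ⟨g, hg⟩ := isConj_iff.1 hc
    have h5 : IsConj (f τ) (f s') := by
      have := isConj_map (f := f) ρ s
      rw [show ρ * s * ρ⁻¹ = s' by decide] at this
      exact hc.trans this
    have h6 : g⁻¹ * f s' * g ∈ {y : G | IsConj (f τ) y} :=
      h5.trans (isConj_iff.2 ⟨g⁻¹, by simp⟩)
    rw [← h4] at h6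
    obtain ⟨m, -, hm⟩ := h6
    have h7 : g⁻¹ * f s' * g ∈ centralizer ({f τ} : Set G) := h.range ▸ ⟨m, hm⟩
    rw [← H73.mem_centralizer_conj_iff, hg, mem_centralizer_singleton_iff, ← map_mul,
      ← map_mul] at h7
    exact absurd (h.inj h7) (by decide)
  · obtain ⟨e6⟩ := Cfsg.Agent.S0497.result h1
    refine H72.nonempty_equiv_perm_six hN e6 (fun g hg => ?_) htN hρN ?_ ?_
    · by_cases hgN : g ∈ N
      · have h2 : (⟨g, hgN⟩ : N) ∈ center N :=
          mem_center_iff.2 fun n => Subtype.ext (hg n n.2).symm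
        rw [H72.center_eq_bot_of_simple fun hcm => ?_] at h2
        · exact congrArg Subtype.val (mem_bot.1 h2)
        · have h3 := congrArg Subtype.val (hcm.is_comm.comm a' b')
          change f a * f (τ * s) = f (τ * s) * f a at h3
          rw [← map_mul, ← map_mul] at h3
          exact absurd (h.inj h3) (by decide)
      · have hall : ∀ x : G, g * x = x * g := by
          intro x
          by_cases hx : x ∈ N
          · exact hg x hx
          · have h2 := hg _ ((mul_mem_iff_of_index_two hN).2 (iff_of_false hx hgN))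
            rw [← mul_assoc] at h2
            exact mul_right_cancel h2
        obtain ⟨m, rfl⟩ : g ∈ f.range := h.range ▸ mem_centralizer_singleton_iff.2 (hall _)
        rcases central_eq m fun k => h.inj (by rw [map_mul, map_mul, hall]) with rfl | rfl
        · exact map_one f
        · obtain ⟨k, hk⟩ := isConj_iff.1 hc
          rw [← hall k, mul_inv_cancel_right] at hk
          exact absurd (h.inj hk) (by decide)
    · rw [orderOf_injective f h.inj]; exact orderOf_eq_prime (by decide) (by decide)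
    · rw [← map_mul, ← map_mul, τ_comm]

theorem Hyp.comp (h : Hyp f) : Hyp (f.comp α) := by
  have hα : Function.Injective α := Function.LeftInverse.injective α_α
  have hD : D.map (f.comp α) = D.map f := by
    rw [← map_map]
    congr 1
    have key : ∀ m ∈ D, α m ∈ D := fun m hm => mem_D.2 (by
      have := congrArg α (mem_D.1 hm)
      rwa [map_mul, map_mul, show α z = z by decide] at this)
    apply le_antisymm
    · rintro _ ⟨m, hm, rfl⟩
      exact key m hm
    · exact fun m hm => ⟨α m, key m hm, α_α m⟩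
  refine ⟨h.inj.comp hα, ?_, ?_, ?_⟩
  · rw [MonoidHom.comp_apply, show α τ = τ by decide, ← h.range, MonoidHom.range_comp,
      MonoidHom.range_eq_top.2 (Function.RightInverse.surjective α_α), MonoidHom.range_eq_map]
  · rw [MonoidHom.comp_apply, show α z = z by decide, hD, h.cz]
  · rw [hD]; exact h.syl

theorem Hyp.dichotomy (h : Hyp f) :
    centralizer ({f τ} : Set G) = ⊤ ∨ Nonempty (G ≃* Perm (Fin 6)) := by
  have hτ2 : orderOf (f τ) = 2 := by
    rw [orderOf_injective f h.inj]; exact orderOf_eq_prime (by decide) (by decide)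
  by_cases hiso : ∀ g : G, Commute (g * f τ * g⁻¹) (f τ) → g * f τ * g⁻¹ = f τ
  · left
    have h1 := H73.centralizer_sup_oddCore_eq_top' hτ2 hiso
    have hfix : ∀ (x : G), IsConj (f z) x → ∀ n ∈ oddCore G, Commute n x → n = 1 := by
      intro x hx n hn hc
      have h2 : orderOf n ∣ 16 := by
        rw [← h.card_z, H9.card_centralizer_eq_of_isConj hx]
        simpa using orderOf_dvd_natCard
          (⟨n, mem_centralizer_singleton_iff.2 hc⟩ : centralizer ({x} : Set G))
      have h3 : (orderOf n).Coprime 16 :=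
        (H1.coprime_orderOf_of_mem_pPrimeCore hn).pow_right 4
      exact orderOf_eq_one_iff.1 (h3.eq_one_of_dvd h2)
    have hO : oddCore G = ⊥ := by
      refine H73.eq_bot_of_four_fpf (s := f z) (t := f v) ?_ ?_
        (fun n hn => (pPrimeCore_normal 2 G).conj_mem n hn _)
        (fun n hn => (pPrimeCore_normal 2 G).conj_mem n hn _) (hfix _ (IsConj.refl _))
        (hfix _ ?_) (hfix _ ?_)
      · rw [← map_mul, show z * z = 1 by decide, map_one]
      · rw [← map_mul, show v * v = 1 by decide, map_one]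
      · have := isConj_map (f := f) ρ z
        rwa [show ρ * z * ρ⁻¹ = v by decide] at this
      · have := isConj_map (f := f) ρ⁻¹ z
        rwa [show ρ⁻¹ * z * ρ⁻¹⁻¹ = z * v by decide, map_mul] at this
    rwa [hO, sup_bot_eq] at h1
  · right
    push Not at hiso
    obtain ⟨g, hg1, hg2⟩ := hiso
    obtain ⟨m, hm⟩ : g * f τ * g⁻¹ ∈ f.range := h.range ▸ mem_centralizer_singleton_iff.2 hg1
    have h1 : IsConj (f τ) (f m) := isConj_iff.2 ⟨g, hm.symm⟩
    have hmm : m * m = 1 := h.inj (by
      rw [map_mul, hm, map_one]; exact H73.conj_mul_self (H9.mul_self_of_orderOf_two hτ2) g)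
    rcases invol m hmm with rfl | rfl | ⟨k, rfl | rfl | rfl | rfl⟩
    · rw [map_one, isConj_one_left] at h1
      exact absurd h1 (H9.ne_one_of_orderOf_two hτ2)
    · exact absurd hm.symm hg2
    · exact absurd (h1.trans (isConj_map k _).symm) h.not_tz
    · exact absurd (h1.trans (isConj_map k _).symm) h.not_t_tz
    · exact h.perm_six (h1.trans (isConj_map k _).symm)
    · refine h.comp.perm_six ?_
      rw [MonoidHom.comp_apply, MonoidHom.comp_apply, show α τ = τ by decide,
        show α s = τ * s by decide]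
      exact h1.trans (isConj_map k _).symm

/-- Let G be a finite group of even order such that (1) some involution t lying in the centre of a Sylow 2-subgroup of G has C_G(t) ≅ Z₂ × S₄, and (2) every Sylow 2-subgroup S of G satisfies C_G(S′) = S, where S′ is the derived subgroup of S. Then G = C_G(t) if G is solvable, and G ≅ S₆ otherwise. -/
theorem result {G : Type*} [Group G] [Finite G] (hev : Even (Nat.card G))
    (t : G) (ht : orderOf t = 2) (T : Sylow 2 G) (htT : t ∈ (T : Subgroup G)) (htc : ∀ s ∈ (T : Subgroup G), s * t = t * s)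
    (e : ↥(Subgroup.centralizer ({t} : Set G)) ≃* (Multiplicative (ZMod 2) × Equiv.Perm (Fin 4)))
    (h2 : ∀ S : Sylow 2 G, Subgroup.centralizer ((⁅(S : Subgroup G), (S : Subgroup G)⁆ : Subgroup G) : Set G) = (S : Subgroup G)) :
    (Group.IsSolvable G → Subgroup.centralizer ({t} : Set G) = ⊤) ∧
      (¬ Group.IsSolvable G → Nonempty (G ≃* Equiv.Perm (Fin 6))) := by
  let f : M →* G := (centralizer ({t} : Set G)).subtype.comp e.symm.toMonoidHom
  have hinj : Function.Injective f := (subtype_injective _).comp e.symm.injective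
  have hrange : f.range = centralizer ({t} : Set G) := by
    apply le_antisymm
    · rintro _ ⟨m, rfl⟩
      exact (e.symm m).2
    · exact fun g hg => ⟨e ⟨g, hg⟩, by simp [f]⟩
  have hft : f τ = t := by
    obtain ⟨m, hm⟩ : t ∈ f.range := hrange ▸ mem_centralizer_singleton_iff.2 rfl
    rcases central_eq m fun k => hinj (by
      rw [map_mul, map_mul, hm]
      exact mem_centralizer_singleton_iff.1 (hrange ▸ ⟨k, rfl⟩)) with rfl | rfl
    · rw [map_one] at hm
      exact absurd hm.symm (H9.ne_one_of_orderOf_two ht)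
    · exact hm
  have hcD : Nat.card (D.map f) = 2 ^ 4 := by rw [card_map_of_injective hinj, card_D]; rfl
  have hC48 : Nat.card (centralizer ({t} : Set G)) = 48 := by
    rw [Nat.card_congr e.toEquiv, card_M]
  obtain ⟨S, hS⟩ := (IsPGroup.of_card hcD).exists_le_sylow
  have hS' : (S : Subgroup G) = D.map f := by
    refine (eq_of_le_of_card_ge hS ?_).symm
    rw [Nat.card_congr (Sylow.equiv S T).toEquiv, hcD]
    obtain ⟨k, hk⟩ := IsPGroup.iff_card.1 T.isPGroup'
    have h1 : Nat.card (T : Subgroup G) ∣ 48 :=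
      hC48 ▸ card_dvd_of_le fun s hs => mem_centralizer_singleton_iff.2 (htc s hs)
    rw [hk] at h1 ⊢
    refine Nat.pow_le_pow_right (by norm_num) ?_
    by_contra h3
    have := (Nat.pow_dvd_pow 2 (show 5 ≤ k by omega)).trans h1
    omega
  have hyp : Hyp f := by
    refine ⟨hinj, by rw [hft, hrange], le_antisymm ?_ ?_, S, hS'⟩
    · rw [← hS', ← h2 S]
      intro g hg
      rw [mem_centralizer_iff]
      have : ⁅(S : Subgroup G), (S : Subgroup G)⁆ ≤ centralizer ({g} : Set G) := by
        rw [commutator_le, hS']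
        rintro _ ⟨x, hx, rfl⟩ _ ⟨y, hy, rfl⟩
        rw [← map_commutatorElement, commutatorElement_def]
        rcases comm_D x y (mem_D.1 hx) (mem_D.1 hy) with e1 | e1
        · rw [e1, map_one]; exact one_mem _
        · rw [e1, mem_centralizer_singleton_iff]
          exact (mem_centralizer_singleton_iff.1 hg).symm
      exact fun x hx => mem_centralizer_singleton_iff.1 (this hx)
    · rintro _ ⟨m, hm, rfl⟩
      rw [mem_centralizer_singleton_iff, ← map_mul, mem_D.1 hm, map_mul]
  have hd := hyp.dichotomy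
  rw [hft] at hd
  refine ⟨fun hs => hd.resolve_right fun ⟨e6⟩ => ?_, fun hs => hd.resolve_left fun h => hs ?_⟩
  · exact Perm.not_isSolvable (Fin 6) (by simp; norm_num) (Group.isSolvable_of_surjective (f := e6.toMonoidHom)
      e6.surjective)
  · haveI : Group.IsSolvable M := Cfsg.Agent.S0144.result 2 3 4 1 Nat.prime_two Nat.prime_three card_M
    exact Group.isSolvable_of_surjective (f := f) (MonoidHom.range_eq_top.1 (hrange.trans h))

end Cfsg.Agent.S3222
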