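import Cfsg.Statements.S3231
import Mathlib
import Cfsg.Agent.Lib.WCl9.Main
import Cfsg.Agent.Lib.ClGeo.Heart
import Cfsg.Agent.Lib.Fi22I.W27
import Cfsg.Agent.S0822

set_option autoImplicit false
open Cfsg

namespace Cfsg.Agent.S3231

/-- Let G be a finite group with an involution z, H = C_G(z), such that J = O₂(H) is extraspecial of order 2⁹ with C_H(J) ≤ J and H/J ≅ Aut(PSp₄(3)). Then either G has a subgroup G₀ of index 2 with G₀ ≅ U₆(2) and C_G(G₀) = 1 (so that G embeds in Aut(G₀)), or G = H·O(G). -/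
theorem result {G : Type*} [Group G] [Finite G] (z : G) (hz : orderOf z = 2)
    {F : Type*} [Field F] [Fintype F] (hF : Fintype.card F = 3) {K : Type*} [Field K] [Fintype K] (hK : Fintype.card K = 4)
    (hJ : Cfsg.IsExtraspecial 2 ↥(Cfsg.pCore 2 ↥(Subgroup.centralizer ({z} : Set G)))) (hJc : Nat.card ↥(Cfsg.pCore 2 ↥(Subgroup.centralizer ({z} : Set G))) = 2 ^ 9)
    (hCJ : Subgroup.centralizer ((Cfsg.pCore 2 ↥(Subgroup.centralizer ({z} : Set G))) : Set ↥(Subgroup.centralizer ({z} : Set G))) ≤ Cfsg.pCore 2 ↥(Subgroup.centralizer ({z} : Set G))) [hJn : (Cfsg.pCore 2 ↥(Subgroup.centralizer ({z} : Set G))).Normal]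
    (e : (↥(Subgroup.centralizer ({z} : Set G)) ⧸ Cfsg.pCore 2 ↥(Subgroup.centralizer ({z} : Set G))) ≃* MulAut (Cfsg.PSp 2 F)) :
    (∃ G₀ : Subgroup G, G₀.index = 2 ∧ Nonempty (↥G₀ ≃* Cfsg.PSU 6 K 2) ∧ Subgroup.centralizer (G₀ : Set G) = ⊥) ∨
      Subgroup.centralizer ({z} : Set G) ⊔ Cfsg.oddCore G = ⊤ := by
  obtain ⟨f⟩ := Cfsg.Agent.S0822.result (F := H30.F4) (K := F) rfl hF
  obtain ⟨φ⟩ := H30.F4.nonempty_ringEquiv hK
  obtain ⟨w⟩ := H96.E6.equivAut
  let j := ((QuotientGroup.quotientMulEquivOfEq H30.U42.center_SU4).trans QuotientGroup.quotientBot).symm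
  let a := (MulAut.congr (j.trans f)).trans e.symm
  let ι := a.toMonoidHom.comp MulAut.conj
  have inj : Function.Injective ι := a.injective.comp ((injective_iff_map_eq_one _).2 fun x hx => by
    rw [← Subgroup.mem_bot, ← H30.U42.center_SU4, Subgroup.mem_center_iff]
    exact fun y => (mul_inv_eq_iff_eq_mul.1 (DFunLike.congr_fun hx y)).symm)
  have hn : ι.range.Normal := by
    rw [MonoidHom.range_comp]
    refine Subgroup.Normal.map ⟨?_⟩ _ a.surjective
    rintro _ ⟨x, rfl⟩ α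
    exact ⟨α x, by ext y : 1; simp⟩
  have i2 : ι.range.index = 2 := by
    have h1 := ι.range.card_mul_index
    rw [← Nat.card_congr (ι.ofInjective inj).toEquiv, H30.U42.card_SU4, ← Nat.card_congr a.toEquiv,
      Nat.card_congr (MulAut.congr j).toEquiv, ← Nat.card_congr w.toEquiv, H96.E6.card_W27] at h1
    omega
  refine (H9.WC.main hz _ rfl hJ hJc hCJ ι inj hn (Or.inr i2)).imp_left fun ⟨L, h1, ⟨g⟩, h2⟩ => ?_
  exact ⟨L, h1.trans i2, ⟨g.trans (H30.psuCongr φ.symm 6 2)⟩, h2⟩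

end Cfsg.Agent.S3231
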