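import Cfsg.Statements.S3232
import Mathlib
import Cfsg.Agent.Lib.PF94.Pre

set_option autoImplicit false
open Cfsg

namespace Cfsg.Agent.S3232

/-- Let G be a finite group with an involution z, H = C_G(z), such that J = O₂(H) is an (internal) direct product of a group of order 2 and an extraspecial group of order 2⁹, with derived subgroup J′ = ⟨z⟩, C_H(J) ≤ J and H/J ≅ Aut(PSp₄(3)). Then G = H·O(G); or some involution z₁ ∈ Z(J) outside ⟨z⟩ generates a normal subgroup of G and G has a subgroup G₀ of index 2 containing z₁ with G₀/⟨z₁⟩ ≅ U₆(2); or G is isomorphic to the Fischer group Fi₂₂. -/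
theorem result {G : Type*} [Group G] [Finite G] (z : G) (hz : orderOf z = 2)
    {F : Type*} [Field F] [Fintype F] (hF : Fintype.card F = 3) {K : Type*} [Field K] [Fintype K] (hK : Fintype.card K = 4)
    (A E : Subgroup ↥(Subgroup.centralizer ({z} : Set G))) (hAE : Cfsg.IsInternalDirectProduct A E (Cfsg.pCore 2 ↥(Subgroup.centralizer ({z} : Set G)))) (hA : Nat.card ↥A = 2)
    (hE : Cfsg.IsExtraspecial 2 ↥E) (hEc : Nat.card ↥E = 2 ^ 9)
    (zc : ↥(Subgroup.centralizer ({z} : Set G))) (hzc : (zc : G) = z) (hJ' : ⁅(Cfsg.pCore 2 ↥(Subgroup.centralizer ({z} : Set G))), (Cfsg.pCore 2 ↥(Subgroup.centralizer ({z} : Set G)))⁆ = Subgroup.zpowers zc)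
    (hCJ : Subgroup.centralizer ((Cfsg.pCore 2 ↥(Subgroup.centralizer ({z} : Set G))) : Set ↥(Subgroup.centralizer ({z} : Set G))) ≤ Cfsg.pCore 2 ↥(Subgroup.centralizer ({z} : Set G))) [hJn : (Cfsg.pCore 2 ↥(Subgroup.centralizer ({z} : Set G))).Normal]
    (e : (↥(Subgroup.centralizer ({z} : Set G)) ⧸ Cfsg.pCore 2 ↥(Subgroup.centralizer ({z} : Set G))) ≃* MulAut (Cfsg.PSp 2 F)) :
    Subgroup.centralizer ({z} : Set G) ⊔ Cfsg.oddCore G = ⊤ ∨
      (∃ z₁ : G, orderOf z₁ = 2 ∧ z₁ ∉ Subgroup.zpowers z ∧ (∃ h₁ : z₁ ∈ Subgroup.centralizer ({z} : Set G), (⟨z₁, h₁⟩ : ↥(Subgroup.centralizer ({z} : Set G))) ∈ Cfsg.pCore 2 ↥(Subgroup.centralizer ({z} : Set G)) ∧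
          ∀ j ∈ Cfsg.pCore 2 ↥(Subgroup.centralizer ({z} : Set G)), j * ⟨z₁, h₁⟩ = ⟨z₁, h₁⟩ * j) ∧ (Subgroup.zpowers z₁).Normal ∧
        ∃ (G₀ : Subgroup G) (hz₁ : z₁ ∈ G₀), G₀.index = 2 ∧
          ∃ hn : ((Subgroup.zpowers z₁).subgroupOf G₀).Normal,
            Nonempty ((↥G₀ ⧸ (Subgroup.zpowers z₁).subgroupOf G₀) ≃* Cfsg.PSU 6 K 2)) ∨
      Cfsg.Spor.IsoFi22 G := by
  obtain ⟨K0, kd, i2, -⟩ := H94.PF.exists_kd hF
  obtain ⟨ψ⟩ := H30.F4.nonempty_ringEquiv hK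
  obtain ⟨z0, h0⟩ := H95.exists_ES hE
  have P := H94.PF.pre_of hAE (fun w hw => hA ▸ H94.PF.pow_card hw) h0 hEc
  obtain rfl : z0 = zc := by
    obtain ⟨x, hx, y, hy, e⟩ := h0.exists_commutator
    have m := hJ'.le (Subgroup.commutator_mem_commutator (P.EJ hx) (P.EJ hy))
    rw [commutatorElement_def, e, H95.mem_zpowers_iff_of_sq (Subtype.ext (by
      rw [Subgroup.coe_mul, hzc, ← pow_two, ← hz, pow_orderOf_eq_one]; rfl))] at m
    exact m.resolve_left h0.ne_one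
  have P' := P.map
  rw [hzc] at P'
  obtain ⟨V, _, _, C, d, Fo, h1, rfl, h3⟩ := P'.four (by rw [H95.card_map_cent, hA]) (by
      rintro h hh _ ⟨x, hx, rfl⟩
      exact ⟨_, hJn.conj_mem x hx ⟨h, H95.mem_cent_iff.2 hh⟩, rfl⟩)
    (e.toMonoidHom.comp (QuotientGroup.mk' _)) (e.surjective.comp (QuotientGroup.mk'_surjective _)) (fun a => by
      rw [MonoidHom.comp_apply, MulEquiv.coe_toMonoidHom, e.map_eq_one_iff, QuotientGroup.mk'_apply,
        QuotientGroup.eq_one_iff, H95.mem_map_cent]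
      exact ⟨fun hx => ⟨a.2, hx⟩, fun ⟨_, hx⟩ => hx⟩) kd fun g hg => H95.mem_map_cent.2
        ⟨H95.mem_cent_iff.2 (hg _ (P'.EJ P'.es.mem)), hCJ fun x hx => Subtype.ext (hg _ ⟨x, hx, rfl⟩).symm⟩
  by_cases hB : ∀ a, a * C.z = C.z * a → a * d = d * a
  · refine (Fo.caseB hB).imp (H94.PF.zstar C.zz C.z1) fun ⟨w, F, hw, L, f, _, h4, h5, h6, h7, _⟩ => Or.inl ?_
    obtain ⟨m, m'⟩ := H95.mem_map_cent.1 (h1 ▸ C.ZJ F.dZ)
    have n : (Subgroup.zpowers w).Normal := ⟨fun x hx g => by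
      rcases (H95.mem_zpowers_iff_of_sq F.dd).1 hx with rfl | rfl
      · simp
      · rw [H9.WC.cj_of (hw g)]; exact hx⟩
    refine ⟨w, H95.orderOf_eq_two_of F.dd F.d1, fun c => ((H95.mem_zpowers_iff_of_sq C.zz).1 c).elim F.d1 F.dz,
      ⟨m, m', fun j _ => Subtype.ext (hw j)⟩, n, L, h4 (Subgroup.mem_zpowers w), ?_, inferInstance,
      ⟨((QuotientGroup.quotientMulEquivOfEq (Subgroup.ext fun x => (h7 x).symm)).trans
        (QuotientGroup.quotientKerEquivOfSurjective f h6)).trans (H30.psuCongr ψ.symm 6 2)⟩⟩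
    rwa [h3, Subgroup.relIndex_top_right, Subgroup.relIndex_top_right, i2] at h5
  · push Not at hB
    obtain ⟨s, hs, hs'⟩ := hB
    exact (Fo.caseA hs ((Fo.act hs).resolve_left fun e => hs' (H9.WC.of_cj e))).imp (H94.PF.zstar C.zz C.z1) Or.inr

end Cfsg.Agent.S3232
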