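import Cfsg.Statements.S3233
import Mathlib
import Cfsg.Agent.Lib.PF94.Pre8

set_option autoImplicit false
open Cfsg

namespace Cfsg.Agent.S3233

/-- Let G be a finite group with an involution z, H = C_G(z), such that (i) J = O₂(H) is an (internal) direct product of a four-group and an extraspecial group of order 2⁹, with C_H(J) ≤ J, and (ii) H contains an element c of order 3 such that J⟨c⟩ is normal in H with H/J⟨c⟩ ≅ Aut(PSp₄(3)) and C_H(c)/⟨c, z⟩ ≅ PSp₄(3). Then G = H·O(G), or G is isomorphic to the Fischer group Fi₂₃, or G has a normal four-group V with G/V ≅ Aut(U₆(2)). -/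
theorem result {G : Type*} [Group G] [Finite G] (z : G) (hz : orderOf z = 2)
    {F : Type*} [Field F] [Fintype F] (hF : Fintype.card F = 3) {K : Type*} [Field K] [Fintype K] (hK : Fintype.card K = 4)
    (V E : Subgroup ↥(Subgroup.centralizer ({z} : Set G))) (hVE : Cfsg.IsInternalDirectProduct V E (Cfsg.pCore 2 ↥(Subgroup.centralizer ({z} : Set G)))) (hV : Nat.card ↥V = 4) (hV2 : ∀ v ∈ V, v ^ 2 = 1)
    (hE : Cfsg.IsExtraspecial 2 ↥E) (hEc : Nat.card ↥E = 2 ^ 9)
    (hCJ : Subgroup.centralizer ((Cfsg.pCore 2 ↥(Subgroup.centralizer ({z} : Set G))) : Set ↥(Subgroup.centralizer ({z} : Set G))) ≤ Cfsg.pCore 2 ↥(Subgroup.centralizer ({z} : Set G)))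
    (zc c : ↥(Subgroup.centralizer ({z} : Set G))) (hzc : (zc : G) = z) (hc : orderOf c = 3)
    [hJc : (Cfsg.pCore 2 ↥(Subgroup.centralizer ({z} : Set G)) ⊔ Subgroup.zpowers c).Normal] (e : (↥(Subgroup.centralizer ({z} : Set G)) ⧸ (Cfsg.pCore 2 ↥(Subgroup.centralizer ({z} : Set G)) ⊔ Subgroup.zpowers c)) ≃* MulAut (Cfsg.PSp 2 F))
    [hcz : ((Subgroup.zpowers c ⊔ Subgroup.zpowers zc).subgroupOf (Subgroup.centralizer ({c} : Set ↥(Subgroup.centralizer ({z} : Set G))))).Normal]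
    (e' : (↥(Subgroup.centralizer ({c} : Set ↥(Subgroup.centralizer ({z} : Set G)))) ⧸ (Subgroup.zpowers c ⊔ Subgroup.zpowers zc).subgroupOf (Subgroup.centralizer ({c} : Set ↥(Subgroup.centralizer ({z} : Set G))))) ≃* Cfsg.PSp 2 F) :
    Subgroup.centralizer ({z} : Set G) ⊔ Cfsg.oddCore G = ⊤ ∨ Cfsg.Spor.IsoFi23 G ∨
      (∃ (W : Subgroup G) (hW : W.Normal), Nat.card ↥W = 4 ∧ (∀ w ∈ W, w ^ 2 = 1) ∧
        Nonempty ((G ⧸ W) ≃* MulAut (Cfsg.PSU 6 K 2))) := by
  obtain ⟨K0, kd, i2, c1, c2⟩ := H94.PF.exists_kd hF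
  obtain ⟨ψ⟩ := H30.F4.nonempty_ringEquiv hK
  obtain ⟨z0, h0⟩ := H95.exists_ES hE
  have P := H94.PF.pre_of hVE hV2 h0 hEc
  have n : (pCore 2 (Subgroup.centralizer ({z} : Set G))).Normal := inferInstance
  have c3 : c * c * c = 1 := by rw [← pow_three', ← hc, pow_orderOf_eq_one]
  have zc' : ∀ x : Subgroup.centralizer ({z} : Set G), x * zc = zc * x := fun x =>
    Subtype.ext (by rw [Subgroup.coe_mul, Subgroup.coe_mul, hzc]; exact H95.mem_cent_iff.1 x.2)
  have k : ∀ j ∈ pCore 2 (Subgroup.centralizer ({z} : Set G)), c * j = j * c → j = 1 ∨ j = zc := fun j hj h => by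
    let f := e'.toMonoidHom.comp (QuotientGroup.mk' _)
    have hf : Function.Surjective f := e'.surjective.comp (QuotientGroup.mk'_surjective _)
    have h2 : IsPGroup 2 (((pCore 2 _).subgroupOf (Subgroup.centralizer {c})).map f) :=
      (H1.isPGroup_pCore.comap_subtype).map f
    have h3 := (Subgroup.Normal.map (H := (pCore 2 _).subgroupOf (Subgroup.centralizer {c})) inferInstance
      f hf).eq_bot_or_eq_top.resolve_right fun t => by
        have : Finite (PSp 2 F) := Finite.of_surjective f hf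
        obtain ⟨m, hm⟩ := h2.exists_card_eq
        rw [t, Subgroup.card_top, c1] at hm
        exact absurd ((Nat.Prime.dvd_of_dvd_pow (by norm_num : Nat.Prime 3) (hm ▸ (by norm_num : 3 ∣ 25920))))
          (by norm_num)
    have h4 := h3.le ⟨⟨j, H95.mem_cent_iff.2 h.symm⟩, hj, rfl⟩
    rw [Subgroup.mem_bot, MonoidHom.comp_apply, MulEquiv.coe_toMonoidHom, e'.map_eq_one_iff, QuotientGroup.mk'_apply,
      QuotientGroup.eq_one_iff, Subgroup.mem_subgroupOf, H69.mem_sup_of_le_normalizer_left (Subgroup.zpowers_le.2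
        (H95.mem_normalizer_of_finite fun x hx => by rwa [H9.WC.cj_of (zc' x).symm]))] at h4
    obtain ⟨a, ha, b, hb, h5⟩ := h4
    have zO : zc ∈ pCore 2 _ := hCJ fun x _ => zc' x
    obtain ⟨m, hm⟩ := H94.PF.pow_of_isP H1.isPGroup_pCore
      ((mul_mem_cancel_right (Subgroup.zpowers_le.2 zO hb)).1 ((show j = a * b from h5) ▸ hj))
    have h6 := pow_gcd_eq_one.2 ⟨hm, H94.PF.pow_card ha⟩
    rw [Nat.card_zpowers, hc, show Nat.gcd (2 ^ m) 3 = 1 from Nat.Coprime.pow_left m (by norm_num), pow_one] at h6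
    rw [show j = a * b from h5, h6, one_mul]
    exact (H95.mem_zpowers_iff_of_sq (Subtype.ext (by
      rw [Subgroup.coe_mul, hzc, ← pow_two, ← hz, pow_orderOf_eq_one]; rfl))).1 hb
  obtain rfl : z0 = zc :=
    (k z0 (P.EJ h0.mem) (P.fix fun x hx => n.conj_mem x hx c)).resolve_left h0.ne_one
  have P' := P.map
  rw [hzc] at P'
  obtain ⟨X, _, _, C, W, v, E8, C3, rfl, h3, h4⟩ := P'.eight (c := c) (by rw [H95.card_map_cent, hV])
    (H1.isPGroup_pCore.map _) (by
      rintro h hh _ ⟨x, hx, rfl⟩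
      exact ⟨_, n.conj_mem x hx ⟨h, H95.mem_cent_iff.2 hh⟩, rfl⟩) (fun g hg => H95.mem_map_cent.2
        ⟨H95.mem_cent_iff.2 (hg _ (P'.EJ P'.es.mem)), hCJ fun x hx => Subtype.ext (hg _ ⟨x, hx, rfl⟩).symm⟩)
    (H95.mem_cent_iff.1 c.2) (congrArg Subtype.val c3) (by
      rintro _ ⟨j, hj, rfl⟩ h
      exact (k j hj (Subtype.ext h)).imp (congrArg Subtype.val) fun e => (congrArg Subtype.val e).trans hzc)
    (e.toMonoidHom.comp (QuotientGroup.mk' _)) (e.surjective.comp (QuotientGroup.mk'_surjective _)) (fun a => by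
      rw [MonoidHom.comp_apply, MulEquiv.coe_toMonoidHom, e.map_eq_one_iff, QuotientGroup.mk'_apply,
        QuotientGroup.eq_one_iff, show Subgroup.zpowers (c : G) = (Subgroup.zpowers c).map (Subgroup.subtype _) from
        (MonoidHom.map_zpowers (Subgroup.subtype _) c).symm, ← Subgroup.map_sup, H95.mem_map_cent]
      exact ⟨fun hx => ⟨a.2, hx⟩, fun ⟨_, hx⟩ => hx⟩) kd fun hs => by
      let g := QuotientGroup.lift ((Subgroup.zpowers c ⊔ Subgroup.zpowers z0).subgroupOf (Subgroup.centralizer {c}))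
        ((e.toMonoidHom.comp (QuotientGroup.mk' _)).comp (Subgroup.subtype _)) fun x hx => by
          rw [MonoidHom.mem_ker, MonoidHom.comp_apply, MonoidHom.comp_apply, MulEquiv.coe_toMonoidHom,
            e.map_eq_one_iff, QuotientGroup.mk'_apply, QuotientGroup.eq_one_iff]
          exact sup_le le_sup_right ((Subgroup.zpowers_le.2 (P.EJ h0.mem)).trans le_sup_left) hx
      have h1 := Nat.card_le_card_of_surjective g fun y => by
        obtain ⟨h, rfl, hh⟩ := hs y
        exact ⟨QuotientGroup.mk ⟨h, H95.mem_cent_iff.2 (Subtype.ext hh)⟩, rfl⟩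
      rw [Nat.card_congr e'.toEquiv, c1, ← K0.card_mul_index, kd.card, i2] at h1
      omega
  refine (C3.main E8 (by rw [h3, Subgroup.relIndex_top_right, i2])).imp (H94.PF.zstar C.zz C.z1)
    (Or.imp_right fun ⟨hW, ⟨f⟩⟩ => ⟨W, hW, h4, fun w hw => by rw [pow_two, E8.sq hw],
      ⟨f.trans (MulAut.congr (H30.psuCongr ψ.symm 6 2))⟩⟩)

end Cfsg.Agent.S3233
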