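import Cfsg.Statements.S3237
import Mathlib
import Cfsg.Agent.Lib.E32.Main

set_option autoImplicit false
open Cfsg

namespace Cfsg.Agent.S3237

open Subgroup

theorem ea8 {E : Type*} [Group E] {p q r : E} (hp : p * p = 1) (hq : q * q = 1) (hr : r * r = 1)
    (pq : Commute p q) (pr : Commute p r) (qr : Commute q r) (h1 : p ≠ 1) (h2 : q ≠ 1) (h3 : r ≠ 1)
    (h4 : p * q ≠ 1) (h5 : p * r ≠ 1) (h6 : q * r ≠ 1) (h7 : p * (q * r) ≠ 1) :
    ∃ A : Subgroup E, Cfsg.IsElementaryAbelian 2 A ∧ Nat.card A = 8 := by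
  let f := (H67.invHom p hp).noncommCoprod ((H67.invHom q hq).noncommCoprod (H67.invHom r hr) (by
    intro a b
    rcases H67.zmod_two_cases a with rfl | rfl <;> rcases H67.zmod_two_cases b with rfl | rfl <;>
      simp [H67.invHom_ofAdd_one, qr])) (by
    rintro a ⟨b, c⟩
    rcases H67.zmod_two_cases a with rfl | rfl <;> rcases H67.zmod_two_cases b with rfl | rfl <;>
      rcases H67.zmod_two_cases c with rfl | rfl <;> simp [H67.invHom_ofAdd_one, pq, pr])
  have hf : Function.Injective f := (injective_iff_map_eq_one f).2 (by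
    rintro ⟨a, b, c⟩
    rcases H67.zmod_two_cases a with rfl | rfl <;> rcases H67.zmod_two_cases b with rfl | rfl <;>
      rcases H67.zmod_two_cases c with rfl | rfl <;>
      simp [f, H67.invHom_ofAdd_one, h1, h2, h3, h4, h5, h6, h7])
  refine ⟨f.range, ⟨⟨⟨?_⟩⟩, ?_⟩, ?_⟩
  · rintro ⟨_, a, rfl⟩ ⟨_, b, rfl⟩
    exact Subtype.ext (by simp only [coe_mul, ← map_mul, mul_comm])
  · rintro _ ⟨a, rfl⟩
    rw [← map_pow, show a ^ 2 = 1 by revert a; decide, map_one]
  · rw [← Nat.card_congr (MonoidHom.ofInjective hf).toEquiv]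
    simp

/-- Let G be a finite group of even order with an involution z, H = C_G(z), such that H has a normal subgroup E of order 32 that is extraspecial and contains no elementary abelian subgroup of order 8 (the central product of a dihedral group of order 8 with a quaternion group), C_H(E) ≤ E, and H/E ≅ S₄. Then O(G) is abelian, and if G is not solvable then G is isomorphic to the automorphism group of PGL₃(4). -/
theorem result {G : Type*} [Group G] [Finite G]
    (hev : Even (Nat.card G)) (z : G) (hz : orderOf z = 2)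
    (E : Subgroup ↥(Subgroup.centralizer ({z} : Set G))) [hEn : E.Normal] (hE : Cfsg.IsExtraspecial 2 ↥E) (hE32 : Nat.card ↥E = 32)
    (hEminus : ∀ A : Subgroup ↥E, Cfsg.IsElementaryAbelian 2 A → Nat.card ↥A ≠ 8)
    (hCE : Subgroup.centralizer (E : Set ↥(Subgroup.centralizer ({z} : Set G))) ≤ E)
    (e : (↥(Subgroup.centralizer ({z} : Set G)) ⧸ E) ≃* Equiv.Perm (Fin 4)) {F : Type*} [Field F] [Fintype F] (hF : Fintype.card F = 4) :
    IsMulCommutative ↥(Cfsg.oddCore G) ∧
      (¬ Group.IsSolvable G → Nonempty (G ≃* MulAut (GL (Fin 3) F ⧸ Subgroup.center (GL (Fin 3) F)))) := by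
  have zz := H9.mul_self_of_orderOf_two hz
  have z1 := H9.ne_one_of_orderOf_two hz
  let z' : centralizer ({z} : Set G) := ⟨z, mem_centralizer_singleton_iff.2 rfl⟩
  have cz : ∀ g : centralizer ({z} : Set G), g * z' = z' * g := fun g =>
    Subtype.ext (mem_centralizer_singleton_iff.1 g.2)
  have zE : z' ∈ E := hCE fun g _ => cz g
  have es := H95.ES_of_central hE zE (fun c => z1 (congrArg Subtype.val c)) fun x _ => cz x
  have es' := es.map (centralizer ({z} : Set G)).subtype fun x _ c => Subtype.ext c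
  refine H40.E32.main hF (Q := E.map (centralizer ({z} : Set G)).subtype) (y := z)
    ⟨⟨es', fun g hg => ?_, fun g hg => ?_⟩, (card_map_of_injective (subtype_injective _)).trans hE32,
      ?_, e.toMonoidHom.comp (QuotientGroup.mk' E), e.surjective.comp (QuotientGroup.mk'_surjective E),
      fun g => ?_⟩
  · have h1 : g ∈ centralizer ({z} : Set G) := mem_centralizer_singleton_iff.2 (hg z es'.mem).symm
    exact es'.nondeg g ⟨⟨g, h1⟩, hCE fun x hx => Subtype.ext (hg x (mem_map_of_mem _ hx)), rfl⟩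
      fun x hx => (hg x hx).symm
  · exact H69.mem_normalizer_of_cj_le fun y hy => by
      obtain ⟨_, ⟨x, hx, rfl⟩, rfl⟩ := H69.mem_cj'.1 hy
      exact ⟨_, hEn.conj_mem x hx ⟨g, mem_centralizer_singleton_iff.2 hg⟩, rfl⟩
  · rintro _ ⟨u, hu, rfl⟩ _ ⟨v, hv, rfl⟩ uu vv uv
    by_contra c
    simp only [not_or, subtype_apply] at c uu vv uv
    obtain ⟨c1, c2, c3, c4, c5, c6⟩ := c
    have k : ∀ {a b : E}, ((a : centralizer ({z} : Set G)) : G) = (b : centralizer ({z} : Set G)) →
      a = b := fun c => Subtype.ext (Subtype.ext c)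
    have k' : ∀ {a b : E}, a = b →
      ((a : centralizer ({z} : Set G)) : G) = (b : centralizer ({z} : Set G)) := fun c => by rw [c]
    have i : ∀ {a b : G}, a * a = 1 → a * b = 1 → b = a := fun h1 h2 => mul_left_cancel (h2.trans h1.symm)
    obtain ⟨A, h1, h2⟩ := ea8 (p := (⟨z', zE⟩ : E)) (q := ⟨u, hu⟩) (r := ⟨v, hv⟩) (k zz) (k uu) (k vv)
      (Subtype.ext (cz u).symm) (Subtype.ext (cz v).symm) (k uv) (fun c => z1 (k' c))
      (fun c => c1 (k' c)) (fun c => c3 (k' c)) (fun c => c2 (i zz (k' c))) (fun c => c4 (i zz (k' c)))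
      (fun c => c5 (i uu (k' c))) fun c => c6 (by
        have : (u : G) * v = z := i zz (k' c)
        exact ((congrArg ((u : G) * ·) this).symm.trans (by rw [← mul_assoc, uu, one_mul])).symm)
    exact hEminus A h1 h2
  · rw [← mem_subgroupOf, subgroupOf, comap_map_eq_self_of_injective (subtype_injective _)]
    exact e.map_eq_one_iff.trans (QuotientGroup.eq_one_iff g)

end Cfsg.Agent.S3237
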