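import Cfsg.Statements.S3244
import Mathlib
import Cfsg.Agent.S3109
import Cfsg.Agent.Lib.Comp.PConstrained
import Cfsg.Agent.Lib.Invol.Dihedral
import Cfsg.Agent.Lib.PGroup.Basic
import Cfsg.Agent.Lib.Core.PCore

set_option autoImplicit false
open Cfsg

namespace Cfsg.Agent.S3244

open Subgroup

section
variable {G : Type*} [Group G] [Finite G]

theorem cyc_eq {C : Type*} [Group C] [Finite C] (h : IsCyclic C) {a b : C} (ha : orderOf a = 2)
    (hb : orderOf b = 2) : a = b := by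
  obtain ⟨c, h⟩ := h.exists_generator
  rw [(H9.eq_pow_half_of_mem_zpowers ha (h a)).2, (H9.eq_pow_half_of_mem_zpowers hb (h b)).2]

theorem norm_zpowers {t : G} (ht : orderOf t = 2) :
    normalizer (zpowers t : Set G) = centralizer ({t} : Set G) := by
  have t2 := H9.mul_self_of_orderOf_two ht
  have key : ∀ x ∈ zpowers t, x = 1 ∨ x = t := fun x hx => by
    by_cases h1 : x = 1
    · exact Or.inl h1
    · right
      have hx2 : x * x = 1 := by
        obtain ⟨k, rfl⟩ := hx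
        rw [← (Commute.refl t).mul_zpow, t2, one_zpow]
      have e1 := (H9.eq_pow_half_of_mem_zpowers (H9.orderOf_eq_two_of_mul_self h1 hx2) hx).2
      rw [ht] at e1
      simpa using e1
  ext g
  rw [mem_centralizer_singleton_iff]
  constructor
  · intro hg
    rcases key _ ((mem_normalizer_iff.1 hg t).1 (mem_zpowers t)) with h | h
    · exact absurd (by simpa using h) (H9.ne_one_of_orderOf_two ht)
    · exact mul_inv_eq_iff_eq_mul.1 h
  · intro hg
    have h1 : g * t * g⁻¹ = t := by rw [hg]; group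
    have h2 : g⁻¹ * t * g = t := by rw [mul_assoc, ← hg]; group
    refine mem_normalizer_iff.2 fun x => ⟨fun hx => ?_, fun hx => ?_⟩
    · rcases key x hx with rfl | rfl
      · simp
      · rw [h1]; exact mem_zpowers _
    · have e : x = g⁻¹ * (g * x * g⁻¹) * g := by group
      rcases key _ hx with h | h
      · rw [e, h]; simp
      · rw [e, h, h2]; exact mem_zpowers _

theorem loc_cent {t : G} (ht : orderOf t = 2) : IsTwoLocal (centralizer ({t} : Set G)) :=
  ⟨zpowers t, H9.isPGroup_zpowers_of_mul_self (H9.mul_self_of_orderOf_two ht),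
    by simpa using H9.ne_one_of_orderOf_two ht, (norm_zpowers ht).symm⟩

theorem exists_max {L : Subgroup G} (h : IsTwoLocal L) : ∃ U, IsMaximalTwoLocal U ∧ L ≤ U := by
  obtain ⟨U, hLU, hU⟩ := Finite.exists_le_maximal (p := fun U : Subgroup G => IsTwoLocal U) h
  exact ⟨U, ⟨hU.1, fun N hN hle => le_antisymm (hU.2 hN hle) hle⟩, hLU⟩

/-- The shape of a maximal 2-local subgroup whose 2-core has cyclic centre. -/
def Key (M : Subgroup G) (w : G) : Prop :=
  orderOf w = 2 ∧ w ∈ pCoreOf 2 M ∧ M = centralizer ({w} : Set G) ∧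
    ∀ z ∈ M, orderOf z = 2 → z ∈ centralizer (pCoreOf 2 M : Set G) → z = w

theorem exists_key (hO : ∀ t : G, orderOf t = 2 → centralizerPPrimeCore 2 t = ⊥)
    (hcon : ∀ T : Subgroup G, IsPGroup 2 T → T ≠ ⊥ → IsPConstrained 2 (normalizer (T : Set G)))
    {M : Subgroup G} (hM : IsMaximalTwoLocal M) (hc : IsCyclic (center (pCore 2 M))) :
    ∃ w, Key M w := by
  obtain ⟨T, hT, hT1, hMT⟩ := hM.1
  have hQ : IsPGroup 2 (pCoreOf 2 M) := H1.isPGroup_pCoreOf M
  have hQ1 : pCoreOf 2 M ≠ ⊥ := fun h => hT1 (le_bot_iff.1 (h ▸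
    H1.le_pCoreOf (hMT ▸ le_normalizer) hMT.le hT))
  have uniq : ∀ a ∈ pCoreOf 2 M, ∀ b ∈ pCoreOf 2 M, a ∈ centralizer (pCoreOf 2 M : Set G) →
      b ∈ centralizer (pCoreOf 2 M : Set G) → orderOf a = 2 → orderOf b = 2 → a = b := by
    have lift : ∀ a ∈ pCoreOf 2 M, a ∈ centralizer (pCoreOf 2 M : Set G) →
        ∃ x : center (pCore 2 M), (((x : pCore 2 M) : M) : G) = a := by
      rintro _ ⟨a, ha, rfl⟩ hc
      refine ⟨⟨⟨a, ha⟩, mem_center_iff.2 fun y => Subtype.ext (Subtype.ext ?_)⟩, rfl⟩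
      exact hc _ ⟨y.1, y.2, rfl⟩
    intro a ha b hb hac hbc ha2 hb2
    obtain ⟨x, rfl⟩ := lift a ha hac
    obtain ⟨y, rfl⟩ := lift b hb hbc
    simp only [orderOf_coe] at ha2 hb2
    rw [cyc_eq hc (a := x) (b := y) ha2 hb2]
  obtain ⟨w, hwQ, hwC, hw⟩ := H5.exists_mem_centralizer_orderOf_eq hQ le_rfl le_normalizer hQ1
  have hMw : M ≤ centralizer ({w} : Set G) := fun g hg => by
    have hn := H1.le_normalizer_pCoreOf (p := 2) M hg
    have h1 : g * w * g⁻¹ ∈ pCoreOf 2 M := (mem_normalizer_iff.1 hn w).1 hwQ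
    have h2 : g * w * g⁻¹ ∈ centralizer (pCoreOf 2 M : Set G) := fun y hy => by
      have h3 : g⁻¹ * y * g ∈ pCoreOf 2 M := by
        have := (mem_normalizer_iff.1 (inv_mem hn) y).1 hy
        rwa [inv_inv] at this
      have h4 := hwC _ h3
      calc y * (g * w * g⁻¹) = g * (g⁻¹ * y * g * w) * g⁻¹ := by group
        _ = g * w * g⁻¹ * y := by rw [h4]; group
    have := uniq _ h1 _ hwQ h2 hwC (by rw [H9.orderOf_conj, hw]) hw
    exact mem_centralizer_singleton_iff.2 (mul_inv_eq_iff_eq_mul.1 this)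
  have hMe : M = centralizer ({w} : Set G) := (hM.2 _ (loc_cent hw) hMw).symm
  refine ⟨w, hw, hwQ, hMe, fun z hz hz2 hzc => ?_⟩
  have hO' : pPrimeCore 2 M = ⊥ := by
    have := hO w hw
    rw [centralizerPPrimeCore, ← hMe] at this
    exact (map_eq_bot_iff_of_injective _ M.subtype_injective).1 this
  have hc' : IsPConstrained 2 M := hMT ▸ hcon T hT hT1
  have hle := (H23.isPConstrained_iff_of_pPrimeCore_eq_bot hO').1 hc'
  have hzQ : z ∈ pCoreOf 2 M :=
    ⟨⟨z, hz⟩, hle fun y hy => Subtype.ext (hzc _ ⟨y, hy, rfl⟩), rfl⟩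
  exact uniq _ hzQ _ hwQ hzc hwC hz2 hw

omit [Finite G] in
/-- The involutions in the centre of a subgroup over the 2-core. -/
theorem Key.eq_of_le {M D : Subgroup G} {w z : G} (h : Key M w) (hD : pCoreOf 2 M ≤ D)
    (hz : orderOf z = 2) (hc : z ∈ centralizer (D : Set G)) : z = w :=
  h.2.2.2 z (h.2.2.1 ▸ mem_centralizer_singleton_iff.2 (hc w (hD h.2.1)).symm) hz
    (centralizer_le (SetLike.coe_subset_coe.2 hD) hc)

theorem Key.norm_le {M D : Subgroup G} {w : G} (h : Key M w) (hD : pCoreOf 2 M ≤ D)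
    (hp : IsPGroup 2 D) (h1 : D ≠ ⊥) : normalizer (D : Set G) ≤ M := fun g hg => by
  obtain ⟨z, -, hzC, hz⟩ := H5.exists_mem_centralizer_orderOf_eq hp le_rfl le_normalizer h1
  have h2 : g * z * g⁻¹ ∈ centralizer (D : Set G) := fun y hy => by
    have h3 : g⁻¹ * y * g ∈ D := by
      have := (mem_normalizer_iff.1 (inv_mem hg) y).1 hy
      rwa [inv_inv] at this
    have h4 := hzC _ h3
    calc y * (g * z * g⁻¹) = g * (g⁻¹ * y * g * z) * g⁻¹ := by group
      _ = g * z * g⁻¹ * y := by rw [h4]; group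
  have e1 := h.eq_of_le hD hz hzC
  have e2 := h.eq_of_le hD (by rw [H9.orderOf_conj, hz]) h2
  rw [e1] at e2
  rw [h.2.2.1]
  exact mem_centralizer_singleton_iff.2 (mul_inv_eq_iff_eq_mul.1 e2)

theorem step {M D : Subgroup G} (hD : IsPGroup 2 D) (hDM : D ≤ M) (h : ¬ pCoreOf 2 M ≤ D) :
    ∃ E : Subgroup G, IsPGroup 2 E ∧ D < E ∧ E ≤ M ∧ E ≤ normalizer (D : Set G) := by
  have hp : IsPGroup 2 (D ⊔ pCoreOf 2 M : Subgroup G) :=
    IsPGroup.to_sup_of_normal_right' hD (H1.isPGroup_pCoreOf M)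
      (hDM.trans (H1.le_normalizer_pCoreOf M))
  have hlt : D < D ⊔ pCoreOf 2 M := left_lt_sup.2 h
  exact ⟨_, hp.to_le inf_le_left, H5.lt_inf_normalizer hp hlt,
    inf_le_left.trans (sup_le hDM (H1.pCoreOf_le M)), inf_le_right⟩

theorem unique_max (hK : ∀ M : Subgroup G, IsMaximalTwoLocal M → ∃ w, Key M w) (D : Subgroup G) :
    IsPGroup 2 D → D ≠ ⊥ → ∀ M M' : Subgroup G, IsMaximalTwoLocal M → IsMaximalTwoLocal M' →
      D ≤ M → D ≤ M' → M = M' := by
  induction D using WellFoundedGT.induction with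
  | ind D ih =>
  intro hD hD1
  obtain ⟨N, hN, hDN⟩ := exists_max (L := normalizer (D : Set G)) ⟨D, hD, hD1, rfl⟩
  have key : ∀ M : Subgroup G, IsMaximalTwoLocal M → D ≤ M → M = N := fun M hM hDM => by
    by_cases hQ : pCoreOf 2 M ≤ D
    · obtain ⟨w, hw⟩ := hK M hM
      by_cases hQ' : pCoreOf 2 N ≤ D
      · obtain ⟨w', hw'⟩ := hK N hN
        obtain ⟨z, -, hzC, hz⟩ := H5.exists_mem_centralizer_orderOf_eq hD le_rfl le_normalizer hD1
        rw [hw.2.2.1, hw'.2.2.1, ← hw.eq_of_le hQ hz hzC, ← hw'.eq_of_le hQ' hz hzC]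
      · obtain ⟨E, hE, hDE, hEN, hEn⟩ := step hD (le_normalizer.trans hDN) hQ'
        exact ih E hDE hE (ne_bot_of_gt hDE) M N hM hN (hEn.trans (hw.norm_le hQ hD hD1)) hEN
    · obtain ⟨E, hE, hDE, hEM, hEn⟩ := step hD hDM hQ
      exact ih E hDE hE (ne_bot_of_gt hDE) M N hM hN hEM (hEn.trans hDN)
  intro M M' hM hM' h h'
  rw [key M hM h, key M' hM' h']

theorem cent_le (hK : ∀ M : Subgroup G, IsMaximalTwoLocal M → ∃ w, Key M w) {M : Subgroup G}
    (hM : IsMaximalTwoLocal M) {t : G} (ht : orderOf t = 2) (htM : t ∈ M) :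
    centralizer ({t} : Set G) ≤ M := by
  obtain ⟨N, hN, hle⟩ := exists_max (loc_cent ht)
  rw [unique_max hK (zpowers t) (H9.isPGroup_zpowers_of_mul_self (H9.mul_self_of_orderOf_two ht))
    (by simpa using H9.ne_one_of_orderOf_two ht) M N hM hN (zpowers_le.2 htM)
    (zpowers_le.2 (hle (mem_centralizer_singleton_iff.2 rfl)))]
  exact hle

omit [Finite G] in
theorem card_cent_conj (g w : G) :
    Nat.card (centralizer ({g * w * g⁻¹} : Set G)) = Nat.card (centralizer ({w} : Set G)) := by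
  refine Nat.card_congr ⟨fun x => ⟨g⁻¹ * x * g, ?_⟩, fun x => ⟨g * x * g⁻¹, ?_⟩,
    fun x => Subtype.ext (by simp [mul_assoc]), fun x => Subtype.ext (by simp [mul_assoc])⟩
  · have := mem_centralizer_singleton_iff.1 x.2
    refine mem_centralizer_singleton_iff.2 ?_
    calc g⁻¹ * x * g * w = g⁻¹ * (x * (g * w * g⁻¹)) * g := by group
      _ = w * (g⁻¹ * x * g) := by rw [this]; group
  · have := mem_centralizer_singleton_iff.1 x.2
    refine mem_centralizer_singleton_iff.2 ?_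
    calc g * x * g⁻¹ * (g * w * g⁻¹) = g * (x * w) * g⁻¹ := by group
      _ = g * w * g⁻¹ * (g * x * g⁻¹) := by rw [this]; group

theorem eq_of_conj (hK : ∀ M : Subgroup G, IsMaximalTwoLocal M → ∃ w, Key M w) {M : Subgroup G}
    (hM : IsMaximalTwoLocal M) {w : G} (hw : Key M w) (g : G) (h : g * w * g⁻¹ ∈ M) :
    g * w * g⁻¹ = w := by
  have ho : orderOf (g * w * g⁻¹) = 2 := by rw [H9.orderOf_conj, hw.1]
  have e : centralizer ({g * w * g⁻¹} : Set G) = M :=
    eq_of_le_of_card_ge (cent_le hK hM ho h) (by rw [card_cent_conj, ← hw.2.2.1])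
  refine hw.2.2.2 _ h ho fun y hy => ?_
  exact mem_centralizer_singleton_iff.1 (e ▸ H1.pCoreOf_le M hy)

theorem invol_eq (hK : ∀ M : Subgroup G, IsMaximalTwoLocal M → ∃ w, Key M w) {M : Subgroup G}
    (hM : IsMaximalTwoLocal M) {w : G} (hw : Key M w) (hne : M ≠ ⊤) {t : G} (ht : orderOf t = 2)
    (htM : t ∈ M) : t = w := by
  obtain ⟨g, hg⟩ : ∃ g, g ∉ M := by
    by_contra h
    exact hne (eq_top_iff.2 fun g _ => by_contra fun h' => h ⟨g, h'⟩)
  have ho : orderOf (g * w * g⁻¹) = 2 := by rw [H9.orderOf_conj, hw.1]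
  have hu : g * w * g⁻¹ ∉ M := fun h => hg (by
    rw [hw.2.2.1]
    exact mem_centralizer_singleton_iff.2 (mul_inv_eq_iff_eq_mul.1 (eq_of_conj hK hM hw g h)))
  by_cases hc : IsConj (g * w * g⁻¹) t
  · obtain ⟨c, rfl⟩ := isConj_iff.1 hc
    have e : c * (g * w * g⁻¹) * c⁻¹ = (c * g) * w * (c * g)⁻¹ := by group
    rw [e] at htM ⊢
    exact eq_of_conj hK hM hw _ htM
  · obtain ⟨z, hz, hzu, hzt⟩ := H9.exists_involution_commute_of_not_isConj
      (H9.mul_self_of_orderOf_two ho) (H9.mul_self_of_orderOf_two ht) hc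
    have hzM : z ∈ M := cent_le hK hM ht htM (mem_centralizer_singleton_iff.2 hzt.eq)
    exact absurd (cent_le hK hM hz hzM (mem_centralizer_singleton_iff.2 hzu.symm.eq)) hu

end

/-- Say that a finite group G is of characteristic 2 type in the early sense when a Sylow 2-subgroup S of G has a self-centralizing normal subgroup of rank at least 3, S normalizes no nontrivial subgroup of odd order, and every 2-local subgroup of G is 2-constrained. If G is a non-abelian simple group of characteristic 2 type in this sense, then for some maximal 2-local subgroup M of G the centre of O₂(M) is not cyclic. -/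
theorem result {G : Type*} [Group G] [Finite G] [IsSimpleGroup G]
    (hG : ¬ IsMulCommutative G) (S : Sylow 2 G) (A : Subgroup G) (hA : Cfsg.IsSCN (S : Subgroup G) A) (hA3 : ¬ Cfsg.PRankLE 2 2 ↥A)
    (hinv : ∀ X : Subgroup G, Odd (Nat.card ↥X) → (S : Subgroup G) ≤ Subgroup.normalizer (X : Set G) → X = ⊥)
    (hcon : ∀ T : Subgroup G, IsPGroup 2 ↥T → T ≠ ⊥ → Cfsg.IsPConstrained 2 ↥(Subgroup.normalizer (T : Set G))) :
    ∃ M : Subgroup G, Cfsg.IsMaximalTwoLocal M ∧ ¬ IsCyclic ↥(Subgroup.center ↥(Cfsg.pCore 2 ↥M)) := by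
  open Subgroup in
  by_contra hcon'
  have hAA : ∀ a ∈ A, ∀ b ∈ A, a * b = b * a := fun a ha b hb =>
    ((hA.2.2.ge ha).2 b hb).symm
  have e := Subgroup.subgroupOfEquivOfLe hA.1
  have hO := S3109.result hG hcon S (A.subgroupOf S)
    ((Subgroup.normal_subgroupOf_iff_le_normalizer hA.1).2 hA.2.1)
    ⟨⟨fun a b => Subtype.ext (Subtype.ext (hAA _ a.2 _ b.2))⟩⟩
    (by
      ext x
      constructor
      · intro hx
        refine hA.2.2.le ⟨x.2, fun y hy => ?_⟩
        exact congrArg Subtype.val (hx ⟨y, hA.1 hy⟩ hy)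
      · intro hx y hy
        exact Subtype.ext (hAA _ hy _ hx))
    (fun h => hA3 fun B hB hB2 => by
      have := h (B.map e.symm.toMonoidHom) inferInstance (by
        rintro _ ⟨b, hb, rfl⟩
        rw [← map_pow, hB2 b hb, map_one])
      rwa [Subgroup.card_map_of_injective e.symm.injective] at this)
  have hK : ∀ M : Subgroup G, IsMaximalTwoLocal M → ∃ w, Key M w := fun M hM =>
    exists_key hO hcon hM (by_contra fun h => hcon' ⟨M, hM, h⟩)
  have hS1 : (S : Subgroup G) ≠ ⊥ := fun h => hA3 fun B _ _ => by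
    have hA0 : A = ⊥ := le_bot_iff.1 (h ▸ hA.1)
    have : Nat.card A = 1 := by rw [hA0]; simp
    exact (this ▸ Subgroup.card_le_card_group B).trans (by norm_num)
  obtain ⟨M, hM, hSM⟩ := exists_max (L := Subgroup.normalizer (S : Set G)) ⟨S, S.2, hS1, rfl⟩
  obtain ⟨w, hw⟩ := hK M hM
  have hne : M ≠ ⊤ := fun h => by
    have hz : w ∈ Subgroup.center G := Subgroup.mem_center_iff.2 fun g =>
      Subgroup.mem_centralizer_singleton_iff.1 (hw.2.2.1 ▸ h ▸ Subgroup.mem_top g)
    rcases (inferInstance : (Subgroup.center G).Normal).eq_bot_or_eq_top with h' | h'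
    · exact H9.ne_one_of_orderOf_two hw.1 (by simpa [h'] using hz)
    · exact hG ⟨⟨fun a b => Subgroup.mem_center_iff.1 (h' ▸ Subgroup.mem_top b) a⟩⟩
  refine hA3 fun B _ hB2 => ?_
  have hsub : ∀ b : B, ((b : A) : G) ∈ ({1, w} : Set G) := fun b => by
    by_cases h1 : ((b : A) : G) = 1
    · exact Or.inl h1
    · refine Or.inr (invol_eq hK hM hw hne (H9.orderOf_eq_two_of_mul_self h1 ?_)
        (hSM (Subgroup.le_normalizer (hA.1 (b : A).2))))
      have := congrArg Subtype.val (hB2 _ b.2)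
      simpa [pow_two] using this
  have h1 : Nat.card B ≤ Nat.card ({1, w} : Set G) :=
    Nat.card_le_card_of_injective (fun b : B => (⟨_, hsub b⟩ : ({1, w} : Set G)))
      fun a b h => Subtype.ext (Subtype.ext (Subtype.mk.inj h))
  have h2 : Nat.card ({1, w} : Set G) ≤ 2 := by
    rw [Nat.card_coe_set_eq]
    exact (Set.ncard_insert_le _ _).trans (by simp)
  omega

end Cfsg.Agent.S3244
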