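import Cfsg.Statements.S3245
import Cfsg.Agent.Lib.BSE14.Cor

set_option autoImplicit false
open Cfsg

namespace Cfsg.Agent.S3245

open H68 in
theorem exists_max {G : Type*} [Group G] [Finite G] {A : Subgroup G} (hA : IsPGroup 2 A) (h1 : A ≠ ⊥) :
    ∃ M, Cfsg.IsMaximalTwoLocal M ∧ Subgroup.normalizer (A : Set G) ≤ M := by
  obtain ⟨M, hM, hmax⟩ := Finite.exists_le_maximal (p := fun M : Subgroup G => Cfsg.IsTwoLocal M)
    (a := Subgroup.normalizer (A : Set G)) ⟨A, hA, h1, rfl⟩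
  exact ⟨M, ⟨hmax.1, fun N hN hle => le_antisymm (hmax.2 hN hle) hle⟩, hM⟩

open H68 in
theorem exists_se {G : Type*} [Group G] [Finite G] [IsSimpleGroup G] (hna : ∃ a b : G, a * b ≠ b * a)
    (h1 : ∀ M M' : Subgroup G, Cfsg.IsMaximalTwoLocal M → Cfsg.IsMaximalTwoLocal M' → ∃ g : G, M' = cj g M) :
    ∃ M : Subgroup G, Cfsg.IsStronglyPEmbedded 2 M := by
  haveI : Fact (Nat.Prime 2) := ⟨Nat.prime_two⟩
  obtain ⟨x, -, hx1, -, -, hx, -⟩ := H14.SuzSE.rank2_of_simple hna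
  have hev : 2 ∣ Nat.card (⊤ : Subgroup G) := by
    rw [Subgroup.card_top, ← H14.BSE.orderOf_two hx1 hx]
    exact orderOf_dvd_natCard x
  obtain ⟨S, hS⟩ := exists_sylowIn 2 (⊤ : Subgroup G)
  have hS1 := hS.ne_bot hev
  obtain ⟨M, hM, hSM⟩ := exists_max hS.isPGroup hS1
  have hsyl : ∀ M' A : Subgroup G, Cfsg.IsMaximalTwoLocal M' → IsPGroup 2 A → A ≤ M' →
      ∃ T, SylowIn 2 T ⊤ ∧ A ≤ T ∧ Subgroup.normalizer (T : Set G) ≤ M' := by
    intro M' A hM' hA hle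
    obtain ⟨g, rfl⟩ := h1 M M' hM hM'
    have h2 : SylowIn 2 (cj g S) ⊤ := hS.cj_of_mem trivial
    have h3 : Subgroup.normalizer (cj g S : Set G) ≤ cj g M := by
      rw [← cj_normalizer]
      exact cj_mono g hSM
    obtain ⟨m, hm, e⟩ := (h2.mono (Subgroup.le_normalizer.trans h3) le_top).exists_le_cj hA hle
    refine ⟨_, h2.cj_of_mem trivial, e, ?_⟩
    rw [← cj_normalizer]
    exact cj_le_of_mem hm h3
  have key : ∀ (A M₁ M₂ : Subgroup G), IsPGroup 2 A → A ≠ ⊥ → Cfsg.IsMaximalTwoLocal M₁ →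
      Cfsg.IsMaximalTwoLocal M₂ → A ≤ M₁ → A ≤ M₂ → M₁ = M₂ := by
    intro A
    induction A using WellFoundedGT.induction with
    | ind A ih =>
      intro M₁ M₂ hA hA1 hM₁ hM₂ h₁ h₂
      by_cases hAs : SylowIn 2 A ⊤
      · obtain ⟨T, hT, hAT, hTM⟩ := hsyl M₁ A hM₁ hA h₁
        have e := hAs.eq_of_le hT.isPGroup hAT le_top
        subst e
        obtain ⟨g, rfl⟩ := h1 M₁ M₂ hM₁ hM₂
        have h3 : SylowIn 2 (cj g⁻¹ T) M₁ := (hT.cj_of_mem trivial).mono (le_cj_iff.mp h₂) le_top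
        obtain ⟨m, hm, e⟩ := h3.exists_cj_eq (hT.mono h₁ le_top)
        rw [← cj_mul, ← mem_normalizer_iff_cj] at e
        have h4 : g ∈ M₁ := by
          have := M₁.mul_mem (M₁.inv_mem (hTM e)) hm
          simpa using this
        exact (cj_eq_of_mem h4).symm
      · obtain ⟨M₃, hM₃, h₃⟩ := exists_max hA hA1
        have step : ∀ M', Cfsg.IsMaximalTwoLocal M' → A ≤ M' → M' = M₃ := by
          intro M' hM' hle
          obtain ⟨T, hT, hAT, hTM⟩ := hsyl M' A hM' hA hle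
          obtain ⟨y, hyT, hyA, hyN⟩ := exists_mem_normalizer_of_lt hT.isPGroup
            (lt_of_le_of_ne hAT fun e => hAs (e ▸ hT))
          have hlt : A < T ⊓ Subgroup.normalizer (A : Set G) :=
            lt_of_le_of_ne (le_inf hAT Subgroup.le_normalizer) fun e => hyA (e.ge ⟨hyT, hyN⟩)
          exact ih _ hlt M' M₃ (hT.isPGroup.to_le inf_le_left) (ne_bot_of_gt hlt) hM' hM₃
            (inf_le_left.trans (Subgroup.le_normalizer.trans hTM)) (inf_le_right.trans h₃)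
        rw [step M₁ hM₁ h₁, step M₂ hM₂ h₂]
  refine ⟨M, spe_iff_normalizer.mpr ⟨?_, dvd_card_of_isPGroup_of_ne_bot hS.isPGroup hS1
    (Subgroup.le_normalizer.trans hSM), fun A hA hAp hA1 => ?_⟩⟩
  · intro e
    obtain ⟨T, hT, hT1, hTM⟩ := hM.1
    rw [e, eq_comm, Subgroup.normalizer_eq_top_iff] at hTM
    have h3 : T = ⊤ := (IsSimpleGroup.eq_bot_or_eq_top_of_normal T hTM).resolve_left hT1
    rw [h3] at hT
    haveI := (hT.of_equiv Subgroup.topEquiv).isNilpotent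
    obtain ⟨a, b, hab⟩ := hna
    exact hab (IsSimpleGroup.comm_iff_isSolvable.mpr inferInstance a b)
  · obtain ⟨M₃, hM₃, h₃⟩ := exists_max hAp hA1
    rw [key A M M₃ hAp hA1 hM hM₃ hA (Subgroup.le_normalizer.trans h₃)]
    exact h₃

/-- A finite non-abelian simple group in which all maximal 2-local subgroups are conjugate is isomorphic to L₂(2ⁿ), Sz(2ⁿ) or U₃(2ⁿ) for some n ≥ 2. -/
theorem result {G : Type*} [Group G] [Finite G] [IsSimpleGroup G] (hG : ¬ IsMulCommutative G)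
    (h1 : ∀ M M' : Subgroup G, Cfsg.IsMaximalTwoLocal M → Cfsg.IsMaximalTwoLocal M' → ∃ g : G, M' = M.map (MulAut.conj g).toMonoidHom) :
    (∃ (F : Type) (_ : Field F) (_ : Fintype F) (n : ℕ), 2 ≤ n ∧ Fintype.card F = 2 ^ n ∧
        Nonempty (G ≃* Matrix.ProjectiveSpecialLinearGroup (Fin 2) F)) ∨
      Cfsg.Lie.IsoSuzuki G ∨
      (∃ (F : Type) (_ : Field F) (_ : Fintype F) (n : ℕ), 2 ≤ n ∧ Fintype.card F = (2 ^ n) ^ 2 ∧ Nonempty (G ≃* Cfsg.PSU 3 F (2 ^ n))) := by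
  have hna := H14.BSE.not_comm_of hG
  obtain ⟨M, hM⟩ := exists_se hna h1
  rcases H14.BSE.isBender_of_simple_se hna (H14.BSE.se_iff_spe.mpr hM) with ⟨F, _, _, ⟨n, h1, h2⟩, h3⟩ | h | h
  · exact Or.inl ⟨F, _, _, n, h1, h2, h3⟩
  · exact Or.inr (Or.inl h)
  · exact Or.inr (Or.inr h)

end Cfsg.Agent.S3245
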