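import Cfsg.Statements.S3252
import Mathlib
import Cfsg.Agent.Lib.CZ.Main

set_option autoImplicit false
open Cfsg

namespace Cfsg.Agent.S3252

/-- Let G be a finite non-solvable group that is the product G = AB of a cyclic subgroup A and a subgroup B all of whose Sylow subgroups are cyclic. Then the quotient of G by its largest solvable normal subgroup is isomorphic to PGL₂(p) for some prime p > 3. -/
theorem result {G : Type*} [Group G] [Finite G] (hG : ¬ Group.IsSolvable G)
    (A B : Subgroup G) (hA : IsCyclic ↥A) (hB : ∀ (q : ℕ) [Fact q.Prime] (Q : Sylow q ↥B), IsCyclic ↥(Q : Subgroup ↥B))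
    (hAB : ∀ g : G, ∃ a ∈ A, ∃ b ∈ B, g = a * b)
    (R : Subgroup G) [hR : R.Normal] (hRs : Group.IsSolvable ↥R) (hRmax : ∀ N : Subgroup G, N.Normal → Group.IsSolvable ↥N → N ≤ R) :
    ∃ (F : Type) (_ : Field F) (_ : Fintype F) (p : ℕ), p.Prime ∧ 3 < p ∧ Fintype.card F = p ∧
      Nonempty ((G ⧸ R) ≃* (GL (Fin 2) F ⧸ Subgroup.center (GL (Fin 2) F))) := by
  have hrad : solvableRadical G = R :=
    le_antisymm (H1.solvableRadical_le hRmax) (H1.le_solvableRadical hRs)
  have hq : solvableRadical (G ⧸ R) = ⊥ := by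
    subst hrad
    exact H1.solvableRadical_quotient
  have : Nontrivial (G ⧸ R) := QuotientGroup.nontrivial_iff.2 fun h =>
    hG (H1.solvableRadical_eq_top_iff.1 (hrad.trans h))
  obtain ⟨a, ha⟩ := IsCyclic.exists_generator (α := A)
  have hF : H46.CZ.Fac (a : G) B := by
    refine ⟨⟨fun q hq Q => @hB q ⟨hq⟩ Q⟩, fun g => ?_⟩
    obtain ⟨x, hx, b, hb, e⟩ := hAB g
    obtain ⟨i, hi⟩ := Subgroup.mem_zpowers_iff.1 (ha ⟨x, hx⟩)
    exact ⟨x, Subgroup.mem_zpowers_iff.2 ⟨i, congrArg Subtype.val hi⟩, b, hb, e⟩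
  exact (H46.CZ.main hq (hF.map (QuotientGroup.mk'_surjective R))).2.2

end Cfsg.Agent.S3252
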