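import Mathlib
import Cfsg.Statements.S3260
import Cfsg.Agent.Lib.Flavell.Quad3
import Cfsg.Agent.Lib.ZJ.Constrained
import Cfsg.Agent.Lib.Core.CoprimeExt
import Cfsg.Agent.Lib.Core.CoprimeNorm
import Cfsg.Agent.S0205

set_option autoImplicit false
open Cfsg

namespace Cfsg.Agent.S3260

/-- Let p ≥ 5 be a prime, G a finite p-constrained group with Sylow p-subgroup S, and A a group of automorphisms of G of order coprime to |G| whose fixed-point subgroup has no section isomorphic to PSL₂(p). Then G = O_{p'}(G) · N_G(Z(J(S))), where J(S) is the subgroup generated by the abelian subgroups of S of largest order. -/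
theorem result {G : Type*} [Group G] [Finite G] (p : ℕ) [hp : Fact p.Prime] (hp5 : 5 ≤ p)
    (hG : Cfsg.IsPConstrained p G) (S : Sylow p G) (A : Subgroup (MulAut G)) (hA : (Nat.card ↥A).Coprime (Nat.card G))
    (C : Subgroup G) (hC : ∀ g : G, g ∈ C ↔ ∀ a ∈ A, a g = g)
    {F : Type*} [Field F] [Fintype F] (hF : Fintype.card F = p)
    (hfix : ¬ Cfsg.Involves (Matrix.ProjectiveSpecialLinearGroup (Fin 2) F) ↥C) :
    Cfsg.pPrimeCore p G ⊔ Subgroup.normalizer (Cfsg.centerThompsonAOf (S : Subgroup G) : Set G) = ⊤ := by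
-----
  by_cases hpA : p ∣ Nat.card A
  · rw [H1.pPrimeCore_eq_top_iff.2 (Nat.Coprime.coprime_dvd_left hpA hA).symm, top_sup_eq]
  set N := pPrimeCore p G with hN
  have hNA : ∀ a : A, ∀ x ∈ N, A.subtype a x ∈ N := fun a x hx => by
    have := Subgroup.characteristic_iff_le_comap.1 (inferInstance : N.Characteristic) a.1 hx
    exact this
  let φ := H2.quotAut A.subtype N hNA
  let S' := S.mapSurjective (QuotientGroup.mk'_surjective N)
  have hGn : (H2.sdL φ ⊤).Normal := by
    rw [H2.sdL, ← MonoidHom.range_eq_map, SemidirectProduct.range_inl_eq_ker_rightHom]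
    infer_instance
  have hidx : (H2.sdL φ ⊤).index = Nat.card A := by
    rw [H2.sdL, ← MonoidHom.range_eq_map, SemidirectProduct.range_inl_eq_ker_rightHom,
      Subgroup.index_ker, MonoidHom.range_eq_top.2 SemidirectProduct.rightHom_surjective,
      Subgroup.card_top]
  have hS1 : H68.SylowIn p (H2.sdL φ S') (H2.sdL φ ⊤) := H2.sylowIn_sdL_iff.2 (H68.sylowIn_top S')
  have hS2 : H68.SylowIn p (H2.sdL φ S') ⊤ := ⟨le_top, hS1.isPGroup, fun Q hQ h1 _ =>
    hS1.eq_of_le hQ h1 (H1.le_of_coprime_index (by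
      rw [hidx]
      exact H1.coprime_card_of_isPGroup_of_coprime hQ (hp.out.coprime_iff_not_dvd.2 hpA).symm))⟩
  have hinj : Function.Injective (SemidirectProduct.inl : G ⧸ N →* (G ⧸ N) ⋊[φ] A) :=
    SemidirectProduct.inl_injective
  have hcop : (Nat.card (⊤ : Subgroup A)).Coprime (Nat.card (⊤ : Subgroup (G ⧸ N))) := by
    rw [Subgroup.card_top, Subgroup.card_top]
    exact Nat.Coprime.coprime_dvd_right (Subgroup.card_quotient_dvd_card N) hA
  have hO : pCoreOf p (H2.sdL φ ⊤) = H2.sdL φ (pCore p (G ⧸ N)) := by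
    rw [H2.sdL, ← H1.map_pCoreOf_of_injective hinj, H1.pCoreOf_top]
  have hn := H57.EQ.zj_normal (by omega) hS2.toSylowTop hS1.le (by
    rw [hO, ← H57.map_inf_centralizer _ hinj]
    exact Subgroup.map_mono (inf_le_right.trans (H25.ZJ.centralizer_pCore_quotient_le hG)))
    (fun U V hUV hU g hg hq => H57.EQ.chief_F hp5 hF (H2.sd_coprime hcop) (fun hodd => by
      have hs := Cfsg.Agent.S0205.result hodd
      refine ⟨hs, fun hI => hfix (H57.involves_trans hI ?_)⟩
      rw [← H2.sdL_inf_fixSub, top_inf_eq]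
      have hs' : Group.IsSolvable (⊤ : Subgroup A) :=
        Group.isSolvable_of_surjective (f := (H2.sdREquiv (φ := φ) ⊤).symm.toMonoidHom)
          (H2.sdREquiv (φ := φ) ⊤).symm.surjective
      have hm : ∀ x : (⊤ : Subgroup C), ((QuotientGroup.mk' N).comp
          (C.subtype.comp (Subgroup.subtype ⊤))) x ∈ H2.fixSub φ ⊤ := fun x =>
        H2.mem_fixSub_top.2 fun a => by
          change H2.quotAut A.subtype N hNA a ((x.1.1 : G) : G ⧸ N) = ((x.1.1 : G) : G ⧸ N)
          rw [H2.quotAut_mk]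
          exact congrArg _ ((hC _).1 x.1.2 a a.2)
      refine H57.involves_of_surjective ⊤ ((H2.sdLEquiv (H2.fixSub φ ⊤)).toMonoidHom.comp
        (MonoidHom.codRestrict _ _ hm)) ((H2.sdLEquiv (H2.fixSub φ ⊤)).surjective.comp ?_)
      rintro ⟨y, hy⟩
      obtain ⟨x, rfl⟩ := QuotientGroup.mk_surjective y
      obtain ⟨n, hn, hxn⟩ := H2.ext_exists_mul_mem_fixSub (φ := A.subtype) (N := N) (B := ⊤)
        (fun b _ => hNA b) (H2.coprime_subgroups hA) (Or.inl hs') (x := x) (fun b _ => by
          have := H2.mem_fixSub_top.1 hy b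
          rw [H2.quotAut_mk] at this
          exact QuotientGroup.eq.1 this.symm)
      refine ⟨⟨⟨x * n, (hC _).2 fun a ha => H2.mem_fixSub_top.1 hxn ⟨a, ha⟩⟩, trivial⟩,
        Subtype.ext ?_⟩
      exact QuotientGroup.mk_mul_of_mem x hn) hUV hU hg hq)
  refine H25.ZJ.sup_normalizer_eq_top_of_map_normal H1.coprime_card_pPrimeCore
    (S.isPGroup'.to_le (H25.ZJ.centerThompsonAOf_le_self _)) ?_
  rw [H25.ZJ.map_centerThompsonAOf_of_inf_ker _ (by
    rw [QuotientGroup.ker_mk']
    exact H25.ZJ.inf_eq_bot_of_coprime H1.coprime_card_pPrimeCore S.isPGroup')]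
  have h2 := hn.comap (SemidirectProduct.inl : G ⧸ N →* (G ⧸ N) ⋊[φ] A)
  change (Subgroup.comap _ (centerThompsonAOf (Subgroup.map _ (S' : Subgroup (G ⧸ N))))).Normal at h2
  rwa [← H24.map_centerThompsonAOf hinj, Subgroup.comap_map_eq_self_of_injective hinj] at h2

end Cfsg.Agent.S3260
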