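import Cfsg.Statements.S3262
import Cfsg.Agent.Lib.H81.TP9

set_option autoImplicit false
open Cfsg

namespace Cfsg.Agent.S3262


/-- Let G be a finite doubly transitive permutation group on a set Ω with no regular normal subgroup, in which the stabilizer of two points is isomorphic to the alternating group A₅. Then either Ω has 7 points and G ≅ A₇, or Ω has 12 points and G is isomorphic to the Mathieu group M₁₁. -/
theorem result {G : Type*} [Group G] [Finite G] {Ω : Type*} [Fintype Ω] [MulAction G Ω] [FaithfulSMul G Ω]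
    (h2 : MulAction.IsMultiplyPretransitive G Ω 2) (a b : Ω) (hab : a ≠ b)
    (hnr : ∀ N : Subgroup G, N.Normal → MulAction.IsPretransitive ↥N Ω → (∀ x : Ω, MulAction.stabilizer ↥N x = ⊥) → False)
    (e : ↥(MulAction.stabilizer G a ⊓ MulAction.stabilizer G b) ≃* ↥(alternatingGroup (Fin 5))) :
    (Fintype.card Ω = 7 ∧ Nonempty (G ≃* ↥(alternatingGroup (Fin 7)))) ∨ (Fintype.card Ω = 12 ∧ Cfsg.Spor.IsoM11 G) := by
  obtain ⟨t, v, y, k⟩ := H81.TP.kd5
  have h := H81.TP.tp_of h2 hab (k.map e.symm)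
  have hr : ¬ H81.HasReg G Ω := fun ⟨N, hN, h1, h3⟩ => hnr N hN
    ⟨fun x z => (h1 x z).elim fun r hr => ⟨⟨r, hr.1⟩, hr.2⟩⟩
    fun x => (Subgroup.eq_bot_iff_forall _).2 fun g hg => Subtype.ext (h3 x g g.2 hg)
  rw [← Nat.card_eq_fintype_card]
  rcases h.main with ⟨s, hs, e⟩ | e | e | e | ⟨e | e, e'⟩
  exacts [absurd (h.reg_of_sup (H9.ne_one_of_orderOf_two hs) e) hr, absurd e.1 hr,
    absurd e.1 (by norm_num), Or.inr e.2, absurd e.1 (by norm_num), Or.inl ⟨e.2, e'⟩]

end Cfsg.Agent.S3262
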