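import Cfsg.Statements.S3927
import Mathlib
import Cfsg.Agent.Base
import Cfsg.Agent.Lib.Lin35.Flav

set_option autoImplicit false
open Cfsg

namespace Cfsg.Agent.S3927

universe u

open Subgroup H35L.Flav in
open scoped Pointwise in
theorem amb (k : ℕ) (n : ℕ) : ∀ (Γ : Type u) [Group Γ] [Finite Γ], Nat.card Γ = n → ∀ a : Γ,
    normalClosure ((zpowers a : Subgroup Γ) : Set Γ) = ⊤ →
    ∀ L : Subgroup Γ, a ∈ L → (∀ x : Γ, (fun c : Γ => c * a * c⁻¹ * a⁻¹)^[k] x ∈ L) → L = ⊤ := by
  induction n using Nat.strong_induction_on with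
  | _ n ih =>
  intro Γ _ _ hn a hA L haL hL
  have hAL : zpowers a ≤ L := zpowers_le.mpr haL
  by_contra hLt
  have hAt : zpowers a ≠ ⊤ := fun ht => hLt (top_le_iff.mp (ht ▸ hAL))
  obtain ⟨M, ⟨hM, hAM⟩, huniq⟩ := gt_zipper (zpowers a) hA hAt (fun ht => hLt (top_le_iff.mp
    (ht.ge.trans (sSup_le fun H hH => by
      have ha : a ∈ H := hH.1 (mem_zpowers a)
      have he : (zpowers (⟨a, ha⟩ : H)) = (zpowers a).subgroupOf H := by
        apply map_injective H.subtype_injective
        rw [MonoidHom.map_zpowers, subgroupOf_map_subtype, inf_eq_left.mpr hH.1]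
        rfl
      have := ih _ (hn ▸ H1.card_lt_of_ne_top hH.2.1) H rfl ⟨a, ha⟩ (he ▸ hH.2.2)
        (L.subgroupOf H) haL (fun x => by
          have h1 : ∀ j : ℕ, (((fun c : H => c * ⟨a, ha⟩ * c⁻¹ * (⟨a, ha⟩ : H)⁻¹)^[j] x : H) : Γ) =
              (fun c : Γ => c * a * c⁻¹ * a⁻¹)^[j] x := by
            intro j
            induction j with
            | zero => rfl
            | succ j ihj =>
              rw [Function.iterate_succ_apply', Function.iterate_succ_apply', ← ihj]
              rfl
          rw [mem_subgroupOf, h1]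
          exact hL _)
      exact subgroupOf_eq_top.mp this))))
  obtain ⟨M', hM', hLM⟩ := (eq_top_or_exists_le_coatom L).resolve_left hLt
  obtain rfl : M' = M := huniq M' ⟨hM', hAL.trans hLM⟩
  have hstep : ∀ y : Γ, y * a * y⁻¹ * a⁻¹ ∈ M' → y ∈ M' := by
    intro y hy
    have h1 : y * a * y⁻¹ ∈ M' := by
      simpa using M'.mul_mem hy (hAM (mem_zpowers a))
    have h2 : zpowers a ≤ MulAut.conj y⁻¹ • M' := by
      rw [zpowers_le, H1.mem_conj_smul_iff]
      simpa using h1
    have h3 := huniq _ ⟨isCoatom_conj hM' y⁻¹, h2⟩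
    rw [← H1.mem_normalizer_iff_conj_smul_eq, normalizer_coatom hA hM' hAM] at h3
    exact (inv_mem_iff).mp h3
  have hall : ∀ j : ℕ, ∀ x : Γ, (fun c : Γ => c * a * c⁻¹ * a⁻¹)^[j] x ∈ M' → x ∈ M' := by
    intro j
    induction j with
    | zero => exact fun x hx => hx
    | succ j ihj =>
      intro x hx
      rw [Function.iterate_succ_apply'] at hx
      exact ihj x (hstep _ hx)
  exact hM'.1 (eq_top_iff.mpr fun x _ => hall k x (hLM (hL x)))

/-- Let G be a finite group and α an automorphism of G with [G, α] = G, that is, the elements g·α(g)⁻¹ generate G. Then for every k ≥ 1 the iterated commutators [g, α, …, α] with k entries α — the values of the k-th iterate of the map c ↦ c·α(c)⁻¹ — also generate G. -/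
theorem result {G : Type*} [Group G] [Finite G] (α : MulAut G) (hG : Subgroup.closure (Set.range (fun c : G => c * (α c)⁻¹)) = ⊤) (k : ℕ) (hk : 1 ≤ k) :
    Subgroup.closure (Set.range ((fun c : G => c * (α c)⁻¹)^[k])) = ⊤ := by
  classical
  let φ : Subgroup.zpowers α →* MulAut G := (Subgroup.zpowers α).subtype
  let a : G ⋊[φ] Subgroup.zpowers α := SemidirectProduct.inr ⟨α, Subgroup.mem_zpowers α⟩
  haveI : Finite (G ⋊[φ] Subgroup.zpowers α) := Finite.of_equiv _ SemidirectProduct.equivProd.symm
  set J := Subgroup.closure (Set.range ((fun c : G => c * (α c)⁻¹)^[k])) with hJ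
  have hcomm : ∀ β : Subgroup.zpowers α, ∀ c : G, (β : MulAut G) (α c) = α ((β : MulAut G) c) := by
    rintro ⟨β, i, rfl⟩ c
    have : α ^ i * α = α * α ^ i := (Commute.zpow_left (Commute.refl α) i).eq
    exact congrArg (fun γ : MulAut G => γ c) this
  have hit : ∀ β : Subgroup.zpowers α, ∀ j : ℕ, ∀ c : G,
      (β : MulAut G) ((fun c : G => c * (α c)⁻¹)^[j] c) =
        (fun c : G => c * (α c)⁻¹)^[j] ((β : MulAut G) c) := by
    intro β j c
    induction j with
    | zero => rfl
    | succ j ih =>
      rw [Function.iterate_succ_apply', Function.iterate_succ_apply', ← ih]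
      simp only [map_mul, map_inv, hcomm]
  have hinv : ∀ β : Subgroup.zpowers α, ∀ x ∈ J, (β : MulAut G) x ∈ J := by
    intro β x hx
    have : J ≤ J.comap (β : MulAut G).toMonoidHom := by
      rw [hJ, Subgroup.closure_le]
      rintro _ ⟨c, rfl⟩
      exact Subgroup.subset_closure ⟨_, (hit β k c).symm⟩
    exact this hx
  let L : Subgroup (G ⋊[φ] Subgroup.zpowers α) :=
    { carrier := {x | x.left ∈ J}
      mul_mem' := fun {x y} hx hy => J.mul_mem hx (hinv x.right _ hy)
      one_mem' := J.one_mem
      inv_mem' := fun {x} hx => hinv x.right⁻¹ _ (J.inv_mem hx) }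
  have hf : ∀ x : G ⋊[φ] Subgroup.zpowers α, x * a * x⁻¹ * a⁻¹ =
      SemidirectProduct.inl (x.left * (α x.left)⁻¹) := by
    intro x
    have hx : x = SemidirectProduct.inl x.left * SemidirectProduct.inr x.right :=
      (SemidirectProduct.inl_left_mul_inr_right x).symm
    have hc : SemidirectProduct.inr x.right * a = a * SemidirectProduct.inr x.right := by
      simp only [a, ← map_mul]
      exact congrArg _ (Subtype.ext (MulEquiv.ext fun c => hcomm x.right c))
    have h2 : (SemidirectProduct.inl (α x.left) : G ⋊[φ] Subgroup.zpowers α) =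
        a * SemidirectProduct.inl x.left * a⁻¹ := by
      simp only [a, ← map_inv]
      exact SemidirectProduct.inl_aut (φ := φ) ⟨α, Subgroup.mem_zpowers α⟩ x.left
    rw [map_mul, map_inv, h2]
    calc x * a * x⁻¹ * a⁻¹ = SemidirectProduct.inl x.left * (SemidirectProduct.inr x.right * a) *
          (SemidirectProduct.inr x.right)⁻¹ * (SemidirectProduct.inl x.left)⁻¹ * a⁻¹ := by
          conv_lhs => rw [hx]
          group
      _ = _ := by rw [hc]; group
  have hfj : ∀ j : ℕ, ∀ x : G ⋊[φ] Subgroup.zpowers α,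
      ((fun c : G ⋊[φ] Subgroup.zpowers α => c * a * c⁻¹ * a⁻¹)^[j] x).left =
        (fun c : G => c * (α c)⁻¹)^[j] x.left := by
    intro j x
    induction j with
    | zero => rfl
    | succ j ih =>
      rw [Function.iterate_succ_apply', Function.iterate_succ_apply', ← ih, hf]
      rfl
  have hnc : Subgroup.normalClosure ((Subgroup.zpowers a : Subgroup _) : Set (G ⋊[φ] Subgroup.zpowers α)) = ⊤ := by
    set N := Subgroup.normalClosure ((Subgroup.zpowers a : Subgroup _) : Set (G ⋊[φ] Subgroup.zpowers α))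
    have haN : a ∈ N := Subgroup.subset_normalClosure (Subgroup.mem_zpowers a)
    have h1 : N.comap SemidirectProduct.inl = ⊤ := by
      rw [eq_top_iff, ← hG, Subgroup.closure_le]
      rintro _ ⟨c, rfl⟩
      have := hf (SemidirectProduct.inl c)
      rw [SetLike.mem_coe, Subgroup.mem_comap]
      simp only [SemidirectProduct.left_inl] at this
      rw [← this]
      exact N.mul_mem (Subgroup.Normal.conj_mem inferInstance a haN _) (N.inv_mem haN)
    rw [eq_top_iff]
    intro x _
    rw [← SemidirectProduct.inl_left_mul_inr_right x]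
    refine N.mul_mem (show x.left ∈ N.comap SemidirectProduct.inl from h1 ▸ Subgroup.mem_top _) ?_
    obtain ⟨i, hi⟩ := x.right.2
    have : x.right = (⟨α, Subgroup.mem_zpowers α⟩ : Subgroup.zpowers α) ^ i := Subtype.ext hi.symm
    rw [this, map_zpow]
    exact N.zpow_mem haN i
  have hL := amb k _ _ rfl a hnc L J.one_mem (fun x => by
    show _ ∈ J
    rw [hfj]
    exact Subgroup.subset_closure ⟨_, rfl⟩)
  rw [eq_top_iff]
  intro g _
  have : (SemidirectProduct.inl g : G ⋊[φ] Subgroup.zpowers α) ∈ L := hL ▸ Subgroup.mem_top _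
  exact this

end Cfsg.Agent.S3927
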