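import Mathlib
import Cfsg.Statements.S3949

set_option autoImplicit false
open Cfsg

namespace Cfsg.Agent.S3949


/-- Let G be a finite group and α an automorphism of G of order 2 such that the elements g·α(g)⁻¹ generate G. Let j be a positive integer such that 2^j divides the order of no element inverted by α. Then the set of values of the j-th iterate of the map c ↦ c·α(c)⁻¹ is exactly the set of elements of odd order inverted by α. -/
theorem result {G : Type*} [Group G] [Finite G] (α : MulAut G) (hα : orderOf α = 2) (hG : Subgroup.closure (Set.range (fun c : G => c * (α c)⁻¹)) = ⊤)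
    (j : ℕ) (hj : ∀ g : G, α g = g⁻¹ → ¬ 2 ^ j ∣ orderOf g) :
    Set.range ((fun c : G => c * (α c)⁻¹)^[j]) = {g : G | Odd (orderOf g) ∧ α g = g⁻¹} := by
  have h2 : ∀ g, α (α g) = g := fun g => by
    have := pow_orderOf_eq_one α
    rw [hα, sq] at this
    exact DFunLike.congr_fun this g
  have h3 : ∀ (i : ℕ) (g : G), α g = g⁻¹ → (fun c : G => c * (α c)⁻¹)^[i] g = g ^ 2 ^ i := by
    intro i
    induction i with
    | zero => intro g _; simp
    | succ i ih =>
      intro g hg
      rw [Function.iterate_succ_apply, ih _ (by simp [hg]), hg, inv_inv, ← sq, ← pow_mul, pow_succ']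
  rcases j with _ | j
  · exact absurd (by simp) (hj 1 (by simp))
  ext g
  constructor
  · rintro ⟨c, rfl⟩
    have h4 : α (c * (α c)⁻¹) = (c * (α c)⁻¹)⁻¹ := by simp [h2]
    rw [Function.iterate_succ_apply, h3 _ _ h4]
    refine ⟨?_, by rw [map_pow, h4, inv_pow]⟩
    have h5 := hj _ h4
    obtain ⟨k, m, hm, h6⟩ := Nat.exists_eq_two_pow_mul_odd (orderOf_pos (c * (α c)⁻¹)).ne'
    have h7 : k ≤ j := by
      by_contra h7
      exact h5 (h6 ▸ (pow_dvd_pow 2 (by omega)).mul_right m)
    refine hm.of_dvd_nat (orderOf_dvd_of_pow_eq_one ?_)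
    rw [← pow_mul, ← orderOf_dvd_iff_pow_eq_one, h6]
    exact Nat.mul_dvd_mul_right (pow_dvd_pow 2 h7) m
  · rintro ⟨ho, hg⟩
    obtain ⟨m, hm⟩ := exists_pow_eq_self_of_coprime (x := g) (n := 2 ^ (j + 1))
      ((Nat.coprime_two_left.mpr ho).pow_left _)
    refine ⟨g ^ m, ?_⟩
    rw [h3 _ _ (by rw [map_pow, hg, inv_pow]), ← pow_mul, mul_comm, pow_mul, hm]

end Cfsg.Agent.S3949
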