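import Cfsg.Statements.S3264
import Cfsg.Agent.S3927
import Cfsg.Agent.S3949

set_option autoImplicit false
open Cfsg

namespace Cfsg.Agent.S3264

/-- Let G be a non-abelian finite simple group and X a conjugacy class of involutions of G. Form the graph on X in which two distinct involutions are joined when their product has odd order. Then this graph is connected. (By the Baer–Suzuki Theorem the graph has at least one edge; connectedness is the stronger statement.) -/
theorem result {G : Type*} [Group G] [Finite G] [IsSimpleGroup G]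
    (hG : ¬ IsMulCommutative G) (t : G) (ht : orderOf t = 2) :
    (SimpleGraph.fromRel fun x y : {x : G // IsConj t x} => Odd (orderOf (x.1 * y.1))).Connected := by
  have htt : t * t = 1 := by rw [← pow_two, ← ht, pow_orderOf_eq_one]
  have ti : t⁻¹ = t := inv_eq_of_mul_eq_one_right htt
  have hz : ∀ N : Subgroup G, N.Normal → (∀ c : G, c * (t * c * t⁻¹)⁻¹ ∈ N) → N = ⊤ := fun N hN h =>
    hN.eq_bot_or_eq_top.resolve_left fun e => by
      have h1 : t ∈ Subgroup.center G := Subgroup.mem_center_iff.2 fun c => by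
        have := mul_inv_eq_one.1 (Subgroup.mem_bot.1 (e ▸ h c))
        rw [eq_mul_inv_iff_mul_eq] at this
        exact this
      rcases (inferInstance : (Subgroup.center G).Normal).eq_bot_or_eq_top with e | e
      · rw [e, Subgroup.mem_bot] at h1
        simp [h1] at ht
      · exact hG ⟨⟨fun a b => (Subgroup.mem_center_iff.1 (e ▸ Subgroup.mem_top b) a)⟩⟩
  have h2 : orderOf (MulAut.conj t) = 2 := by
    haveI : Fact (Nat.Prime 2) := ⟨Nat.prime_two⟩
    refine orderOf_eq_prime (by rw [← map_pow, pow_two, htt, map_one]) fun e => ?_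
    have := hz ⊥ inferInstance fun c => by
      rw [← MulAut.conj_apply, e]; simp
    exact hG ⟨⟨fun a b => by
      rw [Subgroup.mem_bot.1 (this.ge (Subgroup.mem_top a)), one_mul, mul_one]⟩⟩
  have h3 : Subgroup.closure (Set.range fun c : G => c * (MulAut.conj t c)⁻¹) = ⊤ := by
    refine hz _ ⟨fun x hx g => ?_⟩ fun c => Subgroup.subset_closure ⟨c, rfl⟩
    induction hx using Subgroup.closure_induction with
    | mem x hx =>
      obtain ⟨c, rfl⟩ := hx
      have : g * (c * (MulAut.conj t c)⁻¹) * g⁻¹ =
          (g * c) * (MulAut.conj t (g * c))⁻¹ * (g * (MulAut.conj t g)⁻¹)⁻¹ := by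
        simp only [MulAut.conj_apply]; group
      simp only [this]
      exact mul_mem (Subgroup.subset_closure ⟨_, rfl⟩) (inv_mem (Subgroup.subset_closure ⟨_, rfl⟩))
    | one => simp
    | mul a b _ _ ha hb => simpa [mul_assoc] using mul_mem ha hb
    | inv a _ ha => simpa [mul_assoc] using inv_mem ha
  have h4 := S3927.result _ h3 (Nat.card G) Nat.card_pos
  rw [S3949.result _ h2 h3 _ fun g _ d => absurd (Nat.le_of_dvd Nat.card_pos
    (d.trans (orderOf_dvd_natCard g))) (not_le.2 Nat.lt_two_pow_self)] at h4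
  set Γ := SimpleGraph.fromRel fun x y : {x : G // IsConj t x} => Odd (orderOf (x.1 * y.1))
  let cj (g : G) (x : {x : G // IsConj t x}) : {x : G // IsConj t x} :=
    ⟨g * x.1 * g⁻¹, x.2.trans (isConj_iff.2 ⟨g, rfl⟩)⟩
  have ho : ∀ (g : G) (x y : {x : G // IsConj t x}),
      orderOf ((cj g x).1 * (cj g y).1) = orderOf (x.1 * y.1) := fun g x y => by
    rw [← (MulAut.conj g).orderOf_eq (x.1 * y.1)]; congr 1; simp [cj, mul_assoc]
  have hr : ∀ (g : G) {x y}, Γ.Reachable x y → Γ.Reachable (cj g x) (cj g y) := fun g x y h =>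
    h.map (G' := Γ) ⟨cj g, fun {a b} (h : Γ.Adj a b) => show Γ.Adj _ _ from
      ⟨fun e => h.1 (Subtype.ext (by simpa [cj] using congrArg Subtype.val e)),
        by simpa only [ho] using h.2⟩⟩
  let t0 : {x : G // IsConj t x} := ⟨t, IsConj.refl t⟩
  have mul : ∀ g h : G, Γ.Reachable t0 (cj g t0) → Γ.Reachable t0 (cj h t0) →
      Γ.Reachable t0 (cj (g * h) t0) := fun g h a b => by
    convert a.trans (hr g b) using 1
    exact Subtype.ext (by simp [cj, mul_assoc])
  have one : cj 1 t0 = t0 := Subtype.ext (by simp [cj])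
  have key : ∀ g : G, Γ.Reachable t0 (cj g t0) := fun g => by
    have hg : g ∈ Subgroup.closure _ := h4 ▸ Subgroup.mem_top g
    induction hg using Subgroup.closure_induction with
    | mem x hx =>
      by_cases e : t0 = cj x t0
      · exact e ▸ .refl _
      refine SimpleGraph.Adj.reachable ⟨e, Or.inl ?_⟩
      have : t * (x * t * x⁻¹) = (x ^ 2)⁻¹ := by
        have := hx.2
        rw [MulAut.conj_apply, ti] at this
        rw [← mul_assoc, ← mul_assoc, this, pow_two, mul_inv_rev]
      simp only [cj, t0, this, orderOf_inv]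
      exact hx.1.of_dvd_nat (orderOf_pow_dvd 2)
    | one => rw [one]
    | mul a b _ _ ha hb => exact mul a b ha hb
    | inv a _ ha =>
      have := (hr a⁻¹ ha).symm
      rwa [show cj a⁻¹ (cj a t0) = t0 from Subtype.ext (by simp [cj, mul_assoc])] at this
  refine (SimpleGraph.connected_iff_exists_forall_reachable _).2 ⟨t0, fun ⟨x, hx⟩ => ?_⟩
  obtain ⟨g, rfl⟩ := isConj_iff.1 hx
  exact key g

end Cfsg.Agent.S3264
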