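import Mathlib
import Cfsg.Agent.Lib.InvChar.CycInt
import Cfsg.Statements.S3306

set_option autoImplicit false
open Cfsg

namespace Cfsg.Agent.S3306

/-- Let G be a finite nonsolvable group in which any two distinct Sylow 2-subgroups intersect in a cyclic group, and let N be a solvable normal subgroup of G. Then the image of N in G/O(G) is a cyclic 2-group contained in the centre of G/O(G) (O(G) the largest normal subgroup of odd order). In other words the solvable radical of G is V·O(G) with V a cyclic 2-group central modulo O(G). -/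
theorem result {G : Type*} [Group G] [Finite G] (hns : ¬ Group.IsSolvable G)
    (hC : ∀ S T : Sylow 2 G, S ≠ T → IsCyclic ↥((S : Subgroup G) ⊓ (T : Subgroup G)))
    (N : Subgroup G) [N.Normal] (hN : Group.IsSolvable ↥N) :
    IsCyclic ↥(N.map (QuotientGroup.mk' (Cfsg.oddCore G))) ∧ IsPGroup 2 ↥(N.map (QuotientGroup.mk' (Cfsg.oddCore G))) ∧
      N.map (QuotientGroup.mk' (Cfsg.oddCore G)) ≤ Subgroup.center (G ⧸ Cfsg.oddCore G) := by
  have hπ := QuotientGroup.mk'_surjective (oddCore G)
  have hC' : H72.CycInt (G ⧸ oddCore G) := H72.CycInt.of_surjective hC hπ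
  have hns' : ¬ Group.IsSolvable (G ⧸ oddCore G) := fun h =>
    hns (H1.isSolvable_of_normal_of_quotient _ H72.isSolvable_oddCore h)
  have hO : oddCore (G ⧸ oddCore G) = ⊥ := H1.pPrimeCore_quotient_pPrimeCore
  have hV := hC'.isCyclic_pCore hns'
  haveI : (N.map (QuotientGroup.mk' (oddCore G))).Normal := Subgroup.Normal.map inferInstance _ hπ
  have hle := H72.le_pCore_of_isCyclic hO hV (N.map (QuotientGroup.mk' (oddCore G)))
    (Group.isSolvable_of_surjective (MonoidHom.subgroupMap_surjective _ N))
  exact ⟨Subgroup.isCyclic_of_le hle, H1.isPGroup_pCore.to_le hle,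
    hle.trans (hC'.pCore_le_center hns' hO)⟩

end Cfsg.Agent.S3306
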