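import Cfsg.Statements.S3307
import Mathlib
import Cfsg.Agent.Lib.GWCor.QGroup
import Cfsg.Agent.Lib.GW.DGrp3
import Cfsg.Agent.S0205

set_option autoImplicit false
open Cfsg

namespace Cfsg.Agent.S3307

open Subgroup

theorem exists_sylow_map {G H : Type*} [Group G] [Group H] [Finite G] {p : ℕ} [Fact p.Prime]
    (f : G →* H) (hf : Function.Surjective f) (T : Sylow p H) {P : Subgroup G} (hP : IsPGroup p P)
    (h : P ≤ (T : Subgroup H).comap f) :
    ∃ S : Sylow p G, P ≤ S ∧ S.mapSurjective hf = T := by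
  have := Finite.of_surjective f hf
  obtain ⟨S, h1, h2⟩ := H69.exists_isSylowIn_le hP h
  obtain ⟨S, rfl⟩ := (h1.trans_of_not_dvd le_top (by
    rw [relIndex_top_right, index_comap_of_surjective _ hf]; exact T.not_dvd_index)).exists_sylow_top
  exact ⟨S, h2, Sylow.ext ((S.mapSurjective hf).3 T.2 (map_le_iff_le_comap.2 h1.le)).symm⟩

theorem arith {q n : ℕ} (h1 : Odd q) (h2 : ¬ 8 ∣ n)
    (h3 : Nat.gcd 2 (q - 1) * n = q * (q - 1) * (q + 1)) : q % 8 = 3 ∨ q % 8 = 5 := by
  obtain ⟨k, rfl⟩ := h1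
  rw [Nat.add_sub_cancel, Nat.gcd_mul_right_right] at h3
  by_contra h4
  obtain ⟨m, rfl | rfl⟩ : ∃ m, k = 4 * m ∨ k = 4 * m + 3 := ⟨k / 4, by omega⟩
  · exact h2 ⟨(8 * m + 1) * m * (4 * m + 1), by linarith⟩
  · exact h2 ⟨(8 * m + 7) * (4 * m + 3) * (m + 1), by linarith⟩

/-- Let G be a finite nonsolvable group whose Sylow 2-subgroups are generalized quaternion and in which any two distinct Sylow 2-subgroups intersect in a cyclic group. Then the Sylow 2-subgroups are quaternion of order 8, and G has a normal subgroup G₁ of odd index containing O(G) (the largest normal subgroup of odd order) with G₁/O(G) isomorphic to SL(2,q) for some prime power q > 3 with q ≡ 3 or 5 mod 8. -/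
theorem result {G : Type*} [Group G] [Finite G] (hns : ¬ Group.IsSolvable G)
    (hQ : ∀ S : Sylow 2 G, ∃ n : ℕ, Nonempty (↥(S : Subgroup G) ≃* QuaternionGroup (2 ^ (n + 1))))
    (hC : ∀ S T : Sylow 2 G, S ≠ T → IsCyclic ↥((S : Subgroup G) ⊓ (T : Subgroup G))) :
    (∀ S : Sylow 2 G, Nonempty (↥(S : Subgroup G) ≃* QuaternionGroup 2)) ∧
    ∃ (G₁ : Subgroup G) (_ : G₁.Normal) (_ : ((Cfsg.oddCore G).subgroupOf G₁).Normal),
      Odd G₁.index ∧ Cfsg.oddCore G ≤ G₁ ∧
      ∃ (F : Type) (_ : Field F) (_ : Fintype F), (Fintype.card F % 8 = 3 ∨ Fintype.card F % 8 = 5) ∧ 3 < Fintype.card F ∧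
        Nonempty (↥G₁ ⧸ (Cfsg.oddCore G).subgroupOf G₁ ≃* Matrix.SpecialLinearGroup (Fin 2) F) := by
  have ho := H1.odd_card_oddCore (G := G)
  have ho' := Nat.two_dvd_ne_zero.2 (Nat.odd_iff.1 ho)
  have hO : pPrimeCore 2 (G ⧸ oddCore G) = ⊥ := H1.pPrimeCore_quotient_pPrimeCore
  have hπ := QuotientGroup.mk'_surjective (oddCore G)
  have hk : Odd (Nat.card (QuotientGroup.mk' (oddCore G)).ker) := by rwa [QuotientGroup.ker_mk']
  obtain ⟨S₀⟩ : Nonempty (Sylow 2 G) := inferInstance
  obtain ⟨n₀, ⟨e₀⟩⟩ := hQ S₀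
  obtain ⟨e₁⟩ := H29.sylow_equiv_of_odd_ker _ hπ hk S₀ (S₀.mapSurjective hπ)
  obtain ⟨z, Q, _, _, f, h⟩ := H29.exists_cov' ((H29.rankOne_of_quaternion S₀ e₀).quotient _ ho') hO
    (H29.even_of_quaternion (e₁.symm.trans e₀))
  have hg : Function.Surjective (f.comp (QuotientGroup.mk' (oddCore G))) := h.surj.comp hπ
  obtain ⟨L, hL⟩ := h.d2.md (h.core hO) fun h1 => hns (by
    have := h.isSolvable_iff.2 h1
    have := Cfsg.Agent.S0205.result ho
    exact Group.isSolvable_of_ker_le_range (oddCore G).subtype (QuotientGroup.mk' (oddCore G))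
      (by simp))
  have := hL.normal
  have key : ∀ T : Sylow 2 Q, Nat.card T = 4 ∧ (T : Subgroup Q) ≤ L := fun T => by
    obtain ⟨V, a, b, hV, h1⟩ := hL.exists_four_syl
      ((H69.isSylowIn_top T).inf_normal le_top le_normalizer_of_normal)
    obtain ⟨y, hy, h2, h3, -⟩ := hL.oneClass.exists_rot hL.cd hV (h1.trans inf_le_right)
    obtain ⟨S, -, rfl⟩ := exists_sylow_map _ hg T IsPGroup.of_bot bot_le
    have h4 : ((S : Subgroup G) ⊓ V.comap (f.comp (QuotientGroup.mk' (oddCore G)))).map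
        (f.comp (QuotientGroup.mk' (oddCore G))) = V := by
      refine le_antisymm (map_le_iff_le_comap.2 inf_le_right) fun v hv => ?_
      obtain ⟨x, hx, rfl⟩ := (h1 hv).1
      exact ⟨x, ⟨hx, hv⟩, rfl⟩
    obtain ⟨S', h5, h6⟩ := exists_sylow_map _ hg (y • S.mapSurjective hg)
      (S.2.to_le (inf_le_left (b := V.comap (f.comp (QuotientGroup.mk' (oddCore G))))))
      (inf_le_right.trans (comap_mono ((H69.cj_eq_self_iff.2 hy.2).ge.trans
        (H69.cj_mono y (h1.trans inf_le_left)))))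
    obtain rfl : S = S' := by
      by_contra h7
      have := H45.cyclicS (hC S S' h7) (le_inf inf_le_left h5)
      exact hV.not_cyclic (h4 ▸ isCyclic_of_surjective _ (MonoidHom.subgroupMap_surjective _ _))
    have h7 := (h.d2.isKleinFour (S.mapSurjective hg).2 (g := y) (Nat.not_even_iff_odd.1 fun h7 =>
      absurd (h2 2 Nat.prime_two h7.two_dvd) (by simp)) (Sylow.smul_eq_iff_mem_normalizer.1 h6.symm)
      fun h7 => hV.ne (by
        rw [← h3, ← mem_centralizer_singleton_iff.1 (h7 (h1 hV.mem_left).1),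
          mul_inv_cancel_right])).card_four
    exact ⟨h7, (eq_of_le_of_card_ge (h1.trans inf_le_left) (h7.trans hV.card.symm).le).ge.trans
      (h1.trans inf_le_right)⟩
  obtain ⟨T⟩ : Nonempty (Sylow 2 Q) := inferInstance
  have h8 : ¬ 8 ∣ Nat.card L := fun h8 => T.not_dvd_index (by
    have := h8.trans (card_subgroup_dvd_card L)
    rw [← card_mul_index (T : Subgroup Q), show Nat.card (T : Subgroup Q) = 4 from (key T).1] at this
    omega)
  refine ⟨fun S => ?_, (L.comap f).comap (QuotientGroup.mk' _), inferInstance, inferInstance, ?_,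
    (QuotientGroup.ker_mk' _).ge.trans (ker_le_comap _ _), ?_⟩
  · obtain ⟨n, ⟨e⟩⟩ := hQ S
    obtain ⟨e'⟩ := H29.sylow_equiv_of_odd_ker _ hπ hk S (S.mapSurjective hπ)
    have h1 := (h.comap ((S.mapSurjective hπ).mapSurjective h.surj)).card
    have h2 := card_le_of_le (le_comap_map f (S.mapSurjective hπ))
    rw [show Nat.card (((S.mapSurjective hπ).mapSurjective h.surj : Subgroup Q)) = 4 from
      (key _).1] at h1
    rw [← Nat.card_congr e'.toEquiv, Nat.card_congr e.toEquiv, Nat.card_eq_fintype_card,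
      QuaternionGroup.card] at h2
    replace h2 := h2.trans h1.le
    obtain rfl : n = 0 := by
      by_contra h3
      have := Nat.pow_le_pow_right two_pos (show 2 ≤ n + 1 by omega)
      omega
    exact ⟨e⟩
  · rw [index_comap_of_surjective _ hπ, index_comap_of_surjective _ h.surj]
    exact (Nat.odd_iff.2 (Nat.two_dvd_ne_zero.1 T.not_dvd_index)).of_dvd_nat
      (index_dvd_of_le (key T).2)
  obtain ⟨F, _, _, h1, h2, ⟨e⟩⟩ := hL.typ.resolve_right fun h1 =>
    h8 (by rw [H29.card_of_isA7 h1.1]; norm_num)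
  have h3 := H10.card_PSL_two (F := F)
  rw [← Nat.card_congr e.toEquiv, Nat.card_eq_fintype_card] at h3
  obtain ⟨e'⟩ := h.sl_comap (by rwa [Nat.card_eq_fintype_card]) e
  refine ⟨F, inferInstance, inferInstance, arith h1 h8 h3, h2, ⟨((QuotientGroup.quotientMulEquivOfEq
    ?_).trans (QuotientGroup.quotientKerEquivOfSurjective _
      ((QuotientGroup.mk' _).subgroupComap_surjective_of_surjective (L.comap f) hπ))).trans e'⟩⟩
  ext x
  simp only [MonoidHom.mem_ker, Subtype.ext_iff, mem_subgroupOf]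
  exact (QuotientGroup.eq_one_iff _).symm

end Cfsg.Agent.S3307
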