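import Cfsg.Statements.S3329
import Mathlib
import Cfsg.Agent.Base
import Cfsg.Agent.Lib.A8.Main8

set_option autoImplicit false
open Cfsg

namespace Cfsg.Agent.S3329

open H58.SE H58.St Subgroup in

/-- A 3-local characterization of the alternating group of degree 8. Let G be a finite group whose Sylow 3-subgroup D is elementary abelian of order 9, generated by y and z, and suppose: (i) C_G(D) = D and N_G(D)/D is dihedral of order 8; (ii) D is normal in C_G(y), C_G(y) has order 18, D is normal in N_G(⟨y⟩) and N_G(⟨y⟩)/D is elementary abelian of order 4; (iii) C_G(z) is isomorphic to the direct product of a cyclic group of order 3 and the alternating group of degree 5, and N_G(⟨z⟩) is isomorphic to the subgroup of index 2 of Sym(3) × Sym(5) consisting of the pairs of permutations whose signs agree. Then G is isomorphic to the alternating group of degree 8. -/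
theorem result {G : Type*} [Group G] [Finite G]
    (P : Sylow 3 G) (D : Subgroup G) (hDP : D = P) (y z : G) (hgen : Subgroup.closure {y, z} = D)
    (hcomm : IsMulCommutative D) (hcard : Nat.card D = 9) (hexp : ∀ a ∈ D, a ^ 3 = 1)
    (hC : Subgroup.centralizer (D : Set G) = D)
    (eN : Subgroup.normalizer (D : Set G) ⧸ D.subgroupOf (Subgroup.normalizer (D : Set G)) ≃* DihedralGroup 4)
    (hyn : (D.subgroupOf (Subgroup.centralizer ({y} : Set G))).Normal)
    (hycard : Nat.card (Subgroup.centralizer ({y} : Set G)) = 18)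
    (Ny : Subgroup G) (hNy : Ny = Subgroup.normalizer (Subgroup.zpowers y : Set G))
    (hyN : D ≤ Ny) [hyNn : (D.subgroupOf Ny).Normal]
    (hyNcard : Nat.card (Ny ⧸ D.subgroupOf Ny) = 4) (hyNexp : ∀ g : Ny ⧸ D.subgroupOf Ny, g ^ 2 = 1)
    (eC : Subgroup.centralizer ({z} : Set G) ≃* Multiplicative (ZMod 3) × alternatingGroup (Fin 5))
    (eL : Subgroup.normalizer (Subgroup.zpowers z : Set G) ≃*
      (((Equiv.Perm.sign).comp (MonoidHom.fst (Equiv.Perm (Fin 3)) (Equiv.Perm (Fin 5)))) *
        ((Equiv.Perm.sign).comp (MonoidHom.snd (Equiv.Perm (Fin 3)) (Equiv.Perm (Fin 5))))).ker) :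
    Nonempty (G ≃* alternatingGroup (Fin 8)) := by
  have hD : Syl9 D := by
    refine ⟨fun h27 => ?_, hcard, fun x hx y hy => setLike_mul_comm hx hy, hexp⟩
    have h1 := P.not_dvd_index
    have h2 := (P : Subgroup G).card_mul_index
    rw [← hDP, hcard] at h2
    rw [← hDP] at h1
    omega
  obtain ⟨m, hm, hba, hDD, i, j, hj, rfl⟩ := exists_ba _ (fun p hp => hp) eL hD hgen
  have hq : ∀ n : normalizer (D : Set G), ∀ k : ℕ, (n : G) ^ k ∈ D ↔ eN n ^ k = 1 := by
    intro n k
    rw [← map_pow, EmbeddingLike.map_eq_one_iff, ← QuotientGroup.mk_pow, QuotientGroup.eq_one_iff]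
    rfl
  have hyD : D ≤ centralizer {e m i j} := fun d hd =>
    mem_centralizer_singleton_iff.2 (hD.comm d hd _ (hDD ▸ hba.e_mem i j))
  obtain ⟨b, hb⟩ := hba.exists_b hj (by
    intro k hk
    rw [hDD]
    exact (normal_subgroupOf_iff_le_normalizer hyD).1 hyn (mem_centralizer_singleton_iff.2 hk))
    (by
      intro k hk
      have h1 := (D.subgroupOf (centralizer {e m i j})).card_mul_index
      rw [hycard, Nat.card_congr (subgroupOfEquivOfLe hyD).toEquiv, hcard] at h1
      exact hDD ▸ mul_self_mem_of_index_two (show (D.subgroupOf _).index = 2 by omega)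
        ⟨k, mem_centralizer_singleton_iff.2 hk⟩)
    (by
      rw [hDD]
      intro n hn
      exact (hq ⟨n, hn⟩ 4).2 (by generalize eN _ = x; revert x; decide))
    (by
      rw [hDD]
      obtain ⟨n, hn⟩ := QuotientGroup.mk_surjective (eN.symm (DihedralGroup.r 1))
      refine ⟨n, n.2, ?_⟩
      rw [← pow_two, hq, hn, MulEquiv.apply_symm_apply]
      decide)
  exact hb.alt8 fun p hp => by rw [hm] at hp; exact hp

end Cfsg.Agent.S3329
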