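import Cfsg.Statements.S3330
import Mathlib
import Cfsg.Agent.Base
import Cfsg.Agent.Lib.A8.Ex2

set_option autoImplicit false
open Cfsg

namespace Cfsg.Agent.S3330

open H58.SE H58.St Subgroup in

/-- A 3-local characterization of the symmetric group of degree 8, with one exceptional configuration. Let G be a finite group whose Sylow 3-subgroup D is elementary abelian of order 9, generated by y and z, and suppose: (i) C_G(D) has order 18, N_G(D)/D is isomorphic to the direct product of a dihedral group of order 8 and a group of order 2, and N_G(D)/C_G(D) is dihedral of order 8; (ii) D is normal in C_G(y), C_G(y) has order 36 with every square lying in D, D is normal in N_G(⟨y⟩), and N_G(⟨y⟩) has order 72 with every square lying in D; (iii) C_G(z) is isomorphic to the direct product of a cyclic group of order 3 and Sym(5), and N_G(⟨z⟩) is isomorphic to Sym(3) × Sym(5). Then either G is isomorphic to the symmetric group of degree 8, or the generalized Fitting subgroup of G is a minimal normal subgroup isomorphic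 to Alt(5) × Alt(5) of index 4 with every square of G lying in it. -/
theorem result {G : Type*} [Group G] [Finite G]
    (P : Sylow 3 G) (D : Subgroup G) (hDP : D = P) (y z : G) (hgen : Subgroup.closure {y, z} = D)
    (hcomm : IsMulCommutative D) (hcard : Nat.card D = 9) (hexp : ∀ a ∈ D, a ^ 3 = 1)
    (hC : Nat.card (Subgroup.centralizer (D : Set G)) = 18)
    (eN : Subgroup.normalizer (D : Set G) ⧸ D.subgroupOf (Subgroup.normalizer (D : Set G)) ≃* DihedralGroup 4 × Multiplicative (ZMod 2))
    [hcn : ((Subgroup.centralizer (D : Set G)).subgroupOf (Subgroup.normalizer (D : Set G))).Normal]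
    (eNC : Subgroup.normalizer (D : Set G) ⧸ (Subgroup.centralizer (D : Set G)).subgroupOf (Subgroup.normalizer (D : Set G)) ≃* DihedralGroup 4)
    (hyn : (D.subgroupOf (Subgroup.centralizer ({y} : Set G))).Normal)
    (hycard : Nat.card (Subgroup.centralizer ({y} : Set G)) = 36)
    (hysq : ∀ g ∈ Subgroup.centralizer ({y} : Set G), g ^ 2 ∈ D)
    (Ny : Subgroup G) (hNy : Ny = Subgroup.normalizer (Subgroup.zpowers y : Set G))
    (hyNn : (D.subgroupOf Ny).Normal) (hyNcard : Nat.card Ny = 72) (hyNsq : ∀ g ∈ Ny, g ^ 2 ∈ D)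
    (eC : Subgroup.centralizer ({z} : Set G) ≃* Multiplicative (ZMod 3) × Equiv.Perm (Fin 5))
    (eL : Subgroup.normalizer (Subgroup.zpowers z : Set G) ≃* Equiv.Perm (Fin 3) × Equiv.Perm (Fin 5)) :
    Nonempty (G ≃* Equiv.Perm (Fin 8)) ∨
      ∃ N : Subgroup G, N.Normal ∧ Cfsg.generalizedFittingSubgroup G = N ∧
        Nonempty (N ≃* alternatingGroup (Fin 5) × alternatingGroup (Fin 5)) ∧
        (∀ K : Subgroup G, K.Normal → K ≤ N → K = ⊥ ∨ K = N) ∧
        N.index = 4 ∧ ∀ g : G, g ^ 2 ∈ N := by
  have hD : Syl9 D := by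
    refine ⟨fun h27 => ?_, hcard, fun x hx y hy => setLike_mul_comm hx hy, hexp⟩
    have h1 := P.not_dvd_index
    have h2 := (P : Subgroup G).card_mul_index
    rw [← hDP, hcard] at h2
    rw [← hDP] at h1
    omega
  obtain ⟨m, hm, hba, hDD, i, j, hj, rfl⟩ :=
    exists_ba ⊤ (fun p _ => trivial) (eL.trans topEquiv.symm) hD hgen
  have hq : ∀ n : normalizer (D : Set G), ∀ k : ℕ, (n : G) ^ k ∈ D ↔ eN n ^ k = 1 := by
    intro n k
    rw [← map_pow, EmbeddingLike.map_eq_one_iff, ← QuotientGroup.mk_pow, QuotientGroup.eq_one_iff]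
    rfl
  have hyD : D ≤ centralizer {e m i j} := fun d hd =>
    mem_centralizer_singleton_iff.2 (hD.comm d hd _ (hDD ▸ hba.e_mem i j))
  have hg : Good m (e m i j) := by
    intro k hk
    rw [hDD]
    exact (normal_subgroupOf_iff_le_normalizer hyD).1 hyn (mem_centralizer_singleton_iff.2 hk)
  have hsq : ∀ k, k * e m i j = e m i j * k → k * k ∈ DD m := fun k hk =>
    hDD ▸ pow_two k ▸ hysq k (mem_centralizer_singleton_iff.2 hk)
  obtain ⟨b, hb⟩ := hba.exists_b hj hg hsq
    (by
      rw [hDD]
      intro n hn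
      exact (hq ⟨n, hn⟩ 4).2 (by generalize eN _ = x; revert x; decide))
    (by
      rw [hDD]
      obtain ⟨n, hn⟩ := QuotientGroup.mk_surjective (eN.symm (DihedralGroup.r 1, 1))
      refine ⟨n, n.2, ?_⟩
      rw [← pow_two, hq, hn, MulEquiv.apply_symm_apply]
      decide)
  have hi : i ≠ 0 := by
    rintro rfl
    have := hg.conj hb.b_N
    rw [hb.b_conj] at this
    exact hba.not_good (hba.good_sign this (by simp [hj]) Iff.rfl)
  obtain ⟨b, hb, hw⟩ := hb.exists_w
  have h : Sx m b := ⟨hb, fun p => hm ▸ mem_top p, fun k l hk hl =>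
    hba.sign_inv (Q := fun d => ∀ k, k * d = d * k → k * k ∈ DD m) (by
      intro d n hn hd k hk
      have := (mem_normalizer_iff.1 hn _).1 (hd (n⁻¹ * k * n) (by
        simpa [mul_assoc] using conj_comm (g := n⁻¹) hk))
      simpa [mul_assoc] using this) hsq (by simp [hi, hk]) (by simp [hj, hl])⟩
  obtain rfl := hDD
  rcases hw with hw | ⟨-, hw⟩
  · exact Or.inl (h.sym8 hw (h.ct eNC))
  · obtain ⟨n, hn⟩ := h.exc hw ((h.ct eNC).resolve_right fun ⟨_, _, h6⟩ => h.no_six hw h6)
    exact Or.inr hn.struct

end Cfsg.Agent.S3330
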