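import Cfsg.Statements.S3332
import Mathlib
import Cfsg.Agent.Lib.CompW.Key2
import Cfsg.Agent.Lib.CompW.KeySE
import Cfsg.Agent.Lib.CompW.Scn

set_option autoImplicit false
open Cfsg

namespace Cfsg.Agent.S3332

/-- Let G be a finite group of 2-rank at least 4 with O_{2'}(G) = 1 whose Sylow 2-subgroup S has a normal abelian subgroup of rank at least 3 that is its own centralizer in S. If the centralizer of every involution of G is solvable, then O_{2'}(C_G(t)) = 1 for every involution t of G. -/
theorem result {G : Type*} [Group G] [Finite G]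
    (hrank : ¬ Cfsg.PRankLE 2 3 G) (hO : Cfsg.oddCore G = ⊥) (S : Sylow 2 G)
    (A : Subgroup G) (hAS : A ≤ S) (hAn : (A.subgroupOf S).Normal) (hAc : IsMulCommutative A)
    (hAself : (S : Subgroup G) ⊓ Subgroup.centralizer (A : Set G) = A) (hA3 : ¬ Cfsg.PRankLE 2 2 A)
    (hsol : ∀ t : G, orderOf t = 2 → Group.IsSolvable (Subgroup.centralizer ({t} : Set G))) :
    ∀ t : G, orderOf t = 2 → Cfsg.oddCore (Subgroup.centralizer ({t} : Set G)) = ⊥ := by

  intro t ht
  have h := H3.CW.core_le_of_constrained (H3.CW.sft2 G) (H3.CW.seCore G)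
    (fun t ht => by
      haveI := hsol t ht
      exact H2.isSolvable_of_le (H44.coreOf_le 2 _) this)
    (fun t ht => by
      haveI := hsol t ht
      exact H44.pLayerOf_eq_bot_iff'.2
        (H44.isPConstrained_iff_pLayer_eq_bot.1 H23.isPConstrained_of_isSolvable))
    (H68.sylowIn_top S) (H3.CW.conn_of_normal_abelian' S.isPGroup' hAS hAn hAc hA3) ht
  have hO' : Cfsg.pPrimeCore 2 G = ⊥ := hO
  rw [hO', le_bot_iff] at h
  exact H44.coreOf_eq_bot_iff.1 h

end Cfsg.Agent.S3332
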