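import Cfsg.Statements.S3338
import Mathlib
import Cfsg.Agent.Lib.U20.Glue
import Cfsg.Agent.Lib.ClGeo.Heart

set_option autoImplicit false
open Cfsg

namespace Cfsg.Agent.S3338

open H94.U20 Subgroup in
theorem zP (z : P) (h : ∀ p, z * p = p * z) : z = 1 := by
  have := simpleP
  rcases (normal_of_characteristic (center P)).eq_bot_or_eq_top with a | a
  · exact mem_bot.1 (a ▸ mem_center_iff.2 fun p => (h p).symm)
  have c := map_commutator_eq Γ mkP
  rw [H11.U.commutator_SU_eq_top (by norm_num) (by norm_num), ← MonoidHom.range_eq_map,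
    MonoidHom.range_eq_top.2 mkP_surj, ← commutator_def,
    (commutator_eq_bot_iff_center_eq_top P).2 a] at c
  exact mem_bot.1 (c ▸ mem_top z)

/-- Let X be a finite group with O_{2'}(X) = 1, and let A ≤ X be a subgroup of order 2^20 whose normalizer H = N_X(A) is a product H = AK with A ∩ K = 1, where K is isomorphic either to the unitary group U₆(2) or to a group having a normal subgroup of index 2 isomorphic to U₆(2) with trivial centralizer; suppose A is a minimal normal subgroup of H. Then H is not strongly 3-embedded in X: either H = X, or some conjugate of H by an element outside H meets H in a subgroup of order divisible by 3. -/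
theorem result {X : Type*} [Group X] [Finite X]
    (hO : Cfsg.oddCore X = ⊥) (A : Subgroup X) (hA : Nat.card A = 2 ^ 20)
    (H : Subgroup X) (hH : H = Subgroup.normalizer (A : Set X))
    (K : Subgroup X) (hKH : K ≤ H) (hAK : A ⊓ K = ⊥) (hHAK : A ⊔ K = H)
    (F : Type*) [Field F] [Fintype F] (hF : Fintype.card F = 4)
    (hK : Nonempty (K ≃* Cfsg.PSU 6 F 2) ∨
      ∃ K₀ : Subgroup K, K₀.Normal ∧ K₀.index = 2 ∧ Nonempty (K₀ ≃* Cfsg.PSU 6 F 2) ∧
        Subgroup.centralizer (K₀ : Set K) = ⊥)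
    (hmin : ∀ B : Subgroup X, B ≤ A → (∀ h ∈ H, ∀ b ∈ B, h * b * h⁻¹ ∈ B) → B = ⊥ ∨ B = A) :
    H = ⊤ ∨ ∃ g : X, g ∉ H ∧ 3 ∣ Nat.card ↥(H ⊓ H.map (MulAut.conj g).toMonoidHom) := by
  subst hH
  by_contra! h
  let φ := H30.psuCongr (FiniteField.ringEquivOfCardEq (K := H30.F4) (hF.symm ▸ rfl)) 6 2 (K := F)
  obtain ⟨ι, i1, i2, i3, i4⟩ : ∃ ι : H94.U20.P →* K, Function.Injective ι ∧
      (∀ σ p, ∃ p', σ * ι p * σ⁻¹ = ι p') ∧ (∀ σ τ, σ ∉ ι.range → τ ∉ ι.range → σ * τ ∈ ι.range) ∧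
      ∀ σ, (∀ p, σ * ι p = ι p * σ) → σ = 1 := by
    rcases hK with ⟨⟨e⟩⟩ | ⟨K₀, hn, hi, ⟨e⟩, hc⟩
    · let ψ := φ.trans e.symm
      refine ⟨ψ, ψ.injective, fun σ p => (ψ.surjective _).imp fun _ => Eq.symm,
        fun σ τ _ _ => ψ.surjective _, fun σ hσ => ?_⟩
      obtain ⟨z, rfl⟩ := ψ.surjective σ
      rw [zP z fun p => ψ.injective (by rw [map_mul, map_mul]; exact hσ p), map_one]
    · let ψ := φ.trans e.symm
      have r : ∀ σ, σ ∈ (K₀.subtype.comp ψ.toMonoidHom).range ↔ σ ∈ K₀ := fun σ =>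
        ⟨by rintro ⟨p, rfl⟩; exact (ψ p).2, fun a => (ψ.surjective ⟨σ, a⟩).imp fun _ e =>
          congrArg Subtype.val e⟩
      refine ⟨K₀.subtype.comp ψ.toMonoidHom, K₀.subtype_injective.comp ψ.injective,
        fun σ p => ((r _).2 (hn.conj_mem _ (ψ p).2 σ)).imp fun _ => Eq.symm, fun σ τ a b => ?_,
        fun σ hσ => Subgroup.mem_bot.1 (hc ▸ fun k hk => ?_)⟩
      · rw [r] at a b ⊢
        exact (Subgroup.mul_mem_iff_of_index_two hi).2 (iff_of_false a b)
      · obtain ⟨p, rfl⟩ := (r k).2 hk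
        exact (hσ p).symm
  obtain ⟨q, β, k⟩ := H94.U20.exists_KF hA (fun k hk => H94.U20.mem_norm.1 (hKH hk)) hAK
    (fun g hg => by
      have := H94.U20.mem_norm.2 hg
      rw [← hHAK, ← SetLike.mem_coe, Subgroup.coe_mul_of_right_le_normalizer_left A K hKH] at this
      exact this)
    (fun B a b => hmin B a fun g hg => b g (H94.U20.mem_norm.1 hg)) ι i1 i2 i3 i4
    fun x x1 x3 n g e => by
      have : Fact (Nat.Prime 3) := ⟨Nat.prime_three⟩
      by_contra a
      refine h.2 g (mt H94.U20.mem_norm.1 a) (orderOf_eq_prime x3 n ▸ Subgroup.orderOf_dvd_natCard _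
        ⟨H94.U20.mem_norm.2 x1, x, H94.U20.mem_norm.2 x1, mul_inv_eq_iff_eq_mul.2 e⟩)
  exact h.1 ((Subgroup.eq_top_iff' _).2 fun g => H94.U20.mem_norm.2 (k.normal g))

end Cfsg.Agent.S3338
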