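import Cfsg.Statements.S3339
import Mathlib
import Cfsg.Agent.Base
import Cfsg.Agent.Lib.A9.Main9

set_option autoImplicit false
open Cfsg

namespace Cfsg.Agent.S3339

open H58.N9 H58.SE H53.Odd Subgroup

/-- A 3-local characterization of the alternating group of degree 9. Let G be a finite group and J ≤ G an elementary abelian subgroup of order 27 whose normalizer H = N_G(J) is isomorphic to the normalizer, in the alternating group of degree 9, of the subgroup generated by three disjoint 3-cycles. If O_{3'}(C_G(x)) = 1 for every element x of order 3 in H, then either G = H or G is isomorphic to the alternating group of degree 9. -/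
theorem result {G : Type*} [Group G] [Finite G]
    (J : Subgroup G) (hJcomm : IsMulCommutative J) (hJexp : ∀ a ∈ J, a ^ 3 = 1) (hJcard : Nat.card J = 27)
    (H : Subgroup G) (hH : H = Subgroup.normalizer (J : Set G))
    (J₀ : Subgroup (Equiv.Perm (Fin 9)))
    (hJ₀ : J₀ = Subgroup.closure {Equiv.swap (0 : Fin 9) 1 * Equiv.swap 1 2, Equiv.swap (3 : Fin 9) 4 * Equiv.swap 4 5, Equiv.swap (6 : Fin 9) 7 * Equiv.swap 7 8})
    (eH : H ≃* ↥(alternatingGroup (Fin 9) ⊓ Subgroup.normalizer (J₀ : Set (Equiv.Perm (Fin 9)))))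
    (hcores : ∀ x ∈ H, orderOf x = 3 → Cfsg.pPrimeCore 3 (Subgroup.centralizer ({x} : Set G)) = ⊥) :
    H = ⊤ ∨ Nonempty (G ≃* alternatingGroup (Fin 9)) := by
  obtain ⟨m, hm, hr⟩ := exists_model eH
  have h := mdl_of (hm.trans (hJ₀ ▸ N0_eq))
  rw [hr] at h
  have hJ : J = Jh h := eq_of_le_of_card_ge (big_le h (hH ▸ le_normalizer)
    (fun a ha b hb => setLike_mul_comm ha hb) hJexp hJcard.ge) (by rw [card_Jh, hJcard])
  refine Hn.main ⟨h, fun g hg => ?_, fun u hu X h1 h2 h3 => ?_⟩
  · rw [hH, hJ]
    refine mem_normalizer_of_le ?_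
    rintro _ ⟨u, rfl⟩
    exact (md_J h hg u).imp fun v e => e.symm
  · have := (normal_subgroupOf_iff_le_normalizer h1).2 h3
    have e := H1.le_pPrimeCore (p := 3) (N := X.subgroupOf _)
      (by rwa [Nat.card_congr (subgroupOfEquivOfLe h1).toEquiv])
    rw [hcores _ (md_mem h _) (orderOf_three (md_cube h u) (md_ne h hu)), le_bot_iff] at e
    rw [← map_subgroupOf_eq_of_le h1, e, Subgroup.map_bot]

end Cfsg.Agent.S3339
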