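import Cfsg.Statements.S3346
import Cfsg.Agent.Lib.HSRec.Ent

set_option autoImplicit false
open Cfsg

namespace Cfsg.Agent.S3346

/-- A characterization of the Higman–Sims group. Let G be a finite group with an involution t, H = C_G(t) and R = O₂(H). Suppose R is the central product of a cyclic group of order 4 with an extraspecial group of order 32 (R = CE with C cyclic of order 4 central in R, E extraspecial of order 32, and C ∩ E = Z(E)), and H/R is isomorphic to Sym(5). Suppose further that V ≤ R is elementary abelian of order 8 with M = N_G(V) satisfying O₂(M) ≅ C₄ × C₄ × C₄ and M/O₂(M) ≅ GL(3,2). Then G is isomorphic to the Higman–Sims group. -/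
theorem result {G : Type*} [Group G] [Finite G]
    (t : G) (ht : orderOf t = 2) (H : Subgroup G) (hH : H = Subgroup.centralizer ({t} : Set G))
    (R : Subgroup G) (hR : R = (Cfsg.pCore 2 H).map H.subtype)
    (Cy E : Subgroup G) (hCy : IsCyclic Cy) (hCycard : Nat.card Cy = 4)
    (hCyle : Cy ≤ R ⊓ Subgroup.centralizer (R : Set G))
    (hEle : E ≤ R) (hEex : Cfsg.IsExtraspecial 2 E) (hEcard : Nat.card E = 32)
    (hprod : Cy ⊔ E = R) (hmeet : Cy ⊓ E = E ⊓ Subgroup.centralizer (E : Set G))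
    (eH : H ⧸ Cfsg.pCore 2 H ≃* Equiv.Perm (Fin 5))
    (V : Subgroup G) (hVcomm : IsMulCommutative V) (hVexp : ∀ v ∈ V, v ^ 2 = 1) (hVcard : Nat.card V = 8)
    (hVR : V ≤ R) (M : Subgroup G) (hM : M = Subgroup.normalizer (V : Set G))
    (eOM : Cfsg.pCore 2 M ≃* Multiplicative (ZMod 4 × ZMod 4 × ZMod 4))
    (eM : M ⧸ Cfsg.pCore 2 M ≃* GL (Fin 3) (ZMod 2)) :
    Cfsg.Spor.IsoHS G := by
  subst hH
  haveI : Fact (Nat.Prime 2) := ⟨Nat.prime_two⟩
  rw [← H1.pCoreOf_def] at hR
  have t1 := H95.ne_one_of_orderOf_eq_two ht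
  have t2 := H95.mul_self_of_orderOf_eq_two ht
  have RH : R ≤ Subgroup.centralizer ({t} : Set G) := hR ▸ H1.pCoreOf_le _
  have HR : Subgroup.centralizer ({t} : Set G) ≤ Subgroup.normalizer (R : Set G) :=
    hR ▸ H1.le_normalizer_pCoreOf _
  obtain ⟨ζ, es⟩ := H95.exists_ES hEex
  obtain ⟨γ, rfl⟩ := (Subgroup.isCyclic_iff_exists_zpowers_eq_top Cy).1 hCy
  have γR := hCyle (Subgroup.mem_zpowers γ)
  have o4 : orderOf γ = 4 := by rw [← Nat.card_zpowers, hCycard]
  have hζ : ζ = γ * γ := by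
    have : ζ ∈ Subgroup.zpowers γ :=
      (hmeet.ge ⟨es.mem, Subgroup.mem_centralizer_iff.2 es.central⟩).1
    classical
    obtain ⟨k, hk, e⟩ := Finset.mem_image.1 (mem_zpowers_iff_mem_range_orderOf.1 this)
    have hk := Finset.mem_range.1 hk
    have h := es.sq
    rw [← e, ← pow_add, ← orderOf_dvd_iff_pow_eq_one, o4] at h
    rw [o4] at hk
    rcases (by omega : k = 0 ∨ k = 2) with rfl | rfl
    exacts [absurd (e.symm.trans (pow_zero _)) es.ne_one, e.symm.trans (sq _)]
  subst hζ
  have hEC : E ≤ Subgroup.normalizer (Subgroup.zpowers γ : Set G) := fun e he =>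
    Subgroup.centralizer_le_normalizer _ (Subgroup.mem_centralizer_iff.2 fun x hx =>
      (Subgroup.mem_centralizer_iff.1 (hCyle hx).2 e (hEle he)).symm)
  have cp : H1.HS.CP R E γ := ⟨es, fun r => by
    rw [← hprod, H24.mem_sup_of_le_normalizer' hEC]
    exact ⟨fun ⟨_, ⟨n, rfl⟩, e, he, h⟩ => ⟨n, e, he, h.symm⟩,
      fun ⟨n, e, he, h⟩ => ⟨_, ⟨n, rfl⟩, e, he, h.symm⟩⟩,
    fun e he => Subgroup.mem_centralizer_iff.1 γR.2 e (hEle he)⟩
  have cR : Nat.card R = 64 := by
    have := H24.card_sup_mul_card_inf' hEC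
    have e : Subgroup.zpowers γ ⊓ E = Subgroup.zpowers (γ * γ) := by
      rw [hmeet, ← es.center_eq]; ext x
      rw [H95.mem_center_map_iff]; rfl
    rw [hprod, e, Nat.card_zpowers, es.orderOf_eq, hCycard, hEcard] at this
    omega
  have tR : t ∈ R := by
    have z : ∀ g ∈ Subgroup.centralizer ({t} : Set G), g ∈ Subgroup.centralizer (Subgroup.zpowers t : Set G) :=
      fun g hg => by rwa [Subgroup.zpowers_eq_closure, Subgroup.centralizer_closure]
    refine hR ▸ H1.le_pCoreOf (K := Subgroup.zpowers t) (Subgroup.zpowers_le_of_mem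
      (Subgroup.mem_centralizer_singleton_iff.2 rfl)) (fun g hg => Subgroup.centralizer_le_normalizer _ (z g hg))
      (IsPGroup.of_card (n := 1) (by rw [Nat.card_zpowers, ht, pow_one])) (Subgroup.mem_zpowers t)
  have tγ : t = γ * γ := cp.inv (cp.center tR fun e he =>
    (Subgroup.mem_centralizer_singleton_iff.1 (RH (hEle he))).symm) t1 t2
  have V2 : ∀ v ∈ V, v * v = 1 := fun v hv => by rw [← sq]; exact hVexp v hv
  have tV : t ∈ V := tγ ▸ cp.mem_of cR hVR V2 hVcard
  have hd : H1.HS.HD t γ R (eH.toMonoidHom.comp (QuotientGroup.mk' _)) := by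
    refine ⟨eH.surjective.comp (QuotientGroup.mk'_surjective _), fun h => ?_, RH, cR,
      fun r hr => tγ ▸ cp.sq hr, γR.1, tγ.symm, fun r hr => cp.cenR hr, fun g hg => ?_, t1, t2⟩
    · rw [hR]
      refine Iff.trans (by simp) (Subgroup.mem_map_iff_mem (Subgroup.subtype_injective _)).symm
    · have m := (Subgroup.mem_normalizer_iff.1 (HR hg) γ).1 γR.1
      have : g * γ * g⁻¹ ∈ Subgroup.zpowers γ := cp.center m fun e he => by
        have := cp.cenR ((Subgroup.mem_normalizer_iff''.1 (HR hg) e).1 (hEle he))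
        calc _ = g * (γ * (g⁻¹ * e * g)) * g⁻¹ := by group
          _ = _ := by rw [← this]; group
      have h2 : g * γ * g⁻¹ * (g * γ * g⁻¹) ≠ 1 := by
        rw [conj_mul]; simpa using es.ne_one
      rcases cp.zp this with h | h | h | h
      · exact absurd (by rw [h, mul_one]) h2
      · exact Or.inl h
      · exact absurd (by rw [h, es.sq]) h2
      · exact Or.inr h
  obtain ⟨ι, co⟩ := H1.HS.exists_co (W := pCoreOf 2 M)
    (((pCore 2 M).equivMapOfInjective M.subtype Subtype.val_injective).symm.trans eOM)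
  have VM : V ≤ M := hM ▸ Subgroup.le_normalizer
  have VW : V ≤ pCoreOf 2 M := H1.le_pCoreOf VM hM.le (IsPGroup.of_card (n := 3) hVcard)
  refine H1.HS.core2 hd co (H1.pCoreOf_le M) (H1.le_normalizer_pCoreOf M) (QuotientGroup.mk' _)
    (QuotientGroup.mk'_surjective _) (fun m => ?_) eM (VW tV) (fun r hr => ?_)
    (fun v hv v2 => hVR (co.omega VW V2 hVcard hv v2)) fun g hg => ?_
  · refine Iff.trans (by simp) (Subgroup.mem_map_iff_mem (Subgroup.subtype_injective _)).symm
  · refine hM ▸ Subgroup.mem_normalizer_fintype fun v hv => ?_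
    rcases cp.conj (hVR hv) hr with h | h <;> rw [h]
    exacts [hv, mul_mem hv (tγ ▸ tV)]
  · exact hM ▸ Subgroup.centralizer_le_normalizer _
      (Subgroup.mem_centralizer_iff.2 fun v hv => (hg v (VW hv) (V2 v hv)).symm)

end Cfsg.Agent.S3346
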