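import Cfsg.Statements.S3365
import Cfsg.Agent.Lib.H81.Fix4c

set_option autoImplicit false
open Cfsg

namespace Cfsg.Agent.S3365


/-- Finite simple groups acting with fixity 4. Let G be a finite non-abelian simple group acting faithfully and transitively on a finite set so that every non-identity element fixes at most 4 points and some non-identity element fixes exactly 4 (fixity 4). Let P be a Sylow 3-subgroup, S a Sylow 2-subgroup, f the largest number of fixed points of an involution of G, and a a point. Then one of the following holds: (1) f ≥ 1 and G has a strongly embedded subgroup; (2) 1 ≤ f ≤ 3 and S is dihedral or semidihedral; (3) f = 4 and G has sectional 2-rank at most 4; (4) the point stabilizer G_a has odd order divisible by 3 and either G has a strongly 3-embedded subgroup (a proper subgroup H of order divisible by 3 such that H ∩ gHg⁻¹ has order prime to 3 for every element g outside H), or |P| = 3 and a Sylow 2-subgroup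 of N_G(P) has order at most 4, or P is elementary abelian of order 9, or P is extraspecial of order 27 and exponent 3, or P is isomorphic to a Sylow 3-subgroup of Sym(9) (the wreath product C₃ ≀ C₃); (5) G_a has order prime to 6. -/
theorem result {G Ω : Type*} [Group G] [Finite G] [IsSimpleGroup G] (hna : ¬ IsMulCommutative G)
    [MulAction G Ω] [FaithfulSMul G Ω] [Finite Ω] (htrans : MulAction.IsPretransitive G Ω)
    (hfix : ∀ g : G, g ≠ 1 → Nat.card (MulAction.fixedBy Ω g) ≤ 4)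
    (hfix4 : ∃ g : G, g ≠ 1 ∧ Nat.card (MulAction.fixedBy Ω g) = 4)
    (P : Sylow 3 G) (S : Sylow 2 G) (f : ℕ)
    (hf : ∀ g : G, orderOf g = 2 → Nat.card (MulAction.fixedBy Ω g) ≤ f)
    (hf' : ∃ g : G, orderOf g = 2 ∧ Nat.card (MulAction.fixedBy Ω g) = f) (a : Ω) :
    (1 ≤ f ∧ ∃ H : Subgroup G, Cfsg.IsStronglyEmbedded H) ∨
    (1 ≤ f ∧ f ≤ 3 ∧ ((∃ n : ℕ, Nonempty ((S : Subgroup G) ≃* DihedralGroup n)) ∨ Cfsg.IsQuasiDihedral (S : Subgroup G))) ∨
    (f = 4 ∧ Cfsg.SectionalPRankLE 2 4 G) ∨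
    (Odd (Nat.card (MulAction.stabilizer G a)) ∧ 3 ∣ Nat.card (MulAction.stabilizer G a) ∧
      ((∃ H : Subgroup G, H ≠ ⊤ ∧ 3 ∣ Nat.card H ∧ ∀ g : G, g ∉ H → ¬ 3 ∣ Nat.card ↥(H ⊓ H.map (MulAut.conj g).toMonoidHom)) ∨
       (Nat.card P = 3 ∧ ∀ T : Sylow 2 (Subgroup.normalizer ((P : Subgroup G) : Set G)), Nat.card T ≤ 4) ∨
       (Nat.card P = 9 ∧ ∀ x ∈ (P : Subgroup G), x ^ 3 = 1) ∨
       (Nat.card P = 27 ∧ Cfsg.IsExtraspecial 3 (P : Subgroup G) ∧ ∀ x ∈ (P : Subgroup G), x ^ 3 = 1) ∨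
       (∃ T : Sylow 3 (Equiv.Perm (Fin 9)), Nonempty ((P : Subgroup G) ≃* (T : Subgroup (Equiv.Perm (Fin 9))))))) ∨
    (Nat.card (MulAction.stabilizer G a)).Coprime 6 := by
  classical
  haveI : Fact (Nat.Prime 2) := ⟨Nat.prime_two⟩
  haveI : Fact (Nat.Prime 3) := ⟨Nat.prime_three⟩
  have conj : ∀ (g : G) (x : Ω), g • x = x → ∃ k ∈ MulAction.stabilizer G a, orderOf k = orderOf g :=
    fun g x hx => by
      obtain ⟨c, rfl⟩ := MulAction.exists_smul_eq G a x
      exact ⟨c⁻¹ * g * c⁻¹⁻¹, by simp [mul_smul, hx], (MulAut.conj c⁻¹).orderOf_eq g⟩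
  have pos : ∀ g ∈ MulAction.stabilizer G a, 1 ≤ Nat.card (MulAction.fixedBy Ω g) := fun g hg =>
    Nat.card_pos_iff.2 ⟨⟨⟨a, hg⟩⟩, inferInstance⟩
  have le4 : ∀ {p : ℕ}, p.Prime → ∀ g : G, orderOf g = p → Nat.card (MulAction.fixedBy Ω g) ≤ 4 :=
    fun hp g hg => hfix g fun e => hp.ne_one (by rw [← hg, e, orderOf_one])
  by_cases h2 : 2 ∣ Nat.card (MulAction.stabilizer G a)
  · obtain ⟨g, hg⟩ := exists_prime_orderOf_dvd_card' 2 h2
    have h1 := (pos g g.2).trans (hf g ((Subgroup.orderOf_coe g).trans hg))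
    obtain ⟨t, ht, e⟩ := hf'
    rcases H81.FB.even_case (Ω := Ω) hf ht e h1 (e ▸ le4 Nat.prime_two t ht) S with k | k | k
    exacts [Or.inl ⟨h1, k⟩, Or.inr (Or.inl ⟨h1, k⟩), Or.inr (Or.inr (Or.inl k))]
  by_cases h3 : 3 ∣ Nat.card (MulAction.stabilizer G a)
  swap
  · exact Or.inr (Or.inr (Or.inr (Or.inr (Nat.Coprime.mul_right
      ((Nat.Prime.coprime_iff_not_dvd Nat.prime_two).2 h2).symm
      ((Nat.Prime.coprime_iff_not_dvd Nat.prime_three).2 h3).symm))))
  have ho := Nat.not_even_iff_odd.1 fun e => h2 e.two_dvd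
  refine Or.inr (Or.inr (Or.inr (Or.inl ⟨ho, h3, ?_⟩)))
  obtain ⟨g, hg⟩ := exists_prime_orderOf_dvd_card' 3 h3
  replace hg := (Subgroup.orderOf_coe g).trans hg
  obtain ⟨t, ht, hm⟩ := Set.exists_max_image {g : G | orderOf g = 3}
    (fun g => Nat.card (MulAction.fixedBy Ω g)) (Set.toFinite _) ⟨g, hg⟩
  rcases H81.FB.odd_case (Ω := Ω) ((IsSimpleGroup.eq_bot_or_eq_top_of_normal _ inferInstance).resolve_left
    fun e => hna ((commutator_eq_bot_iff G).1 e)) hm ht rfl ((pos g g.2).trans (hm g hg))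
    (le4 Nat.prime_three t ht) (fun g x hx => by
      obtain ⟨k, hk, e⟩ := conj g x hx
      exact e ▸ ho.of_dvd_nat (Subgroup.orderOf_dvd_natCard _ hk)) P with k | k
  exacts [Or.inl k, Or.inr (Or.inr (Or.inl k))]

end Cfsg.Agent.S3365
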