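import Mathlib
import Cfsg.Statements.S3366
import Cfsg.Agent.Base
import Cfsg.Agent.Lib.Odd.P3J

set_option autoImplicit false
open Cfsg

namespace Cfsg.Agent.S3366


/-- Let X be a finite group with O₃(X) extraspecial of order 27 and exponent 3, X/O₃(X) isomorphic to SL(2,3), O₂(X) = 1, and a Sylow 3-subgroup of X containing an elementary abelian subgroup of order 27. Then X is isomorphic to the centralizer in PSp(4,3) of a 3-central element of order 3 (an element of order 3 in the centre of a Sylow 3-subgroup). -/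
theorem result {X : Type*} [Group X] [Finite X]
    (hR : Cfsg.IsExtraspecial 3 (Cfsg.pCore 3 X)) (hRcard : Nat.card (Cfsg.pCore 3 X) = 27)
    (hRexp : ∀ r ∈ Cfsg.pCore 3 X, r ^ 3 = 1)
    (e : X ⧸ Cfsg.pCore 3 X ≃* Matrix.SpecialLinearGroup (Fin 2) (ZMod 3))
    (hO2 : Cfsg.pCore 2 X = ⊥)
    (hE : ∃ E : Subgroup X, IsMulCommutative E ∧ (∀ a ∈ E, a ^ 3 = 1) ∧ Nat.card E = 27)
    (F : Type*) [Field F] [Fintype F] (hF : Fintype.card F = 3) :
    ∃ (c : Cfsg.PSp 2 F) (S : Sylow 3 (Cfsg.PSp 2 F)), orderOf c = 3 ∧ c ∈ (S : Subgroup (Cfsg.PSp 2 F)) ∧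
      c ∈ Subgroup.centralizer ((S : Subgroup (Cfsg.PSp 2 F)) : Set (Cfsg.PSp 2 F)) ∧
      Nonempty (X ≃* Subgroup.centralizer ({c} : Set (Cfsg.PSp 2 F))) := by
  open Subgroup H53.P3 H54 in
  haveI := Fact.mk Nat.prime_three
  obtain ⟨E, E1, E2, E3⟩ := hE
  obtain ⟨x, em, top, -⟩ := step0 hR hRcard e (fun t t2 t3 t4 => by
    have tc : ∀ g, t * g = g * t := fun g => by
      have h1 := t3 g
      have ti : t⁻¹ = t := inv_eq_of_mul_eq_one_right t2
      obtain ⟨w, hw, -⟩ := H5.exists_wes hR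
      have h3 := eq_one_of_sq (nine hw h1) (by
        calc _ = t * t * g * t * g⁻¹ * t⁻¹ := by rw [t2]; group
          _ = t * (t * g * t⁻¹ * g⁻¹) * t⁻¹ := by rw [ti]; group
          _ = _ := by rw [t4 _ h1]; group)
      rwa [mul_inv_eq_one, mul_inv_eq_iff_eq_mul] at h3
    haveI : (zpowers t).Normal := ⟨by
      rintro _ ⟨k, rfl⟩ g
      rw [← conj_zpow, ← tc g, mul_inv_cancel_right]; exact zpow_mem (mem_zpowers t) k⟩
    have : zpowers t ≤ Cfsg.pCore 2 X := H1.le_pCore (by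
      rintro ⟨_, k, rfl⟩
      exact ⟨1, Subtype.ext (show (t ^ k) ^ 2 ^ 1 = 1 by
        rw [pow_one, sq, ← (Commute.refl t).mul_zpow, t2, one_zpow])⟩)
    exact mem_bot.1 (hO2 ▸ this (mem_zpowers t)))
    (fun a ha b hb => congrArg Subtype.val (E1.1.1 ⟨a, ha⟩ ⟨b, hb⟩)) E2 E3
  obtain ⟨fin, y, h⟩ := exists_psp F hF
  obtain ⟨P, h1, h2, -⟩ := h.exists_sylow
  refine ⟨y 0, P, H53.Odd.orderOf_three (h.cube (mem_gen y (by omega)))
    (el1 (x := y) ▸ h.ne (by omega) one_ne_zero), h1 (mem_gen y (by omega)), h2, ⟨?_⟩⟩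
  exact ((topEquiv.symm.trans (MulEquiv.subgroupCongr top.symm)).trans em.equiv.some.symm).trans
    (h.emb.equiv.some.trans (MulEquiv.subgroupCongr h.top))

end Cfsg.Agent.S3366
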