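import Mathlib
import Cfsg.Statements.S3367
import Cfsg.Agent.Lib.Mc3.Main
import Cfsg.Agent.Lib.Mc3.Ini

set_option autoImplicit false
open Cfsg

namespace Cfsg.Agent.S3367



/-- A 3-local characterization of the McLaughlin group and its automorphism group. Let G be a finite group, S a Sylow 3-subgroup, Z = Z(S), and J ≤ S elementary abelian of order 3^4. Write M₀ for the subgroup generated by the 3-elements of N_G(J), L₀ for the subgroup generated by the 3-elements of N_G(Z), and Q = O₃(N_G(Z)). Assume: (i) J ≤ M₀ and M₀/J is isomorphic to the alternating group of degree 6; (ii) Q is extraspecial of order 3^5 and exponent 3, Q ≤ L₀, and L₀/Q is isomorphic to SL(2,5); (iii) for every non-identity x in J, C_G(O₃(C_G(x))) ≤ O₃(C_G(x)). Then G is isomorphic to the McLaughlin group or to its full automorphism group. -/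
theorem result {G : Type*} [Group G] [Finite G]
    (S : Sylow 3 G) (Z : Subgroup G) (hZ : Z = (S : Subgroup G) ⊓ Subgroup.centralizer ((S : Subgroup G) : Set G))
    (J : Subgroup G) (hJS : J ≤ S) (hJcomm : IsMulCommutative J) (hJexp : ∀ a ∈ J, a ^ 3 = 1) (hJcard : Nat.card J = 3 ^ 4)
    (M₀ : Subgroup G) (hM₀ : M₀ = Subgroup.closure {g : G | g ∈ Subgroup.normalizer (J : Set G) ∧ ∃ k : ℕ, orderOf g = 3 ^ k})
    (hJM : J ≤ M₀) [hJn : (J.subgroupOf M₀).Normal] (eM : M₀ ⧸ J.subgroupOf M₀ ≃* alternatingGroup (Fin 6))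
    (L₀ : Subgroup G) (hL₀ : L₀ = Subgroup.closure {g : G | g ∈ Subgroup.normalizer (Z : Set G) ∧ ∃ k : ℕ, orderOf g = 3 ^ k})
    (Q : Subgroup G) (hQ : Q = (Cfsg.pCore 3 (Subgroup.normalizer (Z : Set G))).map (Subgroup.normalizer (Z : Set G)).subtype)
    (hQex : Cfsg.IsExtraspecial 3 Q) (hQcard : Nat.card Q = 3 ^ 5) (hQexp : ∀ a ∈ Q, a ^ 3 = 1)
    (hQL : Q ≤ L₀) [hQn : (Q.subgroupOf L₀).Normal] (eL : L₀ ⧸ Q.subgroupOf L₀ ≃* Matrix.SpecialLinearGroup (Fin 2) (ZMod 5))
    (hiii : ∀ x ∈ J, x ≠ 1 →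
      Subgroup.centralizer (((Cfsg.pCore 3 (Subgroup.centralizer ({x} : Set G))).map (Subgroup.centralizer ({x} : Set G)).subtype : Subgroup G) : Set G)
        ≤ (Cfsg.pCore 3 (Subgroup.centralizer ({x} : Set G))).map (Subgroup.centralizer ({x} : Set G)).subtype) :
    Nonempty (G ≃* Cfsg.Spor.McL) ∨ Nonempty (G ≃* MulAut Cfsg.Spor.McL) := by
  obtain ⟨z, ψ, t, π, a, b, u, z', h⟩ := H87.Mc.ini S Z hZ J hJS hJcomm hJexp hJcard M₀ hM₀ eM L₀ hL₀
    Q hQ hQex hQcard hQexp hQL eL fun z hz z1 _ => hiii z hz z1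
  obtain ⟨N, hN, h1, h2, ⟨E⟩⟩ := h.main fun c hc => by
    have hy := mul_mem h.zJ h.z'J
    have hle : ∀ g, Commute g (z * z') → g ∈ Subgroup.normalizer (((Cfsg.pCore 3
        (Subgroup.centralizer ({z * z'} : Set G))).map
        (Subgroup.centralizer ({z * z'} : Set G)).subtype : Subgroup G) : Set G) := fun g hg =>
      H87.Mc.nrm_core (Subgroup.le_normalizer (Subgroup.mem_centralizer_singleton_iff.2 hg))
    have h1 := h.noV H87.Mc.pg_core (fun j hj => hle j (h.comJ hj hy)) (hle t (h.zt.mul_right h.z't))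
      (hle u (mul_inv_eq_iff_eq_mul.1 (by
        calc _ = u * z * u⁻¹ * (u * z' * u⁻¹) := by group
          _ = _ := by rw [h.uz, h.uz', h.zz'.eq])))
    have h2 := hiii _ hy fun e => h.z'Q (by
      rw [eq_inv_of_mul_eq_one_right e]; exact inv_mem h.zQ)
    rw [← le_antisymm h1 fun j hj => h2 fun x hx => h.comJ (h1 hx) hj]
    exact hle c hc
  exact H87.Mc.mcl_or_aut h1 h2 E

end Cfsg.Agent.S3367
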