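import Mathlib
import Cfsg.Statements.S3390
import Cfsg.Agent.Base
import Cfsg.Agent.S3224
import Cfsg.Agent.Lib.PGroup.Basic
import Cfsg.Agent.Lib.FGS.CyclicAux
import Cfsg.Agent.Lib.Perm.Half

set_option autoImplicit false
open Cfsg

namespace Cfsg.Agent.S3390

open MulAction

theorem dvd_card_of_nofix {G Ω : Type*} [Group G] [Finite G] [MulAction G Ω] [Finite Ω] (g : G)
    (hr : (orderOf g).Prime) (B : Set Ω) (hB : ∀ ω ∈ B, g • ω ∈ B) (hn : ∀ ω ∈ B, g • ω ≠ ω) :
    orderOf g ∣ Nat.card B := by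
  refine H26.Half.dvd_card_of_orbits_on (A := Subgroup.zpowers g) B ?_ _ fun ω hω => ?_
  · rintro ⟨a, ha⟩ ω hω
    obtain ⟨k, rfl⟩ := (mem_powers_iff_mem_zpowers).2 ha
    show g ^ k • ω ∈ B
    clear ha
    induction k with
    | zero => simpa using hω
    | succ k ih => rw [pow_succ', mul_smul]; exact hB _ ih
  · haveI : Fact (Nat.card (Subgroup.zpowers g)).Prime := ⟨by rw [Nat.card_zpowers]; exact hr⟩
    rw [Nat.card_coe_set_eq, ← index_stabilizer]
    rcases (stabilizer (Subgroup.zpowers g) ω).eq_bot_or_eq_top_of_prime_card with h | h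
    · rw [h, Subgroup.index_bot, Nat.card_zpowers]
    · have : (⟨g, Subgroup.mem_zpowers g⟩ : Subgroup.zpowers g) ∈ stabilizer (Subgroup.zpowers g) ω := by
        rw [h]; trivial
      exact absurd this (hn ω hω)

section
variable {G Ω : Type*} [Group G] [Finite G] [MulAction G Ω] {P : Subgroup G}

/-- A point stabilizer in `P` all of whose non-identity elements swap two points has order two. -/
theorem card_two_of_swap (U : Subgroup G) (hU : U ≠ ⊥) (a b : Ω)
    (h1 : ∀ u ∈ U, u ≠ 1 → u • a = b ∧ u • b = a) (hab : a ≠ b) : Nat.card U = 2 := by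
  obtain ⟨⟨u, hu⟩, hu1⟩ := Subgroup.ne_bot_iff_exists_ne_one.1 hU
  have hu1' : u ≠ 1 := fun e => hu1 (Subtype.ext e)
  have key : ∀ v ∈ U, v ≠ 1 → ∀ w ∈ U, w ≠ 1 → v * w = 1 := by
    intro v hv hv1 w hw hw1
    by_contra hne
    have := (h1 _ (U.mul_mem hv hw) hne).1
    rw [mul_smul, (h1 w hw hw1).1, (h1 v hv hv1).2] at this
    exact hab this
  rw [Nat.card_eq_two_iff' (1 : U)]
  refine ⟨⟨u, hu⟩, hu1, fun ⟨v, hv⟩ hv1 => Subtype.ext ?_⟩
  have e1 := key v hv (fun e => hv1 (Subtype.ext e)) u hu hu1'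
  have e2 := key u hu hu1' u hu hu1'
  exact mul_right_cancel (e1.trans e2.symm)

theorem exists_partner (hP : IsPGroup 2 P) (c : Ω) (h2 : ¬ P ≤ stabilizer G c) :
    ∃ x ∈ P, x • c ≠ c ∧ ∀ t ∈ P, t • c = c → t • x • c = x • c := by
  haveI : Fact (Nat.Prime 2) := ⟨Nat.prime_two⟩
  obtain ⟨x, hxP, hx, -, hn⟩ := H5.exists_mem_normalizer_of_lt (K := P ⊓ stabilizer G c) hP
    (lt_of_le_of_ne inf_le_left fun e => h2 (by rw [← e]; exact inf_le_right))
  refine ⟨x, hxP, fun e => hx ⟨hxP, e⟩, fun t ht htc => ?_⟩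
  have := (Subgroup.mem_normalizer_iff''.1 hn t).1 ⟨ht, htc⟩
  have h3 : (x⁻¹ * t * x) • c = c := this.2
  rw [mul_smul, mul_smul, inv_smul_eq_iff] at h3
  exact h3

theorem card_four (h3 : ∀ (g : G) (a b c : Ω), a ≠ b → a ≠ c → b ≠ c → g • a = a → g • b = b → g • c = c → g = 1)
    (hP : IsPGroup 2 P) (c : Ω) (h2 : ¬ P ≤ stabilizer G c)
    (hc : Nat.card (P ⊓ stabilizer G c : Subgroup G) = 2) :
    (∃ n : ℕ, Nonempty (P ≃* DihedralGroup n)) ∨ Cfsg.IsQuasiDihedral P ∨ Nat.card P = 4 := by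
  obtain ⟨x, hxP, hxc, hx⟩ := exists_partner hP c h2
  obtain ⟨⟨t, htP, htc⟩, ht1, htu⟩ := (Nat.card_eq_two_iff' (1 : (P ⊓ stabilizer G c : Subgroup G))).1 hc
  have ht1' : t ≠ 1 := fun e => ht1 (Subtype.ext e)
  have htu' : ∀ v ∈ P, v • c = c → v = 1 ∨ v = t := fun v hv hvc => by
    by_cases e : v = 1
    · exact Or.inl e
    · exact Or.inr (congrArg Subtype.val (htu ⟨v, hv, hvc⟩ (fun e' => e (congrArg Subtype.val e'))))
  have htc' : t • c = c := htc
  have htt : t * t = 1 := (htu' _ (P.mul_mem htP htP) (by rw [mul_smul, htc', htc'])).resolve_right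
    (by simpa using ht1')
  refine Cfsg.Agent.S3224.result hP ⟨t, htP⟩ (orderOf_eq_prime (Subtype.ext (by simpa [pow_two] using htt))
    (fun e => ht1' (congrArg Subtype.val e))) ?_
  set C := Subgroup.centralizer ({(⟨t, htP⟩ : P)} : Set P) with hC
  have hmem : ∀ y : P, y ∈ C ↔ t * y = y * t := fun y => by
    rw [hC, Subgroup.mem_centralizer_singleton_iff, Subtype.ext_iff]; exact eq_comm
  have hxc2 : x • x • c = c := by
    by_contra hne
    have e1 := hx t htP htc'
    -- `x⁻¹ t x` fixes `c`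
    rcases htu' (x⁻¹ * t * x) (P.mul_mem (P.mul_mem (P.inv_mem hxP) htP) hxP)
      (by rw [mul_smul, mul_smul, e1, inv_smul_smul]) with e | e
    · exact ht1' (by
        have : t = x * (x⁻¹ * t * x) * x⁻¹ := by group
        rw [this, e]; group)
    · have e2 : t * x = x * t := by
        conv_rhs => rw [← e]
        group
      refine ht1' (h3 t c (x • c) (x • x • c) hxc.symm (Ne.symm hne) (by simpa using hxc.symm) htc' e1 ?_)
      rw [← mul_smul, e2, mul_smul, e1]
  have hxC : t * x = x * t := by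
    rcases htu' (x⁻¹ * t * x) (P.mul_mem (P.mul_mem (P.inv_mem hxP) htP) hxP)
      (by rw [mul_smul, mul_smul, hx t htP htc', inv_smul_smul]) with e | e
    · exact absurd (by
        have : t = x * (x⁻¹ * t * x) * x⁻¹ := by group
        rw [this, e]; group) ht1'
    · conv_rhs => rw [← e]
      group
  have horb : orbit C c = {c, x • c} := by
    ext d
    constructor
    · rintro ⟨y, rfl⟩
      by_contra hne
      simp only [Set.mem_insert_iff, Set.mem_singleton_iff, not_or] at hne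
      refine ht1' (h3 t c (x • c) _ hxc.symm (Ne.symm hne.1) (Ne.symm hne.2) htc' (hx t htP htc') ?_)
      show t • ((y : P) : G) • c = ((y : P) : G) • c
      rw [← mul_smul, (hmem y).1 y.2, mul_smul, htc']
    · rintro (rfl | rfl)
      · exact mem_orbit_self _
      · exact ⟨⟨⟨x, hxP⟩, (hmem _).2 hxC⟩, rfl⟩
  have e1 := (stabilizer C c).card_mul_index
  rw [index_stabilizer, horb, Set.ncard_pair hxc.symm] at e1
  rw [← e1]
  have : Nat.card (stabilizer C c) = 2 := by
    rw [Nat.card_eq_two_iff' (1 : stabilizer C c)]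
    refine ⟨⟨⟨⟨t, htP⟩, (hmem _).2 rfl⟩, htc'⟩, fun e => ht1' (congrArg (fun y => y.1.1.1) e), ?_⟩
    rintro ⟨⟨⟨v, hvP⟩, hvC⟩, hv⟩ hv1
    rcases htu' v hvP hv with e | e
    · exact absurd (by subst e; rfl) hv1
    · subst e; rfl
  rw [this]

end


/-- Let G be a finite group acting faithfully and transitively on a finite set Ω with fixity 2 (every non-identity element fixes at most two points, and some fixes exactly two). Let α ∈ Ω and S a Sylow 2-subgroup of G. Then one of the following holds: the stabilizer S_α of α in S is trivial; S is dihedral or semidihedral and either |S_α| = 2 or |S : S_α| = 2; |S| ≥ 4, S has exactly one orbit of size 2 on Ω, every other S-orbit is regular, and G has a normal subgroup of index 2 or of index |S| which is a Frobenius group; or S ≤ G_α. -/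
theorem result {G : Type*} [Group G] [Finite G] {Ω : Type*} [Fintype Ω] [MulAction G Ω] [FaithfulSMul G Ω] (htr : MulAction.IsPretransitive G Ω)
    (hfix : ∀ g : G, g ≠ 1 → Nat.card (MulAction.fixedBy Ω g) ≤ 2) (hex : ∃ g : G, g ≠ 1 ∧ Nat.card (MulAction.fixedBy Ω g) = 2) (α : Ω) (S : Sylow 2 G) :
    (S : Subgroup G) ⊓ MulAction.stabilizer G α = ⊥ ∨
    (((∃ n : ℕ, Nonempty (↥(S : Subgroup G) ≃* DihedralGroup n)) ∨ Cfsg.IsQuasiDihedral ↥(S : Subgroup G)) ∧
       (Nat.card ↥((S : Subgroup G) ⊓ MulAction.stabilizer G α) = 2 ∨ ((S : Subgroup G) ⊓ MulAction.stabilizer G α).relIndex (S : Subgroup G) = 2)) ∨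
    (4 ≤ Nat.card (S : Subgroup G) ∧
       (∃ ω : Ω, Nat.card (MulAction.orbit ↥(S : Subgroup G) ω) = 2 ∧
          ∀ ω' : Ω, ω' ∉ MulAction.orbit ↥(S : Subgroup G) ω → Nat.card (MulAction.orbit ↥(S : Subgroup G) ω') = Nat.card (S : Subgroup G)) ∧
       ∃ N : Subgroup G, N.Normal ∧ (N.index = 2 ∨ N.index = Nat.card (S : Subgroup G)) ∧ (∃ H : Subgroup ↥N, Cfsg.IsFrobeniusComplement H)) ∨
    (S : Subgroup G) ≤ MulAction.stabilizer G α := by
  classical
  haveI : Fact (Nat.Prime 2) := ⟨Nat.prime_two⟩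
  have h3 : ∀ (g : G) (a b c : Ω), a ≠ b → a ≠ c → b ≠ c → g • a = a → g • b = b → g • c = c → g = 1 := by
    intro g a b c hab hac hbc ha hb hc
    by_contra hg
    have h1 := hfix g hg
    have h2 : ({a, b, c} : Set Ω) ⊆ fixedBy Ω g := by
      rintro _ (rfl | rfl | rfl) <;> assumption
    have h4 := Set.ncard_le_ncard h2 (Set.toFinite _)
    rw [Set.ncard_eq_three.2 ⟨a, b, c, hab, hac, hbc, rfl⟩, ← Nat.card_coe_set_eq] at h4
    omega
  set P : Subgroup G := (S : Subgroup G) with hPdef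
  have hP : IsPGroup 2 P := S.isPGroup'
  by_cases hT : P ⊓ stabilizer G α = ⊥
  · exact Or.inl hT
  by_cases hS : P ≤ stabilizer G α
  · exact Or.inr (Or.inr (Or.inr hS))
  right
  obtain ⟨x, hxP, hxa, hx⟩ := exists_partner hP α hS
  obtain ⟨⟨t, htP, hta⟩, ht1⟩ := Subgroup.ne_bot_iff_exists_ne_one.1 hT
  have ht1' : t ≠ 1 := fun e => ht1 (Subtype.ext e)
  have hta' : t • α = α := hta
  set β := x • α with hβ
  -- elements of `P` fixing `β` fix `α`
  have hcardT : Nat.card (P ⊓ stabilizer G β : Subgroup G) = Nat.card (P ⊓ stabilizer G α : Subgroup G) := by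
    refine Nat.card_congr ⟨fun y => ⟨x⁻¹ * y * x, P.mul_mem (P.mul_mem (P.inv_mem hxP) y.2.1) hxP, ?_⟩,
      fun y => ⟨x * y * x⁻¹, P.mul_mem (P.mul_mem hxP y.2.1) (P.inv_mem hxP), ?_⟩, ?_, ?_⟩
    · have : (y : G) • β = β := y.2.2
      show (x⁻¹ * y * x) • α = α
      rw [mul_smul, mul_smul, ← hβ, this, hβ, inv_smul_smul]
    · have : (y : G) • α = α := y.2.2
      show (x * y * x⁻¹) • β = β
      rw [mul_smul, mul_smul, hβ, inv_smul_smul, this]
    · intro y; ext; simp [mul_assoc]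
    · intro y; ext; simp [mul_assoc]
  have hTeq : P ⊓ stabilizer G α = P ⊓ stabilizer G β :=
    Subgroup.eq_of_le_of_card_ge (fun y hy => ⟨hy.1, hx y hy.1 hy.2⟩) hcardT.le
  have hba : ∀ y ∈ P, y • β = β → y • α = α := fun y hy e => by
    have : y ∈ P ⊓ stabilizer G β := ⟨hy, e⟩
    rw [← hTeq] at this; exact this.2
  let N : Subgroup G :=
    { carrier := {y | y ∈ P ∧ ((y • α = α ∧ y • β = β) ∨ (y • α = β ∧ y • β = α))}
      one_mem' := ⟨P.one_mem, Or.inl (by simp)⟩
      mul_mem' := fun {a b} ha hb => ⟨P.mul_mem ha.1 hb.1, by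
        rcases ha.2 with h | h <;> rcases hb.2 with h' | h' <;> simp [mul_smul, h.1, h.2, h'.1, h'.2]⟩
      inv_mem' := fun {a} ha => ⟨P.inv_mem ha.1, by
        rcases ha.2 with h | h
        · left; simp [inv_smul_eq_iff, h.1, h.2]
        · right; simp [inv_smul_eq_iff, h.1, h.2]⟩ }
  have hNP : N ≤ P := fun y hy => hy.1
  by_cases hN : N = P
  swap
  · left
    obtain ⟨y, hyP, hyN, -, hn⟩ := H5.exists_mem_normalizer_of_lt hP (lt_of_le_of_ne hNP hN)
    have hU : Nat.card (P ⊓ stabilizer G α : Subgroup G) = 2 := by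
      refine card_two_of_swap _ hT (y • α) (y • β) (fun u hu hu1 => ?_) (by simpa using hxa.symm)
      have hu' : u ∈ N := ⟨hu.1, Or.inl ⟨hu.2, hx u hu.1 hu.2⟩⟩
      have h1 := (Subgroup.mem_normalizer_iff''.1 hn u).1 hu'
      rcases h1.2 with h | h
      · exfalso
        simp only [mul_smul, inv_smul_eq_iff] at h
        apply hyN
        refine ⟨hyP, ?_⟩
        have k : ∀ d : Ω, u • d = d → d = α ∨ d = β := fun d hd => by
          by_contra hne
          push Not at hne
          exact hu1 (h3 u α β d hxa.symm hne.1.symm hne.2.symm hu.2 (hx u hu.1 hu.2) hd)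
        have k0 : y • α ≠ y • β := by simpa using hxa.symm
        rcases k _ h.1 with e1 | e1 <;> rcases k _ h.2 with e2 | e2
        · exact absurd (e1.trans e2.symm) k0
        · exact Or.inl ⟨e1, e2⟩
        · exact Or.inr ⟨e1, e2⟩
        · exact absurd (e1.trans e2.symm) k0
      · simpa only [mul_smul, inv_smul_eq_iff] using h
    refine ⟨?_, Or.inl hU⟩
    rcases card_four h3 hP α hS hU with h | h | h
    · exact Or.inl h
    · exact Or.inr h
    · exfalso
      have a1 : P ⊓ stabilizer G α < N := by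
        refine lt_of_le_of_ne (fun u hu => ⟨hu.1, Or.inl ⟨hu.2, hx u hu.1 hu.2⟩⟩) fun e => ?_
        have hxx : x • β = α := by
          by_contra hne
          have h5 : (x⁻¹ * t * x) • β = β := hx _ (P.mul_mem (P.mul_mem (P.inv_mem hxP) htP) hxP)
            (by rw [mul_smul, mul_smul, ← hβ, hx t htP hta', hβ, inv_smul_smul])
          rw [mul_smul, mul_smul, inv_smul_eq_iff] at h5
          exact ht1' (h3 t α β (x • β) hxa.symm (Ne.symm hne) (by
            intro e'; exact hxa (hba x hxP e'.symm)) hta' (hx t htP hta') h5)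
        have : x ∈ N := ⟨hxP, Or.inr ⟨rfl, hxx⟩⟩
        rw [← e] at this
        exact hxa this.2
      have a2 := Subgroup.card_dvd_of_le hNP
      have a3 : Nat.card N ≠ Nat.card P := fun e => hN (Subgroup.eq_of_le_of_card_ge hNP e.ge)
      have a4 : Nat.card N ≠ 2 := fun e => a1.ne (Subgroup.eq_of_le_of_card_ge a1.le (by rw [e, hU]))
      have a5 := Subgroup.card_dvd_of_le a1.le
      rw [h] at a2 a3
      rw [hU] at a5
      have a6 := Nat.le_of_dvd (by norm_num) a2
      interval_cases Nat.card N <;> simp_all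
  have hN' : ∀ y ∈ P, (y • α = α ∧ y • β = β) ∨ (y • α = β ∧ y • β = α) := fun y hy => by
    rw [← hN] at hy; exact hy.2
  have horb : orbit P α = {α, β} := by
    ext d
    constructor
    · rintro ⟨y, rfl⟩
      rcases hN' y y.2 with h | h
      · exact Or.inl h.1
      · exact Or.inr h.1
    · rintro (rfl | rfl)
      · exact mem_orbit_self _
      · exact ⟨⟨x, hxP⟩, rfl⟩
  have hidx : (P ⊓ stabilizer G α).relIndex P = 2 := by
    rw [← Set.ncard_pair hxa.symm, ← horb, ← index_stabilizer, Subgroup.inf_relIndex_left]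
    rfl
  have hcP : Nat.card (P ⊓ stabilizer G α : Subgroup G) * 2 = Nat.card P := by
    rw [← hidx]; exact H1.card_mul_relIndex_of_le inf_le_left
  by_cases hreg : ∃ c : Ω, c ≠ α ∧ c ≠ β ∧ P ⊓ stabilizer G c ≠ ⊥
  · left
    obtain ⟨c, hc1, hc2, hc⟩ := hreg
    have hU : Nat.card (P ⊓ stabilizer G c : Subgroup G) = 2 :=
      card_two_of_swap _ hc α β (fun u hu hu1 => (hN' u hu.1).resolve_left fun h =>
        hu1 (h3 u α β c hxa.symm hc1.symm hc2.symm h.1 h.2 hu.2)) hxa.symm
    have htc : t • c ≠ c := fun e =>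
      ht1' (h3 t α β c hxa.symm hc1.symm hc2.symm hta' (hx t htP hta') e)
    refine ⟨?_, Or.inr hidx⟩
    rcases card_four h3 hP c (fun h => htc (h htP)) hU with h | h | h
    · exact Or.inl h
    · exact Or.inr h
    · left
      have hnc : ¬ IsCyclic P := fun hcyc => by
        have := H80.eq_of_card_eq_of_le_isCyclic (A := P ⊓ stabilizer G α) (B := P ⊓ stabilizer G c)
          hcyc inf_le_left inf_le_left (by omega)
        have h5 : t ∈ P ⊓ stabilizer G α := ⟨htP, hta⟩
        rw [this] at h5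
        exact htc h5.2
      haveI : IsKleinFour P := ⟨h, (not_isCyclic_iff_exponent_eq_prime Nat.prime_two (by rw [h]; rfl)).1 hnc⟩
      exact ⟨2, IsKleinFour.nonempty_mulEquiv⟩
  right; left
  push Not at hreg
  have hT2 : 2 ≤ Nat.card (P ⊓ stabilizer G α : Subgroup G) :=
    (Subgroup.one_lt_card_iff_ne_bot _).2 hT
  refine ⟨by omega, ⟨α, by rw [Nat.card_coe_set_eq, horb, Set.ncard_pair hxa.symm], fun c hc => ?_⟩, ?_⟩
  · rw [horb] at hc
    simp only [Set.mem_insert_iff, Set.mem_singleton_iff, not_or] at hc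
    rw [Nat.card_coe_set_eq, ← index_stabilizer]
    have : stabilizer P c = ⊥ := by
      rw [eq_bot_iff]
      intro y hy
      have : (y : G) ∈ P ⊓ stabilizer G c := ⟨y.2, hy⟩
      rw [hreg c hc.1 hc.2, Subgroup.mem_bot] at this
      exact Subtype.ext this
    rw [this, Subgroup.index_bot]
  -- elements of `P` with a fixed point fix `α`
  have hfp : ∀ y ∈ P, ∀ c : Ω, y • c = c → y • α = α := by
    intro y hy c hc
    by_cases e1 : c = α
    · rwa [e1] at hc
    by_cases e2 : c = β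
    · exact hba y hy (by rwa [e2] at hc)
    have : y ∈ P ⊓ stabilizer G c := ⟨hy, hc⟩
    rw [hreg c e1 e2, Subgroup.mem_bot] at this
    rw [this, one_smul]
  let φ : P →* ℤˣ := MonoidHom.mk' (fun y => if (y : G) • α = α then 1 else -1) (fun a b => by
    have hne : β ≠ α := hxa
    rcases hN' a a.2 with h | h <;> rcases hN' b b.2 with h' | h' <;>
      simp [mul_smul, h.1, h.2, h'.1, h'.2, hne])
  have hφ : ∀ y : P, φ y = 1 ↔ (y : G) • α = α := fun y => by
    show (if (y : G) • α = α then (1 : ℤˣ) else -1) = 1 ↔ _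
    split_ifs with h <;> simp [h]
  have hfoc : P.focalSubgroupOf ≤ φ.ker := by
    rw [Subgroup.focalSubgroupOf_eq_closure]
    refine (Subgroup.closure_le φ.ker).2 ?_
    rintro y ⟨a, ha, u, e⟩
    have hb : u * a⁻¹ * u⁻¹ ∈ P := by
      have := P.mul_mem (P.inv_mem ha) y.2
      rw [e, commutatorElement_def] at this
      simpa [mul_assoc] using this
    have e1 : y = ⟨a, ha⟩ * ⟨_, hb⟩ := Subtype.ext (by simp [e, commutatorElement_def, mul_assoc])
    have e2 : φ ⟨a, ha⟩ = 1 ↔ φ ⟨_, hb⟩ = 1 := by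
      rw [hφ, hφ]
      constructor
      · intro h
        refine hfp _ hb (u • α) ?_
        rw [mul_smul, mul_smul, inv_smul_smul, inv_smul_eq_iff.2 h.symm]
      · intro h
        refine hfp _ ha (u⁻¹ • α) ?_
        simp only [mul_smul] at h
        rw [smul_eq_iff_eq_inv_smul, inv_smul_eq_iff] at h
        exact h.symm
    show φ y = 1
    rw [e1, map_mul]
    rcases Int.units_eq_one_or (φ ⟨a, ha⟩) with h | h <;>
      rcases Int.units_eq_one_or (φ ⟨_, hb⟩) with h' | h' <;> simp_all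
  let ψ : G →* ℤˣ := (QuotientGroup.lift _ φ hfoc).comp P.transferFocal
  have hodd : Odd P.index := Nat.not_even_iff_odd.1 (fun h => S.not_dvd_index (even_iff_two_dvd.1 h))
  have hoddpow : ∀ (e : ℤˣ) (k : ℕ), Odd k → e ^ k = e := fun e k hk => by
    rcases Int.units_eq_one_or e with rfl | rfl
    · simp
    · exact hk.neg_one_pow
  have hψ : ∀ y : P, ψ y = φ y := fun y => by
    show QuotientGroup.lift _ φ hfoc (P.transferFocal y) = _
    rw [Subgroup.transferFocal_eq_pow, map_pow, QuotientGroup.lift_mk, hoddpow _ _ hodd]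
  have hconj : ∀ g : G, IsPGroup 2 (Subgroup.zpowers g) → ∃ h : G, h * g * h⁻¹ ∈ P := by
    intro g hg
    obtain ⟨Q, hQ⟩ := hg.exists_le_sylow
    obtain ⟨h, hh⟩ := exists_smul_eq G Q S
    refine ⟨h, ?_⟩
    rw [hPdef, ← hh]
    exact Subgroup.smul_mem_pointwise_smul _ (MulAut.conj h) _ (hQ (Subgroup.mem_zpowers g))
  have hker : ∀ (g : G) (c : Ω), g • c = c → ψ g = 1 := by
    intro g c hc
    obtain ⟨k, r, hr, e⟩ := Nat.exists_eq_two_pow_mul_odd (orderOf_pos g).ne'
    obtain ⟨h, hh⟩ := hconj (g ^ r) (IsPGroup.of_card (n := k) (by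
      rw [Nat.card_zpowers, orderOf_pow' _ hr.pos.ne', e, Nat.gcd_mul_left_left,
        Nat.mul_div_cancel _ hr.pos]))
    have h1 : ψ (h * g ^ r * h⁻¹) = 1 := by
      rw [hψ ⟨_, hh⟩, hφ]
      refine hfp _ hh (h • c) ?_
      rw [mul_smul, mul_smul, inv_smul_smul, (stabilizer G c).pow_mem hc r]
    rw [map_mul, map_mul, map_inv, mul_inv_cancel_comm, map_pow, hoddpow _ _ hr] at h1
    exact h1
  have hψx : ψ x = -1 := by
    rw [hψ ⟨x, hxP⟩]
    exact (Int.units_eq_one_or _).resolve_left fun h => hxa ((hφ _).1 h)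
  refine ⟨ψ.ker, inferInstance, Or.inl ?_, (stabilizer G α).subgroupOf ψ.ker, ?_, ?_, ?_⟩
  · rw [Subgroup.index_ker, MonoidHom.range_eq_top.2, Subgroup.card_top, Nat.card_eq_fintype_card,
      Fintype.card_units_int]
    intro e
    rcases Int.units_eq_one_or e with rfl | rfl
    · exact ⟨1, map_one _⟩
    · exact ⟨x, hψx⟩
  · intro e
    have : (⟨t, hker t α hta'⟩ : ψ.ker) ∈ (stabilizer G α).subgroupOf ψ.ker := hta
    rw [e, Subgroup.mem_bot] at this
    exact ht1' (congrArg Subtype.val this)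
  · intro e
    refine ht1' (eq_of_smul_eq_smul (α := Ω) fun c => ?_)
    obtain ⟨g, rfl⟩ := htr.exists_smul_eq α c
    have h1 : g⁻¹ * t * g ∈ ψ.ker := by
      rw [MonoidHom.mem_ker, map_mul, map_mul, hker t α hta']; simp
    have h2 : (⟨_, h1⟩ : ψ.ker) ∈ (stabilizer G α).subgroupOf ψ.ker := by rw [e]; trivial
    have h4 : (g⁻¹ * t * g) • α = α := h2
    rw [mul_smul, mul_smul, inv_smul_eq_iff] at h4
    rw [h4, one_smul]
  · intro n hn
    rw [eq_bot_iff]
    rintro g ⟨hg1, hg2⟩
    by_contra hg0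
    have hg0' : (g : G) ≠ 1 := fun e => hg0 (Subtype.ext e)
    have hna : (n : G) • α ≠ α := hn
    have hga : (g : G) • α = α := hg1
    have hgn : (g : G) • (n : G) • α = (n : G) • α := by
      have hg3 := Subgroup.mem_pointwise_smul_iff_inv_smul_mem.1 hg2
      have : ((n : G)⁻¹ * g * n) • α = α := by simpa [Subgroup.mem_subgroupOf] using hg3
      rwa [mul_smul, mul_smul, inv_smul_eq_iff] at this
    obtain ⟨r, hr, hrd⟩ := Nat.exists_prime_and_dvd (n := orderOf (g : G)) (fun e => hg0' (orderOf_eq_one_iff.1 e))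
    set u : G := (g : G) ^ (orderOf (g : G) / r) with hu
    have huo : orderOf u = r := orderOf_pow_orderOf_div (orderOf_pos _).ne' hrd
    have hu1 : u ≠ 1 := fun e => hr.one_lt.ne (by rw [← huo, e, orderOf_one])
    have hua : u • α = α := (stabilizer G α).pow_mem hga _
    have hun : u • (n : G) • α = (n : G) • α := (stabilizer G ((n : G) • α)).pow_mem hgn _
    have hufix : ∀ d : Ω, u • d = d → d = α ∨ d = (n : G) • α := fun d hd => by
      by_contra hne
      push Not at hne
      exact hu1 (h3 u α _ d hna.symm hne.1.symm hne.2.symm hua hun hd)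
    choose f hf using htr.exists_smul_eq α
    let c : Ω → ℤˣ := fun ω => ψ (f ω)
    have hc : ∀ (h : G) ω, c (h • ω) = ψ h * c ω := fun h ω => by
      have := hker ((f (h • ω))⁻¹ * (h * f ω)) α (by rw [mul_smul, mul_smul, hf, inv_smul_eq_iff, hf])
      rw [map_mul, map_mul, map_inv, inv_mul_eq_one] at this
      exact this
    have hca : c α = 1 := hker _ α (hf α)
    have hcn : c ((n : G) • α) = 1 := by rw [hc, hca, mul_one]; exact n.2
    have huψ : ψ u = 1 := hker u α hua
    have d1 : r ∣ Nat.card {ω | c ω = -1} := huo ▸ dvd_card_of_nofix u (huo ▸ hr) _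
      (fun ω hω => by show c _ = -1; rw [hc, huψ, one_mul]; exact hω)
      (fun ω hω e => by
        have hω' : c ω = -1 := hω
        rcases hufix ω e with rfl | rfl
        · rw [hca] at hω'; exact absurd hω' (by decide)
        · rw [hcn] at hω'; exact absurd hω' (by decide))
    have d2 : r ∣ Nat.card ({ω | c ω = 1} \ {α, (n : G) • α} : Set Ω) :=
      huo ▸ dvd_card_of_nofix u (huo ▸ hr) _
      (fun ω hω => ⟨by show c _ = 1; rw [hc, huψ, one_mul]; exact hω.1, by
        rintro (e | e)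
        · exact hω.2 (Or.inl (by rw [← hua] at e; exact smul_left_cancel u e))
        · exact hω.2 (Or.inr (by rw [← hun] at e; exact smul_left_cancel u e))⟩)
      (fun ω hω e => hω.2 (hufix ω e))
    have d3 : Nat.card {ω | c ω = -1} = Nat.card {ω | c ω = 1} := by
      refine Nat.card_congr ⟨fun ω => ⟨x • ω.1, ?_⟩, fun ω => ⟨x⁻¹ • ω.1, ?_⟩, ?_, ?_⟩
      · show c _ = 1
        rw [hc, hψx, show c ω.1 = -1 from ω.2]; simp
      · show c _ = -1
        rw [hc, map_inv, hψx, show c ω.1 = 1 from ω.2]; simp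
      · intro ω; simp
      · intro ω; simp
    have d4 : Nat.card ({ω | c ω = 1} \ {α, (n : G) • α} : Set Ω) + 2 = Nat.card {ω | c ω = 1} := by
      rw [Nat.card_coe_set_eq, Nat.card_coe_set_eq, ← Set.ncard_pair hna.symm]
      refine Set.ncard_sdiff_add_ncard_of_subset ?_
      rintro _ (rfl | rfl)
      · exact hca
      · exact hcn
    rw [d3, ← d4] at d1
    have hr2 : r = 2 := (Nat.prime_dvd_prime_iff_eq hr Nat.prime_two).1 ((Nat.dvd_add_right d2).1 d1)
    obtain ⟨h, hh⟩ := hconj u (IsPGroup.of_card (n := 1) (by rw [Nat.card_zpowers, huo, hr2]; rfl))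
    have k1 : (h * u * h⁻¹) • α = α := hfp _ hh (h • α) (by rw [mul_smul, mul_smul, inv_smul_smul, hua])
    have k2 := hx _ hh k1
    rw [mul_smul, mul_smul, smul_eq_iff_eq_inv_smul] at k1 k2
    have k3 : ∀ d : Ω, u • d = d → c d = 1 := fun d hd => by
      rcases hufix d hd with rfl | rfl
      · exact hca
      · exact hcn
    have k4 := k3 _ k1
    have k5 := k3 _ k2
    rw [hβ, hc, hc, hψx, hca] at k5
    rw [hc, hca] at k4
    rw [mul_one] at k4 k5
    rw [k4] at k5
    exact absurd k5 (by decide)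

end Cfsg.Agent.S3390
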