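import Mathlib
import Cfsg.Statements.S3371
import Cfsg.Agent.Base
import Cfsg.Agent.S3380
import Cfsg.Agent.S3381
import Cfsg.Agent.S3390
import Cfsg.Agent.Lib.TwoFusion.QD
import Cfsg.Agent.Lib.Suz.Huppert
import Cfsg.Agent.Lib.Perm.Half

set_option autoImplicit false
open Cfsg

namespace Cfsg.Agent.S3371

open MulAction

theorem odd_cof (a : ℤ) (ha : Odd a) (k : ℕ) : ∃ c : ℤ, Odd c ∧ a ^ (2 * k + 1) - 1 = (a - 1) * c := by
  induction k with
  | zero => exact ⟨1, odd_one, by simp⟩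
  | succ k ih =>
    obtain ⟨c, hc, e⟩ := ih
    refine ⟨a ^ 2 * c + (a + 1), (ha.pow.mul hc).add_even ha.add_one, ?_⟩
    linear_combination a ^ 2 * e

theorem unit_of_odd {c d : ℤ} {m : ℕ} (hc : Odd c) (h : d * c = 2 ^ m ∨ d * c = -2 ^ m) :
    c = 1 ∨ c = -1 := by
  have h1 : c ∣ 2 ^ m := by
    rcases h with h | h
    · exact ⟨d, by rw [← h, mul_comm]⟩
    · exact ⟨-d, by linear_combination h⟩
  have h2 : IsCoprime c (2 ^ m) := (Int.isCoprime_two_right.2 hc).pow_right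
  exact Int.isUnit_iff.1 (h2.isUnit_of_dvd h1)

theorem nt1 {q r m : ℕ} (hq : q.Prime) (hq2 : q ≠ 2) (hr : 0 < r) (h : q ^ r + 1 = 2 ^ m) : r = 1 := by
  have ho : Odd q := hq.odd_of_ne_two hq2
  have h1 := hq.one_lt
  rcases Nat.even_or_odd' r with ⟨k, rfl | rfl⟩
  · exfalso
    obtain ⟨t, ht⟩ : Odd (q ^ k) := ho.pow
    have h2 : 1 < q ^ k := Nat.one_lt_pow (by omega) h1
    rw [mul_comm, pow_mul, ht] at h
    rw [ht] at h2
    rcases m with _ | _ | m
    · nlinarith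
    · have : 2 ^ (0 + 1) = 2 := rfl
      nlinarith
    · have : (2 * t + 1) ^ 2 + 1 = 4 * (t * t + t) + 2 := by ring
      rw [this, pow_succ, pow_succ] at h
      omega
  · obtain ⟨c, hc, e⟩ := odd_cof (-q) (by exact_mod_cast ho : Odd (q : ℤ)).neg k
    rw [Odd.neg_pow ⟨k, rfl⟩] at e
    have h' : (q : ℤ) ^ (2 * k + 1) + 1 = 2 ^ m := by exact_mod_cast h
    have h3 : (q : ℤ) ^ (2 * k + 1) = q ^ 1 := by
      rcases unit_of_odd (d := -q - 1) (m := m) hc (Or.inr (by linear_combination -e - h')) with rfl | rfl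
      · linear_combination -e
      · exfalso
        have : (0 : ℤ) < (q : ℤ) ^ (2 * k + 1) := by positivity
        have : (0 : ℤ) < q := by positivity
        linarith
    exact Nat.pow_right_injective h1 (by exact_mod_cast h3)

theorem nt2 {q s m : ℕ} (hq : q.Prime) (hq2 : q ≠ 2) (hs : 0 < s) (h : q ^ s = 2 ^ m + 1) :
    s = 1 ∨ (q = 3 ∧ s = 2) := by
  have ho : Odd q := hq.odd_of_ne_two hq2
  have h1 := hq.one_lt
  rcases Nat.even_or_odd' s with ⟨k, rfl | rfl⟩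
  · right
    obtain ⟨t, ht⟩ : Odd (q ^ k) := ho.pow
    have h2 : 1 < q ^ k := Nat.one_lt_pow (by omega) h1
    rw [mul_comm, pow_mul, ht] at h
    have h3 : 4 * (t * (t + 1)) = 2 ^ m := by nlinarith
    have h4 : t ∣ 2 ^ m := ⟨4 * (t + 1), by rw [← h3]; ring⟩
    have h5 : t + 1 ∣ 2 ^ m := ⟨4 * t, by rw [← h3]; ring⟩
    have h6 : t = 1 := by
      rcases Nat.even_or_odd t with e | e
      · have := Nat.Coprime.eq_one_of_dvd (Nat.Coprime.pow_right m (Nat.coprime_two_right.2 e.add_one)) h5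
        omega
      · exact Nat.Coprime.eq_one_of_dvd (Nat.Coprime.pow_right m (Nat.coprime_two_right.2 e)) h4
    subst h6
    obtain ⟨e1, e2⟩ := (Nat.prime_three.pow_eq_iff).1 ht
    exact ⟨e1, by omega⟩
  · left
    obtain ⟨c, hc, e⟩ := odd_cof q (by exact_mod_cast ho : Odd (q : ℤ)) k
    have h' : (q : ℤ) ^ (2 * k + 1) = 2 ^ m + 1 := by exact_mod_cast h
    have h3 : (q : ℤ) ^ (2 * k + 1) = q ^ 1 := by
      rcases unit_of_odd (d := q - 1) (m := m) hc (Or.inl (by linear_combination -e + h')) with rfl | rfl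
      · linear_combination e
      · exfalso
        have : (0 : ℤ) < 2 ^ m := by positivity
        have : (1 : ℤ) < q := by exact_mod_cast h1
        linarith
    exact Nat.pow_right_injective h1 (by exact_mod_cast h3)

theorem cyc_or_quat {G : Type*} [Group G] [Finite G] (hG : IsPGroup 2 G)
    (hm : ∀ B : Subgroup G, IsMulCommutative B → IsCyclic B) :
    IsCyclic G ∨ ∃ n : ℕ, Nonempty (G ≃* QuaternionGroup n) := by
  haveI : Fact (Nat.Prime 2) := ⟨Nat.prime_two⟩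
  rcases subsingleton_or_nontrivial G with h | h
  · exact Or.inl inferInstance
  obtain ⟨z, -, hz, hzo⟩ := H5.exists_mem_center_orderOf_eq hG ⊤ top_ne_bot
  have key : ∀ H : Subgroup G, Nat.card H = 2 → H = Subgroup.zpowers z := by
    intro H hH
    haveI : IsCyclic H := isCyclic_of_prime_card hH
    have hc : IsCyclic (H ⊔ Subgroup.zpowers z : Subgroup G) :=
      hm _ (H5.isMulCommutative_sup_zpowers IsCyclic.isMulCommutative
        (fun g _ => Subgroup.mem_center_iff.1 hz g))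
    exact H80.eq_of_card_eq_of_le_isCyclic hc le_sup_left le_sup_right
      (by rw [hH, Nat.card_zpowers, hzo])
  rcases Cfsg.Agent.S0016.result 2 hG (fun H K h1 h2 => by rw [key H h1, key K h2]) with h | ⟨-, n, h⟩
  · exact Or.inl h
  · exact Or.inr ⟨_, h⟩

theorem exists_invol_pow {G : Type*} [Group G] (hG : IsPGroup 2 G) {g : G} (hg : g ≠ 1) :
    ∃ k : ℕ, g ^ k ≠ 1 ∧ g ^ k * g ^ k = 1 := by
  obtain ⟨k, hk⟩ := hG g
  obtain ⟨j, h1, h2⟩ := H5.exists_pow_not_mem_pow_mem (p := 2) (K := ⊥) (x := g) (by simpa using hg)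
    (k := k) (by simpa using hk)
  exact ⟨2 ^ j, by simpa using h1, by simpa [pow_two] using h2⟩

theorem mem_center_map {G H : Type*} [Group G] [Group H] (e : G ≃* H) (g : G) :
    g ∈ Subgroup.center G ↔ e g ∈ Subgroup.center H := by
  simp only [Subgroup.mem_center_iff]
  constructor
  · intro h y
    obtain ⟨y, rfl⟩ := e.surjective y
    rw [← map_mul, ← map_mul, h]
  · intro h y
    exact e.injective (by rw [map_mul, map_mul, h])

theorem dih_r_center {n : ℕ} (i : ZMod n) (h : DihedralGroup.r i * DihedralGroup.r i = 1) :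
    DihedralGroup.r i ∈ Subgroup.center (DihedralGroup n) := by
  rw [DihedralGroup.r_mul_r, DihedralGroup.one_def, DihedralGroup.r.injEq] at h
  rw [Subgroup.mem_center_iff]
  rintro (j | j)
  · simp [add_comm]
  · simp only [DihedralGroup.sr_mul_r, DihedralGroup.r_mul_sr, DihedralGroup.sr.injEq]
    linear_combination h

theorem dih_count (n : ℕ) [NeZero n] :
    Nat.card {g : DihedralGroup n // orderOf g = 2 ∧ g ∉ Subgroup.center _} = n ∨
      Nat.card {g : DihedralGroup n // orderOf g = 2 ∧ g ∉ Subgroup.center _} = 0 := by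
  by_cases h2 : (2 : ZMod n) = 0
  · right
    rw [Nat.card_eq_zero]
    refine Or.inl ⟨fun ⟨g, h1, h3⟩ => h3 ?_⟩
    have k : ∀ i : ZMod n, -i = i := fun i => by linear_combination -i * h2
    rw [Subgroup.mem_center_iff]
    rcases g with i | i <;> rintro (j | j) <;> simp [sub_eq_add_neg, k, add_comm]
  · left
    conv_rhs => rw [← Nat.card_zmod n]
    have hnc : ∀ i : ZMod n, DihedralGroup.sr i ∉ Subgroup.center (DihedralGroup n) := fun i h => by
      have := Subgroup.mem_center_iff.1 h (DihedralGroup.r 1)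
      simp only [DihedralGroup.sr_mul_r, DihedralGroup.r_mul_sr, DihedralGroup.sr.injEq] at this
      exact h2 (by linear_combination -this)
    refine (Nat.card_eq_of_bijective (fun i : ZMod n => (⟨DihedralGroup.sr i, DihedralGroup.orderOf_sr i,
      hnc i⟩ : {g : DihedralGroup n // orderOf g = 2 ∧ g ∉ Subgroup.center _}))
      ⟨fun i j h => by simpa using h, ?_⟩).symm
    rintro ⟨i | i, h1, h3⟩
    · exact absurd (dih_r_center i (by rw [← pow_two, ← h1, pow_orderOf_eq_one])) h3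
    · exact ⟨i, rfl⟩

theorem qd_count {G : Type*} [Group G] [Finite G] {k : ℕ} {x y : G} (h : H41.QD ⊤ k x y) :
    Nat.card {g : G // orderOf g = 2 ∧ g ∉ Subgroup.center _} = 4 * 2 ^ k := by
  have hnc : ∀ j : ℤ, x ^ (2 * j) * y ∉ Subgroup.center G := fun j hc => by
    rcases h.center_iff (Subgroup.mem_top _) (fun g _ => Subgroup.mem_center_iff.1 hc g) with e | e
    · exact h.zpow_ne 0 _ (by rw [e, zpow_zero])
    · exact h.zpow_ne _ _ (h.z_def ▸ e.symm)
  conv_rhs => rw [← Fintype.card_fin (4 * 2 ^ k), ← Nat.card_eq_fintype_card]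
  refine (Nat.card_eq_of_bijective (fun i => ⟨x ^ (2 * ((i : ℕ) : ℤ)) * y, h.orderOf_even _, hnc _⟩)
    ⟨fun i j e => ?_, ?_⟩).symm
  · have e1 : x ^ (2 * ((i : ℕ) : ℤ)) = x ^ (2 * ((j : ℕ) : ℤ)) := by simpa using e
    obtain ⟨c, hc⟩ := h.zpow_inj.1 e1
    have hi : ((i : ℕ) : ℤ) < 4 * 2 ^ k := by exact_mod_cast i.2
    have hj : ((j : ℕ) : ℤ) < 4 * 2 ^ k := by exact_mod_cast j.2
    have hp : (0 : ℤ) < 2 ^ k := by positivity
    have hc0 : c = 0 := by
      rcases lt_trichotomy c 0 with e | e | e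
      · nlinarith
      · exact e
      · nlinarith
    subst hc0
    exact Fin.ext (by omega)
  · rintro ⟨g, h1, h3⟩
    rcases h.invol (Subgroup.mem_top g) (by rw [← pow_two, ← h1, pow_orderOf_eq_one]) with e | e | ⟨j, e⟩
    · exact absurd (e ▸ Subgroup.one_mem _) h3
    · exact absurd (e ▸ Subgroup.mem_center_iff.2 fun g => h.z_comm (Subgroup.mem_top g)) h3
    · have hp : (0 : ℤ) < 4 * 2 ^ k := by positivity
      have a1 := Int.emod_nonneg j hp.ne'
      have a2 := Int.emod_lt_of_pos j hp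
      refine ⟨⟨(j % (4 * 2 ^ k)).toNat, by zify; rw [Int.toNat_of_nonneg a1]; exact a2⟩, Subtype.ext ?_⟩
      simp only [e, Int.toNat_of_nonneg a1]
      congr 1
      refine h.zpow_eq_of (j / (4 * 2 ^ k)) ?_
      have := Int.emod_add_mul_ediv j (4 * 2 ^ k)
      linear_combination -2 * this


/-- Let q be a prime, V a non-trivial finite vector space over the field with q elements, and G a finite p-group (p prime) acting faithfully and linearly on V such that all G-orbits on the non-zero vectors have the same size. Then one of the following holds: G is cyclic or generalized quaternion and acts semiregularly on the non-zero vectors; or V has q² elements with q = 2^m − 1 and G is dihedral of order 2^(m+1) or semidihedral of order 2^(m+2); or V has q² elements with q = 2^m + 1 and, in suitable coordinates V = F_q², G is exactly the group of maps (x, y) ↦ (a x, ± a⁻¹ y) and (x, y) ↦ (± a⁻¹ y, a x) with a ≠ 0; or V has 81 elements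 (q = 3) and G is a 2-group. -/
theorem result (q : ℕ) [Fact q.Prime] {V : Type*} [AddCommGroup V] [Module (ZMod q) V] [Finite V] [Nontrivial V]
    {G : Type*} [Group G] [Finite G] (p : ℕ) [Fact p.Prime] (hG : IsPGroup p G)
    (ρ : G →* (V ≃ₗ[ZMod q] V)) (hρ : Function.Injective ρ)
    (hhalf : ∀ v w : V, v ≠ 0 → w ≠ 0 → Nat.card {u : V | ∃ g : G, ρ g v = u} = Nat.card {u : V | ∃ g : G, ρ g w = u}) :
    ((IsCyclic G ∨ ∃ n : ℕ, Nonempty (G ≃* QuaternionGroup n)) ∧ ∀ v : V, v ≠ 0 → ∀ g : G, ρ g v = v → g = 1) ∨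
    (Nat.card V = q ^ 2 ∧ ∃ m : ℕ, q = 2 ^ m - 1 ∧
      (Nonempty (G ≃* DihedralGroup (2 ^ m)) ∨ (Cfsg.IsQuasiDihedral G ∧ Nat.card G = 2 ^ (m + 2)))) ∨
    (Nat.card V = q ^ 2 ∧ (∃ m : ℕ, q = 2 ^ m + 1) ∧
      ∃ e : V ≃ₗ[ZMod q] (Fin 2 → ZMod q), ∀ f : (Fin 2 → ZMod q) ≃ₗ[ZMod q] (Fin 2 → ZMod q),
        (∃ g : G, f = e.symm.trans ((ρ g).trans e)) ↔
        ∃ a s : ZMod q, a ≠ 0 ∧ (s = 1 ∨ s = -1) ∧
          ((∀ v, f v = ![a * v 0, s * a⁻¹ * v 1]) ∨ (∀ v, f v = ![s * a⁻¹ * v 1, a * v 0]))) ∨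
    (Nat.card V = 81 ∧ q = 3 ∧ p = 2) := by
  classical
  have hp : p.Prime := Fact.out
  have hq : q.Prime := Fact.out
  letI : DistribMulAction G V := DistribMulAction.compHom V ρ
  have hsm : ∀ (g : G) (v : V), g • v = ρ g v := fun g v => rfl
  have hone : ∀ g : G, (∀ v, ρ g v = v) → g = 1 := fun g hg =>
    hρ (by rw [map_one]; exact LinearEquiv.ext hg)
  have hmul : ∀ (a b : G) v, ρ (a * b) v = ρ a (ρ b v) := fun a b v => by rw [map_mul]; rfl
  haveI : FaithfulSMul G V := ⟨fun {a b} h => hρ (LinearEquiv.ext h)⟩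
  have hconst : ∀ a b : V, a ≠ 0 → b ≠ 0 → Nat.card (stabilizer G a) = Nat.card (stabilizer G b) := by
    intro a b ha hb
    have e1 := (stabilizer G a).card_mul_index
    have e2 := (stabilizer G b).card_mul_index
    rw [index_stabilizer, ← Nat.card_coe_set_eq] at e1 e2
    have e3 : Nat.card (orbit G a) = Nat.card (orbit G b) := hhalf a b ha hb
    rw [e3] at e1
    exact Nat.eq_of_mul_eq_mul_right
      (Nat.card_pos_iff.2 ⟨⟨⟨b, mem_orbit_self b⟩⟩, inferInstance⟩) (e1.trans e2.symm)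
  by_cases hp2 : p = 2
  swap
  · obtain ⟨h1, h2⟩ := H26.Suz.cyclic_fpf_of_const_stab hp2 hG hq
      (fun e : V => by rw [← Nat.cast_smul_eq_nsmul (ZMod q), ZMod.natCast_self, zero_smul]) hconst
    refine Or.inl ⟨Or.inl h1, fun v hv g hg => ?_⟩
    by_contra hne
    exact hv (h2 g hne v hg)
  subst hp2
  by_cases hsr : ∀ v : V, v ≠ 0 → ∀ g : G, ρ g v = v → g = 1
  · refine Or.inl ⟨cyc_or_quat hG fun B hB => ?_, hsr⟩
    refine H2.isCyclic_of_fpf_of_comm ((H26.Suz.toMulAutMult G V).comp B.subtype) fun a ha v hv => ?_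
    by_contra hne
    exact ha (Subtype.ext (hsr v.toAdd hne a hv))
  right
  push Not at hsr
  obtain ⟨v0, hv0, g0, hgv0, hg0⟩ := hsr
  have hirr : ∀ W : Submodule (ZMod q) V, (∀ g : G, ∀ w ∈ W, ρ g w ∈ W) → W = ⊥ ∨ W = ⊤ := by
    intro W hW
    letI : MulDistribMulAction G (Multiplicative V) :=
      MulDistribMulAction.compHom (Multiplicative V) (H26.Suz.toMulAutMult G V)
    have H : H26.Half.Hyp G (Multiplicative V) (Nat.card {u : V | ∃ g : G, ρ g v0 = u}) :=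
      ⟨fun x hx => hhalf x.toAdd v0 hx hv0, fun a ha => hone a ha, g0, hg0, v0, hv0, hgv0⟩
    rcases H.irred W.toAddSubgroup.toSubgroup hW with h | h
    · left
      rw [eq_bot_iff]
      intro w hw
      have : Multiplicative.ofAdd w ∈ W.toAddSubgroup.toSubgroup := hw
      rw [h] at this
      exact this
    · right
      rw [eq_top_iff]
      intro w _
      have : Multiplicative.ofAdd w ∈ W.toAddSubgroup.toSubgroup := by rw [h]; trivial
      exact this
  have hcen : ∀ c : G, c ∈ Subgroup.center G → c ≠ 1 → ∀ v, ρ c v = v → v = 0 := by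
    intro c hc hc1 v hv
    rcases hirr (S3381.fx (ρ c)) (fun g w hw => by
      show ρ c _ = _
      rw [← hmul, ← Subgroup.mem_center_iff.1 hc g, hmul, show ρ c w = w from hw]) with h | h
    · have : v ∈ S3381.fx (ρ c) := hv
      rwa [h, Submodule.mem_bot] at this
    · exact absurd (hone c fun w => (show w ∈ S3381.fx (ρ c) from h ▸ Submodule.mem_top)) hc1
  have hstne : ∀ v : V, v ≠ 0 → stabilizer G v ≠ ⊥ := fun v hv e => by
    have := hconst v v0 hv hv0
    rw [e, Subgroup.card_bot] at this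
    have h1 : g0 ∈ stabilizer G v0 := hgv0
    rw [Subgroup.eq_bot_of_card_eq _ this.symm, Subgroup.mem_bot] at h1
    exact hg0 h1
  haveI : Nontrivial G := ⟨g0, 1, hg0⟩
  obtain ⟨z, -, hz, hzo⟩ := H5.exists_mem_center_orderOf_eq hG ⊤ top_ne_bot
  have hz1 : z ≠ 1 := by rintro rfl; simp at hzo
  haveI : Module.Finite (ZMod q) V := Module.Finite.of_finite
  have hq2 : q ≠ 2 := by
    rintro rfl
    have hd : 2 ∣ Nat.card V := by
      rw [Module.natCard_eq_pow_finrank (K := ZMod 2), Nat.card_zmod]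
      exact dvd_pow_self _ Module.finrank_pos.ne'
    obtain ⟨b, hb, hb0⟩ := hG.exists_fixed_point_of_prime_dvd_card_of_fixed_point V hd
      (a := 0) (fun g => map_zero (ρ g))
    exact hb0 (hcen z hz hz1 b (hb z)).symm
  have hC : ∀ C : Subgroup G, (∀ t ∈ C, t * t = 1 → t ∈ Subgroup.center G) →
      ∀ g ∈ C, ∀ v, v ≠ 0 → ρ g v = v → g = 1 := by
    intro C hC g hg v hv hgv
    by_contra hne
    obtain ⟨k, h1, h2⟩ := exists_invol_pow hG hne
    exact hv (hcen _ (hC _ (C.pow_mem hg k) h2) h1 v ((stabilizer G v).pow_mem hgv k))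
  have hC2 : ∀ C : Subgroup G, (∀ t ∈ C, t * t = 1 → t ∈ Subgroup.center G) →
      (∀ a b, a ∉ C → b ∉ C → a * b ∈ C) → ∀ m, Nat.card {g : G // orderOf g = 2 ∧ g ∉ Subgroup.center G} = m →
      (∃ j, m = 2 ^ j ∨ m = 0) → Nat.card V = q ^ 2 ∧ q + 1 = m := by
    intro C h1 h2 m hm ⟨j, hj⟩
    obtain ⟨r, hr1, hr2⟩ := S3381.result q ρ hρ (fun v hv => by
      obtain ⟨⟨u, hu⟩, hu1⟩ := Subgroup.ne_bot_iff_exists_ne_one.1 (hstne v hv)
      have hu1' : u ≠ 1 := fun e => hu1 (Subtype.ext e)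
      have key : ∀ a b : G, a ≠ 1 → b ≠ 1 → ρ a v = v → ρ b v = v → a * b = 1 := fun a b ha hb h3 h4 =>
        hC C h1 _ (h2 a b (fun e => ha (hC C h1 a e v hv h3)) (fun e => hb (hC C h1 b e v hv h4))) v hv
          (by rw [hmul, h4, h3])
      rw [Nat.card_eq_two_iff' (⟨1, by simp⟩ : {g : G // ρ g v = v})]
      refine ⟨⟨u, hu⟩, fun e => hu1' (congrArg Subtype.val e), fun ⟨w, hw⟩ hw1 => Subtype.ext ?_⟩
      exact mul_right_cancel ((key w u (fun e => hw1 (Subtype.ext e)) hu1' hw hu).trans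
        (key u u hu1' hu1' hu hu).symm)) z hzo hz
    have hr0 : 0 < r := by
      rcases r with _ | r
      · exact absurd hr1 (by simpa using Finite.one_lt_card.ne')
      · omega
    rw [hm] at hr2
    rcases hj with hj | hj
    · have := nt1 hq hq2 hr0 (hr2.symm.trans hj)
      subst this
      exact ⟨hr1, by rw [hr2, pow_one]⟩
    · omega
  by_cases hnc : IsCyclic G
  · exact absurd (hC ⊤ (fun t _ _ => Subgroup.mem_center_iff.2 fun g => hnc.isMulCommutative.is_comm.comm g t)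
      g0 trivial v0 hv0 hgv0) hg0
  by_cases hnq : ∃ n : ℕ, Nonempty (G ≃* QuaternionGroup n)
  · obtain ⟨n, ⟨e⟩⟩ := hnq
    refine absurd (hC ⊤ (fun t _ ht => (mem_center_map e t).2 ?_) g0 trivial v0 hv0 hgv0) hg0
    have h1 : e t * e t = 1 := by rw [← map_mul, ht, map_one]
    have hn : n ≠ 0 := by
      rintro rfl
      haveI : Finite (QuaternionGroup 0) := Finite.of_equiv _ e.toEquiv
      haveI : Finite (ZMod (2 * 0)) := Finite.of_injective QuaternionGroup.a (fun _ _ h => by simpa using h)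
      exact not_finite (ZMod 0)
    haveI : NeZero n := ⟨hn⟩
    generalize e t = s at h1
    rcases s with i | i
    · rw [QuaternionGroup.a_mul_a, QuaternionGroup.one_def, QuaternionGroup.a.injEq] at h1
      rw [Subgroup.mem_center_iff]
      rintro (j | j)
      · simp [add_comm]
      · simp only [QuaternionGroup.xa_mul_a, QuaternionGroup.a_mul_xa, QuaternionGroup.xa.injEq]
        linear_combination h1
    · have := orderOf_dvd_of_pow_eq_one (show QuaternionGroup.xa i ^ 2 = 1 by rw [pow_two, h1])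
      rw [QuaternionGroup.orderOf_xa] at this
      omega
  by_cases hnd : ∃ n : ℕ, Nonempty (G ≃* DihedralGroup n)
  · obtain ⟨n, ⟨e⟩⟩ := hnd
    have hcard : Nat.card G = 2 * n := by rw [Nat.card_congr e.toEquiv, DihedralGroup.nat_card]
    haveI : NeZero n := ⟨fun h => by rw [h] at hcard; exact Nat.card_pos.ne' hcard⟩
    obtain ⟨k, hk⟩ := IsPGroup.iff_card.1 hG
    obtain ⟨j, -, hj⟩ := (Nat.dvd_prime_pow Nat.prime_two).1 (show n ∣ 2 ^ k from ⟨2, by omega⟩)
    let C : Subgroup G :=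
      { carrier := {g | ∃ i, e g = DihedralGroup.r i}
        one_mem' := ⟨0, by rw [map_one]; rfl⟩
        mul_mem' := fun {a b} ⟨i, hi⟩ ⟨j, hj⟩ => ⟨i + j, by rw [map_mul, hi, hj]; rfl⟩
        inv_mem' := fun {a} ⟨i, hi⟩ => ⟨-i, by rw [map_inv, hi]; rfl⟩ }
    have hcnt : Nat.card {g : G // orderOf g = 2 ∧ g ∉ Subgroup.center G} =
        Nat.card {g : DihedralGroup n // orderOf g = 2 ∧ g ∉ Subgroup.center _} :=
      Nat.card_congr (e.toEquiv.subtypeEquiv fun g => by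
        rw [mem_center_map e g, ← e.orderOf_eq g]; rfl)
    obtain ⟨h1, h2⟩ := hC2 C (fun t ⟨i, hi⟩ ht => (mem_center_map e t).2 (by
        rw [hi]; exact dih_r_center i (by rw [← hi, ← map_mul, ht, map_one])))
      (fun a b ha hb => by
        rcases h3 : e a with i | i
        · exact absurd ⟨i, h3⟩ ha
        rcases h4 : e b with j | j
        · exact absurd ⟨j, h4⟩ hb
        exact ⟨j - i, by rw [map_mul, h3, h4]; rfl⟩) _ hcnt
      ⟨j, (dih_count n).imp (fun h => h.trans hj) id⟩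
    refine Or.inl ⟨h1, j, ?_, Or.inl ⟨hj ▸ e⟩⟩
    rcases dih_count n with h | h <;> omega
  by_cases hnsd : Cfsg.IsQuasiDihedral G
  · obtain ⟨k, x, y, h⟩ := H41.exists_qd_top hnsd
    obtain ⟨h1, h2⟩ := hC2 (Subgroup.zpowers x) (fun t ⟨i, hi⟩ ht => by
        have hi' : x ^ i = t := hi
        rcases h.zpow_sq_eq_one (i := i) (by rw [hi', ht]) with e | e
        · rw [← hi', e]; exact Subgroup.one_mem _
        · rw [← hi', e]; exact Subgroup.mem_center_iff.2 fun g => h.z_comm (Subgroup.mem_top g))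
      (fun a b ha hb => by
        obtain ⟨i, e | e⟩ := (h.mem a).1 trivial
        · exact absurd ⟨i, e.symm⟩ ha
        obtain ⟨j, e' | e'⟩ := (h.mem b).1 trivial
        · exact absurd ⟨j, e'.symm⟩ hb
        rw [e, e', h.mul_zpow_y]
        exact ⟨_, rfl⟩) _ (qd_count h) ⟨k + 2, Or.inl (by ring)⟩
    refine Or.inl ⟨h1, k + 2, ?_, Or.inr ⟨hnsd, ?_⟩⟩
    · rw [pow_add]; omega
    · rw [← Subgroup.card_top, h.card]; ring
  right
  push Not at hnq hnd
  obtain ⟨H, W, hH, hsup, hind, hHW, hK, hout⟩ := S3380.result q 2 hG ρ hρ hirr hnc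
    (fun n => not_nonempty_iff.2 (hnq n)) (fun n => not_nonempty_iff.2 (hnd n)) hnsd
  set A := W 0 with hA
  set B := W 1 with hB
  have hHn : H.Normal := Subgroup.normal_of_index_eq_two hH
  have hsw : ∀ g, g ∉ H → A.map (ρ g : V →ₗ[ZMod q] V) = B ∧ B.map (ρ g : V →ₗ[ZMod q] V) = A := by
    intro g hg
    obtain ⟨σ, hσ, h⟩ := hout g hg
    have h1 : σ ≠ 1 := by rintro rfl; simp at hσ
    have h2 : σ 0 = 1 ∧ σ 1 = 0 := by
      clear hσ h; revert σ; decide
    exact ⟨by rw [h, h2.1], by rw [h, h2.2]⟩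
  have hAB : ∀ g, g ∉ H → ∀ a ∈ A, ρ g a ∈ B := fun g hg a ha => (hsw g hg).1 ▸ ⟨a, ha, rfl⟩
  have hBA : ∀ g, g ∉ H → ∀ a ∈ B, ρ g a ∈ A := fun g hg a ha => (hsw g hg).2 ▸ ⟨a, ha, rfl⟩
  have hdis : Disjoint A B := hind.pairwiseDisjoint (by decide : (0 : Fin 2) ≠ 1)
  have hcod : A ⊔ B = ⊤ := by
    rw [← hsup]
    refine le_antisymm (sup_le (le_iSup W 0) (le_iSup W 1)) (iSup_le fun i => ?_)
    fin_cases i
    · exact le_sup_left
    · exact le_sup_right
  have huq : ∀ a ∈ A, ∀ b ∈ B, ∀ a' ∈ A, ∀ b' ∈ B, a + b = a' + b' → a = a' ∧ b = b' := by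
    intro a ha b hb a' ha' b' hb' e
    have h1 : a - a' = b' - b := by rw [sub_eq_sub_iff_add_eq_add, e, add_comm]
    have h2 := Submodule.disjoint_def.1 hdis _ (A.sub_mem ha ha') (h1 ▸ B.sub_mem hb' hb)
    exact ⟨sub_eq_zero.1 h2, (sub_eq_zero.1 (h1 ▸ h2)).symm⟩
  have hfaith : ∀ g, (∀ a ∈ A, ρ g a = a) → (∀ b ∈ B, ρ g b = b) → g = 1 := fun g h1 h2 =>
    hone g fun v => by
      obtain ⟨a, ha, b, hb, rfl⟩ := Submodule.mem_sup.1 (hcod ▸ Submodule.mem_top : v ∈ A ⊔ B)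
      rw [map_add, h1 a ha, h2 b hb]
  have hinv : ∀ (g : G) v, ρ g (ρ g⁻¹ v) = v := fun g v => by rw [← hmul, mul_inv_cancel, map_one]; rfl
  have hinv' : ∀ (g : G) v, ρ g⁻¹ (ρ g v) = v := fun g v => by rw [← hmul, inv_mul_cancel, map_one]; rfl
  let F : Submodule (ZMod q) V :=
    { carrier := {v | ∀ k ∈ H, ((∀ a ∈ A, ρ k a = a) ∨ (∀ b ∈ B, ρ k b = b)) → ρ k v = v}
      zero_mem' := fun k _ _ => map_zero _
      add_mem' := fun {a b} ha hb k h1 h2 => by rw [map_add, ha k h1 h2, hb k h1 h2]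
      smul_mem' := fun c a ha k h1 h2 => by rw [map_smul, ha k h1 h2] }
  have hF : F = ⊥ := by
    refine (hirr F fun g w hw k hk hk2 => ?_).resolve_right fun e => ?_
    · have h1 : ρ (g⁻¹ * k * g) w = w := by
        refine hw _ (by simpa using hHn.conj_mem k hk g⁻¹) ?_
        by_cases hg : g ∈ H
        · exact hk2.imp (fun h a ha => by rw [hmul, hmul, h _ (hHW g hg 0 a ha), hinv'])
            (fun h a ha => by rw [hmul, hmul, h _ (hHW g hg 1 a ha), hinv'])
        · exact hk2.symm.imp (fun h a ha => by rw [hmul, hmul, h _ (hAB g hg a ha), hinv'])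
            (fun h a ha => by rw [hmul, hmul, h _ (hBA g hg a ha), hinv'])
      conv_rhs => rw [← h1]
      rw [hmul, hmul, hinv]
    · obtain ⟨k, hk, hk1, hk2⟩ := hK 0
      exact hk1 (hone k fun v => (show v ∈ F from e ▸ Submodule.mem_top) k hk (Or.inl hk2))
  have hfixH : ∀ g ∈ H, ∀ a ∈ A, ∀ b ∈ B, ρ g (a + b) = a + b → ρ g a = a ∧ ρ g b = b :=
    fun g hg a ha b hb e => huq _ (hHW g hg 0 a ha) _ (hHW g hg 1 b hb) _ ha _ hb (by rw [← map_add, e])
  have hfixO : ∀ g, g ∉ H → ∀ a ∈ A, ∀ b ∈ B, ρ g (a + b) = a + b → ρ g a = b ∧ ρ g b = a :=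
    fun g hg a ha b hb e => (huq _ (hBA g hg b hb) _ (hAB g hg a ha) _ ha _ hb
      (by rw [← map_add, add_comm, e])).symm
  have hne0 : ∀ a ∈ A, ∀ b ∈ B, a ≠ 0 → a + b ≠ 0 := fun a ha b hb h0 e =>
    h0 (huq _ ha _ hb _ A.zero_mem _ B.zero_mem (by rw [e, add_zero])).1
  have hswap : ∀ a ∈ A, ∀ b ∈ B, a ≠ 0 → b ≠ 0 → ∃ g, g ∉ H ∧ ρ g a = b ∧ ρ g b = a := by
    intro a ha b hb ha0 hb0
    by_contra hcon
    have h1 : ∀ g, ρ g (a + b) = a + b → ρ g a = a ∧ ρ g b = b := fun g hg => by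
      by_cases hgH : g ∈ H
      · exact hfixH g hgH a ha b hb hg
      · exact absurd ⟨g, hgH, hfixO g hgH a ha b hb hg⟩ hcon
    have h2 : stabilizer G (a + b) = stabilizer G a :=
      Subgroup.eq_of_le_of_card_ge (fun g hg => (h1 g hg).1) (hconst _ _ ha0 (hne0 a ha b hb ha0)).le
    have h3 : stabilizer G (a + b) = stabilizer G b :=
      Subgroup.eq_of_le_of_card_ge (fun g hg => (h1 g hg).2) (hconst _ _ hb0 (hne0 a ha b hb ha0)).le
    have h4 : a ∈ F := fun k hk hk2 => by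
      rcases hk2 with h | h
      · exact h a ha
      · have : k ∈ stabilizer G b := h b hb
        rw [← h3, h2] at this
        exact this
    rw [hF] at h4
    exact ha0 h4
  obtain ⟨g1, hg1⟩ : ∃ g, g ∉ H := by
    by_contra hcon
    push Not at hcon
    rw [(Subgroup.eq_top_iff' H).2 hcon, Subgroup.index_top] at hH
    omega
  have hfr : Module.finrank (ZMod q) B = Module.finrank (ZMod q) A := by
    rw [← (hsw g1 hg1).1, LinearEquiv.finrank_map_eq]
  have hfrV : Module.finrank (ZMod q) V = 2 * Module.finrank (ZMod q) A := by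
    rw [← Submodule.finrank_add_eq_of_isCompl ⟨hdis, codisjoint_iff.2 hcod⟩, hfr, two_mul]
  have hs0 : 0 < Module.finrank (ZMod q) A := by
    have : 0 < Module.finrank (ZMod q) V := Module.finrank_pos
    omega
  obtain ⟨a0, ha0, ha00⟩ : ∃ a ∈ A, a ≠ 0 := Submodule.exists_mem_ne_zero_of_ne_bot (by
    intro e; rw [e] at hs0; simp at hs0)
  obtain ⟨b0, hb0, hb00⟩ : ∃ a ∈ B, a ≠ 0 := Submodule.exists_mem_ne_zero_of_ne_bot (by
    intro e; rw [e] at hfr; simp at hfr; omega)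
  have hmulO : ∀ a b, a ∉ H → b ∉ H → a * b ∈ H := fun a b ha hb =>
    (Subgroup.mul_mem_iff_of_index_two hH).2 (by simp [ha, hb])
  obtain ⟨m, hm⟩ : ∃ m, q ^ Module.finrank (ZMod q) A = 2 ^ m + 1 := by
    obtain ⟨m, hm⟩ := (hG.to_subgroup H).card_orbit a0
    have h1 : orbit H a0 = (A : Set V) \ {0} := by
      ext a
      constructor
      · rintro ⟨h, rfl⟩
        exact ⟨hHW h h.2 0 a0 ha0, fun e => ha00 ((ρ h).map_eq_zero_iff.1 e)⟩
      · rintro ⟨ha, ha'⟩
        obtain ⟨g, hg, e1, -⟩ := hswap a0 ha0 b0 hb0 ha00 hb00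
        obtain ⟨g', hg', -, e2⟩ := hswap a ha b0 hb0 ha' hb00
        exact ⟨⟨g' * g, hmulO _ _ hg' hg⟩, by show ρ (g' * g) a0 = a; rw [hmul, e1, e2]⟩
    refine ⟨m, ?_⟩
    rw [← hm, h1, Nat.card_coe_set_eq, Set.ncard_sdiff_singleton_add_one A.zero_mem,
      ← Nat.card_coe_set_eq]
    exact ((Module.natCard_eq_pow_finrank (K := ZMod q) (V := A)).trans (by rw [Nat.card_zmod])).symm
  have hV : Nat.card V = q ^ (2 * Module.finrank (ZMod q) A) := by
    rw [Module.natCard_eq_pow_finrank (K := ZMod q), Nat.card_zmod, hfrV]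
  rcases nt2 hq hq2 hs0 hm with hs | ⟨h3, hs⟩
  swap
  · exact Or.inr ⟨by rw [hV, hs, h3]; norm_num, h3, rfl⟩
  left
  rw [hs] at hV hm hfr
  refine ⟨hV, ⟨m, by simpa using hm⟩, ?_⟩
  have hA1 : ∀ a ∈ A, ∃ c : ZMod q, c • a0 = a := fun a ha => by
    obtain ⟨c, hc⟩ := (finrank_eq_one_iff_of_nonzero' (⟨a0, ha0⟩ : A)
      (fun e => ha00 (congrArg Subtype.val e))).1 hs ⟨a, ha⟩
    exact ⟨c, congrArg Subtype.val hc⟩
  have hB1 : ∀ a ∈ B, ∃ c : ZMod q, c • b0 = a := fun a ha => by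
    obtain ⟨c, hc⟩ := (finrank_eq_one_iff_of_nonzero' (⟨b0, hb0⟩ : B)
      (fun e => hb00 (congrArg Subtype.val e))).1 hfr ⟨a, ha⟩
    exact ⟨c, congrArg Subtype.val hc⟩
  have htriv : ∀ g, ρ g a0 = a0 → ρ g b0 = b0 → g = 1 := fun g h1 h2 =>
    hfaith g (fun a ha => by obtain ⟨c, rfl⟩ := hA1 a ha; rw [map_smul, h1])
      (fun a ha => by obtain ⟨c, rfl⟩ := hB1 a ha; rw [map_smul, h2])
  have hab0 : a0 ≠ b0 := fun e =>
    ha00 (Submodule.disjoint_def.1 hdis _ ha0 (e ▸ hb0))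
  have hst2 : Nat.card (stabilizer G a0) = 2 := by
    rw [hconst _ _ ha00 (hne0 a0 ha0 b0 hb0 ha00)]
    refine S3390.card_two_of_swap _ (hstne _ (hne0 a0 ha0 b0 hb0 ha00)) a0 b0 (fun u hu hu1 => ?_) hab0
    refine hfixO u (fun huH => hu1 ?_) a0 ha0 b0 hb0 hu
    obtain ⟨e1, e2⟩ := hfixH u huH a0 ha0 b0 hb0 hu
    exact htriv u e1 e2
  have hWc : ∀ c : ZMod q, c ≠ 0 → ∃ g, g ∉ H ∧ ρ g a0 = c • b0 ∧ ρ g b0 = c⁻¹ • a0 := by
    intro c hc
    obtain ⟨g, hg, e1, e2⟩ := hswap a0 ha0 (c • b0) (B.smul_mem c hb0) ha00 (smul_ne_zero hc hb00)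
    refine ⟨g, hg, e1, ?_⟩
    rw [← e2, map_smul, smul_smul, inv_mul_cancel₀ hc, one_smul]
  obtain ⟨w, hw, hwa, hwb⟩ := hswap a0 ha0 b0 hb0 ha00 hb00
  have hDc : ∀ c : ZMod q, c ≠ 0 → ∃ g, ρ g a0 = c • a0 ∧ ρ g b0 = c⁻¹ • b0 := by
    intro c hc
    obtain ⟨g, -, e1, e2⟩ := hWc c hc
    exact ⟨w * g, by rw [hmul, e1, map_smul, hwb], by rw [hmul, e2, map_smul, hwa]⟩
  have hsq : ∀ g (β : ZMod q), ρ g a0 = a0 → ρ g b0 = β • b0 → β = 1 ∨ β = -1 := by
    intro g β e1 e2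
    have h1 := pow_card_eq_one' (G := stabilizer G a0) (x := ⟨g, e1⟩)
    rw [hst2] at h1
    have h2 : g * g = 1 := by simpa [pow_two] using congrArg Subtype.val h1
    have h3 : (β * β) • b0 = (1 : ZMod q) • b0 := by
      rw [← smul_smul, ← e2, ← map_smul, ← e2, ← hmul, h2, map_one, one_smul]; rfl
    exact mul_self_eq_one_iff.1 (smul_left_injective _ hb00 h3)
  have hprod : ∀ g (α β : ZMod q), ρ g a0 = α • a0 → ρ g b0 = β • b0 →
      α ≠ 0 ∧ (α * β = 1 ∨ α * β = -1) := by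
    intro g α β e1 e2
    have hα : α ≠ 0 := by
      rintro rfl
      rw [zero_smul] at e1
      exact ha00 ((ρ g).map_eq_zero_iff.1 e1)
    obtain ⟨d, d1, d2⟩ := hDc α⁻¹ (inv_ne_zero hα)
    refine ⟨hα, hsq (d * g) _ ?_ ?_⟩
    · rw [hmul, e1, map_smul, d1, smul_smul, mul_inv_cancel₀ hα, one_smul]
    · rw [hmul, e2, map_smul, d2, smul_smul, inv_inv, mul_comm]
  have hDs : ∀ s : ZMod q, (s = 1 ∨ s = -1) → ∃ g, ρ g a0 = a0 ∧ ρ g b0 = s • b0 := by
    rintro s (rfl | rfl)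
    · exact ⟨1, by simp, by simp⟩
    · obtain ⟨k, hk, hk1, hk2⟩ := hK 0
      obtain ⟨β, hβ⟩ := hB1 _ (hHW k hk 1 b0 hb0)
      rcases hsq k β (hk2 a0 ha0) hβ.symm with rfl | rfl
      · exact absurd (htriv k (hk2 a0 ha0) (by rw [← hβ, one_smul])) hk1
      · exact ⟨k, hk2 a0 ha0, hβ.symm⟩
  let L : (Fin 2 → ZMod q) →ₗ[ZMod q] V :=
    { toFun := fun v => v 0 • a0 + v 1 • b0
      map_add' := fun v w => by simp only [Pi.add_apply, add_smul]; abel
      map_smul' := fun c v => by simp only [Pi.smul_apply, smul_eq_mul, RingHom.id_apply, smul_add, smul_smul] }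
  have hL : ∀ v, L v = v 0 • a0 + v 1 • b0 := fun v => rfl
  have hLb : Function.Bijective L := by
    constructor
    · intro v w e
      obtain ⟨e1, e2⟩ := huq _ (A.smul_mem _ ha0) _ (B.smul_mem _ hb0) _ (A.smul_mem _ ha0) _
        (B.smul_mem _ hb0) e
      ext i
      fin_cases i
      · exact smul_left_injective _ ha00 e1
      · exact smul_left_injective _ hb00 e2
    · intro v
      obtain ⟨a, ha, b, hb, rfl⟩ := Submodule.mem_sup.1 (hcod ▸ Submodule.mem_top : v ∈ A ⊔ B)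
      obtain ⟨c, rfl⟩ := hA1 a ha
      obtain ⟨d, rfl⟩ := hB1 b hb
      exact ⟨![c, d], rfl⟩
  refine ⟨(LinearEquiv.ofBijective L hLb).symm, fun f => ?_⟩
  have hiff : ∀ g : G, f = (LinearEquiv.ofBijective L hLb).symm.symm.trans
      ((ρ g).trans (LinearEquiv.ofBijective L hLb).symm) ↔ ∀ v, L (f v) = ρ g (L v) := by
    intro g
    rw [LinearEquiv.ext_iff]
    refine forall_congr' fun v => ?_
    rw [LinearEquiv.trans_apply, LinearEquiv.trans_apply, LinearEquiv.eq_symm_apply]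
    rfl
  simp only [hiff]
  have hD : ∀ g (α β : ZMod q), ρ g a0 = α • a0 → ρ g b0 = β • b0 → ∀ v,
      ρ g (L v) = L ![α * v 0, β * v 1] := fun g α β e1 e2 v => by
    rw [hL, hL, map_add, map_smul, map_smul, e1, e2, smul_smul, smul_smul, mul_comm _ α, mul_comm _ β]
    rfl
  have hW : ∀ g (α β : ZMod q), ρ g a0 = α • b0 → ρ g b0 = β • a0 → ∀ v,
      ρ g (L v) = L ![β * v 1, α * v 0] := fun g α β e1 e2 v => by
    rw [hL, hL, map_add, map_smul, map_smul, e1, e2, smul_smul, smul_smul, mul_comm _ α, mul_comm _ β,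
      add_comm]
    rfl
  constructor
  · rintro ⟨g, hg⟩
    by_cases hgH : g ∈ H
    · obtain ⟨α, hα⟩ := hA1 _ (hHW g hgH 0 a0 ha0)
      obtain ⟨β, hβ⟩ := hB1 _ (hHW g hgH 1 b0 hb0)
      obtain ⟨h1, h2⟩ := hprod g α β hα.symm hβ.symm
      refine ⟨α, α * β, h1, h2, Or.inl fun v => hLb.1 ?_⟩
      rw [hg, hD g α β hα.symm hβ.symm, mul_comm α β, mul_inv_cancel_right₀ h1]
    · obtain ⟨α, hα⟩ := hB1 _ (hAB g hgH a0 ha0)
      obtain ⟨β, hβ⟩ := hA1 _ (hBA g hgH b0 hb0)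
      obtain ⟨h1, h2⟩ := hprod (w * g) α β (by rw [hmul, ← hα, map_smul, hwb])
        (by rw [hmul, ← hβ, map_smul, hwa])
      refine ⟨α, α * β, h1, h2, Or.inr fun v => hLb.1 ?_⟩
      rw [hg, hW g α β hα.symm hβ.symm, mul_comm α β, mul_inv_cancel_right₀ h1]
  · rintro ⟨a, s, ha, hs', h | h⟩
    · obtain ⟨d, d1, d2⟩ := hDc a ha
      obtain ⟨k, k1, k2⟩ := hDs s hs'
      refine ⟨d * k, fun v => ?_⟩
      rw [h, hD (d * k) a (s * a⁻¹) (by rw [hmul, k1, d1]) (by rw [hmul, k2, map_smul, d2, smul_smul])]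
    · obtain ⟨d, -, d1, d2⟩ := hWc a ha
      obtain ⟨k, k1, k2⟩ := hDs s hs'
      refine ⟨d * k, fun v => ?_⟩
      rw [h, hW (d * k) a (s * a⁻¹) (by rw [hmul, k1, d1]) (by rw [hmul, k2, map_smul, d2, smul_smul])]

end Cfsg.Agent.S3371
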