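import Cfsg.Statements.S3378
import Mathlib
import Cfsg.Agent.Lib.GWCor.QGroup
import Cfsg.Agent.Lib.GW.DGrp3
import Cfsg.Agent.S0205
import Cfsg.Agent.Lib.SL2.Triangle
import Cfsg.Agent.Lib.GL.Two

set_option autoImplicit false
open Cfsg

namespace Cfsg.Agent.S3378

open Subgroup
open scoped MatrixGroups

theorem arith {q n : ℕ} (h1 : Odd q) (h2 : 3 < q) (h4 : n ≤ 60)
    (h3 : Nat.gcd 2 (q - 1) * n = q * (q - 1) * (q + 1)) : q = 5 ∧ n = 60 := by
  obtain ⟨k, rfl⟩ := h1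
  rw [Nat.add_sub_cancel, Nat.gcd_mul_right_right] at h3
  obtain rfl : k = 2 := by
    by_contra h
    have : 3 ≤ k := by omega
    nlinarith [Nat.mul_le_mul this this]
  omega

theorem slEquiv {F K : Type*} [Field F] [Field K] (e : F ≃+* K) : Nonempty (SL(2, F) ≃* SL(2, K)) :=
  ⟨MonoidHom.toMulEquiv (Matrix.SpecialLinearGroup.map (e : F →+* K))
    (Matrix.SpecialLinearGroup.map (e.symm : K →+* F)) (by ext; simp) (by ext; simp)⟩

def mx : SL(2, ZMod 5) := ⟨!![0, -1; 1, -1], by decide⟩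

def my : SL(2, ZMod 5) := ⟨!![1, 1; 0, 1], by decide⟩

theorem eq_top {H : Subgroup SL(2, ZMod 5)} (hx : mx ∈ H) (hy : my ∈ H) : H = ⊤ := by
  refine eq_top_iff.2 fun g _ => ?_
  obtain ⟨a, b, c, d, rfl⟩ := (by decide +kernel : ∀ g : SL(2, ZMod 5), ∃ a b c d : Fin 5,
    g = my ^ a.1 * (mx * my ^ b.1 * mx⁻¹) * my ^ c.1 * (mx * my ^ d.1 * mx⁻¹)) g
  exact mul_mem (mul_mem (mul_mem (pow_mem hy _) (mul_mem (mul_mem hx (pow_mem hy _)) (inv_mem hx)))
    (pow_mem hy _)) (mul_mem (mul_mem hx (pow_mem hy _)) (inv_mem hx))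

theorem card_le {G : Type*} [Group G] {x y z : G} (h1 : x ^ 3 = 1) (h2 : y ^ 5 = 1) (h3 : z ^ 2 = 1)
    (h4 : z⁻¹ * x * z * x⁻¹ = 1) (h5 : z⁻¹ * y * z * y⁻¹ = 1) (h6 : (x * y) ^ 2 * z⁻¹ = 1)
    (hg : ∀ H : Subgroup G, x ∈ H → y ∈ H → z ∈ H → H = ⊤) : Finite G ∧ Nat.card G ≤ 120 := by
  have hc : centralizer ({z} : Set G) = ⊤ := hg _
    (mem_centralizer_singleton_iff.2 (by
      rw [← inv_mul_eq_iff_eq_mul, ← mul_assoc, mul_inv_eq_one.1 h4]))
    (mem_centralizer_singleton_iff.2 (by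
      rw [← inv_mul_eq_iff_eq_mul, ← mul_assoc, mul_inv_eq_one.1 h5]))
    (mem_centralizer_singleton_iff.2 rfl)
  have := H29.normal_of_le_center (zpowers_le.2 (mem_center_iff.2 fun g =>
    mem_centralizer_singleton_iff.1 (hc.ge (mem_top g))))
  let π := QuotientGroup.mk' (zpowers z)
  have hz : π z = 1 := (QuotientGroup.eq_one_iff z).2 (mem_zpowers z)
  obtain ⟨h7, h8⟩ := H29.Tri.card_le_of_cert (x := π (x * y)) (y := π x⁻¹) (k := 4)
    (by rw [← map_pow, mul_inv_eq_one.1 h6, hz]) (by rw [← map_pow, inv_pow, h1, inv_one, map_one])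
    (by rw [← map_mul, ← map_pow, conj_pow, h2, mul_one, mul_inv_cancel, map_one]) H29.Tri.cert5
  have h9 : closure ({π (x * y), π x⁻¹} : Set (G ⧸ zpowers z)) = ⊤ := by
    have hx : x ∈ (closure ({π (x * y), π x⁻¹} : Set (G ⧸ zpowers z))).comap π :=
      inv_mem_iff.1 (subset_closure (by simp))
    rw [← comap_injective (QuotientGroup.mk'_surjective _) |>.eq_iff, comap_top]
    exact hg _ hx ((mul_mem_cancel_left hx).1 (subset_closure (by simp)))
      (by rw [mem_comap, hz]; exact one_mem _)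
  rw [h9] at h7 h8
  have : Finite (G ⧸ zpowers z) := Finite.of_equiv _ topEquiv.toEquiv
  have hz' : IsOfFinOrder z := isOfFinOrder_iff_pow_eq_one.2 ⟨2, two_pos, h3⟩
  have : Finite (zpowers z) := hz'.finite_zpowers
  refine ⟨Finite.of_subgroup_quotient (zpowers z), ?_⟩
  rw [card_eq_card_quotient_mul_card_subgroup (zpowers z), Nat.card_zpowers]
  rw [card_top] at h8
  exact Nat.mul_le_mul h8 (orderOf_le_of_pow_eq_one two_pos h3)

/-- Every non-solvable group of order 120 whose Sylow 2-subgroups are quaternion of order 8 is isomorphic to SL(2,5), and SL(2,5) has the presentation ⟨x, y, z | x³ = y⁵ = z² = 1, z⁻¹xz = x, z⁻¹yz = y, (xy)² = z⟩. -/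
theorem result :
    (∀ (G : Type*) [Group G] [Finite G], Nat.card G = 120 → ¬ Group.IsSolvable G →
      (∀ P : Sylow 2 G, Nonempty ((P : Subgroup G) ≃* QuaternionGroup 2)) →
      Nonempty (G ≃* Matrix.SpecialLinearGroup (Fin 2) (ZMod 5))) ∧
    Nonempty (PresentedGroup ({FreeGroup.of (0 : Fin 3) ^ 3, FreeGroup.of (1 : Fin 3) ^ 5, FreeGroup.of (2 : Fin 3) ^ 2,
        (FreeGroup.of (2 : Fin 3))⁻¹ * FreeGroup.of 0 * FreeGroup.of 2 * (FreeGroup.of (0 : Fin 3))⁻¹,
        (FreeGroup.of (2 : Fin 3))⁻¹ * FreeGroup.of 1 * FreeGroup.of 2 * (FreeGroup.of (1 : Fin 3))⁻¹,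
        (FreeGroup.of (0 : Fin 3) * FreeGroup.of 1) ^ 2 * (FreeGroup.of (2 : Fin 3))⁻¹} : Set (FreeGroup (Fin 3)))
      ≃* Matrix.SpecialLinearGroup (Fin 2) (ZMod 5)) := by
  refine ⟨fun G _ _ hc hns hQ => ?_, ?_⟩
  · have ho := H1.odd_card_oddCore (G := G)
    have ho' := Nat.two_dvd_ne_zero.2 (Nat.odd_iff.1 ho)
    have hO : pPrimeCore 2 (G ⧸ oddCore G) = ⊥ := H1.pPrimeCore_quotient_pPrimeCore
    have hπ := QuotientGroup.mk'_surjective (oddCore G)
    have hk : Odd (Nat.card (QuotientGroup.mk' (oddCore G)).ker) := by rwa [QuotientGroup.ker_mk']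
    obtain ⟨S₀⟩ : Nonempty (Sylow 2 G) := inferInstance
    obtain ⟨e₀⟩ := hQ S₀
    obtain ⟨e₁⟩ := H29.sylow_equiv_of_odd_ker _ hπ hk S₀ (S₀.mapSurjective hπ)
    obtain ⟨z, Q, _, _, f, h⟩ := H29.exists_cov' ((H29.rankOne_of_quaternion (n := 0) S₀ e₀).quotient
      _ ho') hO (H29.even_of_quaternion (e₁.symm.trans e₀))
    obtain ⟨L, hL⟩ := h.d2.md (h.core hO) fun h1 => hns (by
      have := h.isSolvable_iff.2 h1
      have := Cfsg.Agent.S0205.result ho
      exact Group.isSolvable_of_ker_le_range (oddCore G).subtype (QuotientGroup.mk' (oddCore G))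
        (by simp))
    have h1 := card_eq_card_quotient_mul_card_subgroup (oddCore G)
    rw [hc, h.card, ← card_mul_index L] at h1
    have h2 : Nat.card L ≤ 60 := Nat.le_of_dvd (by norm_num)
      ⟨L.index * Nat.card (oddCore G), by linarith⟩
    obtain ⟨F, _, _, h3, h4, ⟨e⟩⟩ := hL.typ.resolve_right fun h1 => by
      rw [H29.card_of_isA7 h1.1] at h2; omega
    have h5 := H10.card_PSL_two (F := F)
    rw [← Nat.card_congr e.toEquiv, Nat.card_eq_fintype_card] at h5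
    obtain ⟨h6, h7⟩ := arith h3 h4 h2 h5
    have h8 : L.index * Nat.card (oddCore G) = 1 := by rw [h7] at h1; linarith
    obtain rfl := index_eq_one.1 (Nat.eq_one_of_mul_eq_one_right h8)
    obtain ⟨e'⟩ := h.sl (by rwa [Nat.card_eq_fintype_card]) (topEquiv.symm.trans e)
    have := Fact.mk Nat.prime_five
    obtain ⟨e''⟩ := slEquiv (ZMod.ringEquivOfPrime F Nat.prime_five h6).symm
    exact ⟨((QuotientGroup.quotientBot.symm.trans (QuotientGroup.quotientMulEquivOfEq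
      (card_eq_one.1 (Nat.eq_one_of_mul_eq_one_left h8)).symm)).trans e').trans e''⟩
  generalize hR : ({_, _, _, _, _, _} : Set (FreeGroup (Fin 3))) = R
  have hr : ∀ r ∈ R, (PresentedGroup.mk R r) = 1 := fun r hr => PresentedGroup.one_of_mem hr
  let φ : PresentedGroup R →* SL(2, ZMod 5) := PresentedGroup.toGroup (f := ![mx, my, -1]) (by
    subst hR
    simp only [Set.mem_insert_iff, Set.mem_singleton_iff, forall_eq_or_imp, forall_eq, map_pow,
      map_mul, map_inv, FreeGroup.lift_apply_of]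
    decide +kernel)
  have hφ : Function.Surjective φ := MonoidHom.range_eq_top.1 (eq_top
    ⟨PresentedGroup.of 0, PresentedGroup.toGroup.of _⟩
    ⟨PresentedGroup.of 1, PresentedGroup.toGroup.of _⟩)
  replace hr := fun r h => hr r (hR.subset h)
  simp only [Set.mem_insert_iff, Set.mem_singleton_iff, forall_eq_or_imp, forall_eq, map_pow,
    map_mul, map_inv] at hr
  obtain ⟨h1, h2, h3, h4, h5, h6⟩ := hr
  obtain ⟨_, h7⟩ := card_le h1 h2 h3 h4 h5 h6 fun H h0 h1 h2 => eq_top_iff.2 fun g _ =>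
    PresentedGroup.generated_by R H (fun j => by fin_cases j; exacts [h0, h1, h2]) g
  refine ⟨MulEquiv.ofBijective φ (hφ.bijective_of_nat_card_le (h7.trans_eq ?_))⟩
  have := Fact.mk Nat.prime_five
  exact ((H10.card_SL_two (F := ZMod 5)).trans (by simp)).symm

end Cfsg.Agent.S3378
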