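import Mathlib
import Cfsg.Statements.S3396
import Cfsg.Agent.Lib.CIT.EPPO

set_option autoImplicit false
open Cfsg

namespace Cfsg.Agent.S3396


/-- Let G be a finite group whose order has at least three distinct prime divisors, and suppose every nonidentity element of G has order a power of 2 or a prime other than 5. Then G is isomorphic to PSL₂(7) (here F is any field with 7 elements). In particular a finite group whose set of element orders is {1, 2, 3, 4, 7} is PSL₂(7). -/
theorem result {G : Type*} [Group G] [Finite G]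
    {F : Type*} [Field F] [Fintype F] (hF : Fintype.card F = 7)
    (h3 : 3 ≤ (Nat.card G).primeFactors.card)
    (hord : ∀ g : G, g ≠ 1 → (∃ k : ℕ, orderOf g = 2 ^ k) ∨ ((orderOf g).Prime ∧ orderOf g ≠ 5)) :
    Nonempty (G ≃* Matrix.ProjectiveSpecialLinearGroup (Fin 2) F) := by
  have hE : H32.EPPO G := fun g hg => by
    rcases hord g hg with ⟨k, hk⟩ | hk
    · exact (isPrimePow_nat_iff _).2 ⟨2, k, Nat.prime_two, Nat.pos_of_ne_zero fun e =>
        hg (orderOf_eq_one_iff.1 (by rw [hk, e, pow_zero])), hk.symm⟩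
    · exact hk.1.isPrimePow
  have hs : ¬ Group.IsSolvable G := fun hs => by
    have := Cfsg.Agent.S1475.result (G := G) fun g => (em (g = 1)).symm.imp_left (hE g)
    omega
  have key : ∀ n : ℕ, n = 5 ∨ n = 9 → ¬ ∃ g : G, orderOf g = n := by
    rintro n hn ⟨g, rfl⟩
    rcases hord g (by rintro rfl; simp at hn) with ⟨k, hk⟩ | hk
    · rcases k with _ | k <;> rw [hk] at hn <;> omega
    · rcases hn with e | e
      · exact hk.2 e
      · exact absurd (e ▸ hk.1) (by norm_num)
  have h5 : ¬ 5 ∣ Nat.card G := fun e =>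
    haveI := Fact.mk Nat.prime_five
    key 5 (Or.inl rfl) (exists_prime_orderOf_dvd_card' 5 e)
  rcases hE.cit.gen hs with ⟨_, hna⟩ | ⟨hc, -⟩
  swap
  · omega
  have h5' : ¬ 5 ∣ Nat.card (G ⧸ pCore 2 G) := fun e => h5 (e.trans (Subgroup.card_quotient_dvd_card _))
  have hf := QuotientGroup.mk'_surjective (pCore 2 G)
  rcases (hE.map _ hf).classify hna with ⟨⟨e⟩⟩ | ⟨K, _, _, hK, ⟨e⟩⟩ |
    ⟨K, _, _, hK, ⟨e⟩⟩ | ⟨K, _, _, hK⟩
  · rw [Nat.card_congr e.toEquiv, H32.card_A6] at h5'; omega
  · have hc := Nat.card_congr e.toEquiv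
    rcases H32.card_psl2_of_mem hK with h1 | h1 | h1 | h1
    · omega
    · obtain ⟨e'⟩ := H32.nonempty_psl_congr (ι := Fin 2) (h1.1.trans hF.symm)
      by_cases hO : pCore 2 G = ⊥
      · exact ⟨(H32.quotEquiv hO).trans (e.trans e')⟩
      rcases hE.gen2 hO hs with h2 | h2 | h2
      · omega
      · omega
      · exact absurd (H32.five_dvd_of_sz h2) h5'
    · exact absurd (H32.exists_order_lift _ hf (H32.exists_order_of_equiv e
        (H32.psl2_even_orders (n := 3) h1.1).2)) (key 9 (Or.inr rfl))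
    · exact absurd (H32.exists_order_lift _ hf (H32.exists_order_of_equiv e
        (H32.psl2_odd_orders (c := 8) h1.1).2)) (key 9 (Or.inr rfl))
  · rw [Nat.card_congr e.toEquiv, H32.card_psl3_four hK] at h5'; omega
  · refine absurd (H32.five_dvd_of_sz ?_) h5'
    rcases hK with ⟨hK, e⟩ | ⟨hK, e⟩
    exacts [⟨K, _, _, 1, le_rfl, hK, e⟩, ⟨K, _, _, 2, one_le_two, hK, e⟩]

end Cfsg.Agent.S3396
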