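import Cfsg.Statements.S3399
import Cfsg.Agent.Lib.Pnm.Main
-- import your own Cfsg.Agent.* helpers here

set_option autoImplicit false
open Cfsg

namespace Cfsg.Agent.S3399

/-- Let G be a transitive permutation group of finite degree n and K a nontrivial subgroup of G that is pronormal in G (K and gKg⁻¹ are conjugate inside ⟨K, gKg⁻¹⟩ for every g ∈ G). If K fixes exactly f points, then f ≤ (n − 1)/2, that is, 2f + 1 ≤ n. -/
theorem result (n : ℕ) (G : Subgroup (Equiv.Perm (Fin n)))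
    (htrans : ∀ a b : Fin n, ∃ g ∈ G, g a = b)
    (K : Subgroup (Equiv.Perm (Fin n))) (hKG : K ≤ G) (hK : K ≠ ⊥)
    (hpro : ∀ g ∈ G, ∃ w ∈ K ⊔ K.map (MulAut.conj g).toMonoidHom,
      K.map (MulAut.conj w).toMonoidHom = K.map (MulAut.conj g).toMonoidHom) :
    2 * Nat.card {a : Fin n // ∀ k ∈ K, k a = a} + 1 ≤ n := by
  have hP : H63.Pnm.Pr (K.subgroupOf G) := by
    intro g L h1 h2
    obtain ⟨w, hw, e⟩ := hpro g g.2
    have hle : K ⊔ K.map (MulAut.conj (g : Equiv.Perm (Fin n))).toMonoidHom ≤ L.map G.subtype :=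
      sup_le (fun k hk => ⟨⟨k, hKG hk⟩, h1 hk, rfl⟩)
        (by rintro _ ⟨k, hk, rfl⟩; exact ⟨_, h2 ⟨k, hKG hk⟩ hk, rfl⟩)
    obtain ⟨w', hw', rfl⟩ := hle hw
    refine ⟨w', hw', fun k => ?_⟩
    simp only [Subgroup.mem_subgroupOf, Subgroup.coe_mul, Subgroup.coe_inv]
    constructor
    · intro hk
      have : (g : Equiv.Perm (Fin n)) * k * (g : Equiv.Perm (Fin n))⁻¹ ∈
          K.map (MulAut.conj (G.subtype w')).toMonoidHom := by rw [e]; exact ⟨k, hk, rfl⟩
      obtain ⟨k', hk', e'⟩ := this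
      simp only [MulEquiv.coe_toMonoidHom, MulAut.conj_apply, Subgroup.coe_subtype] at e'
      rw [show (w' : Equiv.Perm (Fin n))⁻¹ * g * k * ((w' : Equiv.Perm (Fin n))⁻¹ * g)⁻¹ =
        (w' : Equiv.Perm (Fin n))⁻¹ * (g * k * (g : Equiv.Perm (Fin n))⁻¹) * w' by group, ← e']
      simpa [mul_assoc] using hk'
    · intro hk
      have : (g : Equiv.Perm (Fin n)) * k * (g : Equiv.Perm (Fin n))⁻¹ ∈
          K.map (MulAut.conj (g : Equiv.Perm (Fin n))).toMonoidHom := by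
        rw [← e]
        refine ⟨_, hk, ?_⟩
        simp only [MulEquiv.coe_toMonoidHom, MulAut.conj_apply, Subgroup.coe_subtype]
        group
      obtain ⟨k', hk', e'⟩ := this
      simp only [MulEquiv.coe_toMonoidHom, MulAut.conj_apply, mul_left_inj, mul_right_inj] at e'
      exact e' ▸ hk'
  have h := (H63.Pnm.sf n G (Fin n) (K.subgroupOf G) ⊤ Set.univ {a | ∀ k ∈ K, k a = a} hP
    (fun x => ⟨fun h k hk => h k hk, fun h k hk => h ⟨k, hKG hk⟩ hk⟩) le_top
    ⟨fun _ _ _ _ => trivial, fun a _ b _ => by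
      obtain ⟨g, hg, e⟩ := htrans a b
      exact ⟨⟨g, hg⟩, trivial, e⟩⟩ (Set.toFinite _) (by simp) (fun h => hK ?_)).1
  · rwa [Set.univ_inter, ← Nat.card_coe_set_eq] at h
  · rw [eq_bot_iff]
    intro k hk
    exact Subgroup.mem_bot.2 (Equiv.ext fun a => h (Set.mem_univ a) k hk)

end Cfsg.Agent.S3399
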