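import Cfsg.Statements.S3413
import Mathlib
import Cfsg.Agent.Base
import Cfsg.Agent.Lib.Ord.Gk
import Cfsg.Agent.Lib.Ord.M11
import Cfsg.Agent.Lib.M24Geom.ClsM11

set_option autoImplicit false
open Cfsg

namespace Cfsg.Agent.S3413

/-- Let H be a finite group whose commuting graph (vertices the non-identity elements, two joined when they commute) is isomorphic to that of the Mathieu group M_11: there is a bijection between the non-identity elements of H and of M_11 under which two elements commute exactly when their images do. Then H ≅ M_11. -/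
theorem result {H : Type*} [Group H] [Finite H]
    (f : {h : H // h ≠ 1} ≃ {g : ↥Cfsg.Spor.M11 // g ≠ 1})
    (hf : ∀ x y : {h : H // h ≠ 1}, (x : H) * y = y * x ↔ ((f x) : ↥Cfsg.Spor.M11) * (f y) = (f y) * (f x)) :
    Nonempty (H ≃* ↥Cfsg.Spor.M11) := by
  have d1 : ∀ e ∈ H96.Geo.M11.cls, 11 ∣ e.z → e.z = 11 ∨ e.o = 1 := by decide +kernel
  classical
  haveI : Fact (Nat.Prime 11) := ⟨by norm_num⟩
  let F : H ≃ ↥Cfsg.Spor.M11 :=
    (Equiv.optionSubtypeNe 1).symm.trans (f.optionCongr.trans (Equiv.optionSubtypeNe 1))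
  have F1 : F 1 = 1 := by simp [F]
  have F2 : ∀ x : {h : H // h ≠ 1}, F x = f x := fun x => by
    simp [F, Equiv.optionSubtypeNe_symm_of_ne x.2]
  have hF : ∀ x y : H, x * y = y * x ↔ F x * F y = F y * F x := fun x y => by
    by_cases hx : x = 1
    · simp [hx, F1]
    by_cases hy : y = 1
    · simp [hy, F1]
    exact (hf ⟨x, hx⟩ ⟨y, hy⟩).trans (by rw [← F2, ← F2])
  have hcard : Nat.card H = 7920 := (Nat.card_congr F).trans H15.card_M11
  obtain ⟨P⟩ : Nonempty (Sylow 11 H) := inferInstance
  have hP : Nat.card (P : Subgroup H) = 11 := by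
    rw [P.card_eq_multiplicity, hcard, show 7920 = 11 * 720 by norm_num,
      Nat.factorization_mul (by norm_num) (by norm_num)]
    simp [Nat.factorization_eq_zero_of_not_dvd, Nat.Prime.factorization_self (p := 11) (by norm_num)]
  obtain ⟨x, hx⟩ := exists_prime_orderOf_dvd_card' (G := (P : Subgroup H)) 11 hP.symm.dvd
  rw [← Subgroup.orderOf_coe] at hx
  have hx1 : (x : H) ≠ 1 := fun e => by simp [e] at hx
  have e1 : Nat.card (Subgroup.centralizer ({(x : H)} : Set H)) =
      Nat.card ↥(Cfsg.Spor.M11 ⊓ Subgroup.centralizer {(F x : Equiv.Perm GolayPt)}) := by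
    refine Nat.card_congr ⟨fun y => ⟨F y, (F y).2, Subgroup.mem_centralizer_singleton_iff.mpr
      (congrArg Subtype.val ((hF _ _).mp (Subgroup.mem_centralizer_singleton_iff.mp y.2)))⟩,
      fun z => ⟨F.symm ⟨z, z.2.1⟩, Subgroup.mem_centralizer_singleton_iff.mpr ((hF _ _).mpr ?_)⟩,
      fun y => by simp, fun z => by simp⟩
    rw [Equiv.apply_symm_apply]
    exact Subtype.ext (Subgroup.mem_centralizer_singleton_iff.mp z.2.2)
  obtain ⟨e, he, k, hk, h1⟩ := H96.Geo.M11.table.cover _ (F x).2
  rw [← h1, H96.Geo.card_cent_conj hk, H96.Geo.M11.table.cent e he] at e1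
  have e2 : 11 ∣ e.z := by
    rw [← e1]
    exact hx.symm.dvd.trans
      (Subgroup.orderOf_dvd_natCard _ (Subgroup.mem_centralizer_singleton_iff.mpr rfl))
  have e3 : e.z = 11 := (d1 e he e2).resolve_right fun h => hx1 (F.injective (by
    rw [F1]
    apply Subtype.ext
    rw [← h1, orderOf_eq_one_iff.mp ((H96.Geo.M11.table.ord e he).trans h)]; simp))
  rw [H4.centralizer_eq_of_card (by norm_num) hP x.2 hx1, e3] at e1
  haveI : IsCyclic (P : Subgroup H) := isCyclic_of_prime_card hP
  have e4 : Nat.card (Subgroup.normalizer ((P : Subgroup H) : Set H)) = 11 * 5 := by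
    have a1 : _ = (Subgroup.normalizer ((P : Subgroup H) : Set H)).index :=
      P.card_eq_index_normalizer
    have a2 := card_sylow_modEq_one 11 H
    have a3 := (Subgroup.normalizer ((P : Subgroup H) : Set H)).card_mul_index
    have a4 := Subgroup.card_subgroup_dvd_card (P : Subgroup H).normalizerMonoidHom.range
    rw [IsCyclic.card_mulAut, hP, ← Subgroup.index_ker, Subgroup.normalizerMonoidHom_ker] at a4
    have a5 := ((Subgroup.centralizer ((P : Subgroup H) : Set H)).subgroupOf
      (Subgroup.normalizer ((P : Subgroup H) : Set H))).card_mul_index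
    rw [Nat.card_congr (Subgroup.subgroupOfEquivOfLe
      (Subgroup.centralizer_le_normalizer _)).toEquiv, e1] at a5
    rw [← a1, ← a5, hcard] at a3
    rw [← a5]
    have a6 := Nat.le_of_dvd (by decide) a4
    rw [show Nat.totient 11 = 10 by decide] at a4 a6
    unfold Nat.ModEq at a2
    generalize ((Subgroup.centralizer ((P : Subgroup H) : Set H)).subgroupOf
      (Subgroup.normalizer ((P : Subgroup H) : Set H))).index = r at *
    interval_cases r <;> omega
  haveI := H17.Ord.simple_of_selfcent (m := 720) (by norm_num) hcard P hP e1 e4 (by norm_num)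
    (H17.Ord.not_dvd_pow_sub_one (by norm_num) (by decide +kernel))
  exact H17.Ord.M11.isoM11 hcard

end Cfsg.Agent.S3413
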