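import Cfsg.Statements.S4073
import Mathlib
import Cfsg.Agent.Lib.Odd9.SelfNorm
import Cfsg.Agent.Lib.Odd9.Syl17
import Cfsg.Agent.Lib.CIT.CN
import Cfsg.Agent.Lib.InvChar.BenderAb
import Cfsg.Agent.Lib.Inv73.D8
import Cfsg.Agent.Lib.GL.Basic
import Cfsg.Agent.S0799
import Cfsg.Agent.S0802
import Cfsg.Agent.S0804
import Cfsg.Agent.S0806
import Cfsg.Agent.S2475
import Cfsg.Agent.S0204

set_option autoImplicit false
open Cfsg

namespace Cfsg.Agent.S4073

set_option linter.style.haveILetI false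
set_option linter.unusedSectionVars false

open Subgroup

section Spec

variable {L : Type*} [Group L] [Finite L] {n : ℕ}

theorem odd_sub (hn : 1 ≤ n) : Odd (2 ^ n - 1) :=
  Nat.Even.sub_odd Nat.one_le_two_pow ((Nat.even_pow' (by omega)).mpr even_two) odd_one

theorem odd_add (hn : 1 ≤ n) : Odd (2 ^ n + 1) :=
  ((Nat.even_pow' (by omega)).mpr even_two).add_one

theorem spec_cases (hn : 1 ≤ n)
    (hs : ∀ g : L, orderOf g ∣ 2 ∨ orderOf g ∣ 2 ^ n - 1 ∨ orderOf g ∣ 2 ^ n + 1) (g : L) :
    g * g = 1 ∨ Odd (orderOf g) := by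
  rcases hs g with h | h | h
  · left; rw [← pow_two]; exact orderOf_dvd_iff_pow_eq_one.mp h
  · exact Or.inr ((odd_sub hn).of_dvd_nat h)
  · exact Or.inr ((odd_add hn).of_dvd_nat h)

theorem cit_of_spec (hs : ∀ g : L, g * g = 1 ∨ Odd (orderOf g)) : H32.CIT L := by
  refine H32.cit_of fun t x ht hx hc => ?_
  have hco : (orderOf t).Coprime (orderOf x) := by rw [ht]; exact (Nat.coprime_two_left).mpr hx
  have ho := (show Commute t x from hc).orderOf_mul_eq_mul_orderOf_of_coprime hco
  rw [ht] at ho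
  rcases hs (t * x) with h | h
  · have : orderOf (t * x) ∣ 2 := orderOf_dvd_of_pow_eq_one (by rw [pow_two, h])
    rw [ho] at this
    have h1 := Nat.le_of_dvd two_pos this
    have h2 := orderOf_pos x
    exact orderOf_eq_one_iff.mp (by omega)
  · rw [ho] at h
    exact absurd h (by simp)

theorem sq_of_two_group (hs : ∀ g : L, g * g = 1 ∨ Odd (orderOf g)) {P : Subgroup L}
    (hP : IsPGroup 2 P) {g : L} (hg : g ∈ P) : g * g = 1 := by
  rcases hs g with h | h
  · exact h
  · rw [H32.eq_one_of_odd_of_mem hP hg h, one_mul]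

theorem comm_of_two_group (hs : ∀ g : L, g * g = 1 ∨ Odd (orderOf g)) {P : Subgroup L}
    (hP : IsPGroup 2 P) {a b : L} (ha : a ∈ P) (hb : b ∈ P) : a * b = b * a := by
  have h1 := sq_of_two_group hs hP ha
  have h2 := sq_of_two_group hs hP hb
  have h3 := sq_of_two_group hs hP (mul_mem ha hb)
  calc a * b = (a * a) * (b * a) * (b * b) * ((a * b * (a * b))⁻¹ * (a * b * (a * b))) := by
        rw [h1, h2, inv_mul_cancel, one_mul, mul_one, mul_one]
        calc a * b = (a * a) * (a * b) * (b * b) := by rw [h1, h2, one_mul, mul_one]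
          _ = a * (a * a) * b * (b * b) := by group
          _ = _ := by
            rw [h1, h2, mul_one, mul_one]
            calc a * b = a * (a * b * (a * b)) * b * ((a * b * (a * b))⁻¹) := by rw [h3]; simp
              _ = a * (a * b * (a * b)) * b := by rw [h3]; simp
              _ = (a * a) * (b * a) * (b * b) := by group
              _ = b * a := by rw [h1, h2, one_mul, mul_one]
    _ = b * a := by rw [h1, h2, inv_mul_cancel, one_mul, mul_one, mul_one]

/-- dihedral subgroups of twice odd order are self-normalizing -/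
theorem dih_self (hs : ∀ g : L, g * g = 1 ∨ Odd (orderOf g)) {H : Subgroup L} {a b : L}
    (ha : a ∈ H) (hb : b ∈ H) (hao : Odd (orderOf a)) (ha1 : a ≠ 1) (hbo : orderOf b = 2)
    (hc : Nat.card H = 2 * orderOf a) : normalizer (H : Set L) = H := by
  have hcit := cit_of_spec hs
  have hle : zpowers a ≤ H := zpowers_le.mpr ha
  have hidx : ((zpowers a).subgroupOf H).index = 2 := by
    have h1 := ((zpowers a).subgroupOf H).card_mul_index
    rw [Nat.card_congr (subgroupOfEquivOfLe hle).toEquiv, Nat.card_zpowers, hc, mul_comm] at h1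
    exact Nat.eq_of_mul_eq_mul_right (orderOf_pos a) h1
  have hodd : ∀ x ∈ zpowers a, Odd (orderOf x) := fun x hx =>
    hao.of_dvd_nat (orderOf_dvd_of_mem_zpowers hx)
  have hbn : b ∉ zpowers a := fun h => by have := hodd b h; rw [hbo] at this; exact absurd this (by decide)
  have hcos : ∀ x ∈ H, x ∉ zpowers a → x * b ∈ zpowers a := fun x hx hxn =>
    (mul_mem_iff_of_index_two hidx (a := ⟨x, hx⟩) (b := ⟨b, hb⟩)).mpr (iff_of_false hxn hbn)
  have hbb : b * b = 1 := by rw [← pow_two, ← hbo, pow_orderOf_eq_one]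
  have hbN : b ∈ normalizer ((zpowers a : Subgroup L) : Set L) := by
    haveI := normal_of_index_eq_two hidx
    apply H72.mem_normalizer_of_conj_mem
    intro k hk
    exact this.conj_mem ⟨k, hle hk⟩ hk ⟨b, hb⟩
  have hinv : ∀ x ∈ zpowers a, b * x * b⁻¹ = x⁻¹ := fun x hx => hcit.inverts hodd hbo hbN hx
  have hbinv : b⁻¹ = b := inv_eq_of_mul_eq_one_right hbb
  have hoddH : ∀ x ∈ H, Odd (orderOf x) → x ∈ zpowers a := by
    intro x hx hxo
    by_contra hxn
    have h1 := hinv _ (hcos x hx hxn)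
    have h2 : x * x = 1 := by
      calc x * x = (x * b) * (b * (x * b) * b⁻¹) * (b * b⁻¹) := by
            rw [hbinv]
            calc x * x = x * (b * b) * x * (b * b) * (b * b) := by rw [hbb]; simp
              _ = _ := by group
        _ = 1 := by rw [h1]; simp
    have h3 : orderOf x ∣ 2 := orderOf_dvd_of_pow_eq_one (by rw [pow_two, h2])
    have : orderOf x = 1 := Nat.eq_one_of_dvd_coprimes ((Nat.coprime_two_right).mpr hxo) dvd_rfl h3
    exact hxn (by rw [orderOf_eq_one_iff.mp this]; exact one_mem _)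
  refine le_antisymm (fun g hg => ?_) le_normalizer
  have hgb : g * b * g⁻¹ ∈ H := (mem_normalizer_iff.mp hg b).mp hb
  have hgbo : orderOf (g * b * g⁻¹) = 2 := by rw [← hbo]; exact (MulAut.conj g).orderOf_eq b
  have hgbn : g * b * g⁻¹ ∉ zpowers a := fun h => by
    have := hodd _ h; rw [hgbo] at this; exact absurd this (by decide)
  have hx := hcos _ hgb hgbn
  set x := g * b * g⁻¹ * b with hxdef
  obtain ⟨j, hj⟩ := hodd x hx
  set c := x ^ (j + 1) with hcdef
  have hcz : c ∈ zpowers a := pow_mem hx _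
  have hcc : c * c = x := by
    rw [hcdef, ← pow_add, show j + 1 + (j + 1) = orderOf x + 1 by omega, pow_succ,
      pow_orderOf_eq_one, one_mul]
  set g' := c⁻¹ * g with hg'
  have hg'b : g' * b = b * g' := by
    have h1 : g * b * g⁻¹ = c * b * c⁻¹ := by
      have h2 := hinv c hcz
      calc g * b * g⁻¹ = x * b := by rw [hxdef, mul_assoc (g * b * g⁻¹), hbb, mul_one]
        _ = c * (b * b) * c * b := by rw [hbb, ← hcc, mul_one]
        _ = c * b * (b * c * b⁻¹) := by rw [hbinv]; group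
        _ = c * b * c⁻¹ := by rw [h2]
    calc g' * b = c⁻¹ * (g * b * g⁻¹) * g := by rw [hg']; group
      _ = b * g' := by rw [h1, hg']; group
  have hg'N : g' ∈ normalizer (H : Set L) := mul_mem (le_normalizer (inv_mem (hle hcz))) hg
  have hg'H : g' ∈ H := by
    by_contra hn
    have hg'1 : g' ≠ 1 := fun h => hn (h ▸ one_mem H)
    have hsq : g' * g' = 1 := by
      rcases hs g' with h | h
      · exact h
      · exact absurd (hcit.eq_one hbo h hg'b.symm) hg'1
    have hg'o : orderOf g' = 2 := orderOf_eq_prime (by rw [pow_two, hsq]) hg'1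
    have hg'b1 : g' * b ≠ 1 := fun h => hn (by
      rw [eq_inv_of_mul_eq_one_left h]; exact inv_mem hb)
    have hg'bo : orderOf (g' * b) = 2 := orderOf_eq_prime (by
      rw [(show Commute g' b from hg'b).mul_pow, pow_two, pow_two, hsq, hbb, one_mul]) hg'b1
    have hbot := H73.eq_bot_of_four_fpf (N := zpowers a) hsq hbb
      (fun k hk => hoddH _ ((mem_normalizer_iff.mp hg'N k).mp (hle hk)) (by
        rw [show orderOf (g' * k * g'⁻¹) = orderOf k from (MulAut.conj g').orderOf_eq k]
        exact hodd k hk))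
      (fun k hk => (mem_normalizer_iff.mp hbN k).mp hk)
      (fun k hk hc => hcit.eq_one hg'o (hodd k hk) hc.eq.symm)
      (fun k hk hc => hcit.eq_one hbo (hodd k hk) hc.eq.symm)
      (fun k hk hc => hcit.eq_one hg'bo (hodd k hk) hc.eq.symm)
    exact ha1 (by simpa using hbot)
  have : g = c * g' := by rw [hg']; group
  rw [this]
  exact mul_mem (hle hcz) hg'H

theorem dvd_card_sub_one (hcit : H32.CIT L) {V : Subgroup L} (hV : IsPGroup 2 V) {y : L} {s : ℕ}
    (hs : s.Prime) (hs2 : s ≠ 2) (hy : orderOf y = s) (hyV : y ∈ normalizer (V : Set L)) :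
    s ∣ Nat.card V - 1 := by
  haveI : Fact s.Prime := ⟨hs⟩
  have hyp : IsPGroup s (zpowers y) := IsPGroup.of_card (n := 1) (by rw [Nat.card_zpowers, hy, pow_one])
  let φ : zpowers y →* MulAut V :=
    (normalizerMonoidHom V).comp (inclusion (zpowers_le.mpr hyV))
  letI : MulAction (zpowers y) V := MulAction.compHom _ φ
  have hmod := hyp.card_modEq_card_fixedPoints V
  have hfix : Nat.card (MulAction.fixedPoints (zpowers y) V) = 1 := by
    rw [Nat.card_eq_one_iff_exists]
    refine ⟨⟨1, fun u => map_one (φ u)⟩, fun v => ?_⟩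
    have h1 : y * (v.1 : L) * y⁻¹ = v.1 := congrArg Subtype.val (v.2 ⟨y, mem_zpowers y⟩)
    have h2 : (v.1 : L) * y = y * v.1 := (mul_inv_eq_iff_eq_mul.mp h1).symm
    have h3 := hcit.fpf hV v.1.2 (x := y) (by rw [hy]; exact hs.odd_of_ne_two hs2)
      (by rintro rfl; rw [orderOf_one] at hy; exact hs.one_lt.ne hy) h2
    exact Subtype.ext (Subtype.ext h3)
  rw [hfix] at hmod
  exact (Nat.modEq_iff_dvd' Nat.card_pos).mp hmod.symm

theorem card_sylow_two (hn : 1 ≤ n) (hc : Nat.card L = 2 ^ n * (2 ^ n - 1) * (2 ^ n + 1))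
    (P : Sylow 2 L) : Nat.card (P : Subgroup L) = 2 ^ n := by
  rw [P.card_eq_multiplicity, H9.fact_eq_of_dvd Nat.prime_two Nat.card_pos.ne'
    (k := n) (by rw [hc, mul_assoc]; exact Dvd.intro _ rfl)]
  rw [hc, mul_assoc, pow_succ]
  intro h
  exact ((odd_sub hn).mul (odd_add hn)).not_two_dvd_nat
    (Nat.dvd_of_mul_dvd_mul_left (by positivity) h)

theorem borel_card (hn : 1 ≤ n) (hp : (2 ^ n - 1).Prime)
    (hc : Nat.card L = 2 ^ n * (2 ^ n - 1) * (2 ^ n + 1))
    (hs : ∀ g : L, g * g = 1 ∨ Odd (orderOf g)) (P : Sylow 2 L) {K : Subgroup L}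
    (hK : K ≤ normalizer ((P : Subgroup L) : Set L)) (hna : ¬ IsMulCommutative K) :
    2 ^ n * (2 ^ n - 1) ≤ Nat.card K := by
  have hcit := cit_of_spec hs
  have hP := card_sylow_two hn hc P
  have hprimes : ∀ s : ℕ, s.Prime → s ≠ 2 → s ∣ Nat.card K →
      s = 2 ^ n - 1 ∧ ∃ y ∈ K, orderOf y = s := by
    intro s hs' hs2 hsK
    haveI : Fact s.Prime := ⟨hs'⟩
    obtain ⟨y, hy⟩ := exists_prime_orderOf_dvd_card' (G := K) s hsK
    have hy' : orderOf (y : L) = s := by rw [orderOf_coe, hy]
    have := dvd_card_sub_one hcit P.isPGroup' hs' hs2 hy' (hK y.2)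
    rw [hP] at this
    exact ⟨(Nat.prime_dvd_prime_iff_eq hs' hp).mp this, y, y.2, hy'⟩
  obtain ⟨y, hyK, hy⟩ : ∃ y ∈ K, orderOf y = 2 ^ n - 1 := by
    by_contra hcon
    apply hna
    obtain ⟨k, hk⟩ : ∃ k, Nat.card K = 2 ^ k := ⟨_, Nat.eq_prime_pow_of_unique_prime_dvd
      Nat.card_pos.ne' fun {d} hd hdd => by
        by_contra hd2
        obtain ⟨h1, y, hy, hyo⟩ := hprimes d hd hd2 hdd
        exact hcon ⟨y, hy, h1 ▸ hyo⟩⟩
    exact H9.comm_of_forall fun a ha b hb => comm_of_two_group hs (IsPGroup.of_card hk) ha hb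
  have hl2 : 2 ^ n - 1 ≠ 2 := fun h => by have := odd_sub hn; rw [h] at this; exact absurd this (by decide)
  by_cases h2 : 2 ∣ Nat.card K
  · obtain ⟨t, ht⟩ := exists_prime_orderOf_dvd_card' (G := K) 2 h2
    have ht' : orderOf (t : L) = 2 := by rw [orderOf_coe, ht]
    have htP : (t : L) ∈ (P : Subgroup L) := H32.mem_sylow_of_smul (k := 1)
      (by rw [pow_one, ← ht', pow_orderOf_eq_one]) (Sylow.smul_eq_iff_mem_normalizer.mpr (hK t.2))
    set V : Subgroup L := K ⊓ P with hV
    have hVp : IsPGroup 2 V := P.isPGroup'.to_le inf_le_right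
    have hd := dvd_card_sub_one hcit hVp hp hl2 hy (by
      apply H72.mem_normalizer_of_conj_mem
      intro k hk
      exact ⟨K.mul_mem (K.mul_mem hyK hk.1) (K.inv_mem hyK), (mem_normalizer_iff.mp (hK hyK) k).mp hk.2⟩)
    have hV1 : 2 ≤ Nat.card V := ht' ▸ Nat.le_of_dvd Nat.card_pos
      (orderOf_dvd_natCard V (show (t : L) ∈ V from ⟨t.2, htP⟩))
    have hV2 : Nat.card V ≤ 2 ^ n := hP ▸ card_le_of_le inf_le_right
    have hV3 : Nat.card V = 2 ^ n := by
      have := Nat.le_of_dvd (by omega) hd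
      omega
    refine Nat.le_of_dvd Nat.card_pos (Nat.Coprime.mul_dvd_of_dvd_of_dvd ?_ ?_ ?_)
    · exact Nat.Coprime.pow_left n ((Nat.coprime_two_left).mpr (odd_sub hn))
    · exact hV3 ▸ card_dvd_of_le inf_le_left
    · exact hy ▸ orderOf_dvd_natCard K hyK
  · exfalso
    apply hna
    obtain ⟨k, hk⟩ : ∃ k, Nat.card K = (2 ^ n - 1) ^ k := ⟨_, Nat.eq_prime_pow_of_unique_prime_dvd
      Nat.card_pos.ne' fun {d} hd hdd => (hprimes d hd (fun h => h2 (h ▸ hdd)) hdd).1⟩
    have hk1 : k ≤ 1 := by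
      by_contra hk2
      have h1 : (2 ^ n - 1) * (2 ^ n - 1) ∣ (2 ^ n - 1) * (2 ^ n * (2 ^ n + 1)) := by
        rw [← pow_two, ← mul_assoc, mul_comm _ (2 ^ n), ← hc]
        exact (pow_dvd_pow _ (by omega)).trans (hk ▸ card_subgroup_dvd_card K)
      rcases (Nat.Prime.dvd_mul hp).mp (Nat.dvd_of_mul_dvd_mul_left hp.pos h1) with h | h
      · exact hl2 ((Nat.prime_dvd_prime_iff_eq hp Nat.prime_two).mp (hp.dvd_of_dvd_pow h))
      · have h3 : 2 ^ n + 1 = (2 ^ n - 1) + 2 := by have := @Nat.one_le_two_pow n; omega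
        rw [h3] at h
        exact hl2 ((Nat.prime_dvd_prime_iff_eq hp Nat.prime_two).mp
          ((Nat.dvd_add_right dvd_rfl).mp h))
    have hKy : K = zpowers y := (eq_of_le_of_card_ge (zpowers_le.mpr hyK) (by
      rw [Nat.card_zpowers, hy, hk]
      calc (2 ^ n - 1) ^ k ≤ (2 ^ n - 1) ^ 1 := Nat.pow_le_pow_right hp.pos hk1
        _ = _ := pow_one _)).symm
    rw [hKy]; infer_instance

end Spec

section PSL

variable {F : Type*} [Field F] [Fintype F] {n : ℕ}

theorem psl_card (hn : 1 ≤ n) (hF : Fintype.card F = 2 ^ n) :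
    Nat.card (Matrix.ProjectiveSpecialLinearGroup (Fin 2) F) = 2 ^ n * (2 ^ n - 1) * (2 ^ n + 1) := by
  have h := H10.card_PSL_two (F := F)
  rw [Nat.card_eq_fintype_card (α := F), hF, (Nat.coprime_two_left).mpr (odd_sub hn), one_mul] at h
  exact h

theorem psl_spec (hn : 2 ≤ n) (hF : Fintype.card F = 2 ^ n)
    (g : Matrix.ProjectiveSpecialLinearGroup (Fin 2) F) : g * g = 1 ∨ Odd (orderOf g) := by
  haveI := H72.charP_two_of_card_pow (by omega) hF
  have hs := Cfsg.Agent.S2475.result (F := F) 2 (by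
    rw [hF]; exact Nat.pow_le_pow_right two_pos hn)
  rw [hF, (Nat.coprime_two_left).mpr (odd_sub (by omega)), Nat.div_one, Nat.div_one] at hs
  refine spec_cases (n := n) (by omega) (fun g => ?_) g
  have : orderOf g ∈ Set.range (orderOf : Matrix.ProjectiveSpecialLinearGroup (Fin 2) F → ℕ) :=
    ⟨g, rfl⟩
  rw [hs] at this
  exact this

theorem psl_sn (hn : 2 ≤ n) (hF : Fintype.card F = 2 ^ n) (hp : (2 ^ n - 1).Prime)
    [IsSimpleGroup (Matrix.ProjectiveSpecialLinearGroup (Fin 2) F)] :
    H9.SN (Matrix.ProjectiveSpecialLinearGroup (Fin 2) F) := by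
  haveI := H72.charP_two_of_card_pow (by omega) hF
  intro H hH
  have hc := psl_card (by omega) hF
  have hs := psl_spec hn hF
  have hnp : n.Prime := (Nat.prime_of_pow_sub_one_prime (by omega) hp).2
  have h4 : 4 ≤ 2 ^ n := Nat.pow_le_pow_right two_pos hn
  have hbig : 2 ^ n * (2 ^ n - 1) ≤ Nat.card H → normalizer (H : Set _) = H := by
    intro hle
    by_cases hT : normalizer (H : Set (Matrix.ProjectiveSpecialLinearGroup (Fin 2) F)) = ⊤
    · rcases (normalizer_eq_top_iff.mp hT).eq_bot_or_eq_top with h | h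
      · exact absurd (h ▸ inferInstance) hH
      · rw [hT, h]
    · have hev : Even (2 ^ n) := (Nat.even_pow' (by omega)).mpr even_two
      have h1 := (Cfsg.Agent.S0806.result hF (by
        obtain ⟨j, hj⟩ := hev
        simp only [Finset.mem_insert, Finset.mem_singleton]; omega)).1 _ hT
      have h2 := (normalizer (H : Set (Matrix.ProjectiveSpecialLinearGroup (Fin 2) F))).card_mul_index
      refine (eq_of_le_of_card_ge le_normalizer (le_trans ?_ hle)).symm
      rw [hc] at h2
      refine Nat.le_of_mul_le_mul_right ?_ (show 0 < 2 ^ n + 1 by positivity)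
      rw [← h2]
      exact Nat.mul_le_mul_left _ h1
  have hsix : Nat.card H = 6 → normalizer (H : Set _) = H := by
    intro h6
    haveI : Fact (Nat.Prime 3) := ⟨Nat.prime_three⟩
    obtain ⟨a, ha⟩ := exists_prime_orderOf_dvd_card' (G := H) 3 (by rw [h6]; norm_num)
    obtain ⟨b, hb⟩ := exists_prime_orderOf_dvd_card' (G := H) 2 (by rw [h6]; norm_num)
    rw [← orderOf_coe] at ha hb
    exact dih_self hs a.2 b.2 (by rw [ha]; decide) (by rintro h; rw [h, orderOf_one] at ha; omega) hb
      (by rw [h6, ha])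
  have hn2 : Even n → n = 2 := fun h => (hnp.even_iff).mp h
  rcases Cfsg.Agent.S0799.result hF 2 H with ⟨k, hk, ⟨hcy, -⟩ | ⟨⟨e⟩⟩⟩ | ⟨P, K, hK, ⟨e⟩⟩ | ⟨⟨e⟩⟩ |
    ⟨⟨e⟩⟩ | ⟨⟨e⟩⟩ | ⟨K, _, _, m, hm, he⟩
  · exact absurd hcy.isMulCommutative hH
  · rw [(Nat.coprime_two_left).mpr (odd_sub (by omega)), Nat.div_one, Nat.div_one] at hk
    have hko : Odd k := by
      rcases hk with h | h
      · exact (odd_add (by omega)).of_dvd_nat h
      · exact (odd_sub (by omega)).of_dvd_nat h
    obtain ⟨a, b, h⟩ := H73.exists_dihData (by rintro rfl; exact absurd hko (by decide)) e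
    refine dih_self hs h.a_mem h.b_mem (h.ord ▸ hko) (fun h1 => hH ?_) h.orderOf_b
      (by rw [h.card, h.ord])
    have hk1 : k = 1 := by rw [← h.ord, h1, orderOf_one]
    haveI : IsCyclic H := isCyclic_of_prime_card (p := 2) (by rw [h.card, hk1])
    exact IsCyclic.isMulCommutative
  · apply hbig
    rw [Nat.card_congr e.toEquiv]
    refine borel_card (by omega) hp hc hs P hK fun hc' => hH ⟨⟨fun a b => e.injective ?_⟩⟩
    rw [map_mul, map_mul, hc'.is_comm.comm]
  · have h1 := (Cfsg.Agent.S0802.result 2 n hF).1 ⟨H, ⟨e⟩⟩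
    have h2 : n = 2 := hn2 (Nat.not_odd_iff_even.mp fun h => h1 ⟨rfl, h⟩)
    apply hbig
    rw [Nat.card_congr e.toEquiv, nat_card_alternatingGroup, h2]
    simp [Nat.factorial]
  · exfalso
    let σ : Equiv.Perm (Fin 4) := Equiv.swap 0 1 * Equiv.swap 1 2 * Equiv.swap 2 3
    have ho : orderOf σ = 4 := by
      rw [orderOf_eq_iff (by norm_num)]
      refine ⟨by decide, fun m hm hm0 => ?_⟩
      interval_cases m <;> decide
    have ho' : orderOf ((e.symm σ : H) : Matrix.ProjectiveSpecialLinearGroup (Fin 2) F) = 4 := by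
      rw [orderOf_coe, e.symm.orderOf_eq, ho]
    rcases hs (e.symm σ : H) with h | h
    · rw [← pow_two] at h
      have := orderOf_dvd_of_pow_eq_one h
      rw [ho'] at this
      omega
    · rw [ho'] at h; exact absurd h (by decide)
  · have h1 := (Cfsg.Agent.S0804.result hF).1 ⟨H, ⟨e⟩⟩
    have h2 : n = 2 := by
      apply hn2
      by_contra hodd
      obtain ⟨j, rfl⟩ := Nat.not_even_iff_odd.mp hodd
      rcases (Nat.Prime.dvd_mul Nat.prime_five).mp h1 with h | h
      · have := Nat.prime_five.dvd_of_dvd_pow h; omega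
      · have h3 : (2 ^ (2 * j + 1)) ^ 2 % 5 = 4 := by
          rw [← pow_mul, show (2 * j + 1) * 2 = 4 * j + 2 by ring, pow_add, pow_mul, Nat.mul_mod,
            Nat.pow_mod]
          norm_num
        omega
    apply hbig
    rw [Nat.card_congr e.toEquiv, nat_card_alternatingGroup, h2]
    simp [Nat.factorial]
  · obtain ⟨p, _, j, hpp, hj⟩ := FiniteField.card' K
    have hm0 : m ≠ 0 := by rintro rfl; simp at hm; omega
    rw [hj, ← pow_mul] at hm
    have hp2 : p = 2 := by
      have : p ∣ 2 ^ n := hm ▸ dvd_pow_self p (mul_ne_zero j.pos.ne' hm0)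
      exact (Nat.prime_dvd_prime_iff_eq hpp Nat.prime_two).mp (hpp.dvd_of_dvd_pow this)
    subst hp2
    have hjm : (j : ℕ) * m = n := Nat.pow_right_injective le_rfl hm
    have hH' : Nat.card H = 2 ^ (j : ℕ) * (2 ^ (j : ℕ) - 1) * (2 ^ (j : ℕ) + 1) := by
      rcases he with ⟨⟨e⟩⟩ | ⟨⟨e⟩⟩
      · rw [Nat.card_congr e.toEquiv, psl_card j.pos hj]
      · rw [Nat.card_congr e.toEquiv, H10.card_PGL_two, Nat.card_eq_fintype_card, hj]
    rcases (Nat.dvd_prime hnp).mp (Dvd.intro m hjm) with h | h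
    · exact hsix (by rw [hH', h]; rfl)
    · apply hbig
      rw [hH', h]
      exact Nat.le_mul_of_pos_right _ (by positivity)

end PSL

theorem sn_of_equiv {G L : Type*} [Group G] [Group L] (e : G ≃* L) (h : H9.SN L) : H9.SN G := by
  intro H hH
  have h1 := h (H.map e.toMonoidHom) fun hc => hH (H9.comm_of_forall fun a ha b hb => e.injective (by
    rw [map_mul, map_mul]
    exact congrArg Subtype.val (hc.is_comm.comm ⟨e a, a, ha, rfl⟩ ⟨e b, b, hb, rfl⟩)))
  rw [← map_equiv_normalizer_eq] at h1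
  exact map_injective e.injective h1

/-- Let G be a finite non-abelian simple group. Every non-abelian subgroup of G is self-normalizing if and only if G is isomorphic to PSL₂(2ⁿ) for some n ≥ 2 with 2ⁿ − 1 prime (this includes the alternating group of degree 5 as PSL₂(4)). -/
theorem result {G : Type*} [Group G] [Finite G] [IsSimpleGroup G]
    (hna : ¬ IsMulCommutative G) :
    (∀ H : Subgroup G, ¬ IsMulCommutative H → Subgroup.normalizer (H : Set G) = H) ↔
    ∃ n : ℕ, 2 ≤ n ∧ (2 ^ n - 1).Prime ∧ Nonempty (G ≃* Matrix.ProjectiveSpecialLinearGroup (Fin 2) (GaloisField 2 n)) := by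
  classical
  constructor
  · intro h
    have hCA := fun x (hx : x ≠ 1) => H9.SN.comm_centralizer hna h hx
    have hna' : ∃ a b : G, a * b ≠ b * a := by
      by_contra hc
      push Not at hc
      exact hna ⟨⟨hc⟩⟩
    obtain ⟨E, hE⟩ := Cfsg.Agent.S0204.result (G := G) (fun hc => hna hc.isMulCommutative)
    have hR : H13.Suz.Rank2 G := by
      have hc := hE.card_four
      haveI : Fintype E := Fintype.ofFinite E
      obtain ⟨x, hx⟩ := Fintype.exists_ne_of_one_lt_card
        (by rw [← Nat.card_eq_fintype_card, hc]; norm_num) (1 : E)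
      obtain ⟨y, hy1, hyx⟩ : ∃ y : E, y ≠ 1 ∧ y ≠ x := by
        by_contra hcon
        push Not at hcon
        have : (Finset.univ : Finset E) ⊆ {1, x} := fun y _ => by
          by_cases hy : y = 1
          · simp [hy]
          · simp [hcon y hy]
        have h1 := (Finset.card_le_card this).trans (Finset.card_le_two)
        rw [Finset.card_univ, ← Nat.card_eq_fintype_card, hc] at h1
        omega
      refine ⟨x, y, fun h => hx (Subtype.ext h), fun h => hy1 (Subtype.ext h),
        fun h => hyx (Subtype.ext h.symm), congrArg Subtype.val (IsKleinFour.mul_self x),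
        congrArg Subtype.val (IsKleinFour.mul_self y), ?_⟩
      exact congrArg Subtype.val ((IsKleinFour.isMulCommutative).is_comm.comm x y)
    have h2G : 2 ∣ Nat.card G := (show 2 ∣ 4 by norm_num).trans (hE.card_four ▸ card_subgroup_dvd_card E)
    have he : Even (Nat.card G) := even_iff_two_dvd.mpr h2G
    have hsyl := fun P : Sylow 2 G => H9.SN.sylow hna h h2G P
    have hkey : ∀ (P : Sylow 2 G) (x : G), x ∈ centralizer ((P : Subgroup G) : Set G) → x ≠ 1 →
        centralizer ({x} : Set G) ≤ H32.Hs P := fun P x hx hx1 g hg =>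
      mem_sup_right fun u hu => hCA x hx1 u (mem_centralizer_singleton_iff.mpr (hx u hu)) g hg
    have hT : H32.TIC G := H32.tic_of
      (fun P t ht hto => hkey P t (fun u hu => (hsyl P).1 u hu t ht)
        (by rintro rfl; simp at hto))
      (fun P x hx hx1 _ => hkey P x hx hx1)
    have hcit := hT.cit hR (H32.not_normal_sylow hna')
    have hti := hT.sylTI he
    obtain ⟨x, y, x1, y1, xy, xx, yy, c⟩ := id hR
    obtain ⟨S, hS⟩ := (H9.isPGroup_closure_pair_of_commute xx yy c).exists_le_sylow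
    rcases hti.classify hna' hcit hR with ⟨F, _, _, ⟨n, hn, hF⟩, ⟨e⟩⟩ | hsz
    swap
    · exact absurd (H9.comm_of_forall (hsyl S).1) (H72.not_comm_sylow_of_isoSuzuki hsz S)
    have hc : Nat.card G = 2 ^ n * (2 ^ n - 1) * (2 ^ n + 1) := by
      rw [Nat.card_congr e.toEquiv, psl_card (by omega) hF]
    have hSc := card_sylow_two (by omega) hc S
    refine ⟨n, hn, ?_, ?_⟩
    swap
    · haveI : Fintype (GaloisField 2 n) := Fintype.ofFinite _
      exact ⟨e.trans (H10.pslCongr (FiniteField.ringEquivOfCardEq (by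
        rw [hF, ← Nat.card_eq_fintype_card, GaloisField.card 2 n (by omega)])))⟩
    -- the number of Sylow 2-subgroups is at most `q + 1`
    have hxS : x ∈ (S : Subgroup G) := hS (subset_closure (by simp))
    have hyS : y ∈ (S : Subgroup G) := hS (subset_closure (by simp))
    have hxo : orderOf x = 2 := orderOf_eq_prime (by rw [pow_two, xx]) x1
    have hyo : orderOf y = 2 := orderOf_eq_prime (by rw [pow_two, yy]) y1
    obtain ⟨b, hb⟩ : ∃ b : Sylow 2 G, S ≠ b := by
      by_contra hcon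
      push Not at hcon
      haveI : Subsingleton (Sylow 2 G) := ⟨fun a b => (hcon a).symm.trans (hcon b)⟩
      exact H32.not_normal_sylow hna' S (Sylow.normal_of_subsingleton S)
    have hnum : Nat.card (Sylow 2 G) ≤ 2 ^ n + 1 := by
      rw [← hSc, ← Finite.card_option]
      refine Nat.card_le_card_of_surjective
        (fun o : Option (S : Subgroup G) => o.elim S fun u => (u : G) • b) fun c => ?_
      by_cases hc : S = c
      · exact ⟨none, hc⟩
      · obtain ⟨u, hu, huc⟩ := hti.exists_smul hcit hxo hyo hxS hyS xy hc hb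
        exact ⟨some ⟨u, hu⟩, huc⟩
    set N := normalizer ((S : Subgroup G) : Set G) with hN
    have hNi : Nat.card N * Nat.card (Sylow 2 G) = Nat.card G := by
      rw [S.card_eq_index_normalizer]; exact N.card_mul_index
    have hNge : 2 ^ n * (2 ^ n - 1) ≤ Nat.card N := by
      refine Nat.le_of_mul_le_mul_right ?_ (show 0 < 2 ^ n + 1 by positivity)
      rw [← hc, ← hNi]
      exact Nat.mul_le_mul_left _ hnum
    have h4 : 4 ≤ 2 ^ n := Nat.pow_le_pow_right two_pos hn
    have hCS : centralizer ((S : Subgroup G) : Set G) ≤ S := fun g hg =>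
      hti.mem_of_commute hcit hxS x1 (hg x hxS).symm
    obtain ⟨s, hs, hs2, hsN⟩ : ∃ s : ℕ, s.Prime ∧ s ≠ 2 ∧ s ∣ Nat.card N := by
      by_contra hcon
      push Not at hcon
      obtain ⟨k, hk⟩ : ∃ k, Nat.card N = 2 ^ k := ⟨_, Nat.eq_prime_pow_of_unique_prime_dvd
        Nat.card_pos.ne' fun {d} hd hdd => by
          by_contra hd2
          exact hcon d hd hd2 hdd⟩
      have h1 : N = S := S.is_maximal' (IsPGroup.of_card hk) le_normalizer
      rw [h1, hSc] at hNge
      have : 2 ^ n * 3 ≤ 2 ^ n * (2 ^ n - 1) := Nat.mul_le_mul_left _ (by omega)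
      omega
    haveI : Fact s.Prime := ⟨hs⟩
    obtain ⟨g, hg⟩ := exists_prime_orderOf_dvd_card' (G := N) s hsN
    have hg' : orderOf (g : G) = s := by rw [orderOf_coe, hg]
    have hd := dvd_card_sub_one hcit S.isPGroup' hs hs2 hg' g.2
    rw [hSc] at hd
    have hL : N ≤ (S : Subgroup G) ⊔ zpowers (g : G) := by
      rcases (hsyl S).2 ((S : Subgroup G) ⊔ zpowers (g : G)) (hCS.trans le_sup_left)
        (sup_le le_normalizer (zpowers_le.mpr g.2)) with h1 | h1
      · exfalso
        have h2 := H32.eq_one_of_odd_of_mem S.isPGroup' (hCS (h1 (mem_sup_right (mem_zpowers _))))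
          (by rw [hg']; exact hs.odd_of_ne_two hs2)
        rw [h2, orderOf_one] at hg'
        exact hs.one_lt.ne hg'
      · exact h1
    have hLc : Nat.card N ≤ 2 ^ n * s := by
      rw [← hSc, ← hg', ← Nat.card_zpowers, ← Nat.card_prod]
      refine Nat.card_le_card_of_surjective
        (fun o : ↥(S : Subgroup G) × ↥(zpowers (g : G)) => (⟨(o.1 : G) * o.2,
          mul_mem (le_normalizer o.1.2) ((zpowers_le.mpr g.2) o.2.2)⟩ : N)) fun k => ?_
      obtain ⟨u, hu, i, hi⟩ := H9.mem_sup_zpowers' g.2 (hL k.2)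
      exact ⟨(⟨u, hu⟩, ⟨_, zpow_mem (mem_zpowers _) i⟩), Subtype.ext hi.symm⟩
    have h5 : 2 ^ n - 1 ≤ s := Nat.le_of_mul_le_mul_left (hNge.trans hLc) (by positivity)
    rw [le_antisymm h5 (Nat.le_of_dvd (by omega) hd)]
    exact hs
  · rintro ⟨n, hn, hp, ⟨e⟩⟩
    haveI : Fintype (GaloisField 2 n) := Fintype.ofFinite _
    haveI := e.symm.isSimpleGroup
    exact sn_of_equiv e (psl_sn hn (by
      rw [← Nat.card_eq_fintype_card, GaloisField.card 2 n (by omega)]) hp)

end Cfsg.Agent.S4073
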