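import Cfsg.Statements.S3421
import Mathlib
import Cfsg.Agent.Lib.Odd9.CycTwo
import Cfsg.Agent.Lib.Core.Frobenius
import Cfsg.Agent.Lib.Core.MinNormal
import Cfsg.Agent.Lib.GL.Basic
import Cfsg.Agent.Lib.SL2Elt.Order
import Cfsg.Agent.S0205
import Cfsg.Agent.S1230
import Cfsg.Agent.S2475
import Cfsg.Agent.S4073

set_option autoImplicit false
open Cfsg

namespace Cfsg.Agent.S3421

set_option linter.style.haveILetI false
set_option linter.unusedSectionVars false

open Subgroup
open scoped MatrixGroups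

section General

variable {G : Type*} [Group G] [Finite G]

theorem odd_index_of_cyclic {t : G} (ht : orderOf t = 2)
    (hc : IsCyclic (centralizer ({t} : Set G))) : ¬ 2 ∣ (centralizer ({t} : Set G)).index := by
  haveI : Fact (Nat.Prime 2) := ⟨Nat.prime_two⟩
  have htt := H9.mul_self_of_orderOf_two ht
  have ht1 := H9.ne_one_of_orderOf_two ht
  let A : Subgroup G :=
    { carrier := {x | x ∈ centralizer ({t} : Set G) ∧ ∃ k, x ^ 2 ^ k = 1}
      one_mem' := ⟨one_mem _, 0, one_pow _⟩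
      mul_mem' := by
        rintro x y ⟨hx, i, hi⟩ ⟨hy, j, hj⟩
        refine ⟨mul_mem hx hy, i + j, ?_⟩
        have : Commute x y := congrArg Subtype.val
          (hc.commGroup.mul_comm (⟨x, hx⟩ : centralizer ({t} : Set G)) ⟨y, hy⟩)
        rw [this.mul_pow, pow_add, pow_mul, hi, one_pow, one_mul, mul_comm, pow_mul, hj, one_pow]
      inv_mem' := by
        rintro x ⟨hx, i, hi⟩
        exact ⟨inv_mem hx, i, by rw [inv_pow, hi, inv_one]⟩ }
  have htC : t ∈ centralizer ({t} : Set G) := mem_centralizer_singleton_iff.mpr rfl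
  have htA : t ∈ A := ⟨htC, 1, by rw [pow_one, pow_two, htt]⟩
  have hA : IsPGroup 2 A := fun x => by
    obtain ⟨k, hk⟩ := x.2.2
    exact ⟨k, Subtype.ext hk⟩
  obtain ⟨S, hS⟩ := H73.exists_sylow_eq_of_normalizer_le hA (fun x hx hx2 => by
    have h1 : x * t * x⁻¹ ∈ A := (mem_normalizer_iff.mp hx t).mp htA
    have h2 : x * t * x⁻¹ = t := by
      by_contra hne
      exact H5.not_isCyclic_of_two_invol htC h1.1 ht1 (by simpa using ht1) hne htt
        (by calc _ = x * (t * t) * x⁻¹ := by group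
              _ = 1 := by rw [htt]; group) hc
    obtain ⟨k, hk⟩ := hx2.2
    exact ⟨mem_centralizer_singleton_iff.mpr (mul_inv_eq_iff_eq_mul.mp h2), k + 1,
      by rw [pow_succ', pow_mul, hk]⟩)
  exact H80.not_dvd_index_of_sylow_le S (by rw [hS]; exact fun x hx => hx.1)

theorem mix {u v w : ℕ} (hs : ∀ g : G, orderOf g ∣ u ∨ orderOf g ∣ v ∨ orderOf g ∣ w) {x y : G}
    (hc : Commute x y) (hco : (orderOf x).Coprime (orderOf y)) :
    (orderOf x ∣ u ∧ orderOf y ∣ u) ∨ (orderOf x ∣ v ∧ orderOf y ∣ v) ∨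
      (orderOf x ∣ w ∧ orderOf y ∣ w) := by
  have h := hs (x * y)
  rw [hc.orderOf_mul_eq_mul_orderOf_of_coprime hco] at h
  rcases h with h | h | h
  · exact Or.inl ⟨(dvd_mul_right _ _).trans h, (dvd_mul_left _ _).trans h⟩
  · exact Or.inr (Or.inl ⟨(dvd_mul_right _ _).trans h, (dvd_mul_left _ _).trans h⟩)
  · exact Or.inr (Or.inr ⟨(dvd_mul_right _ _).trans h, (dvd_mul_left _ _).trans h⟩)

theorem fpf {u v w : ℕ} (hs : ∀ g : G, orderOf g ∣ u ∨ orderOf g ∣ v ∨ orderOf g ∣ w)
    (huv : u.Coprime v) (huw : u.Coprime w) {N A : Subgroup G} [N.Normal]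
    (hN : ∀ x ∈ N, orderOf x ∣ u) (hA : Nat.card A ∣ v) : Nat.card A ∣ Nat.card N - 1 := by
  refine H2.card_dvd_sub_one_of_semiregular (le_normalizer_of_normal) fun y hy hy1 => ?_
  rw [eq_bot_iff]
  rintro x ⟨hx, hxy⟩
  have hyv : orderOf y ∣ v := (orderOf_dvd_natCard A hy).trans hA
  rcases mix hs (x := x) (y := y) (mem_centralizer_singleton_iff.mp hxy)
    (Nat.Coprime.coprime_dvd_left (hN x hx) (Nat.Coprime.coprime_dvd_right hyv huv)) with h | h | h
  · exact absurd (orderOf_eq_one_iff.mp (Nat.eq_one_of_dvd_coprimes huv h.2 hyv)) hy1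
  · exact orderOf_eq_one_iff.mp (Nat.eq_one_of_dvd_coprimes huv (hN x hx) h.1)
  · exact orderOf_eq_one_iff.mp (Nat.eq_one_of_dvd_coprimes huw (hN x hx) h.1)

theorem not_solvable {p k q n m : ℕ} (hp : p.Prime) (hq : q = p ^ k) (h5 : 5 ≤ q)
    (hnm : (q = 2 * n + 1 ∧ m = n + 1) ∨ (q + 1 = 2 * n ∧ m + 1 = n))
    (c1 : q.Coprime (2 * n)) (c2 : q.Coprime m) (c3 : (2 * n).Coprime m)
    (hcard : Nat.card G = 2 * n * (q * m))
    (hs : ∀ g : G, orderOf g ∣ q ∨ orderOf g ∣ n ∨ orderOf g ∣ m)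
    {d c : G} (hd : orderOf d = n) (hc : orderOf c = m) {N : Subgroup G} (hN : H3.IsMinNormal N) :
    ¬ Group.IsSolvable N := by
  intro hsol
  haveI := hN.normal
  haveI := Fact.mk hp
  obtain ⟨-, r, hr, hrN, hpow, hrp⟩ := hN.elementary hsol
  haveI := Fact.mk hr
  obtain ⟨j, hj⟩ := hrp.exists_card_eq
  have hN1 : 1 < Nat.card N := one_lt_card_iff_ne_bot _ |>.mpr hN.ne_bot
  have hdv : r ^ j ∣ 2 * n * (q * m) := by rw [← hj, ← hcard]; exact card_subgroup_dvd_card N
  obtain ⟨P, hP⟩ := Sylow.exists_subgroup_card_pow_prime (G := G) p (n := k)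
    (by rw [hcard, ← hq]; exact Dvd.intro_left (2 * n * m) (by ring))
  rw [← hq] at hP
  obtain ⟨x, hx⟩ := exists_prime_orderOf_dvd_card' (G := G) r (hrN.trans (card_subgroup_dvd_card N))
  have c1' : q.Coprime n := c1.coprime_dvd_right (dvd_mul_left _ _)
  have c3' : n.Coprime m := c3.coprime_dvd_left (dvd_mul_left _ _)
  have hord : ∀ y ∈ N, orderOf y ∣ r := fun y hy => orderOf_dvd_of_pow_eq_one (hpow y hy)
  rcases hx ▸ hs x with h | h | h
  · have h1 := fpf hs c1' c2 (N := N) (A := zpowers d) (fun y hy => (hord y hy).trans h)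
      (by rw [Nat.card_zpowers, hd])
    have h2 := fpf (u := q) (v := m) (w := n) (fun g => by have := hs g; tauto) c2 c1' (N := N)
      (A := zpowers c) (fun y hy => (hord y hy).trans h) (by rw [Nat.card_zpowers, hc])
    rw [Nat.card_zpowers] at h1 h2
    rw [hd] at h1
    rw [hc] at h2
    have h3 := Nat.le_of_dvd (by omega) (c3'.mul_dvd_of_dvd_of_dvd h1 h2)
    have h4 : r ^ j ∣ q :=
      ((c2.coprime_dvd_left h).pow_left j).dvd_of_dvd_mul_right
        (((c1.coprime_dvd_left h).pow_left j).dvd_of_dvd_mul_left hdv)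
    have h6 := Nat.le_of_dvd (by omega) h4
    rw [← hj] at h6
    have h7 : n * m < q := by omega
    rcases hnm with ⟨e1, e2⟩ | ⟨e1, e2⟩
    · subst e2; nlinarith
    · subst e2; nlinarith
  · have h1 := fpf (u := n) (v := q) (w := m) (fun g => by have := hs g; tauto) c1'.symm c3'
      (N := N) (A := P) (fun y hy => (hord y hy).trans h) (by rw [hP])
    have h2 := fpf (u := n) (v := m) (w := q) (fun g => by have := hs g; tauto) c3' c1'.symm
      (N := N) (A := zpowers c) (fun y hy => (hord y hy).trans h) (by rw [Nat.card_zpowers, hc])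
    rw [Nat.card_zpowers, hc] at h2
    rw [hP] at h1
    have h3 := Nat.le_of_dvd (by omega) (c2.mul_dvd_of_dvd_of_dvd h1 h2)
    have h4 : r ^ j ∣ 2 * n :=
      (((Nat.Coprime.mul_right c1'.symm c3').coprime_dvd_left h).pow_left j).dvd_of_dvd_mul_right hdv
    have h6 := Nat.le_of_dvd (by omega) h4
    rw [← hj] at h6
    have h7 : q * m < 2 * n := by omega
    have h8 : q * 2 ≤ q * m := Nat.mul_le_mul_left _ (by omega)
    omega
  · have h1 := fpf (u := m) (v := q) (w := n) (fun g => by have := hs g; tauto) c2.symm c3'.symm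
      (N := N) (A := P) (fun y hy => (hord y hy).trans h) (by rw [hP])
    rw [hP] at h1
    have h3 := Nat.le_of_dvd (by omega) h1
    have h4 : r ^ j ∣ m :=
      ((c2.symm.coprime_dvd_left h).pow_left j).dvd_of_dvd_mul_left
        (((c3.symm.coprime_dvd_left h).pow_left j).dvd_of_dvd_mul_left hdv)
    have h6 := Nat.le_of_dvd (by omega) h4
    rw [← hj] at h6
    omega

set_option maxRecDepth 4000 in
theorem a7_six : ∃ x : alternatingGroup (Fin 7), orderOf x = 6 := by
  refine ⟨⟨Equiv.swap 0 1 * Equiv.swap 2 3 * Equiv.swap 4 5 * Equiv.swap 4 6,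
    Equiv.Perm.mem_alternatingGroup.mpr (by simp)⟩, ?_⟩
  rw [← orderOf_coe, orderOf_eq_iff (by norm_num)]
  refine ⟨by decide, fun m hm h0 => ?_⟩
  interval_cases m <;> decide

theorem card_a7 : Nat.card (alternatingGroup (Fin 7)) = 72 * 35 := by
  rw [nat_card_alternatingGroup, Nat.card_fin]
  rfl

theorem arith {q n m r c : ℕ} (hn : 2 ∣ n)
    (hnm : (q = 2 * n + 1 ∧ m = n + 1) ∨ (q + 1 = 2 * n ∧ m + 1 = n)) (h3 : 3 < r)
    (h1 : (r % 4 = 1 ∧ c + 1 = r) ∨ (r % 4 = 3 ∧ c = r + 1))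
    (h2 : 2 * (c * (q * m)) = r * (r - 1) * (r + 1)) : r = q ∧ c = 2 * n := by
  have h4 : q * (2 * m) = r * (r + 1) ∨ q * (2 * m) = r * (r - 1) := by
    rcases h1 with ⟨-, h1⟩ | ⟨-, h1⟩
    · left
      rw [show r - 1 = c by omega] at h2
      exact Nat.eq_of_mul_eq_mul_left (show 0 < c by omega) (by linarith)
    · right
      rw [← h1] at h2
      exact Nat.eq_of_mul_eq_mul_left (show 0 < c by omega) (by linarith)
  have h6 : r = q := by
    obtain ⟨i, hi⟩ : ∃ i, q = 2 * i + 1 := ⟨q / 2, by omega⟩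
    obtain ⟨j, hj⟩ : ∃ j, r = 2 * j + 1 := ⟨r / 2, by omega⟩
    have h7 : 2 * m = 2 * i + 2 ∨ 2 * m = 2 * i := by omega
    rw [hj, hi]
    rw [hj, hi, Nat.add_sub_cancel] at h4
    clear h1 h2 hnm hi hj
    rcases lt_trichotomy j i with h | h | h
    · exfalso
      rcases h7 with h7 | h7 <;> rw [h7] at h4 <;> rcases h4 with h4 | h4 <;> nlinarith
    · rw [h]
    · exfalso
      rcases h7 with h7 | h7 <;> rw [h7] at h4 <;> rcases h4 with h4 | h4 <;> nlinarith
  refine ⟨h6, ?_⟩
  omega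

theorem mem_of_normal {t : G} {D N : Subgroup G} [N.Normal] (h : H9.CycTwo t D)
    (hodd : ¬ 2 ∣ (centralizer ({t} : Set G)).index) (hO : oddCore N = ⊥)
    (hns : ¬ Group.IsSolvable N) : t ∈ N := by
  haveI : Fact (Nat.Prime 2) := ⟨Nat.prime_two⟩
  by_contra htN
  obtain ⟨T, hT⟩ := H80.exists_sylow_le_of_not_dvd_index (p := 2)
    (H := (centralizer ({t} : Set G)).subgroupOf N)
    (fun h1 => hodd (h1.trans (H80.relIndex_Cx_dvd_cs N t)))
  have h1 : ∀ x ∈ (T : Subgroup N), (x : G) ∈ D → x = 1 := by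
    intro x hx hD
    by_contra hx1
    obtain ⟨k, hk⟩ := H32.pow_of_mem_pgroup T.isPGroup' hx
    obtain ⟨j, hj⟩ := H32.exists_invol_pow hx1 hk
    rw [← orderOf_coe] at hj
    refine H5.not_isCyclic_of_two_invol h.mem (b := ((x ^ j : N) : G)) (pow_mem hD j)
      (H9.ne_one_of_orderOf_two h.ord) (H9.ne_one_of_orderOf_two hj)
      (fun e => htN (e ▸ (x ^ j).2)) (H9.mul_self_of_orderOf_two h.ord)
      (H9.mul_self_of_orderOf_two hj) h.cyc
  have h2 : IsCyclic (T : Subgroup N) := by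
    by_cases h3 : ∃ x ∈ (T : Subgroup N), x ≠ 1
    · obtain ⟨x, hx, hx1⟩ := h3
      have : (T : Subgroup N) ≤ zpowers x := fun y hy => by
        by_cases hy1 : y = 1
        · rw [hy1]; exact one_mem _
        · have h4 := h1 _ (mul_mem hy hx) (h.two _ _ (mem_centralizer_singleton_iff.mp (hT hy))
            (mem_centralizer_singleton_iff.mp (hT hx)) (fun e => hy1 (h1 y hy e))
            (fun e => hx1 (h1 x hx e)))
          rw [eq_inv_of_mul_eq_one_left h4]
          exact inv_mem (mem_zpowers x)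
      exact isCyclic_of_le this
    · push Not at h3
      have : (T : Subgroup N) ≤ zpowers 1 := fun y hy => by rw [h3 y hy]; exact one_mem _
      exact isCyclic_of_le this
  haveI := (H29.isPGroup_of_isCyclic_sylow hO T h2).isNilpotent
  exact hns inferInstance

theorem odd_case {p k q n m : ℕ} (hp : p.Prime) (hq : q = p ^ k) (h5 : 5 ≤ q) (hn : 2 ∣ n)
    (hnm : (q = 2 * n + 1 ∧ m = n + 1) ∨ (q + 1 = 2 * n ∧ m + 1 = n))
    (hcard : Nat.card G = 2 * n * (q * m))
    (hs : ∀ g : G, orderOf g ∣ q ∨ orderOf g ∣ n ∨ orderOf g ∣ m)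
    {d c : G} (hd : orderOf d = n) (hc : orderOf c = m) :
    ∃ (F : Type) (_ : Field F) (_ : Fintype F), Fintype.card F = q ∧ Nonempty (G ≃* PSL(2, F)) := by
  haveI : Fact (Nat.Prime 2) := ⟨Nat.prime_two⟩
  have c1 : q.Coprime (2 * n) := by
    rcases hnm with ⟨e, -⟩ | ⟨e, -⟩
    · rw [e]; simp
    · rw [← e]; simp
  have hmo : m.Coprime 2 := Nat.coprime_two_right.mpr (Nat.odd_iff.mpr (by omega))
  have c2 : q.Coprime m := by
    refine Nat.Coprime.coprime_dvd_right (dvd_mul_left m 2) ?_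
    rcases hnm with ⟨e, e'⟩ | ⟨e, e'⟩
    · rw [show 2 * m = q + 1 by omega]; simp
    · rw [show q = 2 * m + 1 by omega]; simp
  have c3 : (2 * n).Coprime m := by
    refine Nat.Coprime.mul_left hmo.symm ?_
    rcases hnm with ⟨-, e⟩ | ⟨-, e⟩
    · rw [e]; simp
    · rw [← e]; simp
  have hqo : q.Coprime 2 := c1.coprime_dvd_right (dvd_mul_right _ _)
  have hqodd : q % 2 = 1 := Nat.odd_iff.mp (Nat.coprime_two_right.mp hqo)
  have hn0 : 0 < n := by omega
  have hm0 : 0 < m := by omega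
  haveI : Nontrivial G := Finite.one_lt_card_iff_nontrivial.mp (by
    rw [hcard]; have : 0 < q * m := by positivity
    nlinarith)
  obtain ⟨N, hN⟩ := H3.exists_isMinNormal G
  haveI := hN.normal
  have hns := not_solvable hp hq h5 hnm c1 c2 c3 hcard hs hd hc hN
  have hcomm : commutator N = ⊤ := by
    refine (hN.eq_bot_or_top_of_characteristic _).resolve_left fun h => hns ?_
    have := (commutator_eq_bot_iff N).mp h
    exact Group.isSolvable_of_comm this.is_comm.comm
  have hev : ¬ Odd (Nat.card N) := fun h => hns (Cfsg.Agent.S0205.result h)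
  have hO : oddCore N = ⊥ := by
    refine (hN.eq_bot_or_top_of_characteristic _).resolve_right fun h => hev ?_
    have h1 := H1.coprime_card_pPrimeCore (p := 2) (G := N)
    rw [show pPrimeCore 2 N = ⊤ from h, card_top] at h1
    exact Nat.coprime_two_right.mp h1
  have hZ : center N = ⊥ := by
    refine (hN.eq_bot_or_top_of_characteristic _).resolve_right fun h => hns ?_
    exact Group.isSolvable_of_comm fun a b => (mem_center_iff.mp (h ▸ mem_top b) a)
  obtain ⟨n', rfl⟩ := hn
  set t := d ^ n' with htdef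
  have ht : orderOf t = 2 := by
    rw [htdef, orderOf_pow' _ (by omega), hd, Nat.gcd_mul_left_left]
    exact Nat.mul_div_cancel _ (by omega)
  set C := centralizer ({t} : Set G) with hCdef
  have hDC : zpowers d ≤ C := zpowers_le.mpr
    (mem_centralizer_singleton_iff.mpr ((Commute.refl d).pow_right _))
  have hCco : (Nat.card C).Coprime (q * m) := by
    apply Nat.coprime_of_dvd
    intro r hr h1 h2
    haveI := Fact.mk hr
    have hr2 : r ≠ 2 := by
      rintro rfl
      exact absurd (Nat.eq_one_of_dvd_coprimes (Nat.Coprime.mul_left hqo hmo) h2 dvd_rfl) (by norm_num)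
    obtain ⟨x, hx⟩ := exists_prime_orderOf_dvd_card' (G := C) r h1
    rw [← orderOf_coe] at hx
    have := mix hs (x := (x : G)) (y := t) (mem_centralizer_singleton_iff.mp x.2)
      (by rw [hx, ht]; exact (Nat.coprime_primes hr Nat.prime_two).mpr hr2)
    rw [hx, ht] at this
    rcases this with h | h | h
    · omega
    · exact hr.one_lt.ne' (Nat.eq_one_of_dvd_coprimes (Nat.Coprime.mul_right c1.symm c3)
        (h.1.mul_left 2) h2)
    · exact absurd (Nat.eq_one_of_dvd_coprimes hmo h.2 dvd_rfl) (by norm_num)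
  have hCd : Nat.card C ∣ 2 * (2 * n') :=
    hCco.dvd_of_dvd_mul_right (hcard ▸ card_subgroup_dvd_card C)
  have hrel := ((zpowers d).subgroupOf C).card_mul_index
  rw [Nat.card_congr (subgroupOfEquivOfLe hDC).toEquiv, Nat.card_zpowers, hd] at hrel
  have hidx : ((zpowers d).subgroupOf C).index = 2 := by
    have h1 : ((zpowers d).subgroupOf C).index ∣ 2 := by
      rw [← hrel, mul_comm 2 (2 * n')] at hCd
      exact Nat.dvd_of_mul_dvd_mul_left hn0 hCd
    refine ((Nat.dvd_prime Nat.prime_two).mp h1).resolve_left fun h2 => ?_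
    have h3 : C ≤ zpowers d := subgroupOf_eq_top.mp (index_eq_one.mp h2)
    apply odd_index_of_cyclic ht (isCyclic_of_le h3)
    have h4 := C.card_mul_index
    rw [← hrel, h2, hcard, mul_one, mul_comm 2 (2 * n'), mul_assoc (2 * n')] at h4
    rw [← hCdef, Nat.eq_of_mul_eq_mul_left hn0 h4]
    exact dvd_mul_right _ _
  have hCi : C.index = q * m := by
    have h4 := C.card_mul_index
    rw [← hrel, hidx, hcard, mul_comm 2 (2 * n')] at h4
    exact Nat.eq_of_mul_eq_mul_left (by omega) h4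
  have hCodd : ¬ 2 ∣ C.index := by
    rw [hCi]
    exact fun h => absurd (Nat.eq_one_of_dvd_coprimes (Nat.Coprime.mul_left hqo hmo) h dvd_rfl)
      (by norm_num)
  have hcyc : H9.CycTwo t (zpowers d) :=
    ⟨ht, pow_mem (mem_zpowers d) _, inferInstance, fun x y hx hy h1 h2 =>
      (mul_mem_iff_of_index_two hidx (a := ⟨x, mem_centralizer_singleton_iff.mpr hx⟩)
        (b := ⟨y, mem_centralizer_singleton_iff.mpr hy⟩)).mpr (iff_of_false h1 h2)⟩
  have htN : t ∈ N := mem_of_normal hcyc hCodd hO hns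
  have hgw := (hcyc.subgroupOf htN).gw (fun h => hCodd (h.trans (H80.cs_subtype_dvd N ⟨t, htN⟩)))
    hcomm hO hZ
  have hIN : (centralizer ({⟨t, htN⟩} : Set N)).index = q * m := by
    rw [← hCi, H80.cs_mk_subtype]
    refine H80.relIndex_eq_index_of_forall_mul fun g => ?_
    obtain ⟨x, hx⟩ := hgw.2 ⟨g * t * g⁻¹, hN.normal.conj_mem t htN g⟩ (by
      rw [← orderOf_coe, ← ht]; exact (MulAut.conj g).orderOf_eq t)
    have hx' : (x : G) * (g * t * g⁻¹) * (x : G)⁻¹ = t := congrArg Subtype.val hx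
    refine ⟨(x : G)⁻¹, inv_mem x.2, x * g, mem_centralizer_singleton_iff.mpr ?_, by group⟩
    calc (x : G) * g * t = (x * (g * t * g⁻¹) * (x : G)⁻¹) * (x * g) := by group
      _ = _ := by rw [hx']
  have hNc := (centralizer ({⟨t, htN⟩} : Set N)).card_mul_index
  rw [hIN] at hNc
  rcases hgw.1 with ⟨F, _, _, ho, h3, ⟨e⟩⟩ | ⟨⟨e⟩⟩
  · have h1 := H29.card_centralizer_psl (F := F) (by rwa [Nat.card_eq_fintype_card]) e
      (hcyc.subgroupOf htN).ord
    have h2 := H10.card_PSL_two (F := F)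
    rw [← Nat.card_congr e.toEquiv, ← hNc] at h2
    rw [Nat.card_eq_fintype_card (α := F)] at h1 h2
    obtain ⟨j, hj⟩ := ho
    rw [Nat.gcd_eq_left (show 2 ∣ Fintype.card F - 1 from ⟨j, by omega⟩)] at h2
    have hFq := arith (dvd_mul_right 2 n') hnm h3 h1 h2
    have hNtop : N = ⊤ := eq_top_of_card_eq N (by rw [← hNc, hFq.2, hcard])
    subst hNtop
    exact ⟨F, inferInstance, inferInstance, hFq.1, ⟨topEquiv.symm.trans e⟩⟩
  · exfalso
    obtain ⟨x, hx⟩ := a7_six
    have h1 := hs (e.symm x)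
    rw [orderOf_coe, e.symm.orderOf_eq, hx] at h1
    have h2 : 6 ∣ 2 * n' := by
      rcases h1 with h | h | h
      · omega
      · exact h
      · omega
    have h3 : q * m ∣ 72 * 35 := by
      have : Nat.card N = 72 * 35 := by rw [Nat.card_congr e.toEquiv, card_a7]
      rw [← this, ← hNc]; exact dvd_mul_left _ _
    have h4 : (q * m).Coprime 72 :=
      Nat.Coprime.coprime_dvd_right (show 72 ∣ 6 ^ 3 by norm_num) (Nat.Coprime.pow_right 3
        (Nat.Coprime.coprime_dvd_right (h2.mul_left 2) (Nat.Coprime.mul_left c1 c3.symm)))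
    have h6 := Nat.le_of_dvd (by norm_num) (h4.dvd_of_dvd_mul_left h3)
    clear hgw hCodd
    have h7 := Nat.le_of_dvd hn0 h2
    have : 11 * 5 ≤ q * m := Nat.mul_le_mul (by clear * - h7 hnm; omega) (by clear * - h7 hnm; omega)
    clear * - this h6
    omega

theorem even_case {k : ℕ} (hk : 2 ≤ k) (hcard : Nat.card G = 2 ^ k * (2 ^ k - 1) * (2 ^ k + 1))
    (hs : ∀ g : G, g * g = 1 ∨ Odd (orderOf g)) {c : G} (hc : orderOf c = 2 ^ k + 1) :
    ∃ (F : Type) (_ : Field F) (_ : Fintype F), Fintype.card F = 2 ^ k ∧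
      Nonempty (G ≃* PSL(2, F)) := by
  haveI : Fact (Nat.Prime 2) := ⟨Nat.prime_two⟩
  have hcit := Cfsg.Agent.S4073.cit_of_spec hs
  obtain ⟨T⟩ := (inferInstance : Nonempty (Sylow 2 G))
  have o1 := Cfsg.Agent.S4073.odd_sub (n := k) (by omega)
  have o2 := Cfsg.Agent.S4073.odd_add (n := k) (by omega)
  have h4 : 4 ≤ 2 ^ k := Nat.pow_le_pow_right two_pos hk
  have hT : Nat.card T = 2 ^ k := by
    rw [T.card_eq_multiplicity, hcard, mul_assoc, Nat.factorization_mul (by positivity)
      (by have := (o1.mul o2).pos; omega), Finsupp.add_apply, Nat.Prime.factorization_pow Nat.prime_two,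
      Nat.factorization_eq_zero_of_not_dvd (o1.mul o2).not_two_dvd_nat]
    simp
  have hsq : ∀ x ∈ (T : Subgroup G), x * x = 1 := fun x hx =>
    Cfsg.Agent.S4073.sq_of_two_group hs T.isPGroup' hx
  obtain ⟨F, _, _, hF, e⟩ := Cfsg.Agent.S1230.result T (fun h => by
      obtain ⟨x, hx⟩ := h.exists_ofOrder_eq_natCard
      have : orderOf x ∣ 2 := orderOf_dvd_of_pow_eq_one (Subtype.ext (by
        simpa [pow_two] using hsq x x.2))
      have := Nat.le_of_dvd two_pos this
      have hT' : Nat.card (T : Subgroup G) = 2 ^ k := hT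
      omega)
    (fun h => by
      have h1 := H2.card_dvd_sub_one_of_semiregular (K := (T : Subgroup G)) (R := zpowers c)
        le_normalizer_of_normal (fun y hy hy1 => by
          rw [eq_bot_iff]
          rintro x ⟨hx, hxy⟩
          exact hcit.fpf T.isPGroup' hx ((hc ▸ o2).of_dvd_nat (orderOf_dvd_of_mem_zpowers hy)) hy1
            (mem_centralizer_singleton_iff.mp hxy))
      have hT' : Nat.card (T : Subgroup G) = 2 ^ k := hT
      rw [Nat.card_zpowers, hc, hT'] at h1
      have := Nat.le_of_dvd (by omega) h1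
      omega)
    (fun t ht => ⟨⟨⟨fun a b => Subtype.ext
        (Cfsg.Agent.S4073.comm_of_two_group hs (hcit t ht) a.2 b.2)⟩⟩,
      fun x hx => by rw [pow_two]; exact Cfsg.Agent.S4073.sq_of_two_group hs (hcit t ht) hx⟩)
  exact ⟨F, inferInstance, inferInstance, hF.trans hT, e⟩

end General

/-- Let F be a finite field with more than 3 elements. A finite group G is isomorphic to PSL(2, F) if and only if G has the same set of element orders and the same order as PSL(2, F). -/
theorem result {G : Type*} [Group G] [Finite G] {F : Type*} [Field F] [Fintype F] (hF : 3 < Fintype.card F) :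
    Nonempty (G ≃* Matrix.ProjectiveSpecialLinearGroup (Fin 2) F) ↔
      (Set.range (orderOf : G → ℕ) = Set.range (orderOf : Matrix.ProjectiveSpecialLinearGroup (Fin 2) F → ℕ) ∧
        Nat.card G = Nat.card (Matrix.ProjectiveSpecialLinearGroup (Fin 2) F)) := by
  constructor
  · rintro ⟨e⟩
    refine ⟨?_, Nat.card_congr e.toEquiv⟩
    ext m
    constructor
    · rintro ⟨g, rfl⟩
      exact ⟨e g, e.orderOf_eq g⟩
    · rintro ⟨g, rfl⟩
      exact ⟨e.symm g, e.symm.orderOf_eq g⟩
  · rintro ⟨hs, hcard⟩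
    suffices h : ∃ (F' : Type) (_ : Field F') (_ : Fintype F'), Fintype.card F' = Fintype.card F ∧
        Nonempty (G ≃* PSL(2, F')) by
      obtain ⟨F', _, _, h1, ⟨e⟩⟩ := h
      exact ⟨e.trans (H10.pslCongr (FiniteField.ringEquivOfCardEq h1))⟩
    obtain ⟨p, hp⟩ := CharP.exists F
    obtain ⟨k, hpp, hk⟩ := FiniteField.card F p
    haveI : Fact p.Prime := ⟨hpp⟩
    have hsp := Cfsg.Agent.S2475.result (F := F) p hF
    rw [← hs] at hsp
    have h1 : ∀ g : G, orderOf g ∈ Set.range (orderOf : G → ℕ) := fun g => ⟨g, rfl⟩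
    have h2 : ∀ m, m ∣ (Fintype.card F - 1) / Nat.gcd 2 (Fintype.card F - 1) ∨
        m ∣ (Fintype.card F + 1) / Nat.gcd 2 (Fintype.card F - 1) → ∃ g : G, orderOf g = m := by
      intro m hm
      have : m ∈ Set.range (orderOf : G → ℕ) := by rw [hsp]; exact Or.inr hm
      exact this
    rw [hsp] at h1
    have hc := H10.card_PSL_two (F := F)
    rw [← hcard, Nat.card_eq_fintype_card (α := F)] at hc
    by_cases hp2 : p = 2
    · subst hp2
      have hk2 : 2 ≤ (k : ℕ) := by
        by_contra h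
        have : (k : ℕ) = 1 := by have := k.pos; omega
        rw [this] at hk
        omega
      have o1 := Cfsg.Agent.S4073.odd_sub (n := k) (by omega)
      rw [hk, (Nat.coprime_two_left).mpr o1] at h1 h2 hc
      rw [Nat.div_one, Nat.div_one] at h1 h2
      obtain ⟨c, hc'⟩ := h2 _ (Or.inr dvd_rfl)
      rw [hk]
      exact even_case hk2 (by rw [← hc, one_mul])
        (Cfsg.Agent.S4073.spec_cases (n := k) (by omega) h1) hc'
    · have ho : Odd (Fintype.card F) := hk ▸ (hpp.odd_of_ne_two hp2).pow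
      obtain ⟨j, hj⟩ := ho
      have hpq : p ∣ Fintype.card F := H64.SL2.char_dvd_card p
      rw [Nat.gcd_eq_left (show 2 ∣ Fintype.card F - 1 from ⟨j, by omega⟩)] at h1 h2 hc
      rw [show (Fintype.card F - 1) / 2 = j by omega,
        show (Fintype.card F + 1) / 2 = j + 1 by omega] at h1 h2
      obtain ⟨x, hx⟩ := h2 _ (Or.inl dvd_rfl)
      obtain ⟨y, hy⟩ := h2 _ (Or.inr dvd_rfl)
      rw [show Fintype.card F - 1 = 2 * j by omega,
        show Fintype.card F + 1 = 2 * (j + 1) by omega] at hc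
      rcases Nat.even_or_odd' j with ⟨i, hi | hi⟩
      · refine odd_case (n := j) (m := j + 1) hpp hk (by omega) ⟨i, hi⟩ (Or.inl ⟨hj, rfl⟩)
          (by linarith) (fun g => ?_) hx hy
        rcases h1 g with h | h | h
        · exact Or.inl (h.trans hpq)
        · exact Or.inr (Or.inl h)
        · exact Or.inr (Or.inr h)
      · refine odd_case (n := j + 1) (m := j) hpp hk (by omega) ⟨i + 1, by omega⟩
          (Or.inr ⟨by omega, rfl⟩) (by linarith) (fun g => ?_) hy hx
        rcases h1 g with h | h | h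
        · exact Or.inl (h.trans hpq)
        · exact Or.inr (Or.inr h)
        · exact Or.inr (Or.inl h)

end Cfsg.Agent.S3421
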