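import Cfsg.Statements.S3431
import Mathlib
import Cfsg.Agent.Lib.Small36.Nse
import Cfsg.Agent.S0228
import Cfsg.Agent.S0494
import Cfsg.Agent.S0497

set_option autoImplicit false
open Cfsg

namespace Cfsg.Agent.S3431

open H79 H36.Nse

variable {G : Type*} [Group G] [Finite G]

theorem frobL (n : ℕ) (l : List ℕ) (h1 : n.divisors = l.toFinset) (h2 : l.Nodup)
    (hn : n ∣ Nat.card G) : n ∣ (l.map (so G)).sum := by
  rw [← List.sum_toFinset _ h2, ← h1]; exact frob hn

theorem sumL (n : ℕ) (l : List ℕ) (h1 : n.divisors = l.toFinset) (h2 : l.Nodup) (h0 : n ≠ 0)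
    (hn : Nat.card G ∣ n) : (l.map (so G)).sum = Nat.card G := by
  rw [← List.sum_toFinset _ h2, ← h1]; exact sum_eq_of_dvd h0 hn

theorem leL (l : List ℕ) (h2 : (l.map (so G)).Nodup) : (l.map (so G)).sum ≤ Nat.card G := by
  rw [← List.sum_toFinset _ (h2.of_map _)]; exact sum_so_le _

theorem powL (p k m : ℕ) (l : List ℕ) (hp : p.Prime) (hm : m.Coprime p)
    (h : (List.range (k + 1)).map (fun i => m * p ^ i) = l) (hk : p ^ k ∣ Nat.card G) :
    p ^ k ∣ (l.map (so G)).sum := by
  have := pow_dvd_sum_so hp hk hm
  rwa [← h, List.map_map, ← List.sum_toFinset _ List.nodup_range, List.toFinset_range]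

theorem so_two {s : ℕ} (h : ∃ m, so G m = s) (h1 : s % 2 = 1) (h2 : s ≠ 1) : so G 2 = s := by
  obtain ⟨m, hm⟩ := h
  by_cases h3 : 3 ≤ m
  · have := two_dvd_so (G := G) h3; omega
  have h0 := totient_dvd_so (G := G) 0
  have := so_one (G := G)
  rw [Nat.totient_zero, zero_dvd_iff] at h0
  have : m < 3 := by omega
  interval_cases m <;> omega

theorem tot (m k : ℕ) (h : m.totient = k) : k ∣ so G m := h ▸ totient_dvd_so m

theorem four (a : IsNse G [1, 3, 8]) : Nonempty (G ≃* alternatingGroup (Fin 4)) := by
  have s2 : so G 2 = 3 := so_two (a.2 3 (by simp)) rfl (by norm_num)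
  have s1 := so_one (G := G)
  have hv : ∀ m, 3 ≤ m → so G m = 0 ∨ so G m = 8 := fun m hm => by
    have h1 := a.1 m
    have h2 := two_dvd_so (G := G) hm
    simp only [List.mem_cons, List.not_mem_nil, or_false] at h1
    omega
  have hp : ∀ p : ℕ, p.Prime → p ∣ Nat.card G → p = 2 ∨ p = 3 := fun p hp h => by
    by_cases h2 : p = 2
    · exact Or.inl h2
    have h3 := hv p (by have := hp.two_le; omega)
    have h4 := prime_dvd_one_add_so hp h
    rw [h3.resolve_left (so_prime_ne_zero hp h)] at h4
    exact Or.inr ((Nat.prime_dvd_prime_iff_eq hp Nat.prime_three).mp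
      (hp.dvd_of_dvd_pow (n := 2) h4))
  have v3 := hv 3 (by norm_num)
  have v4 := hv 4 (by norm_num)
  have v6 := hv 6 (by norm_num)
  have v8 := hv 8 (by norm_num)
  have v12 := hv 12 (by norm_num)
  have v9 : so G 9 = 0 := by
    have := hv 9 (by norm_num); have := tot (G := G) 9 6 (by decide); omega
  have v18 : so G 18 = 0 := so_zero_of_dvd v9 (by norm_num)
  have v27 : so G 27 = 0 := so_zero_of_dvd v9 (by norm_num)
  have v36 : so G 36 = 0 := so_zero_of_dvd v9 (by norm_num)
  have hd : Nat.card G ∣ 2 ^ 2 * 3 ^ 2 * 5 ^ 0 := by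
    refine card_dvd_of_bounds (fun p h1 h2 => by have := hp p h1 h2; omega) (fun h => ?_)
      (fun h => ?_) (fun h => by have := hp 5 (by norm_num) h; omega)
    · have := frobL 8 [1, 2, 4, 8] (by decide) (by decide) h
      simp only [List.map, List.sum_cons, List.sum_nil] at this; omega
    · have := frobL 27 [1, 3, 9, 27] (by decide) (by decide) h
      simp only [List.map, List.sum_cons, List.sum_nil] at this; omega
  have hs := sumL 36 [1, 2, 3, 4, 6, 9, 12, 18, 36] (by decide) (by decide) (by norm_num) hd
  simp only [List.map, List.sum_cons, List.sum_nil] at hs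
  obtain ⟨m, hm⟩ := a.2 8 (by simp)
  have hl := leL (G := G) [m] (by simp)
  simp only [List.map, List.sum_cons, List.sum_nil] at hl
  have h36 : Nat.card G ≠ 36 := fun e => by
    have := powL 3 2 4 [4, 12, 36] (by norm_num) (by norm_num) (by decide) (G := G) (by rw [e]; norm_num)
    simp only [List.map, List.sum_cons, List.sum_nil] at this; omega
  have h12 : Nat.card G = 12 := by
    have : Nat.card G = 12 ∨ Nat.card G = 20 ∨ Nat.card G = 28 := by omega
    rcases this with h | h | h
    · exact h
    all_goals rw [h] at hd; norm_num at hd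
  refine Cfsg.Agent.S0228.result h12 fun z hz hc => ?_
  obtain ⟨y, hy⟩ := so_ne_zero_iff.mp (so_prime_ne_zero (G := G) Nat.prime_three (by rw [h12]; norm_num))
  have hzy : Commute z y := (Subgroup.mem_center_iff.mp hc y).symm
  have := hzy.orderOf_mul_eq_mul_orderOf_of_coprime (by rw [hz, hy]; decide)
  rw [hz, hy] at this
  have h6 : so G 6 ≠ 0 := so_ne_zero_iff.mpr ⟨_, this⟩
  have h3 : so G 3 ≠ 0 := so_ne_zero_iff.mpr ⟨_, hy⟩
  omega

set_option maxHeartbeats 2000000 in
theorem five (a : IsNse G [1, 15, 20, 24]) : Nonempty (G ≃* alternatingGroup (Fin 5)) := by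
  have s2 : so G 2 = 15 := so_two (a.2 15 (by simp)) rfl (by norm_num)
  have s1 := so_one (G := G)
  have hv : ∀ m, 3 ≤ m → so G m = 0 ∨ so G m = 20 ∨ so G m = 24 := fun m hm => by
    have h1 := a.1 m
    have h2 := two_dvd_so (G := G) hm
    simp only [List.mem_cons, List.not_mem_nil, or_false] at h1
    omega
  have d2 : 2 ∣ Nat.card G := dvd_card_of_so_ne_zero (by omega)
  have hp : ∀ p : ℕ, p.Prime → p ∣ Nat.card G → p = 2 ∨ p = 3 ∨ p = 5 := fun p hp h => by
    by_cases h2 : p = 2
    · exact Or.inl h2
    have h3 := hv p (by have := hp.two_le; omega)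
    have h4 := prime_dvd_one_add_so hp h
    have h5 := tot (G := G) p _ (Nat.totient_prime hp)
    rcases h3.resolve_left (so_prime_ne_zero hp h) with e | e <;> rw [e] at h4 h5
    all_goals
      have := Nat.le_of_dvd (by norm_num) h4
      have := hp.two_le
      interval_cases p <;> first | omega | (exfalso; revert hp; norm_num)
  have s3 : 3 ∣ Nat.card G → so G 3 = 20 := fun h => by
    have := prime_dvd_one_add_so Nat.prime_three h; have := hv 3 (by norm_num); omega
  have s5 : 5 ∣ Nat.card G → so G 5 = 24 := fun h => by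
    have := prime_dvd_one_add_so (by norm_num) h; have := hv 5 (by norm_num); omega
  obtain ⟨m, hm⟩ := a.2 20 (by simp)
  obtain ⟨m', hm'⟩ := a.2 24 (by simp)
  have hl := leL (G := G) [1, 2, m, m'] (by simp [s1, s2, hm, hm'])
  simp only [List.map, List.sum_cons, List.sum_nil] at hl
  have v4 := hv 4 (by norm_num)
  have v6 := hv 6 (by norm_num)
  have v8 := hv 8 (by norm_num)
  have v10 := hv 10 (by norm_num)
  have v12 := hv 12 (by norm_num)
  have v16 := hv 16 (by norm_num)
  have v32 : so G 32 = 0 := by
    have := hv 32 (by norm_num); have := tot (G := G) 32 16 (by decide); omega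
  have v64 : so G 64 = 0 := so_zero_of_dvd v32 (by norm_num)
  have v25 : so G 25 = 0 ∨ so G 25 = 20 := by
    have := hv 25 (by norm_num); have := tot (G := G) 25 20 (by decide); omega
  have n128 : ¬ 2 ^ (6 + 1) ∣ Nat.card G := fun h => by
    have := frobL 128 [1, 2, 4, 8, 16, 32, 64, 128] (by decide +kernel) (by decide) h
    have : so G 128 = 0 := so_zero_of_dvd v32 (by norm_num)
    simp only [List.map, List.sum_cons, List.sum_nil] at *; omega
  have n9 : ¬ 3 ^ (1 + 1) ∣ Nat.card G := fun h => by
    have s3 := s3 (Dvd.dvd.trans (by norm_num) h)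
    have s9 : so G 9 = 24 := by
      have := frobL 9 [1, 3, 9] (by decide) (by decide) h
      have := hv 9 (by norm_num)
      simp only [List.map, List.sum_cons, List.sum_nil] at *; omega
    have n27 : ¬ 3 ^ (2 + 1) ∣ Nat.card G := fun h => by
      have := frobL 27 [1, 3, 9, 27] (by decide) (by decide) h
      have := hv 27 (by norm_num)
      have := tot (G := G) 27 18 (by decide)
      simp only [List.map, List.sum_cons, List.sum_nil] at *; omega
    have n5 : ¬ 5 ^ (0 + 1) ∣ Nat.card G := fun h => by
      have := powL 5 1 9 [9, 45] (by norm_num) (by norm_num) (by decide) h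
      have := hv 45 (by norm_num)
      have := tot (G := G) 45 24 (by decide +kernel)
      simp only [List.map, List.sum_cons, List.sum_nil] at *; omega
    have s6 : so G 6 = 24 ∧ so G 18 = 24 := by
      have := frobL 18 [1, 2, 3, 6, 9, 18] (by decide) (by decide) (G := G) (by omega)
      have := hv 18 (by norm_num)
      have := tot (G := G) 18 6 (by decide)
      simp only [List.map, List.sum_cons, List.sum_nil] at *; omega
    have hd := card_dvd_of_bounds hp n128 n27 n5
    have hl := sum_so_le (G := G) {1, 2, 3, 6, 9, 18}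
    simp only [Finset.mem_singleton, Finset.mem_insert, Finset.sum_insert, Finset.sum_singleton,
      Nat.reduceEqDiff, not_false_eq_true, or_self] at hl
    have d16 : 2 ^ 4 ∣ Nat.card G := by
      obtain ⟨k, hk⟩ := h
      rw [hk] at hd hl ⊢
      have h1 : k ∣ 2 ^ 6 := Nat.dvd_of_mul_dvd_mul_left (k := 9) (by norm_num) (by simpa using hd)
      obtain ⟨i, hi, rfl⟩ := (Nat.dvd_prime_pow Nat.prime_two).mp h1
      interval_cases i <;> omega
    have s12 : so G 12 = 20 := by
      have := powL 2 4 3 [3, 6, 12, 24, 48] (by norm_num) (by norm_num) (by decide) d16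
      have := hv 24 (by norm_num)
      have := tot (G := G) 24 8 (by decide)
      have := hv 48 (by norm_num)
      have := tot (G := G) 48 16 (by decide +kernel)
      simp only [List.map, List.sum_cons, List.sum_nil] at *; omega
    have := powL 3 2 4 [4, 12, 36] (by norm_num) (by norm_num) (by decide) h
    have := hv 36 (by norm_num)
    have := tot (G := G) 36 12 (by decide +kernel)
    have : so G 4 ≠ 0 := so_ne_zero_of_dvd (n := 12) (by omega) (by norm_num)
    simp only [List.map, List.sum_cons, List.sum_nil] at *; omega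
  have n25 : ¬ 5 ^ (1 + 1) ∣ Nat.card G := fun h => by
    have s5 := s5 (Dvd.dvd.trans (by norm_num) h)
    have s25 : so G 25 = 0 := by
      have := frobL 25 [1, 5, 25] (by decide) (by decide) h
      simp only [List.map, List.sum_cons, List.sum_nil] at *; omega
    have := powL 5 2 2 [2, 10, 50] (by norm_num) (by norm_num) (by decide) h
    have : so G 50 = 0 := so_zero_of_dvd s25 (by norm_num)
    simp only [List.map, List.sum_cons, List.sum_nil] at *; omega
  have d3 : 3 ∣ Nat.card G := by
    by_contra n3
    by_cases d5 : 5 ∣ Nat.card G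
    · have := (cyc' (a := 1) (k := 6) (by norm_num) d5 n25 (s5 d5) (by norm_num)).1
      omega
    have hd := card_dvd_of_bounds (b := 0) (c := 0) hp n128 n3 d5
    have hs := sumL 64 [1, 2, 4, 8, 16, 32, 64] (by decide +kernel) (by decide) (by norm_num) hd
    simp only [List.map, List.sum_cons, List.sum_nil] at hs
    have h1 : Nat.card G = 64 := by
      obtain ⟨i, hi, e⟩ := (Nat.dvd_prime_pow Nat.prime_two).mp (show Nat.card G ∣ 2 ^ 6 from hd)
      rw [e] at hl ⊢
      interval_cases i <;> omega
    have h2 : m ∣ 2 ^ 6 := by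
      have := dvd_card_of_so_ne_zero (G := G) (m := m) (by omega)
      rwa [h1] at this
    obtain ⟨i, hi, rfl⟩ := (Nat.dvd_prime_pow Nat.prime_two).mp h2
    interval_cases i <;> simp only [Nat.reducePow] at hm <;> omega
  have s3 := s3 d3
  have d10 := (cyc' (a := 1) (k := 10) (by norm_num) d3 n9 s3 (by norm_num)).1
  have d5 : 5 ∣ Nat.card G := by omega
  have s5 := s5 d5
  have s15 : so G 15 = 0 := by
    have := frobL 15 [1, 3, 5, 15] (by decide) (by decide) (G := G) (by omega)
    have := hv 15 (by norm_num)
    simp only [List.map, List.sum_cons, List.sum_nil] at *; omega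
  have s30 : so G 30 = 0 := so_zero_of_dvd s15 (by norm_num)
  have s6 : so G 6 = 0 := by
    have := powL 5 1 6 [6, 30] (by norm_num) (by norm_num) (by decide) d5
    have := frobL 6 [1, 2, 3, 6] (by decide) (by decide) (G := G) (by omega)
    simp only [List.map, List.sum_cons, List.sum_nil] at *; omega
  have s10 : so G 10 = 0 := by
    have := powL 3 1 10 [10, 30] (by norm_num) (by norm_num) (by decide) d3
    have := frobL 10 [1, 2, 5, 10] (by decide) (by decide) d10
    simp only [List.map, List.sum_cons, List.sum_nil] at *; omega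
  have n8 : ¬ 2 ^ (2 + 1) ∣ Nat.card G := fun h => by
    have := powL 2 3 3 [3, 6, 12, 24] (by norm_num) (by norm_num) (by decide) h
    have : so G 12 = 0 := so_zero_of_dvd s6 (by norm_num)
    have : so G 24 = 0 := so_zero_of_dvd s6 (by norm_num)
    simp only [List.map, List.sum_cons, List.sum_nil] at *; omega
  have hd := Nat.le_of_dvd (by norm_num) (card_dvd_of_bounds hp n8 n9 n25)
  have hG : Nat.card G = 60 := by omega
  haveI := simple_five (m := 12) hG (by norm_num) s5 s10 (by norm_num)
    (H17.Ord.not_dvd_pow_sub_one (by norm_num) (by decide +kernel))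
  exact Cfsg.Agent.S0494.result hG

set_option maxHeartbeats 2000000 in
theorem six (a : IsNse G [1, 45, 80, 90, 144]) : Nonempty (G ≃* alternatingGroup (Fin 6)) := by
  have s2 : so G 2 = 45 := so_two (a.2 45 (by simp)) rfl (by norm_num)
  have s1 := so_one (G := G)
  have hv : ∀ m, 3 ≤ m → so G m = 0 ∨ so G m = 80 ∨ so G m = 90 ∨ so G m = 144 := fun m hm => by
    have h1 := a.1 m
    have h2 := two_dvd_so (G := G) hm
    simp only [List.mem_cons, List.not_mem_nil, or_false] at h1
    omega
  have d2 : 2 ∣ Nat.card G := dvd_card_of_so_ne_zero (by omega)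
  have n7 : ¬ 7 ∣ Nat.card G := fun h => by
    have s7 : so G 7 = 90 := by
      have := prime_dvd_one_add_so (by norm_num) h; have := hv 7 (by norm_num); omega
    have n49 : ¬ 7 ^ (1 + 1) ∣ Nat.card G := fun h => by
      have := frobL 49 [1, 7, 49] (by decide +kernel) (by decide) h
      have := hv 49 (by norm_num)
      simp only [List.map, List.sum_cons, List.sum_nil] at *; omega
    have d15 := (cyc' (a := 1) (k := 15) (by norm_num) h n49 s7 (by norm_num)).1
    have := frobL 14 [1, 2, 7, 14] (by decide) (by decide) (G := G) (by omega)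
    have := hv 14 (by norm_num)
    have := powL 5 1 14 [14, 70] (by norm_num) (by norm_num) (by decide) (G := G) (by omega)
    have := hv 70 (by norm_num)
    have := tot (G := G) 70 24 (by decide +kernel)
    simp only [List.map, List.sum_cons, List.sum_nil] at *; omega
  have hp : ∀ p : ℕ, p.Prime → p ∣ Nat.card G → p = 2 ∨ p = 3 ∨ p = 5 := fun p hp h => by
    by_cases h2 : p = 2
    · exact Or.inl h2
    have h7 : p ≠ 7 := fun e => n7 (e ▸ h)
    have h3 := hv p (by have := hp.two_le; omega)
    have h4 := prime_dvd_one_add_so hp h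
    have h5 := tot (G := G) p _ (Nat.totient_prime hp)
    have h1 := hp.one_lt
    rcases h3.resolve_left (so_prime_ne_zero hp h) with e | e | e <;> rw [e] at h4 h5
    · exact Or.inr (Or.inl ((Nat.prime_dvd_prime_iff_eq hp Nat.prime_three).mp
        (hp.dvd_of_dvd_pow (n := 4) h4)))
    · rcases (Nat.Prime.dvd_mul hp (m := 7) (n := 13)).mp h4 with h | h <;>
        rw [Nat.prime_dvd_prime_iff_eq hp (by norm_num)] at h <;> subst h <;> omega
    · rcases (Nat.Prime.dvd_mul hp (m := 5) (n := 29)).mp h4 with h | h <;>
        rw [Nat.prime_dvd_prime_iff_eq hp (by norm_num)] at h <;> subst h <;> omega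
  have s3 : 3 ∣ Nat.card G → so G 3 = 80 := fun h => by
    have := prime_dvd_one_add_so Nat.prime_three h; have := hv 3 (by norm_num); omega
  have s5 : 5 ∣ Nat.card G → so G 5 = 144 := fun h => by
    have := prime_dvd_one_add_so (by norm_num) h; have := hv 5 (by norm_num); omega
  obtain ⟨m, hm⟩ := a.2 80 (by simp)
  obtain ⟨m', hm'⟩ := a.2 90 (by simp)
  obtain ⟨m'', hm''⟩ := a.2 144 (by simp)
  have hl := leL (G := G) [1, 2, m, m', m''] (by simp [s1, s2, hm, hm', hm''])
  simp only [List.map, List.sum_cons, List.sum_nil] at hl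
  have s4 : 4 ∣ Nat.card G → so G 4 = 90 := fun h => by
    have := four_dvd_so h; have := hv 4 (by norm_num); omega
  have v8 : so G 8 = 0 ∨ so G 8 = 80 ∨ so G 8 = 144 := by
    have := hv 8 (by norm_num); have := tot (G := G) 8 4 (by decide); omega
  have n16 : ¬ 2 ^ (3 + 1) ∣ Nat.card G := fun h => by
    have := frobL 16 [1, 2, 4, 8, 16] (by decide) (by decide) h
    have := s4 (by omega)
    have := hv 16 (by norm_num)
    have := tot (G := G) 16 8 (by decide)
    simp only [List.map, List.sum_cons, List.sum_nil] at *; omega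
  have n25 : ¬ 5 ^ (1 + 1) ∣ Nat.card G := fun h => by
    have s5 := s5 (by omega)
    have s25 : so G 25 = 80 := by
      have := frobL 25 [1, 5, 25] (by decide) (by decide) h
      have := hv 25 (by norm_num)
      simp only [List.map, List.sum_cons, List.sum_nil] at *; omega
    have n125 : ¬ 5 ^ (2 + 1) ∣ Nat.card G := fun h => by
      have := frobL 125 [1, 5, 25, 125] (by decide +kernel) (by decide) h
      have := hv 125 (by norm_num)
      simp only [List.map, List.sum_cons, List.sum_nil] at *; omega
    have := (cyc' (a := 2) (k := 4) (by norm_num) h n125 s25 (by norm_num)).2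
    omega
  have d5 : 5 ∣ Nat.card G := by
    by_contra n5
    have v9 : so G 9 = 0 ∨ so G 9 = 90 ∨ so G 9 = 144 := by
      have := hv 9 (by norm_num); have := tot (G := G) 9 6 (by decide); omega
    have v27 : so G 27 = 0 ∨ so G 27 = 90 ∨ so G 27 = 144 := by
      have := hv 27 (by norm_num); have := tot (G := G) 27 18 (by decide); omega
    have v81 : so G 81 = 0 := by
      have := hv 81 (by norm_num); have := tot (G := G) 81 54 (by decide +kernel); omega
    have n243 : ¬ 3 ^ (4 + 1) ∣ Nat.card G := fun h => by
      have := frobL 243 [1, 3, 9, 27, 81, 243] (by decide +kernel) (by decide) h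
      have := s3 (by omega)
      have : so G 243 = 0 := so_zero_of_dvd v81 (by norm_num)
      simp only [List.map, List.sum_cons, List.sum_nil] at *; omega
    have hd := card_dvd_of_bounds (c := 0) hp n16 n243 n5
    have hG : Nat.card G = 648 := by
      obtain ⟨k, hk⟩ := hd
      rcases k with _ | _ | k
      · omega
      · omega
      · nlinarith
    have s3 := s3 (by omega)
    have s4 := s4 (by omega)
    have s9 : so G 9 = 0 := by
      have := frobL 81 [1, 3, 9, 27, 81] (by decide +kernel) (by decide) (G := G) (by omega)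
      simp only [List.map, List.sum_cons, List.sum_nil] at *; omega
    have z : ∀ k, so G (9 * k) = 0 := fun k => so_zero_of_dvd s9 (dvd_mul_right _ _)
    have h1 := powL 3 4 8 [8, 24, 9 * 8, 9 * 24, 9 * 72] (by norm_num) (by norm_num) (by decide)
      (G := G) (by omega)
    have h2 := sumL 648 [1, 2, 3, 4, 6, 8, 12, 24, 9 * 1, 9 * 2, 9 * 3, 9 * 4, 9 * 6, 9 * 8, 9 * 9,
      9 * 12, 9 * 18, 9 * 24, 9 * 36, 9 * 72] (by decide +kernel) (by decide) (by norm_num) hG.dvd
    have := hv 6 (by norm_num)
    have := hv 12 (by norm_num)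
    have := hv 24 (by norm_num)
    have := tot (G := G) 24 8 (by decide)
    simp only [List.map, List.sum_cons, List.sum_nil, z] at h1 h2; omega
  have s5 := s5 d5
  have d36 := (cyc' (a := 1) (k := 36) (by norm_num) d5 n25 s5 (by norm_num)).1
  have s3 := s3 (by omega)
  have s15 : so G 15 = 0 := by
    have := frobL 15 [1, 3, 5, 15] (by decide) (by decide) (G := G) (by omega)
    have := hv 15 (by norm_num)
    have := tot (G := G) 15 8 (by decide)
    simp only [List.map, List.sum_cons, List.sum_nil] at *; omega
  have s10 : so G 10 = 0 := by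
    have := powL 3 1 10 [10, 30] (by norm_num) (by norm_num) (by decide) (G := G) (by omega)
    have := frobL 10 [1, 2, 5, 10] (by decide) (by decide) (G := G) (by omega)
    have : so G 30 = 0 := so_zero_of_dvd s15 (by norm_num)
    have := hv 10 (by norm_num)
    have := tot (G := G) 10 4 (by decide)
    simp only [List.map, List.sum_cons, List.sum_nil] at *; omega
  have n27 : ¬ 3 ^ (2 + 1) ∣ Nat.card G := fun h => by
    have := powL 3 3 5 [5, 15, 45, 135] (by norm_num) (by norm_num) (by decide) h
    have : so G 45 = 0 := so_zero_of_dvd s15 (by norm_num)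
    have : so G 135 = 0 := so_zero_of_dvd s15 (by norm_num)
    simp only [List.map, List.sum_cons, List.sum_nil] at *; omega
  have hd := Nat.le_of_dvd (by norm_num) (card_dvd_of_bounds hp n16 n27 n25)
  have hG : Nat.card G = 360 := by omega
  haveI := simple_five (m := 72) hG (by norm_num) s5 s10 (by norm_num)
    (H17.Ord.not_dvd_pow_sub_one (by norm_num) (by decide +kernel))
  exact Cfsg.Agent.S0497.result hG

/-- Let n be 4, 5 or 6 and let G be a finite group whose set of sizes of same-order classes (the set of numbers #{g : o(g) = m} over the element orders m of G) equals that of the alternating group of degree n. Then G is isomorphic to that alternating group. -/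
theorem result {G : Type*} [Group G] [Finite G] (n : ℕ) (hn : n = 4 ∨ n = 5 ∨ n = 6)
    (h : ((fun m : ℕ => Nat.card {g : G // orderOf g = m}) '' Set.range (orderOf : G → ℕ)) = ((fun m : ℕ => Nat.card {g : ↥(alternatingGroup (Fin n)) // orderOf g = m}) '' Set.range (orderOf : ↥(alternatingGroup (Fin n)) → ℕ))) :
    Nonempty (G ≃* ↥(alternatingGroup (Fin n))) := by
  rcases hn with rfl | rfl | rfl
  · exact four (nse4.transfer (by decide) h)
  · exact five (nse5.transfer (by decide) h)
  · exact six (nse6.transfer (by decide) h)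

end Cfsg.Agent.S3431
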