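import Mathlib
import Cfsg.Statements.S3433
import Cfsg.Agent.Base
import Cfsg.Agent.Lib.CIT.PG
import Cfsg.Agent.Lib.FGS.Spec5
-- import your own Cfsg.Agent.* helpers here

set_option autoImplicit false
open Cfsg

namespace Cfsg.Agent.S3433

open Subgroup

theorem a5_case {G : Type*} [Group G] [Finite G]
    (h : ∀ g : G, g ^ 4 = 1 ∨ g ^ 3 = 1 ∨ g ^ 5 = 1) (N : Subgroup G) [N.Normal]
    (hN : IsPGroup 2 N) (e : G ⧸ N ≃* alternatingGroup (Fin 5)) :
    Cfsg.IsElementaryAbelian 2 N := by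
  let f : G →* alternatingGroup (Fin 5) := e.toMonoidHom.comp (QuotientGroup.mk' N)
  have hf : Function.Surjective f := e.surjective.comp (QuotientGroup.mk'_surjective N)
  have hk : f.ker = N := by
    ext g
    simp [f]
  rw [← hk]
  refine H76.Spec5.elemAb hf (hk ▸ hN) fun g h1 h2 => ?_
  rcases h g with e | e | e
  · have := pow_gcd_eq_one.2 ⟨h1, show f g ^ 4 = 1 by rw [← map_pow, e, map_one]⟩
    exact absurd (by simpa using this) h2
  · exact e
  · have := pow_gcd_eq_one.2 ⟨h1, show f g ^ 5 = 1 by rw [← map_pow, e, map_one]⟩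
    exact absurd (by simpa using this) h2

/-- A finite group whose set of element orders is exactly {1, 2, 3, 4, 5} is isomorphic to the alternating group of degree 6, or has a normal elementary abelian 2-subgroup with quotient isomorphic to the alternating group of degree 5. -/
theorem result {G : Type*} [Group G] [Finite G] (h : Set.range (orderOf : G → ℕ) = {k : ℕ | 1 ≤ k ∧ k ≤ 5}) :
    Nonempty (G ≃* ↥(alternatingGroup (Fin 6))) ∨
      ∃ (N : Subgroup G) (_ : N.Normal), Cfsg.IsElementaryAbelian 2 N ∧ Nonempty (G ⧸ N ≃* ↥(alternatingGroup (Fin 5))) := by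
  have ho : ∀ g : G, 1 ≤ orderOf g ∧ orderOf g ≤ 5 := fun g =>
    (h ▸ Set.mem_range_self g : orderOf g ∈ {k : ℕ | 1 ≤ k ∧ k ≤ 5})
  have hex : ∀ k : ℕ, 1 ≤ k → k ≤ 5 → k ∣ Nat.card G := fun k h1 h2 => by
    obtain ⟨g, rfl⟩ : k ∈ Set.range (orderOf : G → ℕ) := h ▸ ⟨h1, h2⟩
    exact orderOf_dvd_natCard g
  have hp : ∀ g : G, g ^ 4 = 1 ∨ g ^ 3 = 1 ∨ g ^ 5 = 1 := fun g => by
    simp only [← orderOf_dvd_iff_pow_eq_one]
    obtain ⟨h1, h2⟩ := ho g
    interval_cases orderOf g <;> simp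
  have hE : H32.EPPO G := fun g hg => by
    obtain ⟨h1, h2⟩ := ho g
    have h3 : orderOf g ≠ 1 := fun e => hg (orderOf_eq_one_iff.1 e)
    interval_cases orderOf g
    · exact absurd rfl h3
    · exact Nat.prime_two.isPrimePow
    · exact Nat.prime_three.isPrimePow
    · exact (isPrimePow_nat_iff _).2 ⟨2, 2, Nat.prime_two, by norm_num, rfl⟩
    · exact Nat.prime_five.isPrimePow
  have hs : ¬ Group.IsSolvable G := hE.cit.not_solvable Nat.prime_three Nat.prime_five
    (by norm_num) (by norm_num) (by norm_num) (hex 2 (by norm_num) (by norm_num))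
    (hex 3 (by norm_num) (by norm_num)) (hex 5 (by norm_num) (by norm_num))
    (hE.not_order Nat.prime_three Nat.prime_five (by norm_num))
  have h7 : ¬ 7 ∣ Nat.card G := fun e => by
    haveI := Fact.mk (by norm_num : Nat.Prime 7)
    obtain ⟨g, hg⟩ := exists_prime_orderOf_dvd_card' 7 e
    have := (ho g).2
    omega
  rcases hE.cit.gen hs with ⟨_, hna⟩ | ⟨-, N, _, hN, F, _, _, hF, ⟨e⟩⟩
  swap
  · obtain ⟨e'⟩ := Cfsg.Agent.S0254.result hF
    exact (H76.Spec5.no_ext hN (e.trans e') hp).elim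
  have hO : IsPGroup 2 (pCore 2 G) := H1.isPGroup_pCore
  have h5 : 5 ∣ Nat.card (G ⧸ pCore 2 G) :=
    (H32.dvd_quot_iff hO hs Nat.prime_five).1 (hex 5 (by norm_num) (by norm_num))
  have h3 : 3 ∣ Nat.card (G ⧸ pCore 2 G) :=
    (H32.dvd_quot_iff hO hs Nat.prime_three).1 (hex 3 (by norm_num) (by norm_num))
  have h7' : ¬ 7 ∣ Nat.card (G ⧸ pCore 2 G) := fun e => h7 (e.trans (card_quotient_dvd_card _))
  have hf := QuotientGroup.mk'_surjective (pCore 2 G)
  rcases (hE.map _ hf).classify hna with ⟨⟨e⟩⟩ | ⟨K, _, _, hK, ⟨e⟩⟩ |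
    ⟨K, _, _, hK, ⟨e⟩⟩ | ⟨K, _, _, hK⟩
  · by_cases hb : pCore 2 G = ⊥
    · exact Or.inl ⟨(H32.quotEquiv hb).trans e⟩
    have hc := Nat.card_congr e.toEquiv
    rw [H32.card_A6] at hc
    rcases hE.gen2 hb hs with h2 | h2 | h2
    · omega
    · omega
    · exact absurd h3 (H32.not_three_dvd_of_sz h2)
  · have hc := Nat.card_congr e.toEquiv
    rcases H32.card_psl2_of_mem hK with h1 | h1 | h1 | h1
    · obtain ⟨e'⟩ := Cfsg.Agent.S0252.result h1.1
      exact Or.inr ⟨pCore 2 G, inferInstance, a5_case hp _ hO (e.trans e'), ⟨e.trans e'⟩⟩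
    all_goals omega
  · rw [Nat.card_congr e.toEquiv, H32.card_psl3_four hK] at h7'; omega
  · refine absurd h3 (H32.not_three_dvd_of_sz ?_)
    rcases hK with ⟨hK, e⟩ | ⟨hK, e⟩
    exacts [⟨K, _, _, 1, le_rfl, hK, e⟩, ⟨K, _, _, 2, one_le_two, hK, e⟩]

end Cfsg.Agent.S3433
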