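import Cfsg.Statements.S3493
import Mathlib
import Cfsg.Agent.Lib.ONS.Extreme
import Cfsg.Agent.S0205


set_option autoImplicit false
open Cfsg

namespace Cfsg.Agent.S3493

open H74.ONS Subgroup MulAction

variable {G Ω : Type*} [Group G] [MulAction G Ω]

theorem exists_real [Finite G] {N T : Subgroup G} (h : Fac N T) :
    ∃ x ∈ T, ∃ u ∈ T, u * x * u⁻¹ = x⁻¹ ∧ x⁻¹ ≠ x := by
  have he : 2 ∣ Nat.card T := by
    by_contra hc
    exact h.not_isSolvable (Cfsg.Agent.S0205.result (Nat.odd_iff.mpr (Nat.two_dvd_ne_zero.mp hc)))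
  obtain ⟨v, hv⟩ := exists_prime_orderOf_dvd_card' 2 he
  by_contra hcon
  push Not at hcon
  have key : ∀ a ∈ T, ∀ b ∈ T, a * a = 1 → b * b = 1 → (a * b) * (a * b) = 1 := by
    intro a ha b hb ea eb
    have ia : a⁻¹ = a := inv_eq_of_mul_eq_one_right ea
    have ib : b⁻¹ = b := inv_eq_of_mul_eq_one_right eb
    have := hcon (a * b) (T.mul_mem ha hb) a ha (by
      rw [mul_inv_rev, ia, ib, ← mul_assoc, ea, one_mul])
    rw [← mul_inv_cancel (a * b), this]
  let S : Subgroup G :=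
    { carrier := {a | a ∈ T ∧ a * a = 1}
      one_mem' := ⟨T.one_mem, one_mul 1⟩
      mul_mem' := fun {a b} ha hb => ⟨T.mul_mem ha.1 hb.1, key a ha.1 b hb.1 ha.2 hb.2⟩
      inv_mem' := fun {a} ha => ⟨T.inv_mem ha.1, by rw [← mul_inv_rev, ha.2, inv_one]⟩ }
  rcases h.eq_bot_or_eq (S := S) (fun a ha => ha.1) (fun t ht s hs => ⟨h.conj t (h.le ht) s hs.1, by
      calc t * s * t⁻¹ * (t * s * t⁻¹) = t * (s * s) * t⁻¹ := by group
        _ = 1 := by rw [hs.2]; simp⟩) with h1 | h1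
  · have : (v : G) ∈ S := ⟨v.2, by rw [← sq, ← coe_pow, ← hv, pow_orderOf_eq_one]; rfl⟩
    rw [h1, mem_bot] at this
    have h2 : v = 1 := Subtype.ext this
    rw [h2, orderOf_one] at hv
    exact absurd hv (by norm_num)
  · refine h.not_comm ⟨⟨fun a b => Subtype.ext ?_⟩⟩
    have ha : (a : G) ∈ S := h1.symm ▸ a.2
    have hb : (b : G) ∈ S := h1.symm ▸ b.2
    have hab := key _ a.2 _ b.2 ha.2 hb.2
    rw [coe_mul, coe_mul, ← inv_eq_of_mul_eq_one_right hab, mul_inv_rev,
      inv_eq_of_mul_eq_one_right ha.2, inv_eq_of_mul_eq_one_right hb.2]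

theorem unified [Finite G] [Finite Ω] [FaithfulSMul G Ω] (hp : IsPreprimitive G Ω)
    {a : Ω} (hep : ∀ b : Ω, IsPreprimitive (stabilizer G a) (orbit (stabilizer G a) b))
    {S : Subgroup G} (hC : IsPretransitive (centralizer (S : Set G)) Ω)
    (hZ : ∀ s ∈ S, s ∈ centralizer (S : Set G) → s = 1)
    (hH : ∀ h ∈ stabilizer G a, ∀ s ∈ S, h * s * h⁻¹ ∈ S ∨ h * s * h⁻¹ ∈ centralizer (S : Set G))
    {x u : G} (hx : x ∈ S) (hu : u ∈ S) (e : u * x * u⁻¹ = x⁻¹) (hne : x⁻¹ ≠ x) : False := by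
  have hreg : ∀ s ∈ S, ∀ t ∈ S, s • a = t • a → s = t := fun s hs t ht h =>
    (inv_mul_eq_one.mp (eq_one_of_centralizer_of_fix hC (a := a)
      (fun c hc => (hc _ (S.mul_mem (S.inv_mem ht) hs)).symm)
      (by rw [mul_smul, h, inv_smul_smul]))).symm
  have hx1 : x • a ≠ a := fun h => hne (by
    rw [hreg x hx 1 S.one_mem (by rw [h, one_smul]), inv_one])
  have hex : ∀ s : G, ∃ c ∈ centralizer (S : Set G), s * c ∈ stabilizer G a := fun s => by
    obtain ⟨c, hc⟩ := hC.exists_smul_eq a (s⁻¹ • a)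
    exact ⟨c, c.2, by rw [mem_stabilizer_iff, mul_smul, show (c : G) • a = s⁻¹ • a from hc,
      smul_inv_smul]⟩
  obtain ⟨c, hc, hk⟩ := hex u
  obtain ⟨d, hd, hl⟩ := hex x
  have hkb : (u * c) • x • a = x⁻¹ • a := by
    have h1 : (u * c)⁻¹ • a = a := inv_mem hk
    rw [← e]
    conv_lhs => rw [← h1, ← mul_smul, ← mul_smul, mul_assoc u c x, ← hc x hx]
    congr 1; group
  have hbot := inf_eq_bot_of_le hp hep hx1 hk
    (by rw [hkb]; exact fun h => hne (hreg _ (S.inv_mem hx) _ hx h)) (by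
      rintro h ⟨h1, h2⟩
      rw [hkb, mem_stabilizer_iff]
      have h3 : h⁻¹ • a = a := inv_mem (show h ∈ stabilizer G a from h1)
      have h4 : (h * x * h⁻¹) • a = x • a := by rw [mul_smul, mul_smul, h3]; exact h2
      have h5 : h • x⁻¹ • a = (h * x * h⁻¹)⁻¹ • a := by
        conv_lhs => rw [← h3, ← mul_smul, ← mul_smul]
        congr 1; group
      rw [h5]
      rcases hH h h1 x hx with h6 | h6
      · rw [hreg _ h6 _ hx h4]
      · rw [inv_smul_eq_iff, ← mul_smul, ← h6 _ (S.inv_mem hx), mul_smul, h4, inv_smul_smul])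
  have hcomm := congrArg Subtype.val
    ((comm_of_inf_eq_bot (hep _) hbot).is_comm.comm ⟨_, hk⟩ ⟨_, hl⟩)
  simp only [coe_mul] at hcomm
  have h7 : (x * u)⁻¹ * (u * x) = d * c * (c * d)⁻¹ := by
    have e1 : u * c * (x * d) = u * x * (c * d) := by
      rw [mul_assoc u c, ← mul_assoc c, ← hc x hx]; group
    have e2 : x * d * (u * c) = x * u * (d * c) := by
      rw [mul_assoc x d, ← mul_assoc d, ← hd u hu]; group
    rw [e1, e2] at hcomm
    calc (x * u)⁻¹ * (u * x) = (x * u)⁻¹ * (u * x * (c * d)) * (c * d)⁻¹ := by group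
      _ = _ := by rw [hcomm]; group
  have h8 := hZ _ (S.mul_mem (S.inv_mem (S.mul_mem hx hu)) (S.mul_mem hu hx))
    (h7 ▸ mul_mem (mul_mem hd hc) (inv_mem (mul_mem hc hd)))
  apply hne
  rw [← e, ← inv_mul_eq_one.mp h8]; group

theorem not_pType [Finite G] [FaithfulSMul G Ω] [Nontrivial Ω] (hp : IsPreprimitive G Ω)
    {a : Ω} (hep : ∀ b : Ω, IsPreprimitive (stabilizer G a) (orbit (stabilizer G a) b))
    {N T : Subgroup G} (h : Fac N T) (hTN : T ≠ N) : ¬ PType N T (stabilizer G a) := by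
  intro hP
  have hs := sup_stabilizer_eq_top hp h.normal h.N_ne_bot a
  have hle := not_le_stabilizer hp.toIsPretransitive h.normal h.N_ne_bot a
  have hH1 : ∀ t ∈ T, stabilizer G a ⊓ normalizer (T : Set G) ≤ stabilizer G (t • a) := by
    intro t ht
    by_cases hta : t ∈ stabilizer G a
    · rw [show t • a = a from hta]; exact inf_le_left
    refine (le_of_extreme (hep (t • a)) (le_inf inf_le_left ?_) inf_le_left).resolve_right fun e => ?_
    · rintro k ⟨hk1, hk2⟩
      rw [← cj_eq_iff_mem_normalizer]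
      by_contra hne
      have h1 : t⁻¹ * (k * t * k⁻¹) ∈ stabilizer G a := by
        have := H75.stabilizer_smul_mem.mp hk2
        have h2 := mul_mem this (inv_mem (show k ∈ stabilizer G a from hk1))
        simpa [mul_assoc] using h2
      have h2 := conj_mem_cj k ht
      exact hta (inv_mem_iff.mp (hP _ (T.inv_mem ht) _ ((h.cj k).le h2)
        (h.le_centralizer (h.cj k) (Ne.symm hne) h2) h1))
    · obtain ⟨g, hg⟩ := h.exists_ne hTN
      obtain ⟨k, hk, e'⟩ := h.exists_cj_eq_of_sup (h.cj g) hs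
      exact hg (e'.symm.trans (cj_eq_iff_mem_normalizer.mpr (e.ge hk).2))
  have hNn : N ≤ normalizer (T : Set G) := fun n hn => cj_eq_iff_mem_normalizer.mp (h.cj_eq hn)
  have hbot : T ⊓ stabilizer G a = ⊥ := by
    refine (h.eq_bot_or_eq inf_le_left fun t ht s hs => ⟨h.conj t (h.le ht) s hs.1, ?_⟩).resolve_right
      fun e => h.not_le hs hle (e ▸ inf_le_right)
    have := H75.stabilizer_smul_mem.mp (hH1 t⁻¹ (T.inv_mem ht) ⟨hs.2, hNn (h.le hs.1)⟩)
    simpa using this
  have hcent : ∀ k ∈ stabilizer G a, k ∈ normalizer (T : Set G) → ∀ t ∈ T, k * t * k⁻¹ = t := by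
    intro k hk hk' t ht
    have h1 := H75.stabilizer_smul_mem.mp (hH1 t ht ⟨hk, hk'⟩)
    have h2 : t⁻¹ * (k * t * k⁻¹) ∈ T ⊓ stabilizer G a :=
      ⟨T.mul_mem (T.inv_mem ht) ((mem_normalizer_iff.mp hk' t).mp ht), by
        simpa [mul_assoc] using mul_mem h1 (inv_mem hk)⟩
    rw [hbot, mem_bot] at h2
    exact (inv_mul_eq_one.mp h2).symm
  obtain ⟨⟨t, ht⟩, ht1⟩ := ne_bot_iff_exists_ne_one.mp h.ne_bot
  let X : Subgroup G := closure {x | ∃ k ∈ stabilizer G a, x = k * t * k⁻¹}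
  have hXt : X ≤ centralizer {t} := by
    rw [closure_le]
    rintro _ ⟨k, hk, rfl⟩
    rw [SetLike.mem_coe, mem_centralizer_singleton_iff]
    by_cases e : cj k T = T
    · rw [hcent k hk (cj_eq_iff_mem_normalizer.mp e) t ht]
    · exact (h.cj k).commute h e (conj_mem_cj k ht) ht
  rcases invariant_dichotomy (N := N) (X := X) (H75.isCoatom_stabilizer hp a)
    ((closure_le _).mpr (by rintro _ ⟨k, -, rfl⟩; exact h.normal.conj_mem t (h.le ht) k))
    (fun k hk x hx => by
      induction hx using closure_induction with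
      | mem x hx =>
        obtain ⟨l, hl, rfl⟩ := hx
        exact subset_closure ⟨k * l, mul_mem hk hl, by group⟩
      | one => simp
      | mul x y _ _ hx hy => simpa [mul_assoc] using X.mul_mem hx hy
      | inv x _ hx => simpa [mul_assoc] using X.inv_mem hx) with h1 | h1
  · have : t ∈ T ⊓ stabilizer G a := ⟨ht, h1 (subset_closure ⟨1, one_mem _, by simp⟩)⟩
    rw [hbot, mem_bot] at this
    exact ht1 (Subtype.ext this)
  · refine ht1 (Subtype.ext (h.eq_one_of_centralizer_N (h.le ht) fun n hn => ?_))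
    obtain ⟨x, hx, d, hd, hdN, rfl⟩ := h1 n hn
    have e1 := mem_centralizer_singleton_iff.mp (hXt hx)
    have e2 := hcent d hd (hNn hdN) t ht
    calc x * d * t = x * (d * t * d⁻¹) * d := by group
      _ = _ := by rw [e2, e1]; group

theorem diag [Finite G] [Finite Ω] [FaithfulSMul G Ω] [Nontrivial Ω] (hp : IsPreprimitive G Ω)
    {a : Ω} (hep : ∀ b : Ω, IsPreprimitive (stabilizer G a) (orbit (stabilizer G a) b))
    {N T T' : Subgroup G} (h : Fac N T) (h' : Fac N T') (hne : T ≠ T')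
    (hS : SType N T (stabilizer G a)) : ∀ s ∈ T, ∃ s' ∈ T', s * s' ∈ stabilizer G a := by
  have hs := sup_stabilizer_eq_top hp h.normal h.N_ne_bot a
  have hle := not_le_stabilizer hp.toIsPretransitive h.normal h.N_ne_bot a
  let S : Subgroup G :=
    { carrier := {s | s ∈ T ∧ ∃ s' ∈ T', s * s' ∈ stabilizer G a}
      one_mem' := ⟨T.one_mem, 1, T'.one_mem, by simp⟩
      mul_mem' := by
        rintro s r ⟨h1, s', h2, h3⟩ ⟨h4, r', h5, h6⟩
        refine ⟨T.mul_mem h1 h4, s' * r', T'.mul_mem h2 h5, ?_⟩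
        have : s * r * (s' * r') = s * s' * (r * r') := by
          rw [mul_assoc s s', ← mul_assoc s', ← h.commute h' hne h4 h2]; group
        rw [this]; exact mul_mem h3 h6
      inv_mem' := by
        rintro s ⟨h1, s', h2, h3⟩
        refine ⟨T.inv_mem h1, s'⁻¹, T'.inv_mem h2, ?_⟩
        rw [← mul_inv_rev, ← h.commute h' hne h1 h2]; exact inv_mem h3 }
  obtain ⟨⟨t, ht⟩, ht1⟩ := ne_bot_iff_exists_ne_one.mp h.ne_bot
  have ht1' : t ≠ 1 := fun e => ht1 (Subtype.ext e)
  obtain ⟨k, hk, rfl⟩ := h.exists_cj_eq_of_sup h' hs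
  have hD : stabilizer G a ⊓ N ≠ ⊥ := by
    intro e
    obtain ⟨c, hc, hc', h1⟩ := hS t ht
    have : t * c ∈ stabilizer G a ⊓ N := ⟨h1, N.mul_mem (h.le ht) hc⟩
    rw [e, mem_bot] at this
    exact ht1' (h.comp_unique ht T.one_mem hc' (one_mem _) (by rw [this, one_mul]))
  obtain ⟨d, hd, e⟩ := manning_trans hp hep hD inf_le_left
    (fun l hl x hx => mem_inf.mpr ⟨mul_mem (mul_mem hl hx.1) (inv_mem hl), h.normal.conj_mem x hx.2 l⟩) (t • a) hk
  have hmem : (d * t * d⁻¹)⁻¹ ∈ S := by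
    refine ⟨T.inv_mem (h.conj d hd.2 t ht), k * t * k⁻¹, conj_mem_cj k ht, ?_⟩
    rw [mem_stabilizer_iff, mul_smul, inv_smul_eq_iff, mul_smul, mul_smul, mul_smul, mul_smul,
      show k⁻¹ • a = a from inv_mem hk, show d⁻¹ • a = a from inv_mem (mem_inf.mp hd).1, e]
  rcases h.eq_bot_or_eq (S := S) (fun s hs => hs.1) (by
      rintro r hr s ⟨h1, s', h2, h3⟩
      obtain ⟨c, hc, hc', h4⟩ := hS r hr
      refine ⟨h.conj r (h.le hr) s h1, (r * c) * s' * (r * c)⁻¹,
        h'.conj _ (N.mul_mem (h.le hr) hc) _ h2, ?_⟩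
      have : r * s * r⁻¹ * (r * c * s' * (r * c)⁻¹) = r * c * (s * s') * (r * c)⁻¹ := by
        rw [mul_assoc r c (s * s'), ← mul_assoc c, ← hc' s h1]; group
      rw [this]
      exact mul_mem (mul_mem h4 h3) (inv_mem h4)) with h1 | h1
  · rw [h1, mem_bot, inv_eq_one, conj_eq_one_iff] at hmem
    exact absurd hmem ht1'
  · intro s hs
    exact (show s ∈ S from h1.symm ▸ hs).2

theorem trans_of_forall [FaithfulSMul G Ω] (hp : IsPreprimitive G Ω) {N T : Subgroup G}
    (h : Fac N T) (a : Ω) (hT : ∀ g, ∀ s ∈ cj g T, ∃ t ∈ T, s • a = t • a) :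
    IsPretransitive T Ω := by
  let Y : Subgroup G :=
    { carrier := {n | n ∈ N ∧ ∃ t ∈ T, n • a = t • a}
      one_mem' := ⟨N.one_mem, 1, T.one_mem, rfl⟩
      mul_mem' := by
        rintro k l ⟨hk, x, hx, e⟩ ⟨hl, y, hy, e'⟩
        refine ⟨mul_mem hk hl, k * y * k⁻¹ * x, T.mul_mem (h.conj k hk y hy) hx, ?_⟩
        rw [mul_smul, e', mul_smul, ← e]; simp [mul_smul]
      inv_mem' := by
        rintro k ⟨hk, x, hx, e⟩
        refine ⟨inv_mem hk, k⁻¹ * x⁻¹ * k⁻¹⁻¹, h.conj _ (inv_mem hk) _ (T.inv_mem hx), ?_⟩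
        rw [inv_inv, mul_smul, mul_smul, e, inv_smul_smul] }
  have hY : N ≤ Y := h.le_of_forall_cj fun g s hs => ⟨(h.cj g).le hs, hT g s hs⟩
  have key : ∀ x : Ω, ∃ t : T, t • a = x := by
    intro x
    obtain ⟨n, rfl⟩ := (H75.normal_isPretransitive' hp N h.normal h.N_ne_bot).exists_smul_eq a x
    obtain ⟨t, ht, e⟩ := (hY n.2).2
    exact ⟨⟨t, ht⟩, e.symm⟩
  refine ⟨fun x y => ?_⟩
  obtain ⟨n, rfl⟩ := key x
  obtain ⟨m, rfl⟩ := key y
  exact ⟨m * n⁻¹, by rw [mul_smul, inv_smul_smul]⟩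

theorem not_sType [Finite G] [Finite Ω] [FaithfulSMul G Ω] [Nontrivial Ω] (hp : IsPreprimitive G Ω)
    {a : Ω} (hep : ∀ b : Ω, IsPreprimitive (stabilizer G a) (orbit (stabilizer G a) b))
    {N T : Subgroup G} (h : Fac N T) (hTN : T ≠ N) : ¬ SType N T (stabilizer G a) := by
  intro hS
  have hs := sup_stabilizer_eq_top hp h.normal h.N_ne_bot a
  have hle := not_le_stabilizer hp.toIsPretransitive h.normal h.N_ne_bot a
  have hbot := h.inf_eq_bot_of_sType hs hle hS
  obtain ⟨g, hg⟩ := h.exists_ne hTN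
  have h' := h.cj g
  set T' := cj g T with hT'
  have htwo : ∀ T'', Fac N T'' → T'' = T ∨ T'' = T' := by
    intro T'' h''
    by_contra hcon
    push Not at hcon
    refine h.not_comm ⟨⟨fun s r => Subtype.ext ?_⟩⟩
    obtain ⟨s', hs', e1⟩ := diag hp hep h h' hg.symm hS s s.2
    obtain ⟨r', hr', e2⟩ := diag hp hep h h'' hcon.1.symm hS r r.2
    have c1 := h.commute h' hg.symm r.2 hs'
    have c2 := h.commute h'' hcon.1.symm s.2 hr'
    have c3 := h''.commute h' hcon.2 hr' hs'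
    have c4 := h.commute h' hg.symm s.2 hs'
    have c5 := h.commute h'' hcon.1.symm r.2 hr'
    have e3 : (s * s') * (r * r') * ((r * r') * (s * s'))⁻¹ = (s : G) * r * ((r : G) * s)⁻¹ := by
      have f1 : (s * s') * (r * r') = (s : G) * r * (s' * r') := by
        rw [mul_assoc (s : G) s', ← mul_assoc s', ← c1]; group
      have f2 : (r * r') * (s * s') = (r : G) * s * (s' * r') := by
        rw [mul_assoc (r : G) r', ← mul_assoc r', ← c2, ← c3]; group
      rw [f1, f2]; group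
    have : (s : G) * r * ((r : G) * s)⁻¹ ∈ T ⊓ stabilizer G a :=
      mem_inf.mpr ⟨T.mul_mem (T.mul_mem s.2 r.2) (T.inv_mem (T.mul_mem r.2 s.2)),
        e3 ▸ mul_mem (mul_mem e1 e2) (inv_mem (mul_mem e2 e1))⟩
    rw [hbot, mem_bot, mul_inv_eq_one] at this
    exact this
  have htr : IsPretransitive T' Ω := by
    refine trans_of_forall hp h' a fun k s hs => ?_
    rcases htwo _ (h'.cj k) with e | e
    · rw [e] at hs
      obtain ⟨s', hs', e1⟩ := diag hp hep h h' hg.symm hS s hs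
      refine ⟨s'⁻¹, T'.inv_mem hs', ?_⟩
      rw [eq_inv_smul_iff, ← mul_smul, ← h.commute h' hg.symm hs hs']
      exact e1
    · exact ⟨s, e ▸ hs, rfl⟩
  obtain ⟨x, hx, u, hu, e, hne⟩ := exists_real h
  refine unified hp hep (S := T) ⟨fun x y => ?_⟩ (fun s => h.eq_one_of_centralizer)
    (fun k _ s hs => ?_) hx hu e hne
  · obtain ⟨t, ht⟩ := htr.exists_smul_eq x y
    exact ⟨⟨t, h.le_centralizer h' hg.symm t.2⟩, ht⟩
  · rcases htwo _ (h.cj k) with e | e
    · exact Or.inl (e ▸ conj_mem_cj k hs)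
    · exact Or.inr (h.le_centralizer h' hg.symm (e ▸ conj_mem_cj k hs))

/-- An extremely primitive permutation group is of affine type or almost simple. Let a finite group G act faithfully and primitively on a finite set Ω with at least two points, in such a way that every point stabilizer acts primitively on each of its own orbits in Ω (an orbit of size one counts as primitive). Then either G has a non-trivial abelian normal subgroup whose elements other than the identity fix no point (affine type), or G has a non-abelian simple normal subgroup with trivial centralizer (almost simple). -/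
theorem result {G : Type*} [Group G] [Finite G] {Ω : Type*} [Fintype Ω] [MulAction G Ω] [FaithfulSMul G Ω] (hΩ : 2 ≤ Fintype.card Ω) (hprim : MulAction.IsPreprimitive G Ω) (hep : ∀ (α : Ω) (ω : Ω), MulAction.IsPreprimitive (MulAction.stabilizer G α) (MulAction.orbit (MulAction.stabilizer G α) ω)) :
    (∃ N : Subgroup G, N.Normal ∧ N ≠ ⊥ ∧ IsMulCommutative N ∧ ∀ ω : Ω, MulAction.stabilizer N ω = ⊥) ∨ (∃ T : Subgroup G, T.Normal ∧ IsSimpleGroup T ∧ ¬ IsMulCommutative T ∧ Subgroup.centralizer (T : Set G) = ⊥) := by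
  haveI : Nontrivial Ω := Fintype.one_lt_card_iff_nontrivial.mp hΩ
  rcases trichotomy hprim with ⟨N, hN, hne, hc, -, -, hr⟩ | h | ⟨N, T, h, hor⟩
  · exact Or.inl ⟨N, hN, hne, hc, hr⟩
  · exact Or.inr h
  exfalso
  obtain ⟨a, -⟩ := exists_pair_ne Ω
  rcases hor with hTN | hC
  · rcases h.pType_or_sType (H75.isCoatom_stabilizer hprim a) with h1 | h1
    · exact not_pType hprim (hep a) h hTN h1
    · exact not_sType hprim (hep a) h hTN h1
  · obtain ⟨x, hx, u, hu, e, hne⟩ := exists_real h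
    haveI := h.normal
    exact unified hprim (hep a) (S := N) (H75.normal_isPretransitive' hprim _ inferInstance hC)
      (fun s => h.eq_one_of_centralizer_N) (fun k _ s hs => Or.inl (h.normal.conj_mem s hs k))
      (h.le hx) (h.le hu) e hne

end Cfsg.Agent.S3493
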