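import Cfsg.Statements.S3501
import Mathlib
import Cfsg.Agent.Lib.ONS.Prim
import Cfsg.Agent.Lib.Perm.Sharp2


set_option autoImplicit false
open Cfsg

namespace Cfsg.Agent.S3501

open MulAction in
theorem card_eq_one_of_sharp {G : Type*} [Group G] {Ω : Type*} [Finite Ω] [Nontrivial Ω]
    [MulAction G Ω] (h2 : IsMultiplyPretransitive G Ω 2)
    (hs : ∀ (g : G) (a b : Ω), a ≠ b → g • a = a → g • b = b → g = 1) :
    Nat.card (H74.ONS.DerCl G Ω) = 1 := by
  obtain ⟨a, b, hab⟩ := exists_pair_ne Ω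
  obtain ⟨d, ⟨hd1, hd2⟩, hu⟩ := H26.sharp2_existsUnique_derangement h2 hs hab
  have key : ∀ g : G, (∀ ω : Ω, g • ω ≠ ω) → ConjClasses.mk g = ConjClasses.mk d := by
    intro g hg
    obtain ⟨h, h1, h3⟩ := H26.trans2 h2 (hg a).symm hab
    refine ConjClasses.mk_eq_mk_iff_isConj.mpr (isConj_iff.mpr ⟨h, hu _ ⟨?_, fun x hx => ?_⟩⟩)
    · have : h⁻¹ • a = a := by rw [inv_smul_eq_iff, h1]
      rw [mul_smul, mul_smul, this, h3]
    · apply hg (h⁻¹ • x)
      rw [mul_smul, mul_smul, smul_eq_iff_eq_inv_smul] at hx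
      exact hx
  rw [Nat.card_eq_one_iff_unique]
  refine ⟨⟨?_⟩, ⟨⟨_, d, rfl, hd2⟩⟩⟩
  rintro ⟨_, g, rfl, hg⟩ ⟨_, k, rfl, hk⟩
  exact Subtype.ext ((key g hg).trans (key k hk).symm)

/-- Let a finite group G act faithfully and primitively on a finite set Ω with at least two points, and suppose G is not almost simple (it has no non-abelian simple normal subgroup with trivial centralizer). Then the derangements of G form a single conjugacy class if and only if G is sharply 2-transitive (2-transitive, and no non-identity element fixes two points). -/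
theorem result {G : Type*} [Group G] [Finite G] {Ω : Type*} [Fintype Ω] [MulAction G Ω] [FaithfulSMul G Ω] (hΩ : 2 ≤ Fintype.card Ω) (hprim : MulAction.IsPreprimitive G Ω) (hnas : ¬ ∃ T : Subgroup G, T.Normal ∧ IsSimpleGroup T ∧ ¬ IsMulCommutative T ∧ Subgroup.centralizer (T : Set G) = ⊥) :
    Nat.card {c : ConjClasses G // ∃ g : G, ConjClasses.mk g = c ∧ ∀ ω : Ω, g • ω ≠ ω} = 1 ↔ (MulAction.IsMultiplyPretransitive G Ω 2 ∧ ∀ g : G, g ≠ 1 → ∀ a b : Ω, a ≠ b → g • a = a → g • b ≠ b) := by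
  haveI : Nontrivial Ω := Fintype.one_lt_card_iff_nontrivial.mp hΩ
  haveI := hprim.toIsPretransitive
  constructor
  · intro h1
    have hconj : ∀ g k : G, (∀ ω : Ω, g • ω ≠ ω) → (∀ ω : Ω, k • ω ≠ ω) → IsConj g k := by
      intro g k hg hk
      have := (Nat.card_eq_one_iff_unique.mp h1).1.elim ⟨_, g, rfl, hg⟩ ⟨_, k, rfl, hk⟩
      exact ConjClasses.mk_eq_mk_iff_isConj.mp (congrArg Subtype.val this)
    rcases H74.ONS.trichotomy hprim with ⟨N, hN, hne, hc, -, ht, hr⟩ | h | ⟨N, T, h, hor⟩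
    · have hder : ∀ n ∈ N, n ≠ 1 → ∀ ω : Ω, n • ω ≠ ω := fun n hn h1 ω h =>
        h1 (H74.ONS.eq_one_of_regular hr hn h)
      obtain ⟨a, -⟩ := exists_pair_ne Ω
      refine ⟨H26.trans2_of_trans a fun c d hc' hd => ?_, fun g hg x y hxy hx hy => hg ?_⟩
      · obtain ⟨⟨n, hn⟩, rfl⟩ := ht.exists_smul_eq a c
        obtain ⟨⟨m, hm⟩, rfl⟩ := ht.exists_smul_eq a d
        exact H74.ONS.exists_stabilizer_of_isConj hN hc ht hn (hconj n m
          (hder n hn (by rintro rfl; exact hc' (one_smul G a)))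
          (hder m hm (by rintro rfl; exact hd (one_smul G a)))) a
      · refine H74.ONS.eq_one_of_fix_two hN ht hr (fun k hk => ?_) hxy hx hy
        obtain ⟨⟨n, hn⟩, hn1⟩ := Subgroup.ne_bot_iff_exists_ne_one.mp hne
        obtain ⟨c, rfl⟩ := isConj_iff.mp (hconj n k (hder n hn fun e => hn1 (Subtype.ext e)) hk)
        exact hN.conj_mem n hn c
    · exact absurd h hnas
    · obtain ⟨a, b, c, ha, hb, hc, h2, -, -⟩ := h.three_derangements hprim hor
      exact absurd (hconj a b ha hb) h2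
  · rintro ⟨h2, hs⟩
    refine card_eq_one_of_sharp h2 fun g a b hab ha hb => ?_
    by_contra hg
    exact hs g hg a b hab ha hb

end Cfsg.Agent.S3501
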