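import Cfsg.Statements.S3520
import Mathlib
import Cfsg.Agent.Lib.ONS.Prim
import Cfsg.Agent.S3501


set_option autoImplicit false
open Cfsg

namespace Cfsg.Agent.S3520

theorem two_le_card {G Ω : Type*} [Group G] [MulAction G Ω] [Finite Ω] {g : G} :
    2 ≤ Nat.card (MulAction.fixedBy Ω g) ↔ ∃ a b : Ω, a ≠ b ∧ g • a = a ∧ g • b = b := by
  rw [show 2 ≤ Nat.card (MulAction.fixedBy Ω g) ↔ 1 < Nat.card (MulAction.fixedBy Ω g) from Iff.rfl,
    Finite.one_lt_card_iff_nontrivial]
  constructor
  · rintro ⟨⟨a, ha⟩, ⟨b, hb⟩, h⟩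
    exact ⟨a, b, fun e => h (Subtype.ext e), ha, hb⟩
  · rintro ⟨a, b, h, ha, hb⟩
    exact ⟨⟨a, ha⟩, ⟨b, hb⟩, fun e => h (congrArg Subtype.val e)⟩

/-- Let a finite group G act faithfully and primitively on a finite set Ω with at least two points, suppose G is not almost simple (no non-abelian simple normal subgroup with trivial centralizer), and suppose the derangements of G form exactly two conjugacy classes. Then either Ω has 3 points and G has order 3; or G has a non-trivial abelian normal subgroup N acting regularly, every non-identity element of G fixes at most one point (so, when n > 3, G is a Frobenius group with kernel N), the number n of points is odd and a point stabilizer has order (n − 1)/2; or G is 2-transitive with a non-trivial abelian regular normal subgroup and some non-identity element fixes at least two points (a non-Frobenius 2-transitive affine group). -/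
theorem result {G : Type*} [Group G] [Finite G] {Ω : Type*} [Fintype Ω] [MulAction G Ω] [FaithfulSMul G Ω] (hΩ : 2 ≤ Fintype.card Ω) (hprim : MulAction.IsPreprimitive G Ω) (hnas : ¬ ∃ T : Subgroup G, T.Normal ∧ IsSimpleGroup T ∧ ¬ IsMulCommutative T ∧ Subgroup.centralizer (T : Set G) = ⊥)
    (hκ : Nat.card {c : ConjClasses G // ∃ g : G, ConjClasses.mk g = c ∧ ∀ ω : Ω, g • ω ≠ ω} = 2) (α : Ω) :
    (Fintype.card Ω = 3 ∧ Nat.card G = 3) ∨
    ((∃ N : Subgroup G, N.Normal ∧ N ≠ ⊥ ∧ IsMulCommutative N ∧ ∀ ω : Ω, MulAction.stabilizer N ω = ⊥) ∧ (∀ g : G, g ≠ 1 → Nat.card (MulAction.fixedBy Ω g) ≤ 1) ∧ ¬ 2 ∣ Fintype.card Ω ∧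
        2 * Nat.card (MulAction.stabilizer G α) = Fintype.card Ω - 1) ∨
    ((∃ N : Subgroup G, N.Normal ∧ N ≠ ⊥ ∧ IsMulCommutative N ∧ ∀ ω : Ω, MulAction.stabilizer N ω = ⊥) ∧ MulAction.IsMultiplyPretransitive G Ω 2 ∧ ∃ g : G, g ≠ 1 ∧ 2 ≤ Nat.card (MulAction.fixedBy Ω g)) := by
  classical
  haveI : Nontrivial Ω := Fintype.one_lt_card_iff_nontrivial.mp hΩ
  haveI := hprim.toIsPretransitive
  rcases H74.ONS.trichotomy hprim with ⟨N, hN, hne, hc, -, ht, hr⟩ | h | ⟨N, T, h, hor⟩
  · right
    by_cases h2 : MulAction.IsMultiplyPretransitive G Ω 2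
    · right
      refine ⟨⟨N, hN, hne, hc, hr⟩, h2, ?_⟩
      by_contra hcon
      have := Cfsg.Agent.S3501.card_eq_one_of_sharp h2 fun g a b hab ha hb => by
        by_contra hg
        exact hcon ⟨g, hg, two_le_card.mpr ⟨a, b, hab, ha, hb⟩⟩
      exact absurd (hκ.symm.trans this) (by norm_num)
    left
    have hder : ∀ n ∈ N, n ≠ 1 → ∀ ω : Ω, n • ω ≠ ω := fun n hn h1 ω h =>
      h1 (H74.ONS.eq_one_of_regular hr hn h)
    have h3 := mt (H26.trans2_of_trans (G := G) α) h2
    push Not at h3
    obtain ⟨c, d, hc', hd', hcd⟩ := h3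
    obtain ⟨⟨n, hn⟩, rfl⟩ := ht.exists_smul_eq α c
    obtain ⟨⟨m, hm⟩, rfl⟩ := ht.exists_smul_eq α d
    have hn1 := hder n hn (by rintro rfl; exact hc' (one_smul G α))
    have hm1 := hder m hm (by rintro rfl; exact hd' (one_smul G α))
    have hnm : ¬ IsConj n m := fun e => by
      obtain ⟨k, h1, h2⟩ := H74.ONS.exists_stabilizer_of_isConj hN hc ht hn e α
      exact hcd k h1 h2
    have hall : ∀ g : G, (∀ ω : Ω, g • ω ≠ ω) → IsConj n g ∨ IsConj m g := by
      intro g hg
      by_contra hcon
      push Not at hcon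
      have := H74.ONS.three_le_card_derCl hn1 hm1 hg hnm hcon.1 hcon.2
      exact absurd (hκ ▸ this : 3 ≤ 2) (by norm_num)
    have hfix : ∀ {g : G} {a b : Ω}, a ≠ b → g • a = a → g • b = b → g = 1 := fun hab ha hb => by
      refine H74.ONS.eq_one_of_fix_two hN ht hr (fun k hk => ?_) hab ha hb
      rcases hall k hk with e | e <;> obtain ⟨x, rfl⟩ := isConj_iff.mp e
      · exact hN.conj_mem n hn x
      · exact hN.conj_mem m hm x
    have hcount : Fintype.card Ω = 2 * Nat.card (MulAction.stabilizer G α) + 1 := by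
      let f : Option (MulAction.stabilizer G α ⊕ MulAction.stabilizer G α) → Ω := fun x =>
        match x with
        | none => α
        | some (Sum.inl k) => (k : G) • n • α
        | some (Sum.inr k) => (k : G) • m • α
      have hne' : ∀ (k : MulAction.stabilizer G α) (x : Ω), x ≠ α → (k : G) • x ≠ α := by
        intro k x hx e
        exact hx ((MulAction.injective (k : G)) (e.trans (show (k : G) • α = α from k.2).symm))
      have hinj : ∀ (k l : MulAction.stabilizer G α) (x : Ω), x ≠ α → (k : G) • x = (l : G) • x →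
          k = l := by
        intro k l x hx e
        have := hfix (g := (l⁻¹ * k : MulAction.stabilizer G α)) hx
          (by rw [Subgroup.coe_mul, mul_smul, e, Subgroup.coe_inv, inv_smul_smul]) (l⁻¹ * k).2
        exact (inv_mul_eq_one.mp (Subtype.ext this : l⁻¹ * k = 1)).symm
      have hdis : ∀ k l : MulAction.stabilizer G α, (k : G) • n • α ≠ (l : G) • m • α := by
        intro k l e
        exact hcd _ (l⁻¹ * k).2
          (by rw [Subgroup.coe_mul, mul_smul, Subgroup.coe_inv, inv_smul_eq_iff]; exact e)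
      have hf : Function.Bijective f := by
        constructor
        · rintro (_ | k | k) (_ | l | l) e
          · rfl
          · exact absurd e.symm (hne' l _ hc')
          · exact absurd e.symm (hne' l _ hd')
          · exact absurd e (hne' k _ hc')
          · rw [hinj k l _ hc' e]
          · exact absurd e (hdis k l)
          · exact absurd e (hne' k _ hd')
          · exact absurd e.symm (hdis l k)
          · rw [hinj k l _ hd' e]
        · intro ω
          by_cases hω : ω = α
          · exact ⟨none, hω.symm⟩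
          obtain ⟨⟨x, hx⟩, rfl⟩ := ht.exists_smul_eq α ω
          rcases hall x (hder x hx (by rintro rfl; exact hω (one_smul G α))) with e | e
          · obtain ⟨k, h1, h2⟩ := H74.ONS.exists_stabilizer_of_isConj hN hc ht hn e α
            exact ⟨some (Sum.inl ⟨k, h1⟩), h2⟩
          · obtain ⟨k, h1, h2⟩ := H74.ONS.exists_stabilizer_of_isConj hN hc ht hm e α
            exact ⟨some (Sum.inr ⟨k, h1⟩), h2⟩
      have := Nat.card_eq_of_bijective f hf
      rw [Finite.card_option, Nat.card_sum, Nat.card_eq_fintype_card (α := Ω)] at this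
      omega
    refine ⟨⟨N, hN, hne, hc, hr⟩, fun g hg => ?_, by omega, by omega⟩
    by_contra hcon
    obtain ⟨a, b, hab, ha, hb⟩ := two_le_card.mp (not_le.mp hcon)
    exact hg (hfix hab ha hb)
  · exact absurd h hnas
  · obtain ⟨a, b, c, ha, hb, hc, h1, h2, h3⟩ := h.three_derangements hprim hor
    have := H74.ONS.three_le_card_derCl ha hb hc h1 h2 h3
    exact absurd (hκ ▸ this : 3 ≤ 2) (by norm_num)

end Cfsg.Agent.S3520
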