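import Cfsg.Statements.S3521
import Mathlib
import Cfsg.Agent.Lib.ONS.Fit
import Cfsg.Agent.Lib.ONS.K2
import Cfsg.Agent.Lib.BG3.ElemAb
import Cfsg.Agent.S3495
import Cfsg.Agent.S0041
import Cfsg.Agent.S0205


set_option autoImplicit false
open Cfsg

namespace Cfsg.Agent.S3521

open H74.ONS MulAction Subgroup

theorem exists_invol {K : Type*} [Group K] [Finite K] (h : ¬ Group.IsSolvable K) :
    ∃ v : K, v ≠ 1 ∧ v * v = 1 := by
  have he : 2 ∣ Nat.card K := by
    by_contra hc
    exact h (Cfsg.Agent.S0205.result (Nat.odd_iff.mpr (Nat.two_dvd_ne_zero.mp hc)))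
  obtain ⟨v, hv⟩ := exists_prime_orderOf_dvd_card' 2 he
  refine ⟨v, fun e => ?_, by rw [← sq, ← hv, pow_orderOf_eq_one]⟩
  rw [e, orderOf_one] at hv
  exact absurd hv (by norm_num)

theorem exists_invol_fac {G : Type*} [Group G] [Finite G] {N T : Subgroup G} (h : Fac N T) :
    ∃ v ∈ T, v ≠ 1 ∧ v * v = 1 := by
  obtain ⟨v, h1, h2⟩ := exists_invol h.not_isSolvable
  exact ⟨v, v.2, fun e => h1 (Subtype.ext e), congrArg Subtype.val h2⟩

theorem exists_noncomm {G : Type*} [Group G] [Finite G] {N T : Subgroup G} (h : Fac N T) :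
    ∃ a b : T, a * a = 1 ∧ b * b = 1 ∧ a * b ≠ b * a := by
  obtain ⟨v, hv, hv1, hv2⟩ := exists_invol_fac h
  by_contra hcon
  push Not at hcon
  let S : Subgroup G :=
    { carrier := {a | a ∈ T ∧ a * a = 1}
      one_mem' := ⟨T.one_mem, one_mul 1⟩
      mul_mem' := fun {a b} ha hb => ⟨T.mul_mem ha.1 hb.1, by
        have := congrArg Subtype.val (hcon ⟨a, ha.1⟩ ⟨b, hb.1⟩ (Subtype.ext ha.2) (Subtype.ext hb.2))
        simp only [coe_mul] at this
        calc a * b * (a * b) = a * (b * a) * b := by group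
          _ = a * a * (b * b) := by rw [← this]; group
          _ = 1 := by rw [ha.2, hb.2, one_mul]⟩
      inv_mem' := fun {a} ha => ⟨T.inv_mem ha.1, by rw [← mul_inv_rev, ha.2, inv_one]⟩ }
  rcases h.eq_bot_or_eq (S := S) (fun a ha => ha.1) (fun t ht s hs => ⟨h.conj t (h.le ht) s hs.1, by
      calc t * s * t⁻¹ * (t * s * t⁻¹) = t * (s * s) * t⁻¹ := by group
        _ = 1 := by rw [hs.2]; simp⟩) with h1 | h1
  · exact hv1 (mem_bot.mp (h1 ▸ (⟨hv, hv2⟩ : v ∈ S)))
  · refine h.not_comm ⟨⟨fun a b => hcon a b (Subtype.ext ?_) (Subtype.ext ?_)⟩⟩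
    · exact (show (a : G) ∈ S from h1.symm ▸ a.2).2
    · exact (show (b : G) ∈ S from h1.symm ▸ b.2).2

theorem card_fac {G : Type*} [Group G] [Finite G] {N T : Subgroup G} (h : Fac N T) :
    16 < Nat.card T := by
  obtain ⟨a, ha, b, hb, c, hc, pa, pb, pc, e1, e2, e3⟩ := h.exists_three_primes
  have d1 := orderOf_dvd_natCard T ha
  have d2 := orderOf_dvd_natCard T hb
  have d3 := orderOf_dvd_natCard T hc
  have d4 := Nat.Coprime.mul_dvd_of_dvd_of_dvd
    (Nat.Coprime.mul_left ((Nat.coprime_primes pa pc).mpr e2) ((Nat.coprime_primes pb pc).mpr e3))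
    (Nat.Coprime.mul_dvd_of_dvd_of_dvd ((Nat.coprime_primes pa pb).mpr e1) d1 d2) d3
  have d5 := Nat.le_of_dvd Nat.card_pos d4
  have h1 := pa.two_le
  have h2 := pb.two_le
  have h3 := pc.two_le
  generalize orderOf a = x at *
  generalize orderOf b = y at *
  generalize orderOf c = z at *
  by_contra hlt
  have hx : x ≤ 4 := by nlinarith [Nat.mul_le_mul h2 h3]
  have hy : y ≤ 4 := by nlinarith [Nat.mul_le_mul h1 h3]
  have hz : z ≤ 4 := by nlinarith [Nat.mul_le_mul h1 h2]
  interval_cases x <;> interval_cases y <;> interval_cases z <;> omega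

section Mod

variable {H V : Type*} [Group H] [AddCommGroup V] [Module (ZMod 2) V]
  (ρ : H →* Module.End (ZMod 2) V)

/-- The stabiliser of a vector. -/
def st (v : V) : Subgroup H where
  carrier := {h | ρ h v = v}
  one_mem' := by simp
  mul_mem' := fun {a b} ha hb => by
    change ρ (a * b) v = v
    rw [map_mul, Module.End.mul_apply, show ρ b v = v from hb, show ρ a v = v from ha]
  inv_mem' := fun {a} ha => by
    change ρ a⁻¹ v = v
    conv_lhs => rw [← show ρ a v = v from ha]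
    rw [← Module.End.mul_apply, ← map_mul, inv_mul_cancel, map_one, Module.End.one_apply]

theorem mem_st {v : V} {h : H} : h ∈ st ρ v ↔ ρ h v = v := Iff.rfl

theorem rho_mul (a b : H) (v : V) : ρ (a * b) v = ρ a (ρ b v) := by
  rw [map_mul, Module.End.mul_apply]

theorem add_self (v : V) : v + v = 0 := by
  rw [← two_smul (ZMod 2) v, show (2 : ZMod 2) = 0 from rfl, zero_smul]

theorem eq_of_add_eq_zero {v w : V} (h : v + w = 0) : w = v :=
  add_left_cancel (h.trans (add_self v).symm)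

variable {ρ} {M T T' : Subgroup H}

theorem eq_zero_of_fix (hρ : Function.Injective ρ)
    (hirr : ∀ W : Submodule (ZMod 2) V, (∀ m ∈ M, ∀ w ∈ W, ρ m w ∈ W) → W = ⊥ ∨ W = ⊤)
    (h : Fac M T) {U : Set V} (hU : ∀ x ∈ T, ∀ u ∈ U, ρ x u ∈ U) {t : H} (ht : t ∈ T) (ht1 : t ≠ 1)
    (hfix : ∀ u ∈ U, ρ t u = u) {u : V} (hu : u ∈ U) : u = 0 := by
  have h1 : ∀ x ∈ T, ∀ u ∈ U, ρ x u = u := by
    rcases h.eq_bot_or_eq (S := T ⊓ ⨅ u ∈ U, st ρ u) inf_le_left (fun x hx s hs => by
        refine mem_inf.mpr ⟨h.conj x (h.le hx) s hs.1, mem_iInf.mpr fun u => mem_iInf.mpr fun hu => ?_⟩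
        have := mem_iInf.mp (mem_iInf.mp (mem_inf.mp hs).2 (ρ x⁻¹ u)) (hU _ (T.inv_mem hx) u hu)
        rw [mem_st, rho_mul, rho_mul, (mem_st ρ).mp this, ← rho_mul, mul_inv_cancel, map_one,
          Module.End.one_apply]) with e | e
    · have : t ∈ T ⊓ ⨅ u ∈ U, st ρ u :=
        mem_inf.mpr ⟨ht, mem_iInf.mpr fun u => mem_iInf.mpr fun hu => hfix u hu⟩
      exact absurd (mem_bot.mp (e ▸ this)) ht1
    · intro x hx u hu
      exact mem_iInf.mp (mem_iInf.mp (mem_inf.mp (e.ge hx)).2 u) hu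
  let W : Submodule (ZMod 2) V :=
    { carrier := {w | ∀ x ∈ T, ρ x w = w}
      zero_mem' := fun x _ => map_zero _
      add_mem' := fun {a b} ha hb x hx => by rw [map_add, ha x hx, hb x hx]
      smul_mem' := fun c a ha x hx => by rw [map_smul, ha x hx] }
  rcases hirr W (fun m hm w hw x hx => by
      have := hw _ (h.conj' hm hx)
      rw [← rho_mul, show x * m = m * (m⁻¹ * x * m) by group, rho_mul, this]) with e | e
  · have : u ∈ W := fun x hx => h1 x hx u hu
    rwa [e, Submodule.mem_bot] at this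
  · exact absurd (hρ (by
      rw [map_one]; ext w; exact (show w ∈ W from e ▸ Submodule.mem_top) t ht)) ht1

theorem exists_fix [Nontrivial V] {s : H} (hs : s * s = 1) : ∃ v : V, v ≠ 0 ∧ ρ s v = v := by
  obtain ⟨w, hw⟩ := exists_ne (0 : V)
  by_cases e : ρ s w = w
  · exact ⟨w, hw, e⟩
  · refine ⟨w + ρ s w, fun e' => e ?_, ?_⟩
    · exact eq_of_add_eq_zero e'
    · rw [map_add, ← rho_mul, hs, map_one, Module.End.one_apply, add_comm]

theorem exists_sType [Finite H] (hρ : Function.Injective ρ)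
    (hirr : ∀ W : Submodule (ZMod 2) V, (∀ m ∈ M, ∀ w ∈ W, ρ m w ∈ W) → W = ⊥ ∨ W = ⊤)
    (hmax : ∀ v : V, v ≠ 0 → IsCoatom (st ρ v)) (h : Fac M T) (h' : Fac M T') (hne : T ≠ T')
    (U : Submodule (ZMod 2) V) (hU0 : ∃ u ∈ U, u ≠ 0) (hU : ∀ x ∈ T, ∀ u ∈ U, ρ x u ∈ U)
    (hU' : ∀ x ∈ T', ∀ u ∈ U, ρ x u ∈ U) : ∃ w ∈ U, w ≠ 0 ∧ SType M T (st ρ w) := by
  obtain ⟨s, hs, hs1, hs2⟩ := exists_invol_fac h
  obtain ⟨t, ht, ht1, ht2⟩ := exists_invol_fac h'
  have hc := h.commute h' hne hs ht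
  obtain ⟨u, hu, hu'⟩ : ∃ u ∈ U, ρ t (u + ρ s u) ≠ u + ρ s u := by
    by_contra hcon
    push Not at hcon
    obtain ⟨u₀, hu₀, hu₀'⟩ := hU0
    refine hu₀' (eq_zero_of_fix hρ hirr h (U := U) hU hs hs1 (fun u hu => ?_) hu₀)
    have := eq_zero_of_fix hρ hirr h' (U := {w | ∃ u ∈ U, w = u + ρ s u}) (by
      rintro x hx _ ⟨u, hu, rfl⟩
      exact ⟨_, hU' x hx u hu, by
        rw [map_add, ← rho_mul, ← rho_mul, h.commute h' hne hs hx]⟩) ht ht1
      (by rintro _ ⟨u, hu, rfl⟩; exact hcon u hu) ⟨u, hu, rfl⟩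
    exact eq_of_add_eq_zero this
  have hfix : ρ (s * t) (u + ρ (s * t) u) = u + ρ (s * t) u := by
    rw [map_add, ← rho_mul, show s * t * (s * t) = 1 by
      calc s * t * (s * t) = s * (t * s) * t := by group
        _ = s * s * (t * t) := by rw [← hc]; group
        _ = 1 := by rw [hs2, ht2, one_mul], map_one, Module.End.one_apply, add_comm]
  have hnfix : ρ s (u + ρ (s * t) u) ≠ u + ρ (s * t) u := by
    intro e
    apply hu'
    rw [map_add, ← rho_mul, ← mul_assoc, hs2, one_mul] at e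
    rw [map_add, ← rho_mul, ← hc]
    calc ρ t u + ρ (s * t) u = (ρ s u + ρ t u) + ρ (s * t) u + ρ s u - (ρ s u + ρ s u) := by abel
      _ = u + ρ s u + (ρ (s * t) u + ρ (s * t) u) - (ρ s u + ρ s u) := by rw [e]; abel
      _ = _ := by rw [add_self, add_self, add_zero, sub_zero]
  have hw0 : u + ρ (s * t) u ≠ 0 := fun e => hnfix (by rw [e, map_zero])
  refine ⟨_, U.add_mem hu (by rw [rho_mul]; exact hU s hs _ (hU' t ht u hu)), hw0,
    (h.pType_or_sType (hmax _ hw0)).resolve_left fun hP => hnfix ?_⟩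
  exact hP s hs t (h'.le ht) (h.le_centralizer h' hne ht) hfix

theorem mod_main [Finite H] [Finite V] [Nontrivial V] (hρ : Function.Injective ρ)
    (hirr : ∀ W : Submodule (ZMod 2) V, (∀ m ∈ M, ∀ w ∈ W, ρ m w ∈ W) → W = ⊥ ∨ W = ⊤)
    (hmax : ∀ v : V, v ≠ 0 → IsCoatom (st ρ v)) (h : Fac M T) : T = M := by
  by_contra hTM
  have hle : ∀ v : V, v ≠ 0 → ¬ M ≤ st ρ v := fun v hv hle => by
    obtain ⟨s, hs, hs1, -⟩ := exists_invol_fac h
    exact hv (eq_zero_of_fix hρ hirr h (U := {v}) (fun x hx u hu => by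
      rw [hu]; exact hle (h.le hx)) hs hs1 (fun u hu => by rw [hu]; exact hle (h.le hs)) rfl)
  have hs : ∀ v : V, v ≠ 0 → M ⊔ st ρ v = ⊤ := fun v hv =>
    sup_eq_top_of_isCoatom (hmax v hv) (hle v hv)
  obtain ⟨g, hg⟩ := h.exists_ne hTM
  have h' := h.cj g
  set T' := cj g T with hT'
  have hne : T ≠ T' := hg.symm
  have htwo : ∀ T'', Fac M T'' → T'' = T ∨ T'' = T' := by
    intro T'' h''
    by_contra hcon
    push Not at hcon
    obtain ⟨r, hr, hr1, hr2⟩ := exists_invol_fac h''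
    let U : Submodule (ZMod 2) V := LinearMap.eqLocus (ρ r) LinearMap.id
    have hUi : ∀ x, r * x = x * r → ∀ u ∈ U, ρ x u ∈ U := fun x hx u hu => by
      change ρ r (ρ x u) = ρ x u
      rw [← rho_mul, hx, rho_mul, show ρ r u = u from hu]
    obtain ⟨w, hw, hw0, hS⟩ := exists_sType hρ hirr hmax h h' hne U
      (by obtain ⟨v, hv, hv'⟩ := exists_fix (ρ := ρ) hr2; exact ⟨v, hv', hv⟩)
      (fun x hx => hUi x (h''.commute h hcon.1 hr hx))
      (fun x hx => hUi x (h''.commute h' hcon.2 hr hx))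
    have := h''.inf_eq_bot_of_sType (hs w hw0) (hle w hw0) (h.sType_of_sType h'' (hs w hw0) hS)
    exact hr1 (mem_bot.mp (this ▸ (⟨hr, hw⟩ : r ∈ T'' ⊓ st ρ w)))
  have hcent : ∀ {S S' : Subgroup H}, Fac M S → Fac M S' → S ≠ S' →
      (∀ T'', Fac M T'' → T'' = S ∨ T'' = S') → ∀ c ∈ M, c ∈ centralizer (S : Set H) → c ∈ S' := by
    intro S S' hS hS' hSS htwo c hc hc'
    obtain ⟨y, hy, d, hd, hd', rfl⟩ := hS'.decomp hc
    have h1 : d ∈ centralizer (S : Set H) := by
      simpa using mul_mem (inv_mem (hS.le_centralizer hS' hSS hy)) hc'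
    have h2 : M ≤ centralizer {d} := h.le_of_forall_cj fun k x hx => by
      rw [mem_centralizer_singleton_iff]
      rcases htwo _ (h.cj k) with e | e
      · exact h1 x (e ▸ hx)
      · exact hd' x (e ▸ hx)
    rw [h.eq_one_of_centralizer_N hd fun x hx => mem_centralizer_singleton_iff.mp (h2 hx), mul_one]
    exact hy
  have hc1 := hcent h h' hne htwo
  have hc2 := hcent h' h hne.symm fun S hS => (htwo S hS).symm
  have hdiag : ∀ {S S' : Subgroup H}, (∀ c ∈ M, c ∈ centralizer (S : Set H) → c ∈ S') →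
      ∀ w : V, SType M S (st ρ w) → ∀ x ∈ S, ∃ y ∈ S', ρ x w = ρ y w := by
    intro S S' hc w hS x hx
    obtain ⟨c, hcM, hcS, e⟩ := hS x hx
    refine ⟨c⁻¹, S'.inv_mem (hc c hcM hcS), ?_⟩
    conv_rhs => rw [← (mem_st ρ).mp e, ← rho_mul, hcS x hx, inv_mul_cancel_left]
  have hMinv : ∀ W : Submodule (ZMod 2) V, (∀ x ∈ T, ∀ w ∈ W, ρ x w ∈ W) →
      (∀ x ∈ T', ∀ w ∈ W, ρ x w ∈ W) → W = ⊥ ∨ W = ⊤ := fun W h1 h2 => hirr W fun m hm w hw => by
    obtain ⟨t, ht, c, hc, hc', rfl⟩ := h.decomp hm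
    rw [rho_mul]
    exact h1 t ht _ (h2 c (hc1 c hc hc') w hw)
  obtain ⟨w, -, hw0, hS⟩ := exists_sType hρ hirr hmax h h' hne ⊤
    (by obtain ⟨v, hv⟩ := exists_ne (0 : V); exact ⟨v, trivial, hv⟩) (fun _ _ _ _ => trivial)
    (fun _ _ _ _ => trivial)
  have hd1 := hdiag hc1 w hS
  have hd2 := hdiag hc2 w (h.sType_of_sType h' (hs w hw0) hS)
  haveI : Finite (Module.End (ZMod 2) V) :=
    Finite.of_injective (fun f => (f : V → V)) DFunLike.coe_injective
  let A : Subring (Module.End (ZMod 2) V) := Subring.closure (Set.range (ρ.comp T.subtype))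
  let φ : T →* A := (ρ.comp T.subtype).codRestrict A fun x => Subring.subset_closure ⟨x, rfl⟩
  have hcomm : ∀ y ∈ T', ∀ a : A, ρ y * a = a * ρ y := by
    intro y hy a
    have : A ≤ Subring.centralizer {ρ y} := Subring.closure_le.mpr (by
      rintro _ ⟨x, rfl⟩ _ rfl
      change ρ y * ρ x = ρ x * ρ y
      rw [← map_mul, ← map_mul, h.commute h' hne x.2 hy])
    exact this a.2 _ rfl
  have hcomm' : ∀ y ∈ T', ∀ (a : A) (v : V), ρ y ((a : Module.End (ZMod 2) V) v) =
      (a : Module.End (ZMod 2) V) (ρ y v) := fun y hy a v => LinearMap.congr_fun (hcomm y hy a) v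
  have hinj : ∀ a : A, (a : Module.End (ZMod 2) V) w = 0 → a = 0 := by
    intro a ha
    have h1 : Submodule.span (ZMod 2) {v | ∃ y ∈ T', v = ρ y w} = ⊤ := by
      refine (hMinv _ (fun x hx v hv => ?_) (fun x hx v hv => ?_)).resolve_left fun e => hw0 ?_
      · refine Submodule.mem_comap.mp ((Submodule.span_le (p := Submodule.comap (ρ x)
          (Submodule.span (ZMod 2) {v | ∃ y ∈ T', v = ρ y w}))).mpr ?_ hv)
        rintro _ ⟨y, hy, rfl⟩
        obtain ⟨y', hy', e⟩ := hd1 x hx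
        refine Submodule.subset_span ⟨y * y', T'.mul_mem hy hy', ?_⟩
        rw [← rho_mul, h.commute h' hne hx hy, rho_mul, e, rho_mul]
      · refine Submodule.mem_comap.mp ((Submodule.span_le (p := Submodule.comap (ρ x)
          (Submodule.span (ZMod 2) {v | ∃ y ∈ T', v = ρ y w}))).mpr ?_ hv)
        rintro _ ⟨y, hy, rfl⟩
        exact Submodule.subset_span ⟨x * y, T'.mul_mem hx hy, by rw [rho_mul]⟩
      · have : w ∈ Submodule.span (ZMod 2) {v | ∃ y ∈ T', v = ρ y w} :=
          Submodule.subset_span ⟨1, T'.one_mem, by simp⟩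
        rwa [e, Submodule.mem_bot] at this
    refine Subtype.ext (LinearMap.ker_eq_top.mp (eq_top_iff.mpr (h1 ▸ Submodule.span_le.mpr ?_)))
    rintro _ ⟨y, hy, rfl⟩
    rw [SetLike.mem_coe, LinearMap.mem_ker, ← hcomm' y hy, ha, map_zero]
  have hinj' : ∀ a b : A, (a : Module.End (ZMod 2) V) w = (b : Module.End (ZMod 2) V) w → a = b :=
    fun a b e => sub_eq_zero.mp (hinj _ (by rw [AddSubgroupClass.coe_sub, LinearMap.sub_apply, e, sub_self]))
  haveI : Nontrivial A := ⟨⟨1, 0, fun e => hw0 (LinearMap.congr_fun (congrArg Subtype.val e) w)⟩⟩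
  haveI : IsSimpleRing A := IsSimpleRing.of_eq_bot_or_eq_top fun I => by
    let W : Submodule (ZMod 2) V :=
      { carrier := {v | ∃ a ∈ I, v = (a : Module.End (ZMod 2) V) w}
        zero_mem' := ⟨0, I.zero_mem, rfl⟩
        add_mem' := by
          rintro _ _ ⟨a, ha, rfl⟩ ⟨b, hb, rfl⟩
          exact ⟨a + b, I.add_mem ha hb, rfl⟩
        smul_mem' := by
          rintro c _ ⟨a, ha, rfl⟩
          have hc : c = 0 ∨ c = 1 := by revert c; decide
          rcases hc with rfl | rfl
          · exact ⟨0, I.zero_mem, by simp⟩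
          · exact ⟨a, ha, by simp⟩ }
    rcases hMinv W (by
        rintro x hx _ ⟨a, ha, rfl⟩
        exact ⟨φ ⟨x, hx⟩ * a, I.mul_mem_left _ _ ha, rfl⟩) (by
        rintro y hy _ ⟨a, ha, rfl⟩
        obtain ⟨x, hx, e⟩ := hd2 y hy
        exact ⟨a * φ ⟨x, hx⟩, I.mul_mem_right _ _ ha, by rw [hcomm' y hy, e]; rfl⟩) with e | e
    · left
      rw [eq_bot_iff]
      intro a ha
      have : (a : Module.End (ZMod 2) V) w ∈ W := ⟨a, ha, rfl⟩
      rw [e, Submodule.mem_bot] at this
      exact (TwoSidedIdeal.mem_bot _).mpr (hinj a this)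
    · right
      obtain ⟨a, ha, e'⟩ : w ∈ W := e ▸ Submodule.mem_top
      rw [hinj' a 1 e'.symm] at ha
      exact (TwoSidedIdeal.one_mem_iff I).mp ha
  obtain ⟨s, s', h1, h2, h3⟩ := exists_noncomm h
  refine k2 (A := A) (T := T) (hinj _ ?_) φ
    (fun x y e => Subtype.ext (hρ (congrArg Subtype.val e))) ?_ (card_fac h) h1 h2 h3 fun a ha => ?_
  · have : (2 : A) = 1 + 1 := one_add_one_eq_two.symm
    rw [this]; exact add_self w
  · rw [eq_top_iff]
    rintro ⟨a, ha⟩ -
    induction ha using Subring.closure_induction with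
    | mem x hx => obtain ⟨x, rfl⟩ := hx; exact Subring.subset_closure ⟨x, rfl⟩
    | zero => exact zero_mem _
    | one => exact one_mem _
    | add x y _ _ hx hy => exact add_mem hx hy
    | neg x _ hx => exact neg_mem hx
    | mul x y _ _ hx hy => exact mul_mem hx hy
  · have hv : (a : Module.End (ZMod 2) V) w ≠ 0 := mt (hinj a) ha
    rcases h.pType_or_sType (hmax _ hv) with hP | hS'
    · left
      intro x x' e
      obtain ⟨y, hy, e'⟩ := hd1 x' x'.2
      refine hinj' _ _ (hP x x.2 y⁻¹ (h'.le (T'.inv_mem hy))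
        (h.le_centralizer h' hne (T'.inv_mem hy)) ?_)
      have e2 : ρ x ((a : Module.End (ZMod 2) V) w) = ρ y ((a : Module.End (ZMod 2) V) w) := by
        rw [hcomm' y hy, ← e']
        exact LinearMap.congr_fun (congrArg Subtype.val e) w
      rw [mem_st, h.commute h' hne x.2 (T'.inv_mem hy), rho_mul, e2, ← rho_mul, inv_mul_cancel,
        map_one, Module.End.one_apply]
    · right
      intro x
      obtain ⟨y, hy, e⟩ := hdiag hc1 _ hS' x x.2
      obtain ⟨x', hx', e'⟩ := hd2 y hy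
      refine ⟨⟨x', hx'⟩, hinj' _ _ ?_⟩
      change ρ x ((a : Module.End (ZMod 2) V) w) = (a : Module.End (ZMod 2) V) (ρ x' w)
      rw [e, hcomm' y hy, e']

end Mod

/-- Let a finite group G that is not solvable act faithfully and primitively on a finite set with p ^ d points (p prime), with a non-trivial abelian normal subgroup acting regularly (affine type) and with non-trivial point stabilizers each acting primitively on every one of its orbits (an insoluble extremely primitive group of affine type). Then p = 2; and if moreover G is not 2-transitive, then a point stabilizer is almost simple (it has a non-abelian simple normal subgroup with trivial centralizer). -/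
theorem result {G : Type*} [Group G] [Finite G] {Ω : Type*} [Fintype Ω] [MulAction G Ω] [FaithfulSMul G Ω] (p d : ℕ) (hp : p.Prime) (hcard : Fintype.card Ω = p ^ d) (hsol : ¬ Group.IsSolvable G)
    (N : Subgroup G) [N.Normal] (hN : N ≠ ⊥) (hNc : IsMulCommutative N) (hNreg : ∀ ω : Ω, MulAction.stabilizer N ω = ⊥)
    (hprim : MulAction.IsPreprimitive G Ω) (hH : ∀ α : Ω, MulAction.stabilizer G α ≠ ⊥) (hep : ∀ (α : Ω) (ω : Ω), MulAction.IsPreprimitive (MulAction.stabilizer G α) (MulAction.orbit (MulAction.stabilizer G α) ω)) (α : Ω) :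
    p = 2 ∧ (¬ MulAction.IsMultiplyPretransitive G Ω 2 → ∃ T : Subgroup (MulAction.stabilizer G α), T.Normal ∧ IsSimpleGroup T ∧ ¬ IsMulCommutative T ∧ Subgroup.centralizer (T : Set (MulAction.stabilizer G α)) = ⊥) := by
  obtain ⟨b, hb⟩ := exists_ne_of_stabilizer_ne_bot (hH α)
  haveI : Nontrivial Ω := ⟨b, α, hb⟩
  have hNn : N.Normal := inferInstance
  haveI hNt := H75.normal_isPretransitive' hprim N hNn hN
  have hNcard : Nat.card N = p ^ d := by
    rw [H26.card_eq_of_regular (hNreg α), Nat.card_eq_fintype_card, hcard]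
  have hHs : ¬ Group.IsSolvable (stabilizer G α) := fun hs => hsol (by
    haveI : Group.IsSolvable N := Group.isSolvable_of_comm hNc.is_comm.comm
    haveI : Group.IsSolvable (G ⧸ N) :=
      Group.isSolvable_of_surjective (f := (QuotientGroup.mk' N).comp (stabilizer G α).subtype) (by
        intro x
        induction x using QuotientGroup.induction_on with
        | H g =>
        obtain ⟨n, hn, k, hk, rfl⟩ := exists_mul_of_sup_eq_top hNn
          (sup_stabilizer_eq_top hprim hNn hN α) g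
        refine ⟨⟨k, hk⟩, ?_⟩
        simp [(QuotientGroup.eq_one_iff n).mpr hn])
    exact Group.isSolvable_of_ker_le_range N.subtype (QuotientGroup.mk' N) (by simp))
  have hfaith : ∀ k ∈ stabilizer G α, (∀ n ∈ N, k * n * k⁻¹ = n) → k = 1 := fun k hk h =>
    eq_one_of_centralizer_of_fix hNt (fun n hn => (mul_inv_eq_iff_eq_mul.mp (h n hn)).symm) hk
  have hconj : ∀ k ∈ stabilizer G α, ∀ n : G, k • n • α = (k * n * k⁻¹) • α := fun k hk n => by
    rw [mul_smul, mul_smul, show k⁻¹ • α = α from inv_mem hk]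
  have hfixiff : ∀ k ∈ stabilizer G α, ∀ n ∈ N, k • n • α = n • α ↔ k * n * k⁻¹ = n :=
    fun k hk n hn => by
      rw [hconj k hk]
      exact ⟨eq_of_regular hNreg (hNn.conj_mem n hn k) hn, fun e => by rw [e]⟩
  have hp2 : p = 2 := by
    by_contra hp2
    obtain ⟨⟨u, hu⟩, hu1, hu2⟩ := exists_invol hHs
    have hu2' : u * u = 1 := congrArg Subtype.val hu2
    have h1 := mt (hfaith u hu) fun e => hu1 (Subtype.ext e)
    push Not at h1
    obtain ⟨n, hn, hn'⟩ := h1
    set x := n⁻¹ * (u * n * u⁻¹) with hx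
    have hxN : x ∈ N := N.mul_mem (N.inv_mem hn) (hNn.conj_mem n hn u)
    have hx1 : x ≠ 1 := fun e => hn' (inv_mul_eq_one.mp e).symm
    have hux : u * x * u⁻¹ = x⁻¹ := by
      have e1 : u * x * u⁻¹ = (u * n * u⁻¹)⁻¹ * (u * u * n * (u * u)⁻¹) := by rw [hx]; group
      rw [e1, hu2', hx]; group
    have hxx : x⁻¹ ≠ x := fun e => by
      have h2 : orderOf x = 2 := orderOf_eq_prime (by rw [sq]; nth_rewrite 1 [← e]; simp) hx1
      have h3 := orderOf_dvd_natCard N hxN
      rw [h2, hNcard] at h3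
      exact hp2 ((Nat.prime_dvd_prime_iff_eq Nat.prime_two hp).mp
        (Nat.prime_two.dvd_of_dvd_pow h3)).symm
    have hbot := inf_eq_bot_of_le hprim (hep α) (b := x • α)
      (fun e => hx1 (eq_one_of_regular hNreg hxN e)) hu
      (fun e => hxx (hux ▸ (hfixiff u hu x hxN).mp e)) (by
        rintro k ⟨h1, h2⟩
        rw [hconj u hu, hux, mem_stabilizer_iff, hfixiff k h1 _ (N.inv_mem hxN)]
        conv_rhs => rw [← (hfixiff k h1 x hxN).mp h2]
        group)
    exact hHs (Group.isSolvable_of_comm (comm_of_inf_eq_bot (hep α _) hbot).is_comm.comm)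
  refine ⟨hp2, fun _ => ?_⟩
  subst hp2
  have hNp : ∀ n ∈ N, n ^ 2 = 1 := by
    obtain ⟨L, hL, hL1, hLN, hmin⟩ := H26.exists_minNormal_le N hN
    have hNL : N ≤ L := fun n hn => by
      obtain ⟨l, hl⟩ := (H75.normal_isPretransitive' hprim L hL hL1).exists_smul_eq α (n • α)
      rw [← eq_of_regular hNreg (hLN l.2) hn hl]; exact l.2
    obtain rfl := le_antisymm hLN hNL
    obtain ⟨r, hr, hpow⟩ := H26.minNormal_elementary L hL1 hmin hNc
    obtain ⟨⟨x, hx⟩, hx1⟩ := ne_bot_iff_exists_ne_one.mp hL1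
    haveI := Fact.mk hr
    have h1 : orderOf x = r := orderOf_eq_prime (hpow x hx) fun e => hx1 (Subtype.ext e)
    have h3 := orderOf_dvd_natCard L hx
    rw [h1, hNcard] at h3
    rwa [(Nat.prime_dvd_prime_iff_eq hr Nat.prime_two).mp (hr.dvd_of_dvd_pow h3)] at hpow
  haveI : Nontrivial (stabilizer G α) := (nontrivial_iff_ne_bot _).mpr (hH α)
  obtain ⟨M, hM, hM1, -, hmin⟩ := H26.exists_minNormal_le (⊤ : Subgroup (stabilizer G α)) top_ne_bot
  have hmapn : ∀ F : Subgroup (stabilizer G α), F.Normal →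
      stabilizer G α ≤ normalizer (F.map (stabilizer G α).subtype : Set G) := by
    intro F hF k hk
    have h1 : ∀ k ∈ stabilizer G α, ∀ x ∈ F.map (stabilizer G α).subtype,
        k * x * k⁻¹ ∈ F.map (stabilizer G α).subtype := by
      rintro k hk _ ⟨x, hx, rfl⟩
      exact ⟨_, hF.conj_mem x hx ⟨k, hk⟩, rfl⟩
    exact mem_normalizer_iff.mpr fun x => ⟨h1 k hk x, fun h => by
      simpa [mul_assoc] using h1 k⁻¹ (inv_mem hk) _ h⟩
  have hMc : ¬ IsMulCommutative M := by
    intro hc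
    apply hHs
    have key : ∀ c : Ω, c ≠ α → centralizer (M : Set (stabilizer G α)) ≤ M ∧
        ∀ x ∈ M, (x : G) • c = c → x = 1 := fun c hc' => by
      haveI := faithful_orbit hprim (hep α) hc'
      haveI : Nonempty (orbit (stabilizer G α) c) := ⟨⟨c, mem_orbit_self c⟩⟩
      haveI ht := H75.normal_isPretransitive' (hep α c) M hM hM1
      exact ⟨centralizer_le_of_comm_trans hc ht, fun x hx hxc =>
        eq_one_of_regular (H26.stabilizer_eq_bot_of_comm M hc) hx (ω := ⟨c, mem_orbit_self c⟩)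
          (Subtype.ext (by rw [orbit.coe_smul]; exact hxc))⟩
    let eT := M.equivMapOfInjective _ (stabilizer G α).subtype_injective
    haveI := hNc
    haveI : IsCyclic (M.map (stabilizer G α).subtype) := Cfsg.Agent.S0041.result _ N hN
      (by rw [normalizer_eq_top]; exact le_top) (by
        rintro _ ⟨x, hx, rfl⟩ h1
        rw [eq_bot_iff]
        rintro n ⟨hn, hn'⟩
        by_contra h2
        refine h1 (congrArg Subtype.val ((key (n • α)
          fun e => h2 (eq_one_of_regular hNreg hn e)).2 x hx ?_))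
        rw [← mul_smul, ← show n * x = x * n from mem_centralizer_singleton_iff.mp hn', mul_smul,
          show (x : G) • α = α from x.2])
      (Or.inl ⟨⟨fun x y => eT.symm.injective (by rw [map_mul, map_mul, hc.is_comm.comm])⟩⟩)
    haveI : IsCyclic M := isCyclic_of_surjective eT.symm eT.symm.surjective
    haveI : Group.IsSolvable M := Group.isSolvable_of_comm hc.is_comm.comm
    haveI : Group.IsSolvable (MulAut M) := Group.isSolvable_of_comm fun x y =>
      (IsCyclic.mulAutMulEquiv M).injective (by rw [map_mul, map_mul, mul_comm])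
    refine Group.isSolvable_of_ker_le_range M.subtype (MulAut.conjNormal (H := M)) fun x hx => ?_
    rw [range_subtype]
    refine (key b hb).1 fun y hy => ?_
    have := congrArg Subtype.val (DFunLike.congr_fun (MonoidHom.mem_ker.mp hx) ⟨y, hy⟩)
    rw [MulAut.conjNormal_apply] at this
    exact (mul_inv_eq_iff_eq_mul.mp this).symm
  obtain ⟨T, hT⟩ := exists_fac hM hmin hMc
  have hE : IsMulCommutative N ∧ ∀ x : N, x ^ 2 = 1 := ⟨hNc, fun x => Subtype.ext (hNp x x.2)⟩
  let ρ : stabilizer G α →* Module.End (ZMod 2) (H46.EA 2 N hE) :=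
    ((H46.EA.rep hE).comp MulAut.conjNormal).comp (stabilizer G α).subtype
  have hρ : ∀ (k : stabilizer G α) (n : N), ρ k (H46.EA.of hE n) = H46.EA.of hE n ↔
      (k : G) • (n : G) • α = (n : G) • α := fun k n => by
    rw [hfixiff k k.2 n n.2]
    exact ⟨fun e => congrArg Subtype.val ((H46.EA.of hE).injective e),
      fun e => congrArg (H46.EA.of hE) (Subtype.ext e)⟩
  haveI : Nontrivial N := (nontrivial_iff_ne_bot N).mpr hN
  haveI : Nontrivial (H46.EA 2 N hE) := (H46.EA.of hE).symm.nontrivial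
  have hTM : T = M := by
    refine mod_main (ρ := ρ) ((injective_iff_map_eq_one ρ).mpr fun k hk => ?_) (fun W hW => ?_)
      (fun v hv => ?_) hT
    · refine Subtype.ext (hfaith k k.2 fun n hn => (hfixiff k k.2 n hn).mp ((hρ k ⟨n, hn⟩).mp ?_))
      rw [hk]; rfl
    · rcases (Cfsg.Agent.S3495.result hprim hH hep N hNc 2 hp hNp hNt hNreg α
        (M.map (stabilizer G α).subtype)
        (fun e => hM1 ((map_eq_bot_iff_of_injective M (stabilizer G α).subtype_injective).mp e))
        (map_subtype_le M) (hmapn M hM)).2 (((H46.EA.subgroupEquiv hE).symm W).map N.subtype)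
        (map_subtype_le _) (by
          rintro _ ⟨m, hm, rfl⟩
          apply mem_normalizer_fintype
          rintro _ ⟨n, hn, rfl⟩
          exact ⟨MulAut.conjNormal (m : G) n, hW m hm _ hn, rfl⟩) with h1 | h1
      · left
        rw [map_eq_bot_iff_of_injective _ N.subtype_injective] at h1
        rw [← (H46.EA.subgroupEquiv hE).apply_symm_apply W, h1, OrderIso.map_bot]
      · right
        rw [eq_top_iff]
        intro v _
        have : (((H46.EA.of hE).symm v : N) : G) ∈
            ((H46.EA.subgroupEquiv hE).symm W).map N.subtype := h1.symm ▸ ((H46.EA.of hE).symm v).2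
        obtain ⟨n, hn, e⟩ := this
        have e' : n = (H46.EA.of hE).symm v := Subtype.ext e
        rw [e'] at hn
        exact hn
    · obtain ⟨n, rfl⟩ := (H46.EA.of hE).surjective v
      have hc : (n : G) • α ≠ α := fun e =>
        hv ((H46.EA.of_eq_zero hE).mpr (Subtype.ext (eq_one_of_regular hNreg n.2 e)))
      refine ⟨fun e => manning hprim (hep α) (hH α) le_rfl
        (fun k hk x hx => mul_mem (mul_mem hk hx) (inv_mem hk)) hc fun k hk =>
          (hρ ⟨k, hk⟩ n).mp (show (⟨k, hk⟩ : stabilizer G α) ∈ st ρ _ from e ▸ mem_top _),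
        fun K hK => ?_⟩
      rcases le_of_extreme (hep α ((n : G) • α)) (K := K.map (stabilizer G α).subtype)
        (fun k hk => ⟨⟨k, hk.1⟩, hK.le ((hρ ⟨k, hk.1⟩ n).mpr hk.2), rfl⟩) (map_subtype_le K) with e | e
      · exact absurd (fun k hk => (hρ k n).mpr (e ⟨k, hk, rfl⟩)) hK.not_ge
      · rw [eq_top_iff]
        intro k _
        obtain ⟨k', hk', e'⟩ : (k : G) ∈ K.map (stabilizer G α).subtype := e.symm ▸ k.2
        rwa [← Subtype.ext e']
  subst hTM
  refine ⟨T, hM, hT.isSimpleGroup, hMc, ?_⟩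
  by_contra hC
  obtain ⟨s, hs, hs1, hs2⟩ := exists_invol_fac hT
  obtain ⟨v, hv, hv'⟩ := exists_fix (ρ := ρ) hs2
  obtain ⟨n, rfl⟩ := (H46.EA.of hE).surjective v
  have hc : (n : G) • α ≠ α := fun e =>
    hv ((H46.EA.of_eq_zero hE).mpr (Subtype.ext (eq_one_of_regular hNreg n.2 e)))
  haveI := faithful_orbit hprim (hep α) hc
  exact hs1 (semiregular_of_centralizer_ne_bot (hep α ((n : G) • α)) hM hC hs
    (a := ⟨_, mem_orbit_self _⟩) (Subtype.ext ((hρ s n).mp hv')))

end Cfsg.Agent.S3521
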