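import Cfsg.Statements.S3532
import Mathlib
import Cfsg.Agent.Lib.Small36.FrobMin
import Cfsg.Agent.Lib.Spec.Alt56
import Cfsg.Agent.S2475

set_option autoImplicit false
open Cfsg

namespace Cfsg.Agent.S3532

/-- Let q ≥ 4 be a prime power and L = PSL(2,q). There is a finite solvable group with the same set of element orders as L × L (so L × L is not determined by its spectrum). -/
theorem result {F : Type*} [Field F] [Fintype F] (hF : 4 ≤ Fintype.card F) :
    ∃ (H : Type) (_ : Group H) (_ : Finite H), Group.IsSolvable H ∧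
      Set.range (orderOf : H → ℕ) = Set.range (orderOf : Matrix.ProjectiveSpecialLinearGroup (Fin 2) F × Matrix.ProjectiveSpecialLinearGroup (Fin 2) F → ℕ) := by
  obtain ⟨p, hc⟩ := CharP.exists F
  obtain ⟨n, hp, hq⟩ := FiniteField.card F p
  have := Fact.mk hp
  have hd : p ∣ Fintype.card F := hq ▸ dvd_pow_self p n.2.ne'
  have hS := Cfsg.Agent.S2475.result (F := F) p hF
  set q := Fintype.card F
  set d := Nat.gcd 2 (q - 1)
  have d1 : d ∣ q - 1 := Nat.gcd_dvd_right _ _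
  have d2 : d ∣ q + 1 := by
    rw [show q + 1 = q - 1 + 2 by omega]
    exact dvd_add d1 (Nat.gcd_dvd_left _ _)
  have d0 : 0 < d := Nat.gcd_pos_of_pos_left _ two_pos
  obtain ⟨A, _, _, hA⟩ := H36.exists_frobMin (m := (q - 1) / d) hp
    (Nat.div_pos (Nat.le_of_dvd (by omega) d1) d0).ne' fun h => by
      have := (Nat.dvd_sub_iff_right (by omega) hd).1 (h.trans (Nat.div_dvd_of_dvd d1))
      exact hp.one_lt.ne' (Nat.dvd_one.1 this)
  obtain ⟨B, _, _, hB⟩ := H36.exists_frobMin (m := (q + 1) / d) hp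
    (Nat.div_pos (Nat.le_of_dvd (by omega) d2) d0).ne' fun h => by
      have := (Nat.dvd_add_right hd).1 (h.trans (Nat.div_dvd_of_dvd d2))
      exact hp.one_lt.ne' (Nat.dvd_one.1 this)
  have := hA.solv
  have := hB.solv
  refine ⟨A × B, inferInstance, inferInstance, inferInstance, ?_⟩
  ext m
  rw [H74.Spec.mem_range_orderOf_prod, H74.Spec.mem_range_orderOf_prod, hS, hA.spec, hB.spec]
  simp only [Set.mem_ofPred_eq]
  constructor
  · rintro ⟨a, ha, b, hb, e⟩
    exact ⟨a, by tauto, b, by tauto, e⟩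
  · rintro ⟨a, ha | ha | ha, b, hb | hb | hb, rfl⟩
    · exact ⟨a, Or.inl ha, b, Or.inl hb, rfl⟩
    · exact ⟨b, Or.inr hb, a, Or.inl ha, Nat.lcm_comm _ _⟩
    · exact ⟨a, Or.inl ha, b, Or.inr hb, rfl⟩
    · exact ⟨a, Or.inr ha, b, Or.inl hb, rfl⟩
    · exact ⟨_, Or.inr (Nat.lcm_dvd ha hb), 1, Or.inl (one_dvd _), Nat.lcm_one_right _⟩
    · exact ⟨a, Or.inr ha, b, Or.inr hb, rfl⟩
    · exact ⟨b, Or.inl hb, a, Or.inr ha, Nat.lcm_comm _ _⟩
    · exact ⟨b, Or.inr hb, a, Or.inr ha, Nat.lcm_comm _ _⟩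
    · exact ⟨1, Or.inl (one_dvd _), _, Or.inr (Nat.lcm_dvd ha hb), Nat.lcm_one_left _⟩

end Cfsg.Agent.S3532
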