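import Mathlib
import Cfsg.Statements.S3549
import Cfsg.Agent.Lib.Perm75.Derange

set_option autoImplicit false
open Cfsg

namespace Cfsg.Agent.S3549
open MulAction H75

/-- Let G act faithfully, transitively but imprimitively on a finite set with n points, and let D be the subgroup generated by the derangements. Then the index of D in G is at most √n − 1. -/
theorem result {G Ω : Type*} [Group G] [Finite G] [MulAction G Ω] [FaithfulSMul G Ω] [Finite Ω]
    (htrans : MulAction.IsPretransitive G Ω) (himp : ¬ MulAction.IsPreprimitive G Ω) :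
    ((Subgroup.closure {g : G | ∀ ω : Ω, g • ω ≠ ω}).index : ℝ) ≤ Real.sqrt (Nat.card Ω) - 1 := by
  classical
  have : ∃ B : Set Ω, IsBlock G B ∧ ¬ IsTrivialBlock B := by
    by_contra h
    push Not at h
    exact himp { isTrivialBlock_of_isBlock := fun {B} hB => h B hB }
  obtain ⟨B, hB, hBt⟩ := this
  simp only [IsTrivialBlock, not_or] at hBt
  obtain ⟨hB1, hB2⟩ := hBt
  rw [Set.not_subsingleton_iff] at hB1
  obtain ⟨a, ha⟩ := hB1.nonempty
  set d := (derSub G Ω).index with hd
  have hc : ({a}ᶜ : Set Ω).ncard = Nat.card Ω - 1 := by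
    rw [Set.ncard_compl, Set.ncard_singleton]
  have hdvd : d ∣ Nat.card Ω - 1 := by
    rw [← hc]
    refine derSub_index_dvd_ncard htrans a _ (by simp) ?_
    intro g hg x hx h
    apply hx
    rw [Set.mem_singleton_iff] at h ⊢
    rw [← hg] at h
    exact smul_left_cancel g h
  have hdvd2 : d ∣ B.ncard - 1 := by
    rw [← Set.ncard_diff_singleton_of_mem ha]
    refine derSub_index_dvd_ncard htrans a _ (by simp) ?_
    intro g hg x hx
    refine ⟨?_, fun h => hx.2 ?_⟩
    · have := hB.smul_eq_of_mem ha (g := g) (by rw [hg]; exact ha)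
      rw [← this]
      exact Set.smul_mem_smul_set hx.1
    · rw [Set.mem_singleton_iff] at h ⊢
      rw [← hg] at h
      exact smul_left_cancel g h
  obtain ⟨k, hk⟩ := hB.ncard_dvd_card ⟨a, ha⟩
  have hb2 : 2 ≤ B.ncard := (Set.one_lt_ncard_iff_nontrivial (s := B)).mpr hB1
  haveI : Nonempty Ω := ⟨a⟩
  have hn : 0 < Nat.card Ω := Nat.card_pos
  have hk2 : 2 ≤ k := by
    rcases k with _ | _ | k
    · omega
    · exfalso
      apply hB2
      rw [Set.eq_univ_iff_ncard, hk]; simp
    · omega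
  obtain ⟨b, hb⟩ : ∃ b, B.ncard = b + 1 := ⟨B.ncard - 1, by omega⟩
  obtain ⟨j, hj⟩ : ∃ j, k = j + 1 := ⟨k - 1, by omega⟩
  rw [hb] at hdvd2 hk hb2
  rw [hj] at hk hk2
  simp only [Nat.add_sub_cancel] at hdvd2
  have e : Nat.card Ω - 1 = b * (j + 1) + j := by rw [hk]; ring_nf; omega
  rw [e] at hdvd
  have hdj : d ∣ j := (Nat.dvd_add_right (Dvd.dvd.mul_right hdvd2 _)).mp hdvd
  have l1 : d ≤ b := Nat.le_of_dvd (by omega) hdvd2
  have l2 : d ≤ j := Nat.le_of_dvd (by omega) hdj
  have l3 : (d + 1) ^ 2 ≤ Nat.card Ω := by rw [hk]; nlinarith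
  have l4 : ((d : ℝ) + 1) ≤ Real.sqrt (Nat.card Ω) := by
    apply Real.le_sqrt_of_sq_le
    exact_mod_cast l3
  linarith

end Cfsg.Agent.S3549
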