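import Mathlib
import Cfsg.Statements.S3554

set_option autoImplicit false
open Cfsg

namespace Cfsg.Agent.S3554
open MulAction

/-- Let G act faithfully and transitively on a finite set and suppose G has a non-trivial cyclic normal subgroup. Then some element of G of prime order fixes no point. -/
theorem result {G Ω : Type*} [Group G] [Finite G] [MulAction G Ω] [FaithfulSMul G Ω] [Finite Ω]
    (htrans : MulAction.IsPretransitive G Ω) (C : Subgroup G) (hC : C.Normal) (hC1 : C ≠ ⊥) (hcyc : IsCyclic ↥C) :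
    ∃ g : G, (orderOf g).Prime ∧ ∀ ω : Ω, g • ω ≠ ω := by
  classical
  haveI : Nontrivial C := (Subgroup.nontrivial_iff_ne_bot C).mpr hC1
  obtain ⟨p, hp, hpd⟩ := Nat.exists_prime_and_dvd (n := Nat.card C) (Finite.one_lt_card.ne')
  haveI := Fact.mk hp
  obtain ⟨x, hx⟩ := exists_prime_orderOf_dvd_card' p hpd
  have hxo : orderOf (x : G) = p := by rw [Subgroup.orderOf_coe, hx]
  refine ⟨x, hxo ▸ hp, fun ω hω => ?_⟩
  -- every conjugate of `x` is a power of `x`
  have key : ∀ g : G, g * x * g⁻¹ ∈ Subgroup.zpowers (x : G) := by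
    intro g
    let y : C := ⟨g * x * g⁻¹, hC.conj_mem _ x.2 g⟩
    have hy : orderOf y = p := by
      rw [← Subgroup.orderOf_coe, ← hxo]
      exact (SemiconjBy.orderOf_eq g (by simp [SemiconjBy, y])).symm
    haveI := Fintype.ofFinite C
    have hle : (Finset.univ.filter fun a : C => a ^ p = 1).card ≤ p := IsCyclic.card_pow_eq_one_le hp.pos
    have hsub : (Subgroup.zpowers x : Set C).toFinset ⊆ Finset.univ.filter fun a : C => a ^ p = 1 := by
      intro a ha
      simp only [Set.mem_toFinset, SetLike.mem_coe] at ha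
      obtain ⟨k, rfl⟩ := ha
      simp only [Finset.mem_filter, Finset.mem_univ, true_and]
      rw [← zpow_natCast, ← zpow_mul, mul_comm, zpow_mul, zpow_natCast, ← hx, pow_orderOf_eq_one, one_zpow]
    have hc : (Subgroup.zpowers x : Set C).toFinset.card = p := by
      rw [Set.toFinset_card, ← hx, ← Fintype.card_zpowers]; rfl
    have heq := Finset.eq_of_subset_of_card_le hsub (by rw [hc]; exact hle)
    have : y ∈ (Subgroup.zpowers x : Set C).toFinset := by
      rw [heq]; simp [← hy]
    simp only [Set.mem_toFinset, SetLike.mem_coe] at this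
    obtain ⟨k, hk⟩ := this
    exact ⟨k, by simpa [y] using congrArg Subtype.val hk⟩
  have : (x : G) = 1 := by
    apply FaithfulSMul.eq_of_smul_eq_smul (α := Ω)
    intro b
    obtain ⟨g, rfl⟩ := htrans.exists_smul_eq ω b
    have h1 : g⁻¹ * x * g⁻¹⁻¹ ∈ stabilizer G ω :=
      (Subgroup.zpowers_le.mpr (show (x : G) ∈ stabilizer G ω from hω)) (key g⁻¹)
    rw [mem_stabilizer_iff, inv_inv, mul_smul, mul_smul, inv_smul_eq_iff] at h1
    rw [h1, one_smul]
  rw [this, orderOf_one] at hxo
  exact hp.one_lt.ne hxo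

end Cfsg.Agent.S3554
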