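import Mathlib
import Cfsg.Statements.S3555
import Cfsg.Agent.Lib.Perm75.Prim
import Cfsg.Agent.Lib.Perm75.Derange

set_option autoImplicit false
open Cfsg

namespace Cfsg.Agent.S3555
open MulAction H75

theorem sum_fix_sq_le {G Ω : Type*} [Group G] [Fintype G] [MulAction G Ω] [Finite Ω] :
    ∑ g : G, Nat.card (fixedBy Ω (g ^ 2)) ≤ ∑ g : G, Nat.card (fixedBy Ω g) * Nat.card (fixedBy Ω g) := by
  classical
  haveI := Fintype.ofFinite Ω
  have e1 : ∀ g : G, Nat.card (fixedBy Ω (g ^ 2)) =
      ∑ p : Ω × Ω, if g • p.1 = p.2 ∧ g • p.2 = p.1 then 1 else 0 := by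
    intro g
    rw [Finset.sum_boole, Nat.cast_id, ← Fintype.card_subtype, ← Nat.card_eq_fintype_card]
    refine Nat.card_congr ⟨fun x => ⟨(x.1, g • x.1), rfl, ?_⟩, fun p => ⟨p.1.1, ?_⟩, fun x => rfl, fun p => ?_⟩
    · obtain ⟨x, hx⟩ := x
      rw [mem_fixedBy, pow_two, mul_smul] at hx
      exact hx
    · rw [mem_fixedBy, pow_two, mul_smul, p.2.1, p.2.2]
    · exact Subtype.ext (Prod.ext rfl p.2.1)
  have e2 : ∀ g : G, Nat.card (fixedBy Ω g) * Nat.card (fixedBy Ω g) =
      ∑ p : Ω × Ω, if g • p.1 = p.1 ∧ g • p.2 = p.2 then 1 else 0 := by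
    intro g
    rw [← card_fixedBy_prod, Finset.sum_boole, Nat.cast_id, ← Fintype.card_subtype, ← Nat.card_eq_fintype_card]
    refine Nat.card_congr (Equiv.subtypeEquivRight fun p => ?_)
    rw [mem_fixedBy, Prod.ext_iff]; rfl
  simp only [e1, e2]
  rw [Finset.sum_comm, Finset.sum_comm (f := fun (g : G) (p : Ω × Ω) => if g • p.1 = p.1 ∧ g • p.2 = p.2 then 1 else 0)]
  refine Finset.sum_le_sum fun p _ => ?_
  rw [Finset.sum_boole, Finset.sum_boole, Nat.cast_id, Nat.cast_id]
  rcases (Finset.univ.filter fun g : G => g • p.1 = p.2 ∧ g • p.2 = p.1).eq_empty_or_nonempty with h | ⟨g, hg⟩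
  · rw [h]; simp
  simp only [Finset.mem_filter, Finset.mem_univ, true_and] at hg
  refine Finset.card_le_card_of_injOn (fun k => g * k) (fun k hk => ?_) (fun k _ l _ h => mul_left_cancel h)
  simp only [Finset.coe_filter, Finset.mem_univ, true_and, Set.mem_setOf_eq] at hk ⊢
  rw [mul_smul, mul_smul, hk.1, hk.2, hg.1, hg.2]
  exact ⟨rfl, rfl⟩

theorem key {G Ω : Type*} [Group G] [Finite G] [MulAction G Ω] [FaithfulSMul G Ω] [Finite Ω] [Nonempty Ω]
    (htrans : MulAction.IsPretransitive G Ω) (hinv : ∀ g : G, (∀ ω : Ω, g • ω ≠ ω) → orderOf g = 2)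
    (g : G) (hg : g ≠ 1) : Nat.card (fixedBy Ω g) ≤ 1 := by
  classical
  haveI := Fintype.ofFinite G
  set n := Nat.card Ω with hn
  let π : G → ℤ := fun g => Nat.card (fixedBy Ω g)
  let ψ : G → ℤ := fun g => Nat.card (fixedBy Ω (g ^ 2))
  have hsub : ∀ g : G, fixedBy Ω g ⊆ fixedBy Ω (g ^ 2) := by
    intro g x hx
    rw [mem_fixedBy] at hx ⊢
    rw [pow_two, mul_smul, hx, hx]
  have h1 : ∀ g, π g ≤ ψ g := fun g => by
    simp only [π, ψ, Nat.cast_le]
    exact Nat.card_mono (Set.toFinite _) (hsub g)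
  have h2 : ∀ g, ψ g ≤ n := fun g => by
    simp only [ψ, Nat.cast_le]
    exact Nat.card_le_card_of_injective _ Subtype.val_injective
  have h0 : ∀ g, 0 ≤ π g := fun g => Nat.cast_nonneg _
  have h3 : ∀ g, 0 ≤ (π g - 1) * (n - ψ g) := by
    intro g
    by_cases hd : ∀ ω : Ω, g • ω ≠ ω
    · have : g ^ 2 = 1 := by rw [← hinv g hd, pow_orderOf_eq_one]
      have : ψ g = n := by
        simp only [ψ, this, fixedBy_one_eq_univ, Nat.card_univ]; rfl
      rw [this]; simp
    · push Not at hd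
      obtain ⟨x, hx⟩ := hd
      haveI : Nonempty (fixedBy Ω g) := ⟨⟨x, hx⟩⟩
      have : 1 ≤ π g := by
        simp only [π]; exact_mod_cast Nat.card_pos
      exact mul_nonneg (by linarith) (by linarith [h2 g])
  have s1 : ∑ g, π g = Nat.card G := by
    have := sum_card_fixedBy G Ω
    rw [card_orbits_eq_one htrans, one_mul] at this
    simp only [π]; exact_mod_cast this
  have s2 : ∑ g, ψ g ≤ ∑ g, π g * π g := by
    simp only [π, ψ]; exact_mod_cast sum_fix_sq_le (G := G) (Ω := Ω)
  have s3 : ∑ g, ((π g - 1) * (n - ψ g) + π g * (ψ g - π g)) ≤ 0 := by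
    have : ∀ g, (π g - 1) * (n - ψ g) + π g * (ψ g - π g) = n * π g - n + ψ g - π g * π g := fun g => by ring
    simp only [this, Finset.sum_sub_distrib, Finset.sum_add_distrib, ← Finset.mul_sum, s1,
      Finset.sum_const, Finset.card_univ, Nat.card_eq_fintype_card, nsmul_eq_mul]
    linarith
  have h4 : ∀ g, 0 ≤ π g * (ψ g - π g) := fun g => mul_nonneg (h0 g) (by linarith [h1 g])
  have s4 := (Finset.sum_eq_zero_iff_of_nonneg (s := Finset.univ)
    (f := fun g => (π g - 1) * (n - ψ g) + π g * (ψ g - π g)) (fun g _ => add_nonneg (h3 g) (h4 g))).mp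
    (le_antisymm s3 (Finset.sum_nonneg fun g _ => add_nonneg (h3 g) (h4 g))) g (Finset.mem_univ g)
  by_contra hlt
  have hπ : 2 ≤ π g := by simp only [π]; exact_mod_cast (by omega : 2 ≤ Nat.card (fixedBy Ω g))
  have a1 : (π g - 1) * (n - ψ g) = 0 := by linarith [h3 g, h4 g]
  have a2 : π g * (ψ g - π g) = 0 := by linarith [h3 g, h4 g]
  have b1 : n - ψ g = 0 := (mul_eq_zero.mp a1).resolve_left (by linarith)
  have b2 : ψ g - π g = 0 := (mul_eq_zero.mp a2).resolve_left (by linarith)
  have b3 : π g = n := by linarith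
  simp only [π, Nat.cast_inj] at b3
  have : fixedBy Ω g = Set.univ := (Set.eq_univ_iff_ncard _).mpr b3
  apply hg
  apply FaithfulSMul.eq_of_smul_eq_smul (α := Ω)
  intro x
  rw [one_smul]
  exact (this ▸ Set.mem_univ x : x ∈ fixedBy Ω g)


/-- Let G act faithfully and transitively on a finite set and suppose every element of G fixing no point is an involution. Then either G is an elementary abelian 2-group, or G is a Frobenius group whose Frobenius kernel is an elementary abelian 2-group: G has a Frobenius complement H, and the elements lying in no conjugate of H, together with the identity, pairwise commute and square to the identity. -/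
theorem result {G Ω : Type*} [Group G] [Finite G] [MulAction G Ω] [FaithfulSMul G Ω] [Finite Ω]
    (htrans : MulAction.IsPretransitive G Ω) (hinv : ∀ g : G, (∀ ω : Ω, g • ω ≠ ω) → orderOf g = 2) :
    (IsMulCommutative G ∧ ∀ g : G, g ^ 2 = 1) ∨
    (∃ H : Subgroup G, Cfsg.IsFrobeniusComplement H ∧
      (∀ x ∈ Cfsg.frobeniusKernel H, x ^ 2 = 1) ∧
      ∀ x ∈ Cfsg.frobeniusKernel H, ∀ y ∈ Cfsg.frobeniusKernel H, x * y = y * x) := by
  classical
  rcases isEmpty_or_nonempty Ω with hΩ | hΩ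
  · have := hinv 1 (fun ω => (IsEmpty.false ω).elim)
    simp at this
  have hk := key htrans hinv
  have two : ∀ g : G, ∀ x y : Ω, g • x = x → g • y = y → x ≠ y → g = 1 := by
    intro g x y hx hy hxy
    by_contra hg
    have := Finite.card_le_one_iff_subsingleton.mp (hk g hg)
    exact hxy (congrArg Subtype.val (this.elim (⟨x, hx⟩ : fixedBy Ω g) ⟨y, hy⟩))
  have sq : ∀ g : G, (∀ ω : Ω, g • ω ≠ ω) → g * g = 1 := fun g hg => by
    rw [← pow_two, ← hinv g hg, pow_orderOf_eq_one]
  have comm : ∀ x y : G, x * x = 1 → y * y = 1 → (x * y) * (x * y) = 1 → x * y = y * x := by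
    intro x y hx hy hxy
    have hxi : x⁻¹ = x := inv_eq_of_mul_eq_one_right hx
    have hyi : y⁻¹ = y := inv_eq_of_mul_eq_one_right hy
    rw [← inv_eq_of_mul_eq_one_right hxy, mul_inv_rev, hxi, hyi]
  obtain ⟨a⟩ := hΩ
  by_cases hbot : stabilizer G a = ⊥
  · left
    have hall : ∀ g : G, g * g = 1 := by
      intro g
      by_cases hg : g = 1
      · simp [hg]
      apply sq
      intro ω hω
      have h1 := card_stabilizer_eq htrans ω a
      rw [hbot, Subgroup.card_bot, Subgroup.card_eq_one] at h1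
      have : g ∈ stabilizer G ω := hω
      rw [h1] at this
      exact hg this
    exact ⟨⟨⟨fun x y => comm x y (hall x) (hall y) (hall _)⟩⟩, fun g => by rw [pow_two, hall]⟩
  right
  have hker : ∀ x : G, x ∈ Cfsg.frobeniusKernel (stabilizer G a) ↔ (x = 1 ∨ ∀ ω : Ω, x • ω ≠ ω) := by
    intro x
    simp only [Cfsg.frobeniusKernel, Set.mem_setOf_eq]
    refine or_congr Iff.rfl ⟨fun h ω hω => ?_, fun h g hg => ?_⟩
    · obtain ⟨g, rfl⟩ := htrans.exists_smul_eq a ω
      apply h g
      rw [Subgroup.mem_pointwise_smul_iff_inv_smul_mem]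
      have := stabilizer_smul_mem.mp (show x ∈ stabilizer G (g • a) from hω)
      simpa using this
    · rw [Subgroup.mem_pointwise_smul_iff_inv_smul_mem] at hg
      apply h (g • a)
      apply stabilizer_smul_mem.mpr
      simpa using hg
  have hsq : ∀ x ∈ Cfsg.frobeniusKernel (stabilizer G a), x * x = 1 := by
    intro x hx
    rcases (hker x).mp hx with rfl | h
    · simp
    · exact sq x h
  refine ⟨stabilizer G a, ⟨hbot, fun h => hbot ?_, fun g hg => ?_⟩, fun x hx => by rw [pow_two, hsq x hx], ?_⟩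
  · exact eq_bot_of_normal_le_stabilizer htrans _ (by rw [h]; infer_instance) a le_rfl
  · rw [eq_bot_iff]
    intro x hx
    obtain ⟨h1, h2⟩ := Subgroup.mem_inf.mp hx
    rw [Subgroup.mem_pointwise_smul_iff_inv_smul_mem] at h2
    have h3 : x ∈ stabilizer G (g • a) := stabilizer_smul_mem.mpr (by simpa using h2)
    exact two x a (g • a) h1 h3 (fun e => hg e.symm)
  · intro x hx y hy
    have hx2 := hsq x hx
    have hy2 := hsq y hy
    rcases (hker x).mp hx with rfl | hxd
    · simp
    apply comm x y hx2 hy2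
    by_cases hd : ∀ ω : Ω, (x * y) • ω ≠ ω
    · exact sq _ hd
    push Not at hd
    obtain ⟨ω, hω⟩ := hd
    have hxi : x⁻¹ = x := inv_eq_of_mul_eq_one_right hx2
    have hyi : y⁻¹ = y := inv_eq_of_mul_eq_one_right hy2
    have h1 : (x * y) • (x • ω) = x • ω := by
      have : (x * y)⁻¹ • ω = ω := by rw [inv_smul_eq_iff, hω]
      rw [mul_inv_rev, hxi, hyi] at this
      rw [← mul_smul, mul_assoc, mul_smul, this]
    rw [two _ _ _ hω h1 (hxd ω).symm, one_mul]

end Cfsg.Agent.S3555
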