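import Cfsg.Statements.S3556
import Mathlib
import Cfsg.Agent.Lib.ONS.Prim
import Cfsg.Agent.Lib.Perm.MinNormal


set_option autoImplicit false
open Cfsg

namespace Cfsg.Agent.S3556

/-- Let G act faithfully and primitively on a finite set with at least two points, and suppose that for some fixed prime p every element of G fixing no point has order a power of p. Then G is of affine type (it has a regular normal subgroup that is an elementary abelian r-group for some prime r) or almost simple (it has a non-abelian simple normal subgroup with trivial centralizer). -/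
theorem result {G Ω : Type*} [Group G] [Finite G] [MulAction G Ω] [FaithfulSMul G Ω] [Finite Ω]
    (hprim : MulAction.IsPreprimitive G Ω) (hΩ : 2 ≤ Nat.card Ω) (p : ℕ) (hp : p.Prime)
    (hder : ∀ g : G, (∀ ω : Ω, g • ω ≠ ω) → ∃ k : ℕ, orderOf g = p ^ k) :
    (∃ (N : Subgroup G) (r : ℕ), r.Prime ∧ N.Normal ∧ Cfsg.IsElementaryAbelian r N ∧
      MulAction.IsPretransitive N Ω ∧ ∀ a : Ω, MulAction.stabilizer N a = ⊥) ∨
    (∃ T : Subgroup G, T.Normal ∧ IsSimpleGroup ↥T ∧ ¬ IsMulCommutative ↥T ∧
      Subgroup.centralizer (T : Set G) = ⊥) := by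
-----
  haveI : Nontrivial Ω := Finite.one_lt_card_iff_nontrivial.mp hΩ
  rcases H74.ONS.trichotomy hprim with ⟨N, hN, hne, hc, hmin, ht, hreg⟩ | h | ⟨N, T, hT, hor⟩
  · obtain ⟨r, hr, hpow⟩ := H26.minNormal_elementary N hne hmin hc
    exact Or.inl ⟨N, r, hr, hN, ⟨hc, hpow⟩, ht, hreg⟩
  · exact Or.inr h
  · obtain ⟨g, q, hq, hqp, hd, hg⟩ := hT.exists_derangement_prime_dvd hprim hor p
    obtain ⟨k, hk⟩ := hder g hg
    rw [hk] at hd
    exact absurd ((Nat.prime_dvd_prime_iff_eq hq hp).mp (hq.dvd_of_dvd_pow hd)) hqp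

end Cfsg.Agent.S3556
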