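import Cfsg.Statements.S5726
import Mathlib


set_option autoImplicit false
open Cfsg

namespace Cfsg.Agent.S5726

/-- every orbit of a Sylow `p`-subgroup has size divisible by the `p`-part of the degree -/
theorem pow_dvd_index_stabilizer {G Ω : Type*} [Group G] [Finite G] [MulAction G Ω] [Fintype Ω]
    (htr : MulAction.IsPretransitive G Ω) (p k : ℕ) [hp : Fact p.Prime] (hΩ : p ^ k ∣ Fintype.card Ω)
    (P : Sylow p G) (ω : Ω) : p ^ k ∣ (MulAction.stabilizer (P : Subgroup G) ω).index := by
  have h1 : (MulAction.stabilizer G ω).index = Fintype.card Ω := by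
    rw [MulAction.index_stabilizer_of_transitive, Nat.card_eq_fintype_card]
  have h2 : MulAction.stabilizer (P : Subgroup G) ω = (MulAction.stabilizer G ω).subgroupOf P := by
    ext x; simp [MulAction.mem_stabilizer_iff, Subgroup.mem_subgroupOf, Subgroup.smul_def]
  have h3 : (MulAction.stabilizer G ω ⊓ P).index =
      ((MulAction.stabilizer G ω).subgroupOf P).index * (P : Subgroup G).index := by
    rw [← Subgroup.relIndex_mul_index (inf_le_right : MulAction.stabilizer G ω ⊓ P ≤ P),
      Subgroup.inf_relIndex_right]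
    rfl
  have h4 : p ^ k ∣ (MulAction.stabilizer G ω ⊓ P).index :=
    (h1 ▸ hΩ).trans (Subgroup.index_dvd_of_le inf_le_left)
  rw [h3] at h4
  rw [h2]
  have h5 : (p ^ k).Coprime (P : Subgroup G).index :=
    Nat.Coprime.pow_left _ ((Nat.Prime.coprime_iff_not_dvd hp.out).2 P.not_dvd_index)
  exact h5.dvd_of_dvd_mul_right h4


/-- If a finite group acts faithfully and transitively on a set with p^k elements, p a prime and k ≥ 1, then some element of order p fixes no point. -/
theorem result {G Ω : Type*} [Group G] [Finite G] [MulAction G Ω] [FaithfulSMul G Ω] [Fintype Ω] (htr : MulAction.IsPretransitive G Ω)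
    (p k : ℕ) (hp : p.Prime) (hk : 1 ≤ k) (hΩ : Fintype.card Ω = p ^ k) :
    ∃ g : G, orderOf g = p ∧ ∀ ω : Ω, g • ω ≠ ω := by
  haveI : Fact p.Prime := ⟨hp⟩
  obtain ⟨P⟩ : Nonempty (Sylow p G) := inferInstance
  have hpos : 0 < Fintype.card Ω := by rw [hΩ]; exact pow_pos hp.pos _
  obtain ⟨ω₀⟩ : Nonempty Ω := Fintype.card_pos_iff.1 hpos
  have hidx : ∀ ω : Ω, MulAction.orbit (P : Subgroup G) ω = Set.univ := by
    intro ω
    have h := pow_dvd_index_stabilizer htr p k (by rw [hΩ]) P ω
    rw [MulAction.index_stabilizer] at h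
    apply Set.eq_of_subset_of_ncard_le (Set.subset_univ _)
    rw [Set.ncard_univ, Nat.card_eq_fintype_card, hΩ]
    exact Nat.le_of_dvd ((Set.ncard_pos (Set.toFinite _)).2 ⟨ω, MulAction.mem_orbit_self ω⟩) h
  have hnt : Nontrivial (P : Subgroup G) := by
    by_contra hn
    rw [not_nontrivial_iff_subsingleton] at hn
    have h := pow_dvd_index_stabilizer htr p k (by rw [hΩ]) P ω₀
    have h1 : (MulAction.stabilizer (P : Subgroup G) ω₀).index ∣ 1 := by
      have := (MulAction.stabilizer (P : Subgroup G) ω₀).index_dvd_card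
      rwa [Nat.card_of_subsingleton (1 : (P : Subgroup G))] at this
    have h2 := Nat.eq_one_of_dvd_one (h.trans h1)
    have := Nat.one_lt_pow (by omega : k ≠ 0) hp.one_lt
    omega
  have hc : Nontrivial (Subgroup.center (P : Subgroup G)) := P.isPGroup'.center_nontrivial
  have hcp : IsPGroup p (Subgroup.center (P : Subgroup G)) := P.isPGroup'.to_subgroup _
  obtain ⟨n, hn0, hn⟩ := hcp.nontrivial_iff_card.1 hc
  have hdvd : p ∣ Nat.card (Subgroup.center (P : Subgroup G)) := by
    rw [hn]; exact dvd_pow_self p hn0.ne'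
  obtain ⟨z, hz⟩ := exists_prime_orderOf_dvd_card' p hdvd
  refine ⟨((z : (P : Subgroup G)) : G), ?_, ?_⟩
  · rw [Subgroup.orderOf_coe, Subgroup.orderOf_coe, hz]
  · intro ω hω
    have hall : ∀ x : Ω, ((z : (P : Subgroup G)) : G) • x = (1 : G) • x := by
      intro x
      have hx : x ∈ MulAction.orbit (P : Subgroup G) ω := by rw [hidx]; trivial
      obtain ⟨y, rfl⟩ := hx
      have hcomm := Subgroup.mem_center_iff.1 z.2 y
      have hcomm' : (y : G) * ((z : (P : Subgroup G)) : G) = ((z : (P : Subgroup G)) : G) * y := by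
        exact_mod_cast congrArg Subtype.val hcomm
      simp only [one_smul, Subgroup.smul_def]
      rw [← mul_smul, ← hcomm', mul_smul, hω]
    have h1 : ((z : (P : Subgroup G)) : G) = 1 := FaithfulSMul.eq_of_smul_eq_smul hall
    have h2 : z = 1 := by
      ext; simpa using h1
    rw [h2, orderOf_one] at hz
    exact hp.one_lt.ne hz

end Cfsg.Agent.S5726
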