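import Mathlib
import Cfsg.Statements.S3557
import Cfsg.Agent.S5726
import Cfsg.Agent.Lib.PGroup.Basic

set_option autoImplicit false
open Cfsg

namespace Cfsg.Agent.S3557

open MulAction
open scoped commutatorElement

theorem core {P Ω : Type*} [Group P] [Finite P] [MulAction P Ω] [FaithfulSMul P Ω]
    {p : ℕ} [hp : Fact p.Prime] (hP : IsPGroup p P) (a b : Ω)
    (hcov : ∀ ω, ω ∈ orbit P a ∨ ω ∈ orbit P b) (hab : ∀ ω, ω ∈ orbit P a → ω ∉ orbit P b)
    (ha : (stabilizer P a).index = p ^ 2) (hb : (stabilizer P b).index = p ^ 2)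
    (z : P) (hz : z ∈ Subgroup.center P) (hzo : orderOf z = p) (hza : z • a = a) :
    ∃ σ : Equiv.Perm Ω, σ ^ p = 1 ∧ (∀ ω, σ ω ≠ ω) ∧ ∀ x y : Ω, ∃ g : P, σ x = g • x ∧ σ y = g • y := by
  classical
  have hc : ∀ g : P, g * z = z * g := fun g => Subgroup.mem_center_iff.1 hz g
  have hzA : ∀ ω ∈ orbit P a, z • ω = ω := by
    rintro _ ⟨g, rfl⟩
    show z • g • a = g • a
    rw [← mul_smul, ← hc, mul_smul, hza]
  have hz1 : z ≠ 1 := by
    intro h; rw [h, orderOf_one] at hzo; exact hp.out.one_lt.ne hzo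
  have hzb : z • b ≠ b := by
    intro h
    apply hz1
    apply FaithfulSMul.eq_of_smul_eq_smul (α := Ω)
    intro ω
    rw [one_smul]
    rcases hcov ω with h1 | ⟨g, rfl⟩
    · exact hzA ω h1
    · show z • g • b = g • b
      rw [← mul_smul, ← hc, mul_smul, h]
  have hzB : ∀ ω ∈ orbit P b, z • ω ≠ ω := by
    rintro _ ⟨g, rfl⟩ h
    apply hzb
    change z • g • b = g • b at h
    rw [← mul_smul, ← hc, mul_smul] at h
    exact smul_left_cancel g h
  set M : Subgroup P := stabilizer P b ⊔ Subgroup.zpowers z with hM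
  have hMi : M.index ∣ p := by
    have h1 : M.index ∣ p ^ 2 := hb ▸ Subgroup.index_dvd_of_le le_sup_left
    obtain ⟨i, hi, he⟩ := (Nat.dvd_prime_pow hp.out).1 h1
    have : i ≠ 2 := by
      rintro rfl
      have h2 : stabilizer P b = M := by
        apply Subgroup.eq_of_le_of_card_ge le_sup_left
        have e1 := (stabilizer P b).card_mul_index
        have e2 := M.card_mul_index
        rw [hb] at e1; rw [he] at e2
        have : Nat.card M = Nat.card (stabilizer P b) :=
          Nat.eq_of_mul_eq_mul_right (pow_pos hp.out.pos 2) (e2.trans e1.symm)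
        exact this.le
      have : z ∈ stabilizer P b := h2 ▸ (le_sup_right : Subgroup.zpowers z ≤ M) (Subgroup.mem_zpowers z)
      exact hzb this
    rw [he]
    interval_cases i
    · simp
    · simp
    · exact absurd rfl this
  have hMn : M.Normal := by
    rcases (Nat.dvd_prime hp.out).1 hMi with h | h
    · rw [Subgroup.index_eq_one.1 h]; infer_instance
    · apply Subgroup.normal_of_index_eq_minFac_card
      obtain ⟨n, hn⟩ := hP.exists_card_eq
      have : n ≠ 0 := by
        rintro rfl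
        have := M.index_dvd_card
        rw [hn, h, pow_zero] at this
        exact hp.out.one_lt.ne' (Nat.eq_one_of_dvd_one this)
      rw [hn, h, hp.out.pow_minFac this]
  set K : Subgroup P := (stabilizer P a).normalCore with hK
  have hKA : ∀ k : P, k ∈ K ↔ ∀ ω ∈ orbit P a, k • ω = ω := by
    intro k
    constructor
    · rintro hk _ ⟨g, rfl⟩
      have := hk g⁻¹
      rw [mem_stabilizer_iff, inv_inv, mul_smul, mul_smul, inv_smul_eq_iff] at this
      exact this
    · intro h g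
      rw [mem_stabilizer_iff, mul_smul, mul_smul, smul_eq_iff_eq_inv_smul]
      exact h _ ⟨g⁻¹, rfl⟩
  have hMK : ¬ M ≤ K := by
    intro h
    have h1 : (stabilizer P a).index ∣ M.index :=
      Subgroup.index_dvd_of_le (h.trans (Subgroup.normalCore_le _))
    rw [ha] at h1
    have h2 := Nat.le_of_dvd hp.out.pos (h1.trans hMi)
    have := hp.out.one_lt
    nlinarith
  obtain ⟨y, hyM, hyK, hyp, hyc⟩ := H5.exists_step hP K M hMK
  have hyA : ∀ ω ∈ orbit P a, y • ω ≠ ω := by
    rintro ω hω h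
    apply hyK
    rw [hKA]
    intro ω' hω'
    obtain ⟨g, rfl⟩ : ω' ∈ orbit P ω := by rw [orbit_eq_iff.2 hω]; exact hω'
    show y • g • ω = g • ω
    have h1 : y • g • ω = ⁅y, g⁆ • (g • y • ω) := by
      simp only [← mul_smul, commutatorElement_def]; congr 1; group
    rw [h1, h]
    exact (hKA _).1 (hyc g) _ (by
      obtain ⟨g', rfl⟩ := hω
      exact ⟨g * g', mul_smul _ _ _⟩)
  have hyB : ∀ ω ∈ orbit P b, ∃ j : ℤ, y • ω = z ^ j • ω := by
    rintro _ ⟨g, rfl⟩
    have h1 : g⁻¹ * y * g⁻¹⁻¹ ∈ M := hMn.conj_mem y hyM g⁻¹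
    rw [inv_inv, hM, H5.mem_sup_zpowers_iff (Subgroup.center_le_normalizer _ hz)] at h1
    obtain ⟨s, hs, j, he⟩ := h1
    refine ⟨j, ?_⟩
    have h2 : y * g = z ^ j * g * s := by
      have : z ^ j * g * s = g * s * z ^ j := by
        rw [mul_assoc]; exact (Subgroup.mem_center_iff.1 (Subgroup.zpow_mem _ hz j) _).symm
      rw [this, mul_assoc, ← he]; group
    show y • g • b = z ^ j • g • b
    rw [← mul_smul, h2, mul_smul, mul_smul, mem_stabilizer_iff.1 hs]
  have hinvA : ∀ (g : P) ω, g • ω ∈ orbit P a ↔ ω ∈ orbit P a := by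
    intro g ω
    constructor
    · rintro ⟨h, hh⟩
      refine ⟨g⁻¹ * h, ?_⟩
      change h • a = g • ω at hh
      show (g⁻¹ * h) • a = ω
      rw [mul_smul, hh, inv_smul_smul]
    · rintro ⟨h, rfl⟩
      exact ⟨g * h, mul_smul _ _ _⟩
  let σ : Equiv.Perm Ω :=
    { toFun := fun ω => if ω ∈ orbit P a then y • ω else z • ω
      invFun := fun ω => if ω ∈ orbit P a then y⁻¹ • ω else z⁻¹ • ω
      left_inv := by
        intro ω
        by_cases h : ω ∈ orbit P a
        · simp only [h, if_true, (hinvA y ω).2 h, inv_smul_smul]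
        · have : z • ω ∉ orbit P a := fun h' => h ((hinvA z ω).1 h')
          simp only [h, if_false, this, inv_smul_smul]
      right_inv := by
        intro ω
        by_cases h : ω ∈ orbit P a
        · simp only [h, if_true, (hinvA y⁻¹ ω).2 h, smul_inv_smul]
        · have : z⁻¹ • ω ∉ orbit P a := fun h' => h ((hinvA z⁻¹ ω).1 h')
          simp only [h, if_false, this, smul_inv_smul] }
  have hσA : ∀ ω ∈ orbit P a, σ ω = y • ω := fun ω h => if_pos h
  have hσB : ∀ ω, ω ∉ orbit P a → σ ω = z • ω := fun ω h => if_neg h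
  have hpowA : ∀ n : ℕ, ∀ ω ∈ orbit P a, (σ ^ n) ω = y ^ n • ω := by
    intro n
    induction n with
    | zero => intro ω _; simp
    | succ n ih =>
      intro ω h
      rw [pow_succ, Equiv.Perm.mul_apply, hσA ω h, ih _ ((hinvA y ω).2 h), pow_succ, mul_smul]
  have hpowB : ∀ n : ℕ, ∀ ω, ω ∉ orbit P a → (σ ^ n) ω = z ^ n • ω := by
    intro n
    induction n with
    | zero => intro ω _; simp
    | succ n ih =>
      intro ω h
      rw [pow_succ, Equiv.Perm.mul_apply, hσB ω h, ih _ (fun h' => h ((hinvA z ω).1 h')), pow_succ,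
        mul_smul]
  have hmix : ∀ x ∈ orbit P a, ∀ w, w ∉ orbit P a → ∃ g : P, σ x = g • x ∧ σ w = g • w := by
    intro x hx w hw
    obtain ⟨j, hj⟩ := hyB w ((hcov w).resolve_left hw)
    refine ⟨z ^ (1 - j) * y, ?_, ?_⟩
    · rw [hσA x hx, mul_smul]
      have : z ∈ stabilizer P (y • x) := hzA _ ((hinvA y x).2 hx)
      exact (mem_stabilizer_iff.1 (Subgroup.zpow_mem _ this _)).symm
    · rw [hσB w hw, mul_smul, hj, ← mul_smul, ← zpow_add]; simp
  refine ⟨σ, ?_, ?_, ?_⟩
  · ext ω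
    by_cases h : ω ∈ orbit P a
    · rw [hpowA p ω h]; exact (hKA _).1 hyp ω h
    · rw [hpowB p ω h, ← hzo, pow_orderOf_eq_one]; simp
  · intro ω
    by_cases h : ω ∈ orbit P a
    · rw [hσA ω h]; exact hyA ω h
    · rw [hσB ω h]; exact hzB ω ((hcov ω).resolve_left h)
  · intro x w
    by_cases hx : x ∈ orbit P a <;> by_cases hw : w ∈ orbit P a
    · exact ⟨y, hσA x hx, hσA w hw⟩
    · exact hmix x hx w hw
    · obtain ⟨g, h1, h2⟩ := hmix w hw x hx
      exact ⟨g, h2, h1⟩
    · exact ⟨z, hσB x hx, hσB w hw⟩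


/-- Let G act faithfully and transitively on a finite set with 2p² points, p a prime, and suppose G is 2-closed: every permutation of the set which, on each ordered pair of points, agrees with some element of G, is itself induced by an element of G. Then some element of G of prime order fixes no point. -/
theorem result {G Ω : Type*} [Group G] [Finite G] [MulAction G Ω] [FaithfulSMul G Ω] [Finite Ω]
    (htrans : MulAction.IsPretransitive G Ω) (p : ℕ) (hp : p.Prime) (hcard : Nat.card Ω = 2 * p ^ 2)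
    (hcl : ∀ σ : Equiv.Perm Ω, (∀ a b : Ω, ∃ g : G, σ a = g • a ∧ σ b = g • b) → ∃ g : G, ∀ a : Ω, σ a = g • a) :
    ∃ g : G, (orderOf g).Prime ∧ ∀ ω : Ω, g • ω ≠ ω := by
  classical
  haveI : Fact p.Prime := ⟨hp⟩
  haveI := Fintype.ofFinite Ω
  by_cases h2 : p = 2
  · subst h2
    obtain ⟨g, hg, hf⟩ := Cfsg.Agent.S5726.result htrans 2 3 hp (by norm_num)
      (by rw [← Nat.card_eq_fintype_card, hcard]; norm_num)
    exact ⟨g, hg ▸ hp, hf⟩
  have h3 : 3 ≤ p := by have := hp.two_le; omega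
  obtain ⟨P⟩ : Nonempty (Sylow p G) := inferInstance
  have hidx : ∀ ω : Ω, (stabilizer (P : Subgroup G) ω).index = p ^ 2 := by
    intro ω
    have h1 := Cfsg.Agent.S5726.pow_dvd_index_stabilizer htrans p 2
      (by rw [← Nat.card_eq_fintype_card, hcard]; exact Dvd.intro_left 2 rfl) P ω
    obtain ⟨n, hn⟩ := P.isPGroup'.index (stabilizer (P : Subgroup G) ω)
    have h4 : (stabilizer (P : Subgroup G) ω).index ≤ 2 * p ^ 2 := by
      rw [MulAction.index_stabilizer, ← hcard, ← Set.ncard_univ]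
      exact Set.ncard_le_ncard (Set.subset_univ _)
    rw [hn] at h1 h4 ⊢
    have h5 : 2 ≤ n := (Nat.pow_dvd_pow_iff_le_right hp.one_lt).1 h1
    have h6 : n ≤ 2 := by
      by_contra h
      have : p ^ 3 ≤ p ^ n := Nat.pow_le_pow_right hp.pos (by omega)
      have h7 : p ^ 3 = p * p ^ 2 := by ring
      have : 0 < p ^ 2 := pow_pos hp.pos 2
      nlinarith
    rw [le_antisymm h6 h5]
  have horb : ∀ ω : Ω, (orbit (P : Subgroup G) ω).ncard = p ^ 2 := fun ω => by
    rw [← MulAction.index_stabilizer, hidx]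
  have hp2 : 0 < p ^ 2 := pow_pos hp.pos 2
  have hcov : ∀ a : Ω, ∃ b : Ω, (∀ ω, ω ∈ orbit (P : Subgroup G) a ∨ ω ∈ orbit (P : Subgroup G) b) ∧
      ∀ ω, ω ∈ orbit (P : Subgroup G) a → ω ∉ orbit (P : Subgroup G) b := by
    intro a
    have h1 : ((orbit (P : Subgroup G) a)ᶜ).ncard = p ^ 2 := by
      have := Set.ncard_add_ncard_compl (orbit (P : Subgroup G) a)
      rw [horb, hcard] at this; omega
    obtain ⟨b, hb⟩ : ((orbit (P : Subgroup G) a)ᶜ).Nonempty :=
      (Set.ncard_pos (Set.toFinite _)).1 (by rw [h1]; exact hp2)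
    have hdis : ∀ ω, ω ∈ orbit (P : Subgroup G) a → ω ∉ orbit (P : Subgroup G) b := by
      intro ω h1 h2
      apply hb
      rw [← orbit_eq_iff.2 h1, orbit_eq_iff.2 h2]
      exact mem_orbit_self b
    have h2 : orbit (P : Subgroup G) b = (orbit (P : Subgroup G) a)ᶜ :=
      Set.eq_of_subset_of_ncard_le (fun ω h1 h2 => hdis ω h2 h1) (by rw [h1, horb])
    refine ⟨b, fun ω => ?_, hdis⟩
    rw [h2]; exact em _
  have hnt : (⊤ : Subgroup (P : Subgroup G)) ≠ ⊥ := by
    intro h
    obtain ⟨ω⟩ : Nonempty Ω := (Nat.card_pos_iff.1 (by rw [hcard]; omega)).1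
    have h1 : stabilizer (P : Subgroup G) ω = ⊤ := top_le_iff.1 (h ▸ bot_le)
    have h4 := hidx ω
    rw [h1, Subgroup.index_top] at h4
    nlinarith
  obtain ⟨z, -, hz, hzo⟩ := H5.exists_mem_center_orderOf_eq P.isPGroup' ⊤ hnt
  by_cases hf : ∀ ω : Ω, z • ω ≠ ω
  · refine ⟨z, ?_, hf⟩
    rw [Subgroup.orderOf_coe, hzo]; exact hp
  push Not at hf
  obtain ⟨a, ha⟩ := hf
  obtain ⟨b, hb1, hb2⟩ := hcov a
  haveI : FaithfulSMul (P : Subgroup G) Ω := ⟨fun {x y} h => Subtype.ext (FaithfulSMul.eq_of_smul_eq_smul h)⟩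
  obtain ⟨σ, hσp, hσf, hσ⟩ := core P.isPGroup' a b hb1 hb2 (hidx a) (hidx b) z hz hzo ha
  obtain ⟨g, hg⟩ := hcl σ (fun x y => by
    obtain ⟨g, h1, h2⟩ := hσ x y
    exact ⟨g, h1, h2⟩)
  have hσg : σ = MulAction.toPermHom G Ω g := Equiv.ext hg
  refine ⟨g, ?_, fun ω h => hσf ω ((hg ω).trans h)⟩
  have : orderOf g = p := by
    apply orderOf_eq_prime
    · apply MulAction.toPerm_injective (α := G) (β := Ω)
      show MulAction.toPermHom G Ω (g ^ p) = MulAction.toPermHom G Ω 1
      rw [map_pow, ← hσg, hσp, map_one]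
    · rintro rfl
      exact hσf a ((hg a).trans (one_smul _ _))
  rw [this]; exact hp

end Cfsg.Agent.S3557
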