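import Cfsg.Statements.S3593
import Mathlib
import Cfsg.Agent.Base
import Cfsg.Agent.Lib.Ord.Gk
import Cfsg.Agent.Lib.Ord.M12C
import Cfsg.Agent.Lib.M24Geom.ClsM12

set_option autoImplicit false
open Cfsg

namespace Cfsg.Agent.S3593

/-- Let M be the Mathieu group M₁₂ (order 95040). If a finite group G has the same order as M and the same set of values of the function 'number of elements of order n' (taken over the element orders n that occur), then G is isomorphic to M. -/
theorem result {G : Type*} [Group G] [Finite G]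
    (hcard : Nat.card G = Nat.card ↥Cfsg.Spor.M12)
    (hnse : {c : ℕ | 0 < c ∧ ∃ n : ℕ, c = Nat.card {g : G // orderOf g = n}} =
      {c : ℕ | 0 < c ∧ ∃ n : ℕ, c = Nat.card {g : ↥Cfsg.Spor.M12 // orderOf g = n}}) :
    Nonempty (G ≃* ↥Cfsg.Spor.M12) := by
  have d1 : ∀ e ∈ H96.Geo.M12.cls, ((H96.Geo.M12.cls.filter fun e' => e'.o = e.o).map
      fun e => 95040 / e.z).sum ∈ [1, 891, 4400, 5940, 9504, 23760, 17280] := by decide +kernel
  rw [H15.card_M12] at hcard
  haveI : Fact (Nat.Prime 11) := ⟨by norm_num⟩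
  haveI : Fact (Nat.Prime 5) := ⟨by norm_num⟩
  haveI := H17.Ord.simple_of_counts (p := 11) (e := 5) (m := 8640) (m' := 19008) (c := 17280)
    (c' := 9504) hcard hcard (by norm_num) (by norm_num) _
    (H17.Ord.mem_nse_of_table H96.Geo.M12.table H15.card_M12 _ d1 hnse)
    (by simp only [Set.mem_ofPred_eq]; decide) (by simp only [Set.mem_ofPred_eq]; decide)
    (by norm_num) (by norm_num) (fun k => by omega) (by norm_num)
    (H17.Ord.not_dvd_pow_sub_one (by norm_num) (by decide +kernel))
  exact H17.Ord.M12.isoM12 hcard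

end Cfsg.Agent.S3593
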