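import Cfsg.Statements.S3594
import Mathlib
import Cfsg.Agent.Base
import Cfsg.Agent.Lib.Ord.Nse
import Cfsg.Agent.Lib.Ord.M22B
import Cfsg.Agent.Lib.M24Geom.ClsM22

set_option autoImplicit false
open Cfsg

namespace Cfsg.Agent.S3594

/-- Let M be the Mathieu group M₂₂ (order 443520). If a finite group G has the same order as M and the same set of values of the function 'number of elements of order n' (taken over the element orders n that occur), then G is isomorphic to M. -/
theorem result {G : Type*} [Group G] [Finite G]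
    (hcard : Nat.card G = Nat.card ↥Cfsg.Spor.M22)
    (hnse : {c : ℕ | 0 < c ∧ ∃ n : ℕ, c = Nat.card {g : G // orderOf g = n}} =
      {c : ℕ | 0 < c ∧ ∃ n : ℕ, c = Nat.card {g : ↥Cfsg.Spor.M22 // orderOf g = n}}) :
    Nonempty (G ≃* ↥Cfsg.Spor.M22) := by
  have d1 : ∀ e ∈ H96.Geo.M22.cls, ((H96.Geo.M22.cls.filter fun e' => e'.o = e.o).map
      fun e => 443520 / e.z).sum ∈
      [1, 1155, 12320, 41580, 88704, 36960, 126720, 55440, 80640] := by decide +kernel
  have d2 : ∀ s ∈ [1, 1155, 12320, 41580, 88704, 36960, 126720, 55440, 80640], 0 < s ∧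
      ∃ e ∈ H96.Geo.M22.cls, ((H96.Geo.M22.cls.filter fun e' => e'.o = e.o).map
      fun e => 443520 / e.z).sum = s := by decide +kernel
  rw [H15.card_M22] at hcard
  haveI : Fact (Nat.Prime 11) := ⟨by norm_num⟩
  haveI : Fact (Nat.Prime 7) := ⟨by norm_num⟩
  haveI : Fact (Nat.Prime 5) := ⟨by norm_num⟩
  have hS := H17.Ord.mem_nse_of_table H96.Geo.M22.table H15.card_M22 _ d1 hnse
  have hS' := H17.Ord.exists_of_table H96.Geo.M22.table H15.card_M22 _ d2 hnse
  haveI := H17.Ord.simple_of_counts (p := 11) (e := 5) (m := 40320) (m' := 88704) (c := 80640)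
    (c' := 88704) hcard hcard (by norm_num) (by norm_num) _ hS
    (by simp only [Set.mem_ofPred_eq]; decide) (by simp only [Set.mem_ofPred_eq]; decide)
    (by norm_num) (by norm_num) (fun k => by omega) (by norm_num)
    (H17.Ord.not_dvd_pow_sub_one (by norm_num) (by decide +kernel))
  have hna := H17.Ord.M22.hna hcard
  obtain ⟨P11, e11, k11, a1, -, -, a2, a3, a4, -, ⟨B11⟩⟩ := H17.Ord.setup_count hna 11
    (m := 40320) (c := 80640) (w := 5) hcard (by norm_num) _ hS
    (by simp only [Set.mem_ofPred_eq]; decide) (by norm_num) (by norm_num)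
  obtain ⟨P7, e7, k7, b1, -, -, b2, b3, b4, -, ⟨B7⟩⟩ := H17.Ord.setup_count hna 7
    (m := 63360) (c := 126720) (w := 3) hcard (by norm_num) _ hS
    (by simp only [Set.mem_ofPred_eq]; decide) (by norm_num) (by norm_num)
  obtain ⟨P5, e5, k5, c1, c0, c5, c2, c3, c4, -, ⟨B5⟩⟩ := H17.Ord.setup_count hna 5
    (m := 88704) (c := 88704) (w := 4) hcard (by norm_num) _ hS
    (by simp only [Set.mem_ofPred_eq]; decide) (by norm_num) (by norm_num)
  obtain ⟨rfl, rfl⟩ : e11 = 5 ∧ k11 = 1 := by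
    have : e11 ≤ 5 := Nat.le_of_dvd (by norm_num) ⟨k11, by rw [← a3, mul_comm]⟩
    interval_cases e11 <;> omega
  obtain ⟨rfl, rfl⟩ : e7 = 3 ∧ k7 = 1 := by
    have : e7 ≤ 3 := Nat.le_of_dvd (by norm_num) ⟨k7, by rw [← b3, mul_comm]⟩
    interval_cases e7 <;> omega
  have h5 : (e5 = 4 ∧ k5 = 1) ∨ k5 = 2 := by
    have : e5 ≤ 4 := Nat.le_of_dvd (by norm_num) ⟨k5, by rw [← c3, mul_comm]⟩
    interval_cases e5 <;> omega
  rcases h5 with ⟨rfl, rfl⟩ | rfl
  · exact H17.Ord.M22.Main.iso hcard ⟨P11, P7, P5, B11, B7, B5,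
      H17.Ord.selfcent_of_card a1 a2, H17.Ord.selfcent_of_card b1 b2,
      H17.Ord.selfcent_of_card c1 c2⟩
  · exfalso
    obtain ⟨g, hg⟩ := H17.Ord.exists_ord_mul (p := 5) (q := 2) (by norm_num) (by norm_num)
      (by norm_num) c1 (by rw [c2]; norm_num)
    have h1 := H17.Ord.nOrd_pos (g := g)
    rw [hg] at h1
    have h2 := H17.Ord.index_dvd_nOrd c1 c0 (n := 5 * 2) (d := 44352) (by norm_num)
      (by rw [c2, hcard])
    have h3 : H17.Ord.nOrd G (5 * 2) = 88704 := by
      have h4 := hS _ h1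
      have : ∀ x ∈ [1, 1155, 12320, 41580, 88704, 36960, 126720, 55440, 80640], 44352 ∣ x →
        x = 88704 := by decide
      exact this _ h4 h2
    have h4 := H17.Ord.nse_dup _ hS' (a := 5) (b := 5 * 2) (by norm_num) (c5.trans h3.symm)
    rw [c5, hcard] at h4
    revert h4
    decide +kernel

end Cfsg.Agent.S3594
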