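import Cfsg.Statements.S3596
import Mathlib
import Cfsg.Agent.Base
import Cfsg.Agent.Lib.Ord.Nse
import Cfsg.Agent.Lib.Ord.M24E
import Cfsg.Agent.Lib.Ord.M24P
import Cfsg.Agent.Lib.Ord.M24Z
import Cfsg.Agent.Lib.M24Geom.ClsM24

set_option autoImplicit false
open Cfsg

namespace Cfsg.Agent.S3596

/-- Let M be the Mathieu group M₂₄ (order 244823040). If a finite group G has the same order as M and the same set of values of the function 'number of elements of order n' (taken over the element orders n that occur), then G is isomorphic to M. -/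
theorem result {G : Type*} [Group G] [Finite G]
    (hcard : Nat.card G = Nat.card ↥Cfsg.M24)
    (hnse : {c : ℕ | 0 < c ∧ ∃ n : ℕ, c = Nat.card {g : G // orderOf g = n}} =
      {c : ℕ | 0 < c ∧ ∃ n : ℕ, c = Nat.card {g : ↥Cfsg.M24 // orderOf g = n}}) :
    Nonempty (G ≃* ↥Cfsg.M24) := by
  classical
  have d1 : ∀ e ∈ H96.Geo.M24.cls, ((H96.Geo.M24.cls.filter fun e' => e'.o = e.o).map
      fun e => 244823040 / e.z).sum ∈ [1, 43263, 712448, 5100480, 4080384, 20401920, 11658240,
        15301440, 12241152, 22256640, 40803840, 34974720, 32643072, 23316480, 21288960] := by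
    decide +kernel
  have d2 : ∀ s ∈ [43263], 0 < s ∧ ∃ e ∈ H96.Geo.M24.cls, ((H96.Geo.M24.cls.filter
      fun e' => e'.o = e.o).map fun e => 244823040 / e.z).sum = s := by decide +kernel
  have d3 : H17.Ord.feasF 244823040 5 2 24 H17.Ord.M24.fD (fun _ => false) = true := by
    decide +kernel
  rw [H15.card_M24] at hcard
  have hS := H17.Ord.mem_nse_of_table H96.Geo.M24.table H15.card_M24 _ d1 hnse
  obtain ⟨n, hn⟩ := H17.Ord.exists_of_table H96.Geo.M24.table H15.card_M24 _ d2 hnse 43263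
    (by simp)
  haveI := H17.Ord.simple_of_counts (p := 23) (e := 11) (m := 10644480) (m' := 22256640)
    (c := 21288960) (c' := 22256640) hcard hcard (by norm_num) (by norm_num) _ hS
    (by simp only [Set.mem_ofPred_eq]; decide) (by simp only [Set.mem_ofPred_eq]; decide)
    (by norm_num) (by norm_num) (fun k => by omega) (by norm_num)
    (H17.Ord.not_dvd_pow_sub_one (by norm_num) (by decide +kernel))
  have hna := H17.Ord.M24.hna hcard
  obtain ⟨P, ⟨B⟩, hB⟩ := H17.Ord.M24.exists23 hcard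
  obtain ⟨Q, ⟨A⟩, hA⟩ := H17.Ord.M24.exists11 hcard B hB
  obtain ⟨S, e7, k7, b1, b0, -, b2, b3, b4, b5, ⟨E⟩⟩ := H17.Ord.setup_count hna 7
    (m := 34974720) (c := 11658240) (w := 18) hcard (by norm_num) _ hS
    (by simp only [Set.mem_ofPred_eq]; decide) (by norm_num) (by norm_num)
  obtain ⟨R, e5, k5, -, -, -, c2, c3, c4, c5, ⟨F⟩⟩ := H17.Ord.setup_count hna 5
    (m := 48964608) (c := 4080384) (w := 48) hcard (by norm_num) _ hS
    (by simp only [Set.mem_ofPred_eq]; decide) (by norm_num) (by norm_num)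
  obtain rfl : n = 2 := by
    letI := Fintype.ofFinite G
    let f : Function.End {g : G // orderOf g = n} := fun g => ⟨g.1⁻¹, (orderOf_inv _).trans g.2⟩
    have h1 := Equiv.Perm.card_fixedPoints_modEq (f := f) (p := 2) (n := 1)
      (funext fun g => Subtype.ext (inv_inv _))
    rw [← Nat.card_eq_fintype_card, ← Nat.card_eq_fintype_card, show Nat.card _ = _ from hn] at h1
    obtain ⟨⟨⟨g, rfl⟩, h2⟩⟩ := (Nat.card_pos_iff.mp (show 0 < Nat.card f.fixedPoints by
      unfold Nat.ModEq at h1; omega)).1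
    refine ((Nat.dvd_prime Nat.prime_two).mp (orderOf_dvd_of_pow_eq_one (by
      rw [sq, ← eq_inv_iff_mul_eq_one]; exact (congrArg Subtype.val h2).symm))).resolve_left
      fun h => ?_
    simp [H17.Ord.nOrd, h] at hn
  have h7 : 2 ∣ 7 * k7 := by
    by_contra h
    refine absurd (hn ▸ H17.Ord.dvd_nOrd (d := 7) fun s hs => ?_) (by norm_num)
    refine ((Nat.Prime.dvd_mul (by norm_num)).mp (show 7 ∣ _ * _ by
      rw [Subgroup.card_mul_index, hcard]; norm_num)).resolve_left fun k => h ?_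
    obtain ⟨g, g1, g2⟩ := H17.Ord.exists_sing_pow (by norm_num) (by norm_num) hs k
    exact b2 ▸ ((hs ▸ g2 ▸ orderOf_pow_dvd _).trans (H17.Ord.orderOf_dvd_cent g)).trans
      (H17.Ord.card_cent_dvd b1 b0 g1)
  obtain ⟨rfl, rfl⟩ : e7 = 3 ∧ k7 = 6 := by
    have := Nat.le_of_dvd (by norm_num) b5
    interval_cases e7 <;> omega
  obtain ⟨rfl, rfl⟩ | ⟨rfl, rfl⟩ : (e5 = 4 ∧ k5 = 12) ∨ (e5 = 2 ∧ k5 = 24) := by
    have := Nat.le_of_dvd (by norm_num) c5
    interval_cases e5 <;> omega
  · exact H17.Ord.M24.Main.iso hcard ⟨P, Q, R, S, B, A, F, E, hB, hA, c2, b2⟩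
  · obtain ⟨o, h, -⟩ := F.sieveF hna (by norm_num) hcard c2 (fun χ _ _ => by
      have := H17.Ord.dg_ne_half (p := 23) hna (by rw [hcard]; norm_num)
        (by rw [hcard]; norm_num) (by rw [hcard]; norm_num) (by norm_num) χ
      have k := A.res hA χ
      rw [H17.Ord.M24.fD, List.contains_iff_mem.mpr (B.res hB χ), Bool.true_and]
      simp only [H17.Ord.M24.f11, Bool.and_eq_true, List.contains_iff_mem, bne_iff_ne,
        List.mem_cons, List.not_mem_nil, or_false] at k ⊢
      omega) d3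
    exact absurd h (by simp)

end Cfsg.Agent.S3596
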