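import Mathlib
import Cfsg.Statements.S3600
import Cfsg.Agent.Base
import Cfsg.Agent.S3433
import Cfsg.Agent.Lib.ClGeo.F4
import Cfsg.Agent.Lib.Core.Frobenius
-- import your own Cfsg.Agent.* helpers here

set_option autoImplicit false
open Cfsg

namespace Cfsg.Agent.S3600

open Subgroup Equiv H29.Tri H76.Spec5 H30
open scoped MatrixGroups

def T0 : A5 := ⟨swap 0 1 * swap 3 4, Perm.mem_alternatingGroup.2 (by decide)⟩
def H0 : A5 := b5 * T0

theorem T0_eq : T0 = b5 * a5 * b5 * a5 * b5 * b5 * a5 * b5 * b5 := by decide +kernel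

theorem card_A5 : Nat.card A5 = 60 := by
  rw [nat_card_alternatingGroup]; simp [Nat.factorial]

theorem mem_norm {Γ : Type*} [Group Γ] [Finite Γ] {S : Set Γ} {g : Γ}
    (h : ∀ x ∈ S, g * x * g⁻¹ ∈ closure S) : g ∈ normalizer (closure S : Set Γ) := by
  apply mem_normalizer_fintype
  intro x hx
  have : (closure S).map (MulAut.conj g).toMonoidHom ≤ closure S := by
    rw [MonoidHom.map_closure, closure_le]
    rintro _ ⟨y, hy, rfl⟩
    exact h y hy
  exact this (mem_map_of_mem _ hx)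

theorem card_le {Γ : Type*} [Group Γ] [Finite Γ] (σ : A5 →* Γ) (v : Γ) (A : Subgroup Γ)
    (hA : ∀ x ∈ A, ∀ y ∈ A, x * y = y * x) (h2 : ∀ x ∈ A, x ^ 2 = 1) (hv : v ∈ A)
    {h s t : Γ} (hh : σ H0 = h) (hs : σ a5 = s) (ht : σ T0 = t)
    (m1 : h * v * h⁻¹ ∈ A) (m2 : s * v * s⁻¹ ∈ A) (m3 : s * (h * v * h⁻¹) * s⁻¹ ∈ A)
    (r1 : t * v * t⁻¹ = v) (r2 : t * (h * v * h⁻¹) * t⁻¹ = h * v * h⁻¹)
    (r3 : h * (h * v * h⁻¹) * h⁻¹ = (v * (h * v * h⁻¹))⁻¹)
    (r5 : t * (s * v * s⁻¹) * t⁻¹ = s * v * s⁻¹ * v)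
    (r6 : t * (s * (h * v * h⁻¹) * s⁻¹) * t⁻¹ = s * (h * v * h⁻¹) * s⁻¹ * (h * v * h⁻¹)) :
    Nat.card (closure ({σ a5, σ b5, v} : Set Γ)) ≤ 960 := by
  classical
  set x := h * v * h⁻¹ with hx
  set y := s * v * s⁻¹ with hy
  set z := s * x * s⁻¹ with hz
  set S : Finset Γ := {v, x, y, z} with hS
  set W := closure (S : Set Γ)
  have hWA : W ≤ A := by
    rw [closure_le]
    intro a ha
    simp only [hS, Finset.coe_insert, Finset.coe_singleton, Set.mem_insert_iff,
      Set.mem_singleton_iff] at ha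
    rcases ha with rfl | rfl | rfl | rfl <;> assumption
  have cW : Nat.card W ≤ 16 := by
    letI : CommGroup W := { (inferInstance : Group W) with
      mul_comm := fun a b => Subtype.ext (hA _ (hWA a.2) _ (hWA b.2)) }
    have h1 := card_dvd_exponent_pow_rank' W (n := 2) fun g => Subtype.ext (h2 _ (hWA g.2))
    have h3 : Group.rank W ≤ 4 := (rank_closure_finset_le_card S).trans Finset.card_le_four
    exact (Nat.le_of_dvd (by positivity) h1).trans
      (Nat.pow_le_pow_right (by norm_num) h3)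
  have mv : v ∈ W := subset_closure (by simp [hS])
  have mx : x ∈ W := subset_closure (by simp [hS])
  have my : y ∈ W := subset_closure (by simp [hS])
  have mz : z ∈ W := subset_closure (by simp [hS])
  have ss : s * s = 1 := by rw [← hs, ← map_mul, show a5 * a5 = 1 by decide +kernel, map_one]
  have e1 : h * s = s * h * h := by
    rw [← hs, ← hh, ← map_mul, ← map_mul, ← map_mul]; exact congrArg σ (by decide +kernel)
  have e2 : h * s * h = s := by
    rw [← hs, ← hh, ← map_mul, ← map_mul]; exact congrArg σ (by decide +kernel)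
  have nrm : ∀ g : Γ, g * v * g⁻¹ ∈ W → g * x * g⁻¹ ∈ W → g * y * g⁻¹ ∈ W → g * z * g⁻¹ ∈ W →
      g ∈ normalizer (W : Set Γ) := fun g a b c d => mem_norm fun w hw => by
    simp only [hS, Finset.coe_insert, Finset.coe_singleton, Set.mem_insert_iff,
      Set.mem_singleton_iff] at hw
    rcases hw with rfl | rfl | rfl | rfl <;> assumption
  have ns : s ∈ normalizer (W : Set Γ) := nrm s my mz
    (by rw [show s * y * s⁻¹ = (s * s) * v * (s * s)⁻¹ by rw [hy]; group, ss]; simpa using mv)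
    (by rw [show s * z * s⁻¹ = (s * s) * x * (s * s)⁻¹ by rw [hz]; group, ss]; simpa using mx)
  have nh : h ∈ normalizer (W : Set Γ) := nrm h mx (r3 ▸ inv_mem (mul_mem mv mx))
    (by
      rw [show h * y * h⁻¹ = (h * s) * v * (h * s)⁻¹ by rw [hy]; group, e1,
        show s * h * h * v * (s * h * h)⁻¹ = s * (h * x * h⁻¹) * s⁻¹ by rw [hx]; group, r3,
        show s * (v * x)⁻¹ * s⁻¹ = (y * z)⁻¹ by rw [hy, hz]; group]
      exact inv_mem (mul_mem my mz))
    (by
      rw [show h * z * h⁻¹ = (h * s * h) * v * (h * s * h)⁻¹ by rw [hz, hx]; group, e2]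
      exact my)
  have nt : t ∈ normalizer (W : Set Γ) := nrm t (r1.symm ▸ mv) (r2.symm ▸ mx)
    (r5.symm ▸ mul_mem my mv) (r6.symm ▸ mul_mem mz mx)
  have nb : σ b5 ∈ normalizer (W : Set Γ) := by
    rw [show b5 = H0 * T0 by decide +kernel, map_mul, hh, ht]
    exact mul_mem nh nt
  have hr : σ.range ≤ normalizer (W : Set Γ) := by
    rw [MonoidHom.range_eq_map, ← closure5, MonoidHom.map_closure, closure_le, Set.image_pair]
    rintro _ (rfl | rfl)
    · exact hs ▸ ns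
    · exact nb
  have c1 : Nat.card σ.range ≤ 60 := card_A5 ▸ Nat.card_le_card_of_surjective _
    σ.rangeRestrict_surjective
  have c2 := Nat.le_of_dvd (Nat.mul_pos Nat.card_pos Nat.card_pos)
    (H1.card_sup_dvd_of_le_normalizer hr)
  have c3 : closure ({σ a5, σ b5, v} : Set Γ) ≤ σ.range ⊔ W := by
    rw [closure_le]
    rintro _ (rfl | rfl | rfl)
    · exact mem_sup_left ⟨_, rfl⟩
    · exact mem_sup_left ⟨_, rfl⟩
    · exact mem_sup_right mv
  exact (card_le_of_le c3).trans (c2.trans (Nat.mul_le_mul c1 cW))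

theorem crit {G : Type*} [Group G] [Finite G]
    (hcrit : Set.range (orderOf : G → ℕ) = ({1, 2, 3, 4, 5} : Set ℕ) ∧
      ∀ (H : Subgroup G) (N : Subgroup ↥H) [N.Normal], (H ≠ ⊤ ∨ N ≠ ⊥) →
        Set.range (orderOf : (↥H ⧸ N) → ℕ) ≠ ({1, 2, 3, 4, 5} : Set ℕ))
    (H : Subgroup G) {X : Type*} [Group X] (ψ : H →* X)
    (h : ∀ k ∈ ({2, 3, 4, 5} : Set ℕ), ∃ x : H, orderOf (ψ x) = k) : H = ⊤ ∧ ψ.ker = ⊥ := by
  by_contra hc
  refine hcrit.2 H ψ.ker (by tauto) (Set.Subset.antisymm ?_ ?_)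
  · rintro _ ⟨q, rfl⟩
    obtain ⟨x, rfl⟩ := QuotientGroup.mk_surjective q
    have h1 : orderOf (x : H ⧸ ψ.ker) ∣ orderOf (x : G) := by
      rw [orderOf_coe]
      exact orderOf_map_dvd (QuotientGroup.mk' ψ.ker) x
    have h2 : orderOf (x : G) ∈ ({1, 2, 3, 4, 5} : Set ℕ) := hcrit.1 ▸ Set.mem_range_self _
    generalize orderOf (x : H ⧸ ψ.ker) = d at h1
    simp only [Set.mem_insert_iff, Set.mem_singleton_iff] at h2 ⊢
    have h3 : d ≤ 5 := (Nat.le_of_dvd (orderOf_pos _) h1).trans (by omega)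
    rcases h2 with e | e | e | e | e <;> rw [e] at h1 <;> interval_cases d <;> simp_all
  · rintro k (rfl | hk)
    · exact ⟨1, orderOf_one⟩
    · obtain ⟨x, rfl⟩ := h k hk
      exact ⟨x, (orderOf_injective _ (QuotientGroup.kerLift_injective ψ) _).symm⟩

theorem fix_step {G : Type*} [Group G] {S : Subgroup G} (hS : ∀ x ∈ S, ∀ y ∈ S, x * y = y * x)
    (h2 : ∀ x ∈ S, x ^ 2 = 1) {t : G} (ht : t * t = 1) (hn : ∀ x ∈ S, t * x * t⁻¹ ∈ S)
    {y : G} (hy : y ∈ S) (hy1 : y ≠ 1) : ∃ v ∈ S, v ≠ 1 ∧ t * v * t⁻¹ = v := by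
  by_cases e : t * y * t⁻¹ = y
  · exact ⟨y, hy, hy1, e⟩
  refine ⟨y * (t * y * t⁻¹), mul_mem hy (hn y hy), fun h => e ?_, ?_⟩
  · rw [← mul_right_inj y, h, ← sq, h2 y hy]
  · rw [hS _ hy _ (hn y hy)]
    calc _ = (t * t) * y * (t * t)⁻¹ * (t * y * t⁻¹) := by group
      _ = _ := by rw [ht, one_mul, inv_one, mul_one, hS _ hy _ (hn y hy)]

abbrev SL3 := SL(3, F4)

instance : DecidableEq SL3 := fun a b => decidable_of_iff (a.1 = b.1) Subtype.ext_iff.symm

def ma : SL3 := ⟨!![0, 1, 0; 1, 0, 0; 0, 0, 1], by rw [Matrix.det_fin_three]; decide⟩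
def mb : SL3 := ⟨!![F4.w, F4.w, 0; 0, F4.v, 0; 0, 0, 1], by rw [Matrix.det_fin_three]; decide⟩
def mv : SL3 := ⟨!![1, 0, 1; 0, 1, 0; 0, 0, 1], by rw [Matrix.det_fin_three]; decide⟩
def mt : SL3 := ⟨!![1, 1, 0; 0, 1, 0; 0, 0, 1], by rw [Matrix.det_fin_three]; decide⟩
def mh : SL3 := ⟨!![F4.w, 0, 0; 0, F4.v, 0; 0, 0, 1], by rw [Matrix.det_fin_three]; decide⟩
def mk : SL3 := ⟨!![F4.v, 0, 0; 0, F4.w, 0; 0, 0, 1], by rw [Matrix.det_fin_three]; decide⟩
def tr (a b : F4) : SL3 := ⟨!![1, 0, a; 0, 1, b; 0, 0, 1], by simp [Matrix.det_fin_three]⟩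

theorem tr_mul : ∀ a b c d : F4, tr a b * tr c d = tr (a + c) (b + d) := by decide +kernel

theorem tr_zero : tr 0 0 = 1 := by decide +kernel

theorem ma_inv : ma⁻¹ = ma := inv_eq_of_mul_eq_one_right (by decide +kernel)
theorem mt_inv : mt⁻¹ = mt := inv_eq_of_mul_eq_one_right (by decide +kernel)
theorem mh_inv : mh⁻¹ = mk := inv_eq_of_mul_eq_one_right (by decide +kernel)

/-- the translations -/
def Tr : Subgroup SL3 where
  carrier := {M | ∃ a b, M = tr a b}
  one_mem' := ⟨0, 0, tr_zero.symm⟩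
  mul_mem' := by
    rintro _ _ ⟨a, b, rfl⟩ ⟨c, d, rfl⟩
    exact ⟨_, _, tr_mul a b c d⟩
  inv_mem' := by
    rintro _ ⟨a, b, rfl⟩
    exact ⟨a, b, inv_eq_of_mul_eq_one_right (by
      rw [tr_mul, CharTwo.add_self_eq_zero, CharTwo.add_self_eq_zero, tr_zero])⟩

/-- the affine group -/
def Aff : Subgroup SL3 where
  carrier := {M | (M : Matrix (Fin 3) (Fin 3) F4) 2 0 = 0 ∧ (M : Matrix (Fin 3) (Fin 3) F4) 2 1 = 0 ∧
    (M : Matrix (Fin 3) (Fin 3) F4) 2 2 = 1}
  one_mem' := by decide +kernel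
  mul_mem' := by
    rintro a b ⟨h1, h2, h3⟩ ⟨k1, k2, k3⟩
    simp [Matrix.mul_apply, Fin.sum_univ_three, *]
  inv_mem' := by
    rintro a ⟨h1, h2, h3⟩
    have e : ∀ j, (a.1 * a⁻¹.1) 2 j = (1 : Matrix (Fin 3) (Fin 3) F4) 2 j := fun j => by
      rw [← Matrix.SpecialLinearGroup.coe_mul, mul_inv_cancel]; rfl
    simp only [Matrix.mul_apply, Fin.sum_univ_three, h1, h2, h3, zero_mul, one_mul, zero_add] at e
    exact ⟨e 0, e 1, e 2⟩

theorem card_Aff : Nat.card Aff ≤ 960 := by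
  let f : Aff → {x : F4 × F4 × F4 × F4 // x.1 * x.2.2.2 - x.2.1 * x.2.2.1 = 1} × F4 × F4 :=
    fun M => (⟨(M.1.1 0 0, M.1.1 0 1, M.1.1 1 0, M.1.1 1 1), by
      have := M.1.2
      obtain ⟨h1, h2, h3⟩ := M.2
      rw [Matrix.det_fin_three, h1, h2, h3] at this
      simpa using this⟩, M.1.1 0 2, M.1.1 1 2)
  have hf : Function.Injective f := fun M N e => by
    simp only [f, Prod.mk.injEq, Subtype.mk.injEq] at e
    obtain ⟨⟨e1, e2, e3, e4⟩, e5, e6⟩ := e
    obtain ⟨h1, h2, h3⟩ := M.2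
    obtain ⟨k1, k2, k3⟩ := N.2
    ext i j
    fin_cases i <;> fin_cases j <;> simp [*]
  refine (Nat.card_le_card_of_injective f hf).trans ?_
  rw [Nat.card_eq_fintype_card]
  decide +kernel

/-- A finite group is critical with respect to a set Ω of natural numbers when its set of element orders is Ω while no proper section has Ω as its set of element orders. A finite group critical with respect to {1, 2, 3, 4, 5} (the set of element orders of the alternating group of degree 6) is isomorphic either to the alternating group of degree 6 or to the affine group F² ⋊ SL(2,F) over the field F with four elements (realised as the matrices of SL(3,F) with last row (0, 0, 1)). -/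
theorem result {G : Type*} [Group G] [Finite G]
    (hcrit : Set.range (orderOf : G → ℕ) = ({1, 2, 3, 4, 5} : Set ℕ) ∧
      ∀ (H : Subgroup G) (N : Subgroup ↥H) [N.Normal], (H ≠ ⊤ ∨ N ≠ ⊥) → Set.range (orderOf : (↥H ⧸ N) → ℕ) ≠ ({1, 2, 3, 4, 5} : Set ℕ)) :
    Nonempty (G ≃* alternatingGroup (Fin 6)) ∨
      ∃ (F : Type) (_ : Field F) (_ : Fintype F), Fintype.card F = 4 ∧
        Nonempty (G ≃* ↥(Subgroup.closure {M : Matrix.SpecialLinearGroup (Fin 3) F |
          (M : Matrix (Fin 3) (Fin 3) F) 2 0 = 0 ∧ (M : Matrix (Fin 3) (Fin 3) F) 2 1 = 0 ∧ (M : Matrix (Fin 3) (Fin 3) F) 2 2 = 1})) := by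
  rcases Cfsg.Agent.S3433.result (G := G) (hcrit.1.trans (by
      ext k
      simp only [Set.mem_insert_iff, Set.mem_singleton_iff, Set.mem_setOf_eq]
      omega)) with h | ⟨Q, _, hQ, ⟨e⟩⟩
  · exact Or.inl h
  right
  let f : G →* A5 := e.toMonoidHom.comp (QuotientGroup.mk' Q)
  have hf : Function.Surjective f := e.surjective.comp (QuotientGroup.mk'_surjective Q)
  have hk : ∀ g, g ∈ Q ↔ f g = 1 := fun g => by simp [f]
  have comm : ∀ x ∈ Q, ∀ y ∈ Q, x * y = y * x := fun x hx y hy =>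
    congrArg Subtype.val (hQ.1.is_comm.comm ⟨x, hx⟩ ⟨y, hy⟩)
  have nQ : ∀ g x, x ∈ Q → g * x * g⁻¹ ∈ Q := fun g x hx => Normal.conj_mem inferInstance x hx g
  have hp : ∀ g : G, g ^ 4 = 1 ∨ g ^ 3 = 1 ∨ g ^ 5 = 1 := fun g => by
    simp only [← orderOf_dvd_iff_pow_eq_one]
    have h2 : orderOf g ∈ ({1, 2, 3, 4, 5} : Set ℕ) := hcrit.1 ▸ Set.mem_range_self _
    rcases h2 with e | e | e | e | e <;> rw [e] <;> simp
  have co : ∀ {g : G} {m n : ℕ}, m.Coprime n → f g ^ m = 1 → g ^ n = 1 → f g = 1 :=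
    fun {g m n} h h1 h2 => by
      have := pow_gcd_eq_one.2 ⟨h1, show f g ^ n = 1 by rw [← map_pow, h2, map_one]⟩
      rwa [h.gcd_eq_one, pow_one] at this
  have H3 : ∀ g, f g ^ 3 = 1 → f g ≠ 1 → g ^ 3 = 1 := fun g h1 h2 => by
    rcases hp g with e | e | e
    exacts [absurd (co (by norm_num) h1 e) h2, e, absurd (co (by norm_num) h1 e) h2]
  have H5 : ∀ g, f g ^ 5 = 1 → f g ≠ 1 → g ^ 5 = 1 := fun g h1 h2 => by
    rcases hp g with e | e | e
    exacts [absurd (co (by norm_num) h1 e) h2, absurd (co (by norm_num) h1 e) h2, e]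
  have fp : ∀ (p : ℕ), Odd p → (∀ g, f g ^ p = 1 → f g ≠ 1 → g ^ p = 1) → ∀ g, f g ^ p = 1 →
      f g ≠ 1 → ∀ x ∈ Q, Commute x g → x = 1 := fun p hp H g h1 h2 x hx c => by
    have e := H (x * g) (by rwa [map_mul, (hk x).1 hx, one_mul])
      (by rwa [map_mul, (hk x).1 hx, one_mul])
    rw [c.mul_pow, H g h1 h2, mul_one] at e
    have := pow_gcd_eq_one.2 ⟨e, hQ.2 x hx⟩
    rwa [(Nat.coprime_two_right.2 hp).gcd_eq_one, pow_one] at this
  have sqi : ∀ x ∈ Q, x⁻¹ = x := fun x hx =>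
    inv_eq_of_mul_eq_one_right (by rw [← sq, hQ.2 x hx])
  -- `Q` is not trivial
  obtain ⟨y, hy, hy1⟩ : ∃ y ∈ Q, y ≠ 1 := by
    obtain ⟨g, hg⟩ : 4 ∈ Set.range (orderOf : G → ℕ) := by rw [hcrit.1]; simp
    have h4 : g ^ 4 = 1 := hg ▸ pow_orderOf_eq_one g
    refine ⟨g ^ 2, (hk _).2 ?_, fun e => ?_⟩
    · have : ∀ u : A5, u ^ 4 = 1 → u ^ 2 = 1 := by decide +kernel
      rw [map_pow]
      exact this _ (by rw [← map_pow, h4, map_one])
    · have := orderOf_dvd_of_pow_eq_one e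
      rw [hg] at this
      omega
  -- an involution over `a5`
  obtain ⟨s, hs, ss⟩ : ∃ s, f s = a5 ∧ s ^ 2 = 1 := by
    obtain ⟨h, hh⟩ := hf H0
    obtain ⟨s, hs⟩ := hf a5
    have h1 : f h ^ 3 = 1 := by rw [hh]; decide +kernel
    have h2 : f h ≠ 1 := by rw [hh]; decide +kernel
    have hq : s * h * s⁻¹ * h ∈ Q := (hk _).2 (by
      simp only [map_mul, map_inv, hh, hs]; decide +kernel)
    set q := s * h * s⁻¹ * h with hq'
    have hx := nQ h⁻¹ q hq
    have n := norm_eq_one H3 h1 h2 ((hk _).1 hx)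
    have h3 := H3 h h1 h2
    have e : h⁻¹ * q * h⁻¹⁻¹ * s * h * (h⁻¹ * q * h⁻¹⁻¹ * s)⁻¹ = h⁻¹ := by
      calc _ = (h⁻¹ * q * h⁻¹⁻¹ * q) * (h⁻¹ * (h⁻¹ * q * h⁻¹⁻¹)⁻¹ * h) * h⁻¹ := by
            rw [hq']; group
        _ = (h⁻¹ * q * h⁻¹⁻¹ * q) * ((h ^ 3)⁻¹ * (h * q * h⁻¹) * h ^ 3) * h⁻¹ := by
            rw [sqi _ hx]; simp only [pow_succ, pow_zero]; group
        _ = _ := by
            rw [h3, inv_one, one_mul, mul_one, mul_eq_right, ← n]; group
    set s' := h⁻¹ * q * h⁻¹⁻¹ * s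
    have hs' : f s' = a5 := by rw [map_mul, (hk _).1 hx, one_mul, hs]
    refine ⟨s', hs', fp 3 (by decide) H3 h h1 h2 _ ((hk _).2 ?_) ?_⟩
    · rw [map_pow, hs']; decide +kernel
    · change s' ^ 2 * h = h * s' ^ 2
      rw [← mul_inv_eq_iff_eq_mul]
      calc _ = s' * (s' * h * s'⁻¹) * s'⁻¹ := by simp only [sq]; group
        _ = (s' * h * s'⁻¹)⁻¹ := by nth_rewrite 1 [e]; group
        _ = _ := by rw [e, inv_inv]
  obtain ⟨b, hb⟩ := hf b5
  obtain ⟨σ, hσa, hσb⟩ := exists_hom5 ss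
    (H3 b (by rw [hb]; decide +kernel) (by rw [hb]; decide +kernel))
    (H5 (s * b) (by rw [map_mul, hs, hb]; decide +kernel) (by rw [map_mul, hs, hb]; decide +kernel))
  have hσ : ∀ u, f (σ u) = u := fun u => by
    have : f.comp σ = MonoidHom.id _ := MonoidHom.eq_of_eqOn_dense closure5 (by
      rintro _ (rfl | rfl)
      · change f (σ a5) = a5
        rw [hσa, hs]
      · change f (σ b5) = b5
        rw [hσb, hb])
    exact DFunLike.congr_fun this u
  set h := σ H0 with hh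
  set t := σ T0 with ht
  have tt : t * t = 1 := by rw [ht, ← map_mul, show T0 * T0 = 1 by decide +kernel, map_one]
  obtain ⟨v, hv, hv1, r1, r2⟩ : ∃ v ∈ Q, v ≠ 1 ∧ t * v * t⁻¹ = v ∧
      t * (h * v * h⁻¹) * t⁻¹ = h * v * h⁻¹ := by
    obtain ⟨v, hv, hv1, r1⟩ := fix_step comm hQ.2 tt (nQ t) hy hy1
    have ct : Commute (h⁻¹ * t * h) t := by
      rw [hh, ht, ← map_inv, ← map_mul, ← map_mul]
      exact Commute.map (by unfold Commute SemiconjBy; decide +kernel) σ
    obtain ⟨u, hu, hu1, r2⟩ := fix_step (S := Q ⊓ centralizer {t}) (t := h⁻¹ * t * h)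
      (fun x hx y hy => comm x hx.1 y hy.1) (fun x hx => hQ.2 x hx.1)
      (by calc _ = h⁻¹ * (t * t) * h := by group
        _ = 1 := by rw [tt]; group)
      (fun x hx => mem_inf.2 ⟨nQ _ x hx.1, Subgroup.mul_mem _ (Subgroup.mul_mem _
        (mem_centralizer_singleton_iff.2 ct.eq) hx.2)
        (Subgroup.inv_mem _ (mem_centralizer_singleton_iff.2 ct.eq))⟩)
      ⟨hv, mem_centralizer_singleton_iff.2 (mul_inv_eq_iff_eq_mul.1 r1).symm⟩ hv1
    refine ⟨u, hu.1, hu1, mul_inv_eq_iff_eq_mul.2 (mem_centralizer_singleton_iff.1 hu.2).symm, ?_⟩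
    nth_rewrite 2 [← r2]
    group
  have r3 : h * (h * v * h⁻¹) * h⁻¹ = (v * (h * v * h⁻¹))⁻¹ :=
    eq_inv_of_mul_eq_one_right (norm_eq_one H3 (by rw [hh, hσ]; decide +kernel)
      (by rw [hh, hσ]; decide +kernel) ((hk _).1 hv))
  have r5 : ∀ y ∈ Q, t * y * t⁻¹ = y → t * (s * y * s⁻¹) * t⁻¹ = s * y * s⁻¹ * y := fun y hy r => by
    have n := norm_eq_one H3 (h := t * s) (by rw [map_mul, ht, hσ, hs]; decide +kernel)
      (by rw [map_mul, ht, hσ, hs]; decide +kernel) ((hk _).1 hy)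
    have e : t * s * (t * s) = s * t := by
      rw [ht, ← hσa, ← map_mul, ← map_mul, ← map_mul]; exact congrArg σ (by decide +kernel)
    rw [show t * s * (t * s * y * (t * s)⁻¹) * (t * s)⁻¹ =
      t * s * (t * s) * y * (t * s * (t * s))⁻¹ by group, e,
      show s * t * y * (s * t)⁻¹ = s * (t * y * t⁻¹) * s⁻¹ by group, r] at n
    calc _ = y⁻¹ * (y * (t * s * y * (t * s)⁻¹) * (s * y * s⁻¹)) * (s * y * s⁻¹)⁻¹ := by group
      _ = _ := by rw [n, mul_one, sqi _ hy, sqi _ (nQ s y hy), comm _ hy _ (nQ s y hy)]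
  haveI := Fact.mk Nat.prime_two
  haveI := Fact.mk Nat.prime_three
  haveI := Fact.mk Nat.prime_five
  have q4 : (t * (s * v * s⁻¹)) ^ 2 = v := by
    calc _ = t * (s * v * s⁻¹) * t⁻¹ * (t * t) * (s * v * s⁻¹) := by simp only [sq]; group
      _ = v * (s * v * s⁻¹) ^ 2 := by
          rw [r5 v hv r1, tt, mul_one, ← comm _ hv _ (nQ s v hv), sq, mul_assoc]
      _ = v := by rw [hQ.2 _ (nQ s v hv), mul_one]
  have b3 : b ^ 3 = 1 := by rw [← hσb, ← map_pow, show b5 ^ 3 = 1 by decide +kernel, map_one]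
  have sb5 : (s * b) ^ 5 = 1 := by
    rw [← hσb, ← hσa, ← map_mul, ← map_pow, show (a5 * b5) ^ 5 = 1 by decide +kernel, map_one]
  have tw : t = b * s * b * s * b * b * s * b * b := by
    rw [ht, T0_eq]; simp only [map_mul, hσa, hσb]
  have hgen : closure ({s, b, v} : Set G) = ⊤ := by
    have ms : s ∈ closure ({s, b, v} : Set G) := subset_closure (by simp)
    have mb : b ∈ closure ({s, b, v} : Set G) := subset_closure (by simp)
    have mv : v ∈ closure ({s, b, v} : Set G) := subset_closure (by simp)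
    have mt : t ∈ closure ({s, b, v} : Set G) := by
      rw [tw]; repeat first | exact ms | exact mb | apply mul_mem
    refine (crit hcrit _ (Subgroup.subtype _) ?_).1
    rintro _ (rfl | rfl | rfl | rfl)
    · exact ⟨⟨v, mv⟩, orderOf_eq_prime (hQ.2 v hv) hv1⟩
    · exact ⟨⟨b, mb⟩, orderOf_eq_prime b3 fun e =>
        absurd (hb.symm.trans ((congrArg f e).trans (map_one f))) (by decide +kernel)⟩
    · refine ⟨⟨_, mul_mem mt (mul_mem (mul_mem ms mv) (inv_mem ms))⟩,
        orderOf_eq_prime_pow (p := 2) (n := 1) ?_ ?_⟩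
      · change ¬ (t * (s * v * s⁻¹)) ^ 2 = 1
        rwa [q4]
      · change (t * (s * v * s⁻¹)) ^ (2 * 2) = 1
        rw [pow_mul, q4, hQ.2 v hv]
    · refine ⟨⟨_, mul_mem ms mb⟩, orderOf_eq_prime sb5 fun e => ?_⟩
      have : f (s * b) = 1 := (congrArg f e).trans (map_one f)
      rw [map_mul, hs, hb] at this
      exact absurd this (by decide +kernel)
  have cG : 960 ≤ Nat.card G := by
    have md : ∀ (p : ℕ) [Fact p.Prime], Odd p → (∀ g, f g ^ p = 1 → f g ≠ 1 → g ^ p = 1) →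
        ∀ u : A5, u ^ p = 1 → u ≠ 1 → Nat.card Q ≡ 1 [MOD p] := fun p _ hp H u h1 h2 => by
      have o : orderOf (σ u) = p := orderOf_eq_prime (by rw [← map_pow, h1, map_one])
        fun e => h2 (by rw [← hσ u, e, map_one])
      have := H2.card_modEq_one_of_semiregular (K := Q) (R := zpowers (σ u))
        le_normalizer_of_normal (by
          rintro _ ⟨i, rfl⟩ hr
          rw [eq_bot_iff]
          intro x hx
          refine fp p hp H _ ?_ ?_ x hx.1 (mem_centralizer_singleton_iff.1 hx.2)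
          · rw [map_zpow, hσ, ← zpow_natCast, ← zpow_mul, mul_comm, zpow_mul, zpow_natCast, h1,
              one_zpow]
          · intro e
            apply hr
            change σ u ^ i = 1
            change f (σ u ^ i) = 1 at e
            rw [← map_zpow, hσ] at e
            rw [← map_zpow, e, map_one])
      rwa [Nat.card_zpowers, o] at this
    have m3 := md 3 (by decide) H3 b5 (by decide +kernel) (by decide +kernel)
    have m5 := md 5 (by decide) H5 (a5 * b5) (by decide +kernel) (by decide +kernel)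
    have m1 : 1 < Nat.card Q := (one_lt_card_iff_ne_bot Q).2 fun e => hv1 (by rwa [e] at hv)
    have c := card_eq_card_quotient_mul_card_subgroup Q
    rw [Nat.card_congr e.toEquiv, card_A5] at c
    unfold Nat.ModEq at m3 m5
    omega
  obtain ⟨τ, hτa, hτb⟩ := exists_hom5 (x := ma) (y := mb) (by decide +kernel) (by decide +kernel)
    (by decide +kernel)
  have hτt : τ T0 = mt := by
    rw [T0_eq]; simp only [map_mul, hτa, hτb]; decide +kernel
  have hτh : τ H0 = mh := by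
    rw [H0, map_mul, hτb, hτt]; decide +kernel
  have cD := card_le (σ.prod τ) (v, mv) (Q.prod Tr)
    (fun x hx y hy => Prod.ext (comm _ hx.1 _ hy.1) (by
      obtain ⟨a, b, e1⟩ := hx.2
      obtain ⟨c, d, e2⟩ := hy.2
      change x.2 * y.2 = y.2 * x.2
      rw [e1, e2, tr_mul, tr_mul, add_comm a, add_comm b]))
    (fun x hx => Prod.ext (hQ.2 _ hx.1) (by
      obtain ⟨a, b, e1⟩ := hx.2
      change x.2 ^ 2 = 1
      rw [e1, sq, tr_mul, CharTwo.add_self_eq_zero, CharTwo.add_self_eq_zero, tr_zero]))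
    ⟨hv, 1, 0, by change mv = _; decide +kernel⟩ (h := (h, mh)) (s := (s, ma)) (t := (t, mt))
    (Prod.ext rfl hτh) (Prod.ext hσa hτa) (Prod.ext rfl hτt)
    ⟨nQ _ _ hv, F4.w, 0, by change mh * mv * mh⁻¹ = _; rw [mh_inv]; decide +kernel⟩
    ⟨nQ _ _ hv, 0, 1, by change ma * mv * ma⁻¹ = _; rw [ma_inv]; decide +kernel⟩
    ⟨nQ _ _ (nQ _ _ hv), 0, F4.w, by
      change ma * (mh * mv * mh⁻¹) * ma⁻¹ = _; rw [ma_inv, mh_inv]; decide +kernel⟩
    (Prod.ext r1 (by change mt * mv * mt⁻¹ = mv; rw [mt_inv]; decide +kernel))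
    (Prod.ext r2 (by
      change mt * (mh * mv * mh⁻¹) * mt⁻¹ = mh * mv * mh⁻¹; rw [mt_inv, mh_inv]; decide +kernel))
    (Prod.ext r3 (by
      change mh * (mh * mv * mh⁻¹) * mh⁻¹ = (mv * (mh * mv * mh⁻¹))⁻¹
      rw [mh_inv, eq_inv_iff_mul_eq_one]; decide +kernel))
    (Prod.ext (r5 v hv r1) (by
      change mt * (ma * mv * ma⁻¹) * mt⁻¹ = ma * mv * ma⁻¹ * mv
      rw [mt_inv, ma_inv]; decide +kernel))
    (Prod.ext (r5 _ (nQ _ _ hv) r2) (by
      change mt * (ma * (mh * mv * mh⁻¹) * ma⁻¹) * mt⁻¹ =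
        ma * (mh * mv * mh⁻¹) * ma⁻¹ * (mh * mv * mh⁻¹)
      rw [mt_inv, ma_inv, mh_inv]; decide +kernel))
  rw [show (σ.prod τ) a5 = (s, ma) from Prod.ext hσa hτa,
    show (σ.prod τ) b5 = (b, mb) from Prod.ext hσb hτb] at cD
  set D := closure ({(s, ma), (b, mb), (v, mv)} : Set (G × SL3))
  let π : D →* G := (MonoidHom.fst G SL3).comp D.subtype
  have hπ : Function.Surjective π := by
    rw [← MonoidHom.range_eq_top, MonoidHom.range_comp, range_subtype,
      MonoidHom.map_closure, Set.image_insert_eq, Set.image_pair]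
    exact hgen
  let ε := MulEquiv.ofBijective π (hπ.bijective_of_nat_card_le (cD.trans cG))
  let φ : G →* SL3 := (MonoidHom.snd G SL3).comp (D.subtype.comp ε.symm.toMonoidHom)
  have val : ∀ x y, (x, y) ∈ D → φ x = y := fun x y hxy => by
    have : ε.symm x = ⟨(x, y), hxy⟩ := ε.symm_apply_eq.2 rfl
    change (ε.symm x).1.2 = y
    rw [this]
  have φs : φ s = ma := val _ _ (subset_closure (by simp))
  have φb : φ b = mb := val _ _ (subset_closure (by simp))
  have φv : φ v = mv := val _ _ (subset_closure (by simp))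
  have inj : Function.Injective φ := by
    have := (crit hcrit ⊤ (φ.comp (Subgroup.subtype _)) (by
      rintro _ (rfl | rfl | rfl | rfl)
      · refine ⟨⟨v, mem_top _⟩, ?_⟩
        change orderOf (φ v) = 2
        rw [φv]
        exact orderOf_eq_prime (by decide +kernel) (by decide +kernel)
      · refine ⟨⟨b, mem_top _⟩, ?_⟩
        change orderOf (φ b) = 3
        rw [φb]
        exact orderOf_eq_prime (by decide +kernel) (by decide +kernel)
      · refine ⟨⟨t * (s * v * s⁻¹), mem_top _⟩, ?_⟩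
        change orderOf (φ (t * (s * v * s⁻¹))) = 2 ^ (1 + 1)
        refine orderOf_eq_prime_pow ?_ ?_
        · rw [pow_one, ← map_pow, q4, φv]; decide +kernel
        · rw [show 2 ^ (1 + 1) = 2 * 2 from rfl, pow_mul, ← map_pow, q4, φv]; decide +kernel
      · refine ⟨⟨s * b, mem_top _⟩, ?_⟩
        change orderOf (φ (s * b)) = 5
        rw [map_mul, φs, φb]
        exact orderOf_eq_prime (by decide +kernel) (by decide +kernel))).2
    rw [injective_iff_map_eq_one]
    intro x hx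
    have hx' : (⟨x, mem_top x⟩ : (⊤ : Subgroup G)) ∈ (φ.comp (Subgroup.subtype _)).ker := hx
    rw [this, mem_bot] at hx'
    exact congrArg Subtype.val hx'
  have hle : φ.range ≤ Aff := by
    rw [MonoidHom.range_eq_map, ← hgen, MonoidHom.map_closure, closure_le, Set.image_insert_eq,
      Set.image_pair, φs, φb, φv]
    rintro _ (rfl | rfl | rfl) <;> exact ⟨rfl, rfl, rfl⟩
  have heq : φ.range = Aff := eq_of_le_of_card_ge hle (card_Aff.trans (cG.trans
    (Nat.card_congr (MonoidHom.ofInjective inj).toEquiv).le))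
  exact ⟨F4, inferInstance, inferInstance, F4.card_eq,
    ⟨(MonoidHom.ofInjective inj).trans (MulEquiv.subgroupCongr (heq.trans (closure_eq Aff).symm))⟩⟩

end Cfsg.Agent.S3600
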