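import Cfsg.Statements.S3641
import Mathlib
import Cfsg.Agent.Lib.Odd9.Syl17
import Cfsg.Agent.S0732
import Cfsg.Agent.S2475
import Cfsg.Agent.Lib.GL.Basic

set_option autoImplicit false
open Cfsg

namespace Cfsg.Agent.S3641

set_option linter.style.haveILetI false

theorem psl17 : 136 ≤ Nat.card (Sylow 3 (Matrix.ProjectiveSpecialLinearGroup (Fin 2) (ZMod 17))) ∧
    153 ≤ Nat.card (Sylow 2 (Matrix.ProjectiveSpecialLinearGroup (Fin 2) (ZMod 17))) := by
  haveI : Fact (Nat.Prime 17) := ⟨by norm_num⟩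
  have hc : Nat.card (Matrix.ProjectiveSpecialLinearGroup (Fin 2) (ZMod 17)) = 2448 := by
    have h := H10.card_PSL_two (F := ZMod 17)
    rw [Nat.card_zmod] at h
    norm_num at h
    rw [Nat.card_eq_fintype_card]
    omega
  have hs := Cfsg.Agent.S2475.result (F := ZMod 17) 17 (by rw [ZMod.card]; norm_num)
  rw [ZMod.card] at hs
  norm_num at hs
  have h1 : ∀ g : Matrix.ProjectiveSpecialLinearGroup (Fin 2) (ZMod 17),
      orderOf g ∣ 17 ∨ orderOf g ∣ 8 ∨ orderOf g ∣ 9 := fun g => by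
    have : orderOf g ∈ Set.range (orderOf : Matrix.ProjectiveSpecialLinearGroup (Fin 2) (ZMod 17) → ℕ) :=
      ⟨g, rfl⟩
    rw [hs] at this
    exact this
  obtain ⟨x, hx⟩ : 9 ∈ Set.range (orderOf : Matrix.ProjectiveSpecialLinearGroup (Fin 2) (ZMod 17) → ℕ) := by
    rw [hs]; simp
  obtain ⟨a, ha⟩ : 8 ∈ Set.range (orderOf : Matrix.ProjectiveSpecialLinearGroup (Fin 2) (ZMod 17) → ℕ) := by
    rw [hs]; simp
  exact ⟨H9.sylow3_of_spec hc h1 x hx, H9.sylow2_of_spec hc h1 a ha⟩

/-- Let G be a finite group with trivial centre whose set of Sylow numbers (numbers of Sylow r-subgroups, r over the prime divisors of its order) is exactly {18, 136, 153}. Then G is isomorphic to PSL(2, 17) or to PGL(2, 17). -/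
theorem result {G : Type*} [Group G] [Finite G] (hZ : Subgroup.center G = ⊥) (hNS : {c : ℕ | ∃ r : ℕ, r.Prime ∧ r ∣ Nat.card G ∧ c = Nat.card (Sylow r G)} = ({18, 136, 153} : Set ℕ))
    {F : Type*} [Field F] [Fintype F] (hF : Fintype.card F = 17) :
    Nonempty (G ≃* Matrix.ProjectiveSpecialLinearGroup (Fin 2) F) ∨ Nonempty (G ≃* (GL (Fin 2) F ⧸ Subgroup.center (GL (Fin 2) F))) := by
  classical
  haveI : Fact (Nat.Prime 17) := ⟨by norm_num⟩
  haveI : Fact (Nat.Prime 3) := ⟨by norm_num⟩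
  have hmem : ∀ r : ℕ, r.Prime → r ∣ Nat.card G →
      Nat.card (Sylow r G) = 18 ∨ Nat.card (Sylow r G) = 136 ∨ Nat.card (Sylow r G) = 153 := by
    intro r hr hd
    have : Nat.card (Sylow r G) ∈ ({18, 136, 153} : Set ℕ) := by
      rw [← hNS]; exact ⟨r, hr, hd, rfl⟩
    simpa using this
  have hmod : ∀ r : ℕ, r.Prime → r ∣ Nat.card (Sylow r G) - 1 := by
    intro r hr
    haveI : Fact r.Prime := ⟨hr⟩
    exact (Nat.modEq_iff_dvd' Nat.card_pos).mp (card_sylow_modEq_one r G).symm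
  have h17 : Nat.card (Sylow 17 G) = 17 + 1 := by
    have : (18 : ℕ) ∈ {c : ℕ | ∃ r : ℕ, r.Prime ∧ r ∣ Nat.card G ∧ c = Nat.card (Sylow r G)} := by
      rw [hNS]; simp
    obtain ⟨r, hr, -, h⟩ := this
    have h1 := hmod r hr
    rw [← h] at h1
    have : r = 17 := (Nat.prime_dvd_prime_iff_eq hr (by norm_num)).mp h1
    subst this
    exact h.symm
  have h18 : 18 ∣ Nat.card G := by
    have := (default : Sylow 17 G).card_dvd_index
    rw [h17] at this
    exact this.trans (Subgroup.index_dvd_card _)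
  have h2 : Nat.card (Sylow 2 G) = 153 := by
    have h1 := hmod 2 (by norm_num)
    rcases hmem 2 (by norm_num) (Dvd.dvd.trans (by norm_num) h18) with h | h | h <;> rw [h] at h1 ⊢
    all_goals (first | rfl | norm_num at h1)
  have h3 : Nat.card (Sylow 3 G) = 136 := by
    have h1 := hmod 3 (by norm_num)
    rcases hmem 3 (by norm_num) (Dvd.dvd.trans (by norm_num) h18) with h | h | h <;> rw [h] at h1 ⊢
    all_goals (first | rfl | norm_num at h1)
  haveI : Fintype (Sylow 17 G) := Fintype.ofFinite _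
  set φ := MulAction.toPermHom G (Sylow 17 G) with hφ
  obtain ⟨d, hd, hcard⟩ := H9.card_range_sylow (G := G) (p := 17) (by norm_num) h17
  haveI : MulAction.IsPretransitive φ.range (Sylow 17 G) := ⟨fun P Q => by
    obtain ⟨g, hg⟩ := MulAction.exists_smul_eq G P Q
    exact ⟨⟨φ g, g, rfl⟩, hg⟩⟩
  have hmain := Cfsg.Agent.S0732.result (p := 17) (d := d) (by norm_num)
    (by rw [← Nat.card_eq_fintype_card, h17]) φ.range hcard hd
  have hinj : ∃ i : Matrix.ProjectiveSpecialLinearGroup (Fin 2) (ZMod 17) →* φ.range,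
      Function.Injective i := by
    rcases hmain with ⟨-, ⟨e⟩⟩ | ⟨-, ⟨e⟩⟩ | ⟨q, -, hq, -⟩
    · exact ⟨e.symm.toMonoidHom.comp Matrix.ProjectiveSpecialLinearGroup.toPGL,
        e.symm.injective.comp Matrix.ProjectiveSpecialLinearGroup.toPGL_injective⟩
    · exact ⟨e.symm.toMonoidHom, e.symm.injective⟩
    · exfalso
      have : 3 ∣ 2 ^ q := by rw [← hq]; norm_num
      have := (Nat.prime_three).dvd_of_dvd_pow this
      norm_num at this
  have hd' : d = 16 ∨ d = 8 := by
    rcases hmain with ⟨h, -⟩ | ⟨h, -⟩ | ⟨q, -, hq, -⟩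
    · omega
    · omega
    · exfalso
      have : 3 ∣ 2 ^ q := by rw [← hq]; norm_num
      have := (Nat.prime_three).dvd_of_dvd_pow this
      norm_num at this
  obtain ⟨i, hi⟩ := hinj
  have hsurj := φ.rangeRestrict_surjective
  have hker : φ.rangeRestrict.ker = φ.ker := MonoidHom.ker_rangeRestrict φ
  have hk17 : ∀ k ∈ φ.ker, ∀ P : Sylow 17 G, k • P = P := fun k hk P =>
    congrArg (fun σ : Equiv.Perm (Sylow 17 G) => σ P) (show φ k = 1 from hk)
  have hother : ∀ (r : ℕ) [Fact r.Prime], r ∣ Nat.card G → r ≠ 2 → r ≠ 3 → r ≠ 17 → False := by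
    intro r hr hrG hr2 hr3 hr17
    let Q : Sylow r G := default
    have hQ : (Q : Subgroup G) ≤ φ.ker := by
      rw [← Subgroup.map_eq_bot_iff]
      obtain ⟨k, hk⟩ := (Q.isPGroup'.map φ).exists_card_eq
      have hdv : r ^ k ∣ Nat.card φ.range :=
        hk ▸ Subgroup.card_dvd_of_le (Subgroup.map_le_range φ _)
      rcases Nat.eq_zero_or_pos k with h0 | h0
      · rw [h0, pow_zero] at hk; exact Subgroup.card_eq_one.mp hk
      · exfalso
        have h5 : r ∣ 2 ^ 5 * 3 ^ 2 * 17 := by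
          refine ((dvd_pow_self r h0.ne').trans hdv).trans ?_
          rw [hcard]; rcases hd' with h | h <;> rw [h] <;> norm_num
        rcases (Nat.Prime.dvd_mul hr.out).mp h5 with h6 | h6
        · rcases (Nat.Prime.dvd_mul hr.out).mp h6 with h7 | h7
          · exact hr2 ((Nat.prime_dvd_prime_iff_eq hr.out (by norm_num)).mp (hr.out.dvd_of_dvd_pow h7))
          · exact hr3 ((Nat.prime_dvd_prime_iff_eq hr.out (by norm_num)).mp (hr.out.dvd_of_dvd_pow h7))
        · exact hr17 ((Nat.prime_dvd_prime_iff_eq hr.out (by norm_num)).mp h6)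
    have h16 : r ∣ 2 ^ 4 := by
      rcases hmem r hr.out hrG with h | h | h
      · have h1 := hmod r hr.out
        rw [h] at h1
        exact absurd ((Nat.prime_dvd_prime_iff_eq hr.out (by norm_num)).mp h1) hr17
      · exact H9.dvd_sub_one_of_normalizes (p := 17) (m := 8) (Ne.symm hr17) Q
          (fun k hk => hk17 k (hQ hk)) h (by norm_num)
      · exact H9.dvd_sub_one_of_normalizes (p := 17) (m := 9) (Ne.symm hr17) Q
          (fun k hk => hk17 k (hQ hk)) h (by norm_num)
    exact hr2 ((Nat.prime_dvd_prime_iff_eq hr.out (by norm_num)).mp (hr.out.dvd_of_dvd_pow h16))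
  have hK : φ.ker = ⊥ := by
    refine H9.eq_bot_of_normalizes_sylow hZ φ.ker fun r hr hrG k hk P => ?_
    by_cases hr2 : r = 2
    · subst hr2
      exact H9.ker_smul_sylow_of_card_le 2 φ.rangeRestrict hsurj
        (h2 ▸ psl17.2.trans (H9.card_sylow_le_of_injective 2 i hi)) (hker ▸ hk) P
    by_cases hr3 : r = 3
    · subst hr3
      exact H9.ker_smul_sylow_of_card_le 3 φ.rangeRestrict hsurj
        (h3 ▸ psl17.1.trans (H9.card_sylow_le_of_injective 3 i hi)) (hker ▸ hk) P
    by_cases hr17 : r = 17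
    · subst hr17
      exact hk17 k hk P
    exact (hother r hrG hr2 hr3 hr17).elim
  have e0 : G ≃* φ.range := MonoidHom.ofInjective ((MonoidHom.ker_eq_bot_iff φ).mp hK)
  have r : ZMod 17 ≃+* F := FiniteField.ringEquivOfCardEq (by rw [ZMod.card, hF])
  rcases hmain with ⟨-, ⟨e⟩⟩ | ⟨-, ⟨e⟩⟩ | ⟨q, -, hq, -⟩
  · exact Or.inr ⟨(e0.trans e).trans (H10.pglCongr r)⟩
  · exact Or.inl ⟨(e0.trans e).trans (H10.pslCongr r)⟩
  · exfalso
    have : 3 ∣ 2 ^ q := by rw [← hq]; norm_num
    have := (Nat.prime_three).dvd_of_dvd_pow this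
    norm_num at this

end Cfsg.Agent.S3641
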