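import Cfsg.Statements.S3642
import Mathlib
import Cfsg.Agent.Base
import Cfsg.Agent.Lib.Ord.DgD
import Cfsg.Agent.Lib.Ord.M11
import Cfsg.Agent.Lib.Golay.Out
import Cfsg.Agent.S2034
import Cfsg.Agent.S2037
import Cfsg.Agent.S0422

set_option autoImplicit false
open Cfsg

namespace Cfsg.Agent.S3642

/-- Let M be one of the Mathieu groups M₁₁, M₂₂, M₂₃, M₂₄ and let G be a finite group of the same order as M whose character degree graph equals that of M (same set of primes dividing some irreducible complex character degree, and the same pairs of distinct primes whose product divides some degree). Then G is isomorphic to M. -/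
theorem result {M : Type*} [Group M] [Finite M] (hM : Cfsg.Spor.IsoM11 M ∨ Cfsg.Spor.IsoM22 M ∨ Cfsg.Spor.IsoM23 M ∨ Cfsg.Spor.IsoM24 M)
    {G : Type*} [Group G] [Finite G] (hcard : Nat.card G = Nat.card M) (hΔ : Cfsg.degreePrimes G = Cfsg.degreePrimes M ∧ Cfsg.degreeGraph G = Cfsg.degreeGraph M) :
    Nonempty (G ≃* M) := by
  haveI := H15.isSimple_M11
  haveI := H15.isSimple_M22
  haveI := H15.isSimple_M23
  haveI : Fact (Nat.Prime 11) := ⟨by norm_num⟩
  open H17.Ord H34.Deg in
  rcases hM with ⟨⟨e⟩⟩ | ⟨⟨e⟩⟩ | ⟨⟨e⟩⟩ | ⟨⟨e⟩⟩ <;> rw [Nat.card_congr e.toEquiv] at hcard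
  · rw [H15.card_M11] at hcard
    obtain h | ⟨L, K, _, _, -, -, h⟩ := simple_or (p := 11) (m := 720) (n := 0) (n' := 660) hcard
      (by norm_num) (not_dvd_pow_sub_one (by norm_num) (by decide +kernel)) (fun H _ _ _ h1 h2 h3 => by
        have := card_of_dvd_95040 h1 (h2.trans (by norm_num)) h3
        have := Nat.le_of_dvd (by norm_num) h2
        omega) (exists_deg e hΔ.2 (by norm_num) (by norm_num) (by norm_num)
        (degs11 H15.card_M11).1) (by norm_num) (by norm_num) (by norm_num)
    · exact (M11.isoM11 hcard).map (·.trans e.symm)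
    · exact absurd h Nat.card_pos.ne'
  · rw [H15.card_M22] at hcard
    obtain h | ⟨L, K, _, _, k, _, h⟩ := simple_or (p := 11) (m := 40320) hcard
      (by norm_num) (not_dvd_pow_sub_one (by norm_num) (by decide +kernel))
      (fun H _ _ _ => card_of_dvd_M22) (exists_deg e hΔ.2 (by norm_num) (by norm_num) (by norm_num)
        (degs22 H15.card_M22).1) (by norm_num) (by norm_num) (by norm_num)
    · exact (M22.isoM22 hcard).map (·.trans e.symm)
    obtain ⟨f⟩ := M11.isoM11 h
    exact absurd (deg_of_prod (by rw [H15.card_M11]; norm_num) S2034.result (fun φ => by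
      obtain ⟨s, s1, s2⟩ := H15.aut_M11 φ
      exact ⟨⟨s, s1⟩, fun x => Subtype.ext (s2 x)⟩) k f (exists_deg e hΔ.2 (by norm_num)
        (by norm_num) (by norm_num) (degs22 H15.card_M22).2)
        (by rw [hcard, H15.card_M11]; norm_num)) (degs11 H15.card_M11).2
  · rw [H15.card_M23] at hcard
    obtain h | ⟨L, K, _, _, -, -, h⟩ := simple_or (p := 23) (m := 443520) (n := 0) (n' := 6072) hcard
      (by norm_num) (not_dvd_pow_sub_one (by norm_num) (by decide +kernel)) (fun H _ _ _ h1 h2 h3 => by
        have := card_of_dvd_M24 h1 (h2.trans (by norm_num)) h3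
        have := Nat.le_of_dvd (by norm_num) h2
        omega) (exists_deg e hΔ.2 (by norm_num) (by norm_num) (by norm_num)
        (degs23 H15.card_M23).1) (by norm_num) (by norm_num) (by norm_num)
    · exact (M23.isoM23 hcard).map (·.trans e.symm)
    · exact absurd h Nat.card_pos.ne'
  · rw [H15.card_M24] at hcard
    obtain h | ⟨L, K, _, _, k, _, h⟩ := simple_or (p := 23) (m := 10644480) hcard
      (by norm_num) (not_dvd_pow_sub_one (by norm_num) (by decide +kernel))
      (fun H _ _ _ => card_of_dvd_M24) (exists_deg e hΔ.2 (by norm_num) (by norm_num) (by norm_num)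
        degs24.1) (by norm_num) (by norm_num) (by norm_num)
    · exact (S0422.result ⟨h, hcard⟩).map (·.trans e.symm)
    obtain ⟨f⟩ := M23.isoM23 h
    exact absurd (deg_of_prod (by rw [H15.card_M23]; norm_num) S2037.result (fun φ => by
      obtain ⟨s, s1, s2⟩ := H15.aut_M23 φ
      exact ⟨⟨s, s1⟩, fun x => Subtype.ext (s2 x)⟩) k f (exists_deg e hΔ.2 (by norm_num)
        (by norm_num) (by norm_num) degs24.2)
        (by rw [hcard, H15.card_M23]; norm_num)) (degs23 H15.card_M23).2

end Cfsg.Agent.S3642
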