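import Cfsg.Statements.S3643
import Mathlib
import Cfsg.Agent.Base
import Cfsg.Agent.Lib.Ord.DegM12
import Cfsg.Agent.Lib.Ord.M11
import Cfsg.Agent.Lib.Golay.Out
import Cfsg.Agent.S2034
import Cfsg.Agent.S0228

set_option autoImplicit false
open Cfsg

namespace Cfsg.Agent.S3643

/-- Let G be a finite group of the same order as the Mathieu group M₁₂ whose character degree graph equals that of M₁₂ (same primes dividing some irreducible complex character degree, same pairs of distinct primes whose product divides some degree). Then G is isomorphic to M₁₂ or to the direct product of the alternating group of degree 4 with M₁₁. -/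
theorem result {G : Type*} [Group G] [Finite G] (hcard : Nat.card G = Nat.card ↥Cfsg.Spor.M12) (hΔ : Cfsg.degreePrimes G = Cfsg.degreePrimes ↥Cfsg.Spor.M12 ∧ Cfsg.degreeGraph G = Cfsg.degreeGraph ↥Cfsg.Spor.M12) :
    Nonempty (G ≃* ↥Cfsg.Spor.M12) ∨ Nonempty (G ≃* alternatingGroup (Fin 4) × ↥Cfsg.Spor.M11) := by
  open H17.Ord in
  have hmm := not_dvd_pow_sub_one (p := 11) (m := 8640) (by norm_num) (by decide +kernel)
  obtain ⟨⟨a, a1⟩, ⟨b, b1⟩⟩ := H17.Ord.M12.degs
  obtain ⟨-, -, -, _, ⟨φ, rfl⟩, h33⟩ : (Cfsg.degreeGraph G).Adj 3 11 :=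
    hΔ.2 ▸ ⟨by norm_num, by norm_num, by norm_num, _, ⟨a, rfl⟩, a1⟩
  obtain ⟨-, -, -, _, ⟨ψ, rfl⟩, h55⟩ : (Cfsg.degreeGraph G).Adj 5 11 :=
    hΔ.2 ▸ ⟨by norm_num, by norm_num, by norm_num, _, ⟨b, rfl⟩, b1⟩
  rw [H15.card_M12] at hcard
  haveI : Fact (Nat.Prime 11) := ⟨by norm_num⟩
  obtain ⟨L, K, _, _, h1, h2, h3, h4⟩ := H17.Ord.exists_quasi (p := 11) (m := 8640) hcard
    (by norm_num) hmm ψ.2 ((dvd_mul_left _ _).trans h55)
  have e1 := K.card_mul_index
  have e2 := L.card_mul_index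
  rw [hcard, ← e1] at e2
  rcases H17.Ord.card_of_dvd_95040 h4 (Dvd.intro_left (Nat.card K * L.index)
    (by rw [← e2, mul_right_comm]; rfl)) h3 with h | h | h <;> rw [← Subgroup.index] at h
  · left
    rw [h, mul_right_comm] at e2
    have e3 : Nat.card K * L.index = 1 := by omega
    have e4 := Subgroup.index_eq_one.mp (Nat.eq_one_of_mul_eq_one_left e3)
    have e5 := Subgroup.card_eq_one.mp (Nat.eq_one_of_mul_eq_one_right e3)
    subst e4 e5
    obtain ⟨e⟩ := H17.Ord.M12.isoM12 (G := (⊤ : Subgroup G) ⧸ (⊥ : Subgroup (⊤ : Subgroup G))) h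
    exact ⟨(Subgroup.topEquiv.symm.trans QuotientGroup.quotientBot.symm).trans e⟩
  · right
    obtain ⟨e⟩ := H17.Ord.M11.isoM11 (G := L ⧸ K) h
    haveI := H15.isSimple_M11
    obtain ⟨C, ⟨f⟩⟩ := H17.Ord.exists_prod (S := Spor.M11) (fun hc => h4 ⟨⟨fun x y =>
      e.injective (by rw [map_mul, map_mul, hc.is_comm.comm])⟩⟩) S2034.result (fun φ => by
        obtain ⟨s, s1, s2⟩ := H15.aut_M11 φ
        exact ⟨⟨s, s1⟩, fun x => Subtype.ext (s2 x)⟩) h1 e
    have c1 : Nat.card C = 12 := by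
      have := Nat.card_congr f.toEquiv
      rw [Nat.card_prod, H15.card_M11, hcard] at this
      omega
    obtain ⟨α, β, k1, k2, k3⟩ := (H6.isIrrCharacter_prod_iff _).mp
      (H6.isIrrCharacter_comp_equiv f.symm φ.2)
    have k4 : charDegree (φ : G → ℂ) = charDegree α * charDegree β := by
      have := congrFun k3 1
      simp only [map_one, Prod.fst_one, Prod.snd_one] at this
      rw [H17.Ord.dg_cast φ, show α 1 = charDegree α from H17.Ord.dg_cast ⟨α, k1⟩,
        show β 1 = charDegree β from H17.Ord.dg_cast ⟨β, k2⟩] at this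
      exact_mod_cast this
    have k5 := H17.Ord.dg_dvd ⟨α, k1⟩
    have k6 := H17.Ord.M11.degrees H15.card_M11 (charDegree β)
    have k7 := (H17.Ord.cnt_pos (S := Finset.univ)).mpr ⟨⟨β, k2⟩, Finset.mem_univ _, rfl⟩
    have k8 : 3 ∣ charDegree α := by
      change charDegree α ∣ _ at k5
      change 0 < H17.Ord.cnt _ (charDegree β) at k7
      rw [c1] at k5
      rw [k4] at h33
      have := Nat.le_of_dvd (by norm_num) k5
      generalize charDegree α = n at *
      interval_cases n <;> split_ifs at k6 <;> omega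
    obtain ⟨g⟩ := S0228.result c1 fun z z1 z2 => by
      have m1 := H87.deg_sq_le_index k1 (Z := Subgroup.zpowers z) fun w hw =>
        H87.norm_eq_of_mem_center k1 (Subgroup.zpowers_le.mpr z2 hw)
      have m2 := (Subgroup.zpowers z).card_mul_index
      have m3 := Nat.le_of_dvd (H87.deg_pos k1) k8
      rw [Nat.card_zpowers, z1, c1] at m2
      nlinarith
    exact ⟨f.trans (MulEquiv.prodCongr g (MulEquiv.refl _))⟩
  · have := H17.Ord.sq_le_of_coprime h1 ψ.2 h55 (Nat.Coprime.coprime_dvd_right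
      (Dvd.intro_left (Nat.card K) (by rw [h, mul_right_comm] at e2; omega) : L.index ∣ 144)
      (by norm_num))
    omega

end Cfsg.Agent.S3643
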