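import Cfsg.Statements.S4774
import Mathlib
import Cfsg.Agent.Lib.GL2Char.SLMore

set_option autoImplicit false
open Cfsg

namespace Cfsg.Agent.S4774

open H62.GL2 in

/-- Let F be a finite field of odd characteristic t with q > 5 elements and let S be isomorphic to PSL(2,F) or to SL(2,F). Then the vertices of the character degree graph of S are the primes dividing q(q²−1); the prime t is adjacent to no vertex; two distinct primes dividing q² − 1 are adjacent exactly when one of them is 2, or both divide q + 1, or both divide q − 1. -/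
theorem result (F : Type*) [Field F] [Fintype F] (t : ℕ) [Fact t.Prime] [CharP F t] (ht : t ≠ 2) (q : ℕ) (hq : Fintype.card F = q) (h5 : 5 < q) {S : Type*} [Group S] [Finite S] (hS : Nonempty (S ≃* Matrix.ProjectiveSpecialLinearGroup (Fin 2) F) ∨ Nonempty (S ≃* Matrix.SpecialLinearGroup (Fin 2) F)) : Cfsg.degreePrimes S = {r : ℕ | r.Prime ∧ r ∣ q * (q ^ 2 - 1)} ∧ ∀ r s : ℕ, (Cfsg.degreeGraph S).Adj r s ↔ (r ≠ s ∧ r.Prime ∧ s.Prime ∧ r ∣ q ^ 2 - 1 ∧ s ∣ q ^ 2 - 1 ∧ (r = 2 ∨ s = 2 ∨ (r ∣ q + 1 ∧ s ∣ q + 1) ∨ (r ∣ q - 1 ∧ s ∣ q - 1))) := by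
  classical
  have h2 : ringChar F ≠ 2 := by rw [ringChar.eq F t]; exact ht
  have h3 := FiniteField.odd_card_of_char_ne_two h2
  obtain ⟨k1, k2⟩ := degreeGraph_SL (fun h => by have := Nat.le_of_dvd (by norm_num) h; omega)
    (fun h => by have := Nat.le_of_dvd (by norm_num) h; omega) hS hq
  refine ⟨k1, fun r s => ?_⟩
  rw [k2]
  simp only [and_congr_right_iff]
  intro hrs hr hs
  have h6 : q ^ 2 - 1 = (q + 1) * (q - 1) := by simpa using Nat.sq_sub_sq q 1
  rw [h6, hr.dvd_mul, hs.dvd_mul]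
  have h7 : 2 ∣ q + 1 := by omega
  have h8 : 2 ∣ q - 1 := by omega
  constructor
  · rintro (h | h)
    · exact ⟨Or.inl h.1, Or.inl h.2, Or.inr (Or.inr (Or.inl h))⟩
    · exact ⟨Or.inr h.1, Or.inr h.2, Or.inr (Or.inr (Or.inr h))⟩
  · rintro ⟨a, b, rfl | rfl | h⟩
    · exact b.imp (fun h => ⟨h7, h⟩) fun h => ⟨h8, h⟩
    · exact a.imp (fun h => ⟨h, h7⟩) fun h => ⟨h, h8⟩
    · exact h

end Cfsg.Agent.S4774
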