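import Cfsg.Statements.S3668
import Mathlib
import Cfsg.Agent.Lib.Dg8.Struct
import Cfsg.Agent.Lib.Dg8.L33
import Cfsg.Agent.Lib.GL.Simple
import Cfsg.Agent.S0495
import Cfsg.Agent.S0497
import Cfsg.Agent.S0498
import Cfsg.Agent.S0981
import Cfsg.Agent.S0984
import Cfsg.Agent.S1011
import Cfsg.Agent.S1020
import Cfsg.Agent.S1021
import Cfsg.Agent.S4774

set_option autoImplicit false
open Cfsg

namespace Cfsg.Agent.S3668

open Subgroup H8.Dg

theorem facts : ∀ n ∈ SO, n < 6000 ∧ n ∣ 698377680 ∧ ∀ s ∈ SO, ∀ s' ∈ SO, ¬ s * s' ∣ n := by decide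

theorem socle {G : Type*} [Group G] [Finite G] {n : ℕ} (hn : Nat.card G = n) {p r : ℕ}
    (hv : p ∈ degreePrimes G) (hr : r ∈ degreePrimes G)
    (h : n ∈ SO ∧ p ∣ n ∧ ¬ p ^ 2 ∣ n ∧ Exc p r n) :
    ∃ T : Subgroup (G ⧸ solvableRadical G), T.Normal ∧ IsSimpleGroup T ∧ ¬ IsMulCommutative T ∧
      centralizer (T : Set (G ⧸ solvableRadical G)) = ⊥ ∧ Nat.card T ∈ SO ∧ Nat.card T ∣ n ∧
      ∀ q ∈ degreePrimes G, q ∣ n ∧ ¬ q ^ 2 ∣ n ∧ Exc q r n → q ∣ Nat.card (G ⧸ solvableRadical G) ∧
        (NoPP q (Nat.card T) → q ∣ Nat.card T) := by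
  subst hn
  obtain ⟨f1, f2, f3⟩ := facts _ h.1
  have hd : Nat.card (G ⧸ solvableRadical G) ∣ Nat.card G := card_quotient_dvd_card _
  have key : ∀ q ∈ degreePrimes G, q ∣ Nat.card G ∧ ¬ q ^ 2 ∣ Nat.card G ∧ Exc q r (Nat.card G) →
      q ∣ Nat.card (G ⧸ solvableRadical G) := fun q hq k => by
    have := k.1
    rw [← (solvableRadical G).card_mul_index] at this
    exact (hq.1.dvd_mul.1 this).resolve_left (not_dvd_radical k.2.1 hq hr f2 k.2.2)
  haveI : Nontrivial (G ⧸ solvableRadical G) := Finite.one_lt_card_iff_nontrivial.1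
    (hv.1.one_lt.trans_le (Nat.le_of_dvd Nat.card_pos (key p hv h.2)))
  have hlt := (Nat.le_of_dvd Nat.card_pos hd).trans_lt f1
  obtain ⟨T, a1, a2, a3, a4⟩ := exists_socle H1.solvableRadical_quotient hlt
    fun s h1 s' h2 h3 => f3 s h1 s' h2 (h3.trans hd)
  have a5 := card_subgroup_dvd_card T
  exact ⟨T, a1, a2, a3, a4, card_mem_SO a3 ((Nat.le_of_dvd Nat.card_pos a5).trans_lt hlt),
    a5.trans hd, fun q hq k => ⟨key q hq k,
      dvd_socle a4 hq.1 (key q hq k) ((a5.trans hd).trans f2)⟩⟩

theorem simple_of {G : Type*} [Group G] [Finite G] {n : ℕ} (hn : Nat.card G = n) {p r : ℕ}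
    (hv : p ∈ degreePrimes G) (hr : r ∈ degreePrimes G)
    (h : (n ∈ SO ∧ p ∣ n ∧ ¬ p ^ 2 ∣ n ∧ Exc p r n) ∧
      ∀ s ∈ SO, s ∣ n → s = n ∨ (NoPP p s ∧ ¬ p ∣ s)) : IsSimpleGroup G := by
  obtain ⟨T, -, _, -, -, a1, a2, a3⟩ := socle hn hv hr h.1
  exact simple_of_card T (((h.2 _ a1 a2).resolve_right fun k =>
    k.2 ((a3 p hv h.1.2).2 k.1)).trans hn.symm)

theorem mem_of {G : Type*} [Group G] {r : ℕ} (hr : r.Prime) (h : ∃ d ∈ charDegrees G, r ∣ d) :
    r ∈ degreePrimes G := ⟨hr, h⟩

theorem iso_of {S G X : Type*} [Group S] [Group G] [Group X] (a : Nonempty (G ≃* X))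
    (b : Nonempty (S ≃* X)) : Nonempty (G ≃* S) := ⟨a.some.trans b.some.symm⟩

theorem exists_field (p k : ℕ) (hp : p.Prime) (hk : k ≠ 0) :
    ∃ (F : Type) (_ : Field F) (_ : Fintype F), CharP F p ∧ Fintype.card F = p ^ k := by
  haveI := Fact.mk hp
  letI := Fintype.ofFinite (GaloisField p k)
  exact ⟨GaloisField p k, inferInstance, inferInstance, inferInstance, by
    rw [← Nat.card_eq_fintype_card, GaloisField.card p k hk]⟩

theorem adj_360 {S : Type*} [Group S] [Finite S] [IsSimpleGroup S] (h : Nat.card S = 360) :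
    (degreeGraph S).Adj 2 5 := by
  obtain ⟨F, _, _, _, hF⟩ := exists_field 3 2 (by norm_num) (by norm_num)
  haveI : Fact (Nat.Prime 3) := ⟨by norm_num⟩
  have h1 : Nat.card F = 9 := by rw [Nat.card_eq_fintype_card, hF]; rfl
  haveI := H10.isSimpleGroup_PSL_fin (F := F) 2 le_rfl fun _ => by omega
  have h2 := H10.card_PSL_two (F := F)
  rw [h1] at h2
  exact ((S4774.result F 3 (by norm_num) 9 hF (by norm_num) (Or.inl (iso_of (S0497.result h)
    (S0497.result (by norm_num at h2; omega))))).2 2 5).2 (by norm_num)

/-- The character degree graph of a finite group has as vertices the primes dividing some irreducible complex character degree, two distinct primes being joined when their product divides some irreducible character degree; two groups have the same character degree graph when they have the same vertices and the same joined pairs. Let S be a finite non-abelian simple group of order less than 6000. If a finite group G has the same order as S and the same character degree graph as S, then G is isomorphic to S. -/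
theorem result {S : Type*} [Group S] [Finite S] [IsSimpleGroup S] (hS : ¬ IsMulCommutative S)
    (hlt : Nat.card S < 6000) {G : Type*} [Group G] [Finite G] (hcard : Nat.card G = Nat.card S) (hΓ : Cfsg.degreePrimes G = Cfsg.degreePrimes S ∧ Cfsg.degreeGraph G = Cfsg.degreeGraph S) :
    Nonempty (G ≃* S) := by
  have V := fun {n : ℕ} (hn : Nat.card S = n) p hp h => hΓ.1.ge (vertex hS hn p hp h)
  have W := fun {n : ℕ} (hn : Nat.card S = n) p r hp hr h =>
    hΓ.1.ge (mem_of hr (exists_deg hS hn p r hp h))
  have N6 := fun {n : ℕ} (hn : Nat.card S = n) p hp h =>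
    (fun k => not_exists_deg hS hn p 6 hp h (hΓ.2.le
      (⟨by norm_num, by norm_num, by norm_num, k⟩ : (degreeGraph G).Adj 2 3)).2.2.2 :
      ¬ ∃ d ∈ charDegrees G, 6 ∣ d)
  have hm := card_mem_SO hS hlt
  simp only [SO, List.mem_cons, List.not_mem_nil, or_false] at hm
  rcases hm with h | h | h | h | h | h | h | h | h | h | h <;> have h' := hcard.trans h
  · have v := V h 5 (by norm_num) (by decide +kernel)
    haveI := simple_of h' v v (by decide)
    exact iso_of (S0494.result h') (S0494.result h)
  · haveI := simple_of h' (V h 7 (by norm_num) (by decide +kernel))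
      (W h 7 2 (by norm_num) (by norm_num) (by decide +kernel)) (by decide)
    obtain ⟨F, _, _, -, hF⟩ := exists_field 7 1 (by norm_num) (by norm_num)
    exact iso_of (S0495.result h' hF) (S0495.result h hF)
  · have v := V h 5 (by norm_num) (by decide +kernel)
    have n6 := N6 h 5 (by norm_num) (by decide +kernel)
    obtain ⟨T, _, _, -, a0, a1, a2, -⟩ := socle h' v v (by decide)
    haveI : IsSimpleGroup G := by
      refine simple_of_card T ?_
      by_contra a3
      have a4 : Nat.card T = 60 := by
        rw [h'] at a3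
        revert a3 a2; revert a1; generalize Nat.card T = s; revert s; decide
      obtain rfl := card_eq_sixty a4 a0 fun k =>
        n6 ⟨6, H87.charDegrees_quotient_subset _ k, dvd_rfl⟩
      haveI := (topEquiv (G := G ⧸ solvableRadical G)).symm.isSimpleGroup
      refine not_360 h' (solvableRadical G) ?_ n6 (hΓ.2.ge (adj_360 h)).2.2.2
      have := (solvableRadical G).card_mul_index
      rw [card_top] at a4
      rw [index_eq_card, a4, h'] at this
      omega
    exact iso_of (S0497.result h') (S0497.result h)
  · have n6 := N6 h 7 (by norm_num) (by decide +kernel)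
    obtain ⟨T, _, _, a0, -, a1, a2, -⟩ := socle h' (V h 7 (by norm_num) (by decide +kernel))
      (W h 7 2 (by norm_num) (by norm_num) (by decide +kernel)) (by decide)
    haveI : IsSimpleGroup G := by
      refine simple_of_card T ?_
      by_contra a3
      have a4 : Nat.card T = 168 := by
        rw [h'] at a3
        revert a3 a2; revert a1; generalize Nat.card T = s; revert s; decide
      exact n6 (exists_deg_of_section T (exists_deg a0 a4 7 6 (by norm_num) (by decide +kernel)))
    obtain ⟨F, _, _, -, hF⟩ := exists_field 2 3 (by norm_num) (by norm_num)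
    exact iso_of (S1011.result h' hF) (S1011.result h hF)
  · have v := V h 11 (by norm_num) (by decide +kernel)
    haveI := simple_of h' v v (by decide)
    obtain ⟨F, _, _, -, hF⟩ := exists_field 11 1 (by norm_num) (by norm_num)
    exact iso_of (S0498.result 11 (by simp) (by rw [h']; rfl) hF) (S0498.result 11 (by simp) (by rw [h]; rfl) hF)
  · have v := V h 13 (by norm_num) (by decide +kernel)
    haveI := simple_of h' v v (by decide)
    obtain ⟨F, _, _, -, hF⟩ := exists_field 13 1 (by norm_num) (by norm_num)
    exact iso_of (S0498.result 13 (by simp) (by rw [h']; rfl) hF) (S0498.result 13 (by simp) (by rw [h]; rfl) hF)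
  · have v := V h 17 (by norm_num) (by decide +kernel)
    haveI := simple_of h' v v (by decide)
    obtain ⟨F, _, _, -, hF⟩ := exists_field 17 1 (by norm_num) (by norm_num)
    exact iso_of (S1020.result h' hF) (S1020.result h hF)
  · have v5 := V h 5 (by norm_num) (by decide +kernel)
    have v7 := V h 7 (by norm_num) (by decide +kernel)
    obtain ⟨T, _, _, a0, a0', a1, a2, a5⟩ := socle h' v5
      (W h 7 2 (by norm_num) (by norm_num) (by decide +kernel)) (by decide)
    haveI : IsSimpleGroup G := by
      refine simple_of_card T ?_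
      have b1 := (a5 5 v5 (by decide)).2
      have b2 := (a5 7 v7 (by decide)).2
      have b3 := not_socle_360 a0 a0' (a5 7 v7 (by decide)).1
      rw [h']
      revert b1 b2 b3 a2; revert a1; generalize Nat.card T = s; revert s; decide
    exact iso_of (S0984.result h') (S0984.result h)
  · have v := V h 19 (by norm_num) (by decide +kernel)
    haveI := simple_of h' v v (by decide)
    obtain ⟨F, _, _, -, hF⟩ := exists_field 19 1 (by norm_num) (by norm_num)
    exact iso_of (S1021.result h' hF) (S1021.result h hF)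
  · have v := V h 17 (by norm_num) (by decide +kernel)
    haveI := simple_of h' v v (by decide)
    obtain ⟨F, _, _, -, hF⟩ := exists_field 2 4 (by norm_num) (by norm_num)
    exact iso_of (S0981.result h' hF) (S0981.result h hF)
  · haveI := simple_of h' (V h 13 (by norm_num) (by decide +kernel))
      (W h 13 3 (by norm_num) (by norm_num) (by decide +kernel)) (by decide)
    exact iso_of (L33.iso h') (L33.iso h)

end Cfsg.Agent.S3668
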