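import Mathlib
import Cfsg.Statements.S4345
import Cfsg.Agent.Lib.FGS83.SylCount2
import Cfsg.Agent.Lib.Core.MinNormal

set_option autoImplicit false
open Cfsg

namespace Cfsg.Agent.S4345

theorem aux (p ℓ : ℕ) [Fact p.Prime] (hℓ : ℓ.Prime) (n : ℕ) :
    ∀ (G : Type*) [Group G] [Finite G], Nat.card G = n → Group.IsSolvable G →
      ℓ ^ (Nat.card (Sylow p G)).factorization ℓ ≡ 1 [MOD p] := by
  induction n using Nat.strong_induction_on with
  | _ n ih =>
    intro G _ _ hn hG
    obtain ⟨P⟩ : Nonempty (Sylow p G) := inferInstance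
    by_cases htop : (⊤ : Subgroup G) = ⊥
    · have : Subgroup.normalizer (P : Set G) = ⊤ := by
        rw [eq_top_iff, htop]; exact bot_le
      rw [Sylow.card_eq_index_normalizer P, this, Subgroup.index_top]
      simp [Nat.ModEq]
    obtain ⟨K, hK, -, -, q, hq, -, -, hKq⟩ := H3.exists_normal_elementary_le ⊤ htop inferInstance
    have := hK.normal
    have h1 := ih _ (hn ▸ H3.card_quotient_lt K hK.ne_bot) (G ⧸ K) rfl inferInstance
    have n0 : (Subgroup.normalizer (P : Set G)).relIndex K ≠ 0 :=
      Subgroup.FiniteIndex.index_ne_zero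
    rw [H83.card_sylow_eq_quotient_mul K P, Nat.factorization_mul Nat.card_pos.ne' n0,
      Finsupp.add_apply, pow_add]
    have h2 := H83.relIndex_normalizer_modEq_one P (Q := K) Subgroup.le_normalizer_of_normal
    have := Fact.mk hq
    obtain ⟨j, hj⟩ : ∃ j, (Subgroup.normalizer (P : Set G)).relIndex K = q ^ j := hKq.index _
    rw [hj] at h2 ⊢
    have h3 : ℓ ^ (q ^ j).factorization ℓ ≡ 1 [MOD p] := by
      rw [hq.factorization_pow]
      by_cases h : q = ℓ
      · subst h; simpa using h2
      · rw [Finsupp.single_eq_of_ne (Ne.symm h)]; rfl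
    simpa using h1.mul h3


/-- Let G be a finite solvable group and p, ℓ primes. Then the largest power of ℓ dividing the number of Sylow p-subgroups of G is congruent to 1 modulo p. -/
theorem result {G : Type*} [Group G] [Finite G]
    (hG : Group.IsSolvable G) (p ℓ : ℕ) [Fact p.Prime] (hℓ : ℓ.Prime) :
    ℓ ^ (Nat.card (Sylow p G)).factorization ℓ ≡ 1 [MOD p] := by
  exact aux p ℓ hℓ _ G rfl hG

end Cfsg.Agent.S4345
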