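import Cfsg.Statements.S3669
import Mathlib
import Cfsg.Agent.Lib.Small36.AltSpec
import Cfsg.Agent.Lib.H4.Sieve
import Cfsg.Agent.S0493
import Cfsg.Agent.S0494
import Cfsg.Agent.S4345
import Cfsg.Agent.S4493

set_option autoImplicit false
open Cfsg

namespace Cfsg.Agent.S3669

open Subgroup

universe u

theorem solv_lt : ∀ (n : ℕ) (G : Type u) [Group G] [Finite G], Nat.card G = n → n < 60 →
    Group.IsSolvable G := by
  intro n
  induction n using Nat.strong_induction_on with
  | _ n ih =>
  intro G _ _ hn h60
  rcases subsingleton_or_nontrivial G with h | h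
  · infer_instance
  by_cases hs : IsSimpleGroup G
  · by_cases hc : IsCyclic G
    · exact Group.isSolvable_of_comm fun a b => (IsCyclic.isMulCommutative).is_comm.comm a b
    · have := Cfsg.Agent.S0493.result hc (by omega)
      omega
  · obtain ⟨N, hN, h1, h2⟩ : ∃ N : Subgroup G, N.Normal ∧ N ≠ ⊥ ∧ N ≠ ⊤ := by
      by_contra hc
      push Not at hc
      exact hs ⟨fun N hN => by
        by_cases h : N = ⊥
        · exact Or.inl h
        · exact Or.inr (hc N hN h)⟩
    have e := card_mul_index N
    have a1 := one_lt_index_of_ne_top h2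
    have a2 := (one_lt_card_iff_ne_bot N).2 h1
    have := ih (Nat.card N) (by nlinarith) N rfl (by nlinarith)
    have := ih N.index (by nlinarith) (G ⧸ N) rfl (by nlinarith)
    exact Group.isSolvable_of_ker_le_range N.subtype (QuotientGroup.mk' N) (by simp)

theorem five_mem {G : Type*} [Group G] [Finite G] [IsSimpleGroup G] (hG : ¬ IsMulCommutative G)
    (h : Nat.card G = 60) : ∃ χ : IrrCharacter G, charDegree (χ : G → ℂ) = 5 := by
  let _ := Fintype.ofFinite G
  obtain ⟨M, hM⟩ := H33.exists_isPModular 3
  obtain ⟨P⟩ : Nonempty (Sylow 3 G) := inferInstance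
  have hP : Nat.card P = 3 := H36.card_sylow_eq_pow P (k := 1) (by omega) (by omega)
  obtain ⟨X⟩ := H4.nonempty_B0 (H36.commutator_eq_top_of_simple hG) hM (by norm_num) P hP
  obtain ⟨c, hc⟩ := H4.Sv.exists_card_cent P hP
  have N := H4.B0.num hG hM hP hc rfl X
  have h1 := H36.relIndex_cent_dvd_prime (p := 3) (by norm_num) hP
  have h2 : (centralizer ((P : Subgroup G) : Set G)).relIndex
      (normalizer ((P : Subgroup G) : Set G)) ≠ 1 := fun h' =>
    H36.not_norm_le_cent hG (by omega) P (relIndex_eq_one.1 h')
  have h3 := ((Nat.dvd_prime Nat.prime_two).1 h1).resolve_left h2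
  obtain ⟨a, ha⟩ := Multiset.card_eq_one.1 (show Multiset.card X.L = 1 by have := N.card; omega)
  obtain ⟨χ, hχ, e⟩ := X.mem_L.1 (show a ∈ X.L by simp [ha])
  obtain ⟨θ, hθ⟩ := X.nonempty_Y h1
  have b1 := X.natAbs_sd hχ
  have b2 := X.natAbs_D hθ
  have h4 := N.mod a (by simp [ha])
  have h5 := N.two a (by simp [ha])
  have h7 := N.dtwo
  have h8 := N.sq
  rw [N.deq, ha, Multiset.sum_singleton] at h7 h8 b2
  rw [h3, h] at h8
  rw [e] at b1
  simp only [Multiset.map_singleton, Multiset.sum_singleton] at h8
  have h9 : a.natAbs ≤ 7 := by nlinarith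
  have h10 : -7 ≤ a := by omega
  have h11 : a ≤ 7 := by omega
  interval_cases a <;> simp [Int.ModEq] at h4 h5 h7 h8
  · exact ⟨χ, b1.symm⟩
  · exact ⟨θ, b2.symm⟩

/-- The character degree graph of a finite group has as vertices the primes dividing some irreducible complex character degree, two distinct primes being joined when their product divides some irreducible character degree; two groups have the same character degree graph when they have the same vertices and the same joined pairs. A finite group of order 60 with the same character degree graph as the alternating group A₅ (whose character degrees are 1, 3, 4, 5, so the graph has vertices 2, 3, 5 and no edges) is isomorphic to A₅. -/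
theorem result {G : Type*} [Group G] [Finite G] (hcard : Nat.card G = 60)
    (hΓ : Cfsg.degreePrimes G = Cfsg.degreePrimes (alternatingGroup (Fin 5)) ∧ Cfsg.degreeGraph G = Cfsg.degreeGraph (alternatingGroup (Fin 5))) : Nonempty (G ≃* alternatingGroup (Fin 5)) := by
  by_cases hs : IsSimpleGroup G
  · exact Cfsg.Agent.S0494.result hcard
  exfalso
  have : Nontrivial G := Finite.one_lt_card_iff_nontrivial.1 (by omega)
  obtain ⟨N, hN, h1, h2⟩ : ∃ N : Subgroup G, N.Normal ∧ N ≠ ⊥ ∧ N ≠ ⊤ := by
    by_contra hc
    push Not at hc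
    exact hs ⟨fun N hN => by
      by_cases h : N = ⊥
      · exact Or.inl h
      · exact Or.inr (hc N hN h)⟩
  have e := card_mul_index N
  have a1 := one_lt_index_of_ne_top h2
  have a2 := (one_lt_card_iff_ne_bot N).2 h1
  have := solv_lt (Nat.card N) N rfl (by nlinarith)
  have := solv_lt N.index (G ⧸ N) rfl (by nlinarith)
  have hsol : Group.IsSolvable G :=
    Group.isSolvable_of_ker_le_range N.subtype (QuotientGroup.mk' N) (by simp)
  have : Fact (Nat.Prime 5) := ⟨by norm_num⟩
  obtain ⟨P⟩ : Nonempty (Sylow 5 G) := inferInstance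
  have hP : Nat.card P = 5 := H36.card_sylow_eq_pow P (k := 1) (by omega) (by omega)
  have hi : (P : Subgroup G).index = 12 := by
    have := card_mul_index (P : Subgroup G)
    rw [show Nat.card (P : Subgroup G) = 5 from hP] at this
    omega
  have hn : Nat.card (Sylow 5 G) = 1 := by
    have b1 := P.card_dvd_index
    have b2 := card_sylow_modEq_one 5 G
    have b3 := Cfsg.Agent.S4345.result hsol 5 2 Nat.prime_two
    rw [hi] at b1
    have := Nat.le_of_dvd (by norm_num) b1
    generalize Nat.card (Sylow 5 G) = m at *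
    interval_cases m <;> simp [Nat.ModEq] at b1 b2 ⊢
    have : Nat.factorization 6 2 = 1 := by decide +kernel
    rw [this] at b3
    simp [Nat.ModEq] at b3
  have : Subsingleton (Sylow 5 G) := (Nat.card_eq_one_iff_unique.1 hn).1
  have hcyc : IsCyclic P := isCyclic_of_prime_card hP
  have key := (Cfsg.Agent.S4493.result hsol 5 (by norm_num)).1 ⟨P, P.normal_of_subsingleton,
    fun x hx y hy => congrArg Subtype.val
      ((IsCyclic.isMulCommutative (α := P)).is_comm.comm ⟨x, hx⟩ ⟨y, hy⟩), P.isPGroup', by omega⟩
  have hA : Nat.card (alternatingGroup (Fin 5)) = 60 := by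
    have := H36.two_mul_card_alt (n := 5) (by norm_num)
    simp only [Nat.factorial] at this
    omega
  obtain ⟨χ, hχ⟩ := five_mem (G := alternatingGroup (Fin 5)) (fun hc => by
    have := hc.is_comm.comm ⟨Equiv.swap 0 1 * Equiv.swap 2 3, by simp⟩
      ⟨Equiv.swap 0 1 * Equiv.swap 2 4, by simp⟩
    revert this
    decide) hA
  have h5 : 5 ∈ Cfsg.degreePrimes G := hΓ.1 ▸ ⟨by norm_num, 5, ⟨χ, hχ⟩, dvd_rfl⟩
  obtain ⟨-, d, ⟨ψ, rfl⟩, hd⟩ := h5
  exact key ψ hd

end Cfsg.Agent.S3669
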