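import Mathlib
import Cfsg.Statements.S3678
import Cfsg.Agent.Lib.CIT.Ext

set_option autoImplicit false
open Cfsg

namespace Cfsg.Agent.S3678


/-- The prime graph of a finite group has the prime divisors of its order as vertices, two distinct primes p, q being joined when the group has an element of order pq; two groups have the same prime graph when they have the same prime divisors and the same joined pairs. Let F be the field with 7 elements. There are finite groups of arbitrarily large order with the same prime graph as PSL(2,F) (the graph on {2, 3, 7} with no edges, which is also the prime graph of PSL(2,8)). -/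
theorem result {F : Type*} [Field F] [Fintype F] (hF : Fintype.card F = 7) (N : ℕ) :
    ∃ (H : Type) (_ : Group H) (_ : Finite H), N < Nat.card H ∧
      ((∀ p : ℕ, p.Prime → (p ∣ Nat.card (Matrix.ProjectiveSpecialLinearGroup (Fin 2) F) ↔ p ∣ Nat.card H)) ∧
      (∀ p q : ℕ, p.Prime → q.Prime → p ≠ q → ((∃ g : (Matrix.ProjectiveSpecialLinearGroup (Fin 2) F), orderOf g = p * q) ↔ (∃ g : H, orderOf g = p * q)))) := by
  haveI := Fintype.ofFinite (GaloisField 2 3)
  have hK : Fintype.card (GaloisField 2 3) = 2 ^ 3 := by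
    rw [← Nat.card_eq_fintype_card, GaloisField.card 2 3 three_ne_zero]
  obtain ⟨H, _, _, h1, h2, h3⟩ := H32.exists_large_psl2 hK N
  have c7 := H32.card_psl2_odd (F := F) (hF ▸ by decide)
  have key : ∀ p q n : ℕ, p.Prime → q.Prime → p ≠ q → IsPrimePow n → ¬ p * q ∣ n := fun p q n hp hq hpq hn e => by
    obtain ⟨a, -, rfl⟩ := H32.eq_pow_of_isPrimePow hn hp ((Dvd.intro _ rfl).trans e)
    exact hpq ((Nat.prime_dvd_prime_iff_eq hq hp).1 (hq.dvd_of_dvd_pow ((Dvd.intro_left _ rfl).trans e))).symm
  refine ⟨H, inferInstance, inferInstance, h1, fun p hp => ?_, fun p q hp hq hpq => ?_⟩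
  · rw [← h2 p hp, H32.card_psl2_even hK, show Nat.card (Matrix.ProjectiveSpecialLinearGroup (Fin 2) F) = 168 by
      rw [hF] at c7; omega]
    refine ⟨fun e => e.trans (by norm_num), fun e => ?_⟩
    rcases (hp.dvd_mul (m := 3) (n := 168)).1 e with e | e
    · exact e.trans (by norm_num)
    · exact e
  rw [← h3 p q hp hq hpq]
  refine iff_of_false ?_ ?_
  · rintro ⟨x, hx⟩
    haveI := Fact.mk (by norm_num : Nat.Prime 7)
    haveI : CharP F 7 := charP_of_card_eq_prime hF
    obtain ⟨g, rfl⟩ := H64.SL2.proj_surjective x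
    have h2 := H64.SL2.two_ne_zero_of_odd (F := F) (hF ▸ by decide)
    by_cases h : H64.SL2.tr g ^ 2 = 4
    · exact key p q 7 hp hq hpq (by norm_num : Nat.Prime 7).isPrimePow
        (hx ▸ H64.SL2.orderOf_proj_dvd_iff.2 (H64.SL2.pow_char_mem_center 7 h))
    by_cases hs : H64.SL2.Split g
    · have := H64.SL2.pow_eq_one_of_split h hs
      rw [Nat.card_eq_fintype_card, hF] at this
      exact key p q 3 hp hq hpq Nat.prime_three.isPrimePow
        (hx ▸ H64.SL2.orderOf_proj_dvd_of_pow_two_mul h2 this)
    · have := H64.SL2.pow_eq_one_of_not_split hs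
      rw [Nat.card_eq_fintype_card, hF] at this
      exact key p q (2 ^ 2) hp hq hpq (Nat.prime_two.isPrimePow.pow two_ne_zero)
        (hx ▸ H64.SL2.orderOf_proj_dvd_of_pow_two_mul h2 this)
  · rintro ⟨x, hx⟩
    rcases hx ▸ H32.psl2_even_order_dvd hK x with e | e | e
    · exact key p q _ hp hq hpq Nat.prime_two.isPrimePow e
    · exact key p q 7 hp hq hpq (by norm_num : Nat.Prime 7).isPrimePow e
    · exact key p q (3 ^ 2) hp hq hpq (Nat.prime_three.isPrimePow.pow two_ne_zero) e

end Cfsg.Agent.S3678
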