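import Mathlib
import Cfsg.Statements.S3680
import Cfsg.Agent.Lib.Perm.Basic
import Cfsg.Agent.Lib.Core.MinNormal
import Cfsg.Agent.S0721

set_option autoImplicit false
open Cfsg

namespace Cfsg.Agent.S3680

open Subgroup MulAction

/-- Concatenation of tuples as a group isomorphism. -/
def appendEquiv (T : Type) [Group T] (m n : ℕ) : (Fin m → T) × (Fin n → T) ≃* (Fin (m + n) → T) :=
  { (Equiv.sumArrowEquivProdArrow _ _ T).symm.trans (finSumFinEquiv.arrowCongr (Equiv.refl T)) with
    map_mul' := fun a b => by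
      ext i
      obtain ⟨j, rfl⟩ := finSumFinEquiv.surjective i
      rcases j with j | j <;> simp <;> rfl }


/-- The socle of a finite primitive permutation group. Let a finite group G act faithfully and primitively on a set Ω, and let N be the subgroup generated by the minimal normal subgroups of G. Then either N is an elementary abelian p-group for some prime p and acts regularly on Ω (transitively with trivial point stabilizers), or N is isomorphic to a direct product of m ≥ 1 copies of a non-abelian simple group. -/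
theorem result {G Ω : Type*} [Group G] [Finite G] [MulAction G Ω] [FaithfulSMul G Ω] [Finite Ω]
    (hprim : MulAction.IsPreprimitive G Ω) (N : Subgroup G)
    (hN : N = sSup {V : Subgroup G | V.Normal ∧ V ≠ ⊥ ∧ ∀ M : Subgroup G, M.Normal → M ≤ V → M = ⊥ ∨ M = V}) :
    (∃ p : ℕ, p.Prime ∧ IsMulCommutative N ∧ (∀ x : N, x ^ p = 1) ∧
      MulAction.IsPretransitive N Ω ∧ ∀ ω : Ω, MulAction.stabilizer N ω = ⊥) ∨
    (∃ (T : Type) (_ : Group T) (m : ℕ), 1 ≤ m ∧ IsSimpleGroup T ∧ ¬ IsMulCommutative T ∧ Nonempty (N ≃* (Fin m → T))) := by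
  classical
  by_cases h0 : Nontrivial G
  swap
  · rw [not_nontrivial_iff_subsingleton] at h0
    refine Or.inl ⟨2, Nat.prime_two, ⟨⟨fun a b => Subsingleton.elim _ _⟩⟩,
      fun x => Subsingleton.elim _ _, ⟨fun a b => ?_⟩, fun ω => Subsingleton.elim _ _⟩
    obtain ⟨g, hg⟩ := hprim.toIsPretransitive.exists_smul_eq a b
    exact ⟨1, by rw [← hg, Subsingleton.elim g 1, one_smul, one_smul]⟩
  obtain ⟨M, hM⟩ := H3.exists_isMinNormal G
  have := hM.normal
  have hMt := H26.normal_isPretransitive (α := Ω) M hM.ne_bot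
  obtain ⟨T, hT, m, hTs, hm, ⟨e⟩⟩ := Cfsg.Agent.S0721.result M hM.ne_bot hM.eq_bot_or_eq
  have hcomm : IsMulCommutative T → IsMulCommutative M := fun h =>
    ⟨⟨fun a b => e.injective (by rw [map_mul, map_mul]; ext i; exact h.is_comm.comm _ _)⟩⟩
  by_cases hu : ∀ V : Subgroup G, H3.IsMinNormal V → V = M
  · have hNM : N = M := by
      rw [hN]
      apply le_antisymm
      · exact sSup_le fun V hV => (hu V ⟨hV.1, hV.2.1, hV.2.2⟩).le
      · exact le_sSup ⟨hM.normal, hM.ne_bot, hM.eq_bot_or_eq⟩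
    subst hNM
    by_cases hc : IsMulCommutative T
    · have := hcomm hc
      obtain ⟨p, hp, -, hx⟩ := hM.exists_prime_pow_eq_one
      exact Or.inl ⟨p, hp, this, fun x => Subtype.ext (hx x x.2), hMt,
        H26.stabilizer_eq_bot_of_comm N this⟩
    · exact Or.inr ⟨T, hT, m, hm, hTs, hc, ⟨e⟩⟩
  push Not at hu
  obtain ⟨V, hV, hVM⟩ := hu
  have := hV.normal
  have hVt := H26.normal_isPretransitive (α := Ω) V hV.ne_bot
  obtain ⟨ω⟩ : Nonempty Ω := by
    by_contra hh
    obtain ⟨a, b, hab⟩ := h0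
    exact hab (eq_of_smul_eq_smul (α := Ω) fun x => absurd ⟨x⟩ hh)
  have hc1 := hV.le_centralizer_of_ne hM hVM
  have hc2 := hM.le_centralizer_of_ne hV hVM.symm
  have semi : ∀ (K : Subgroup G), IsPretransitive K Ω → ∀ c ∈ centralizer (K : Set G),
      c • ω = ω → c = 1 := fun K hK c hc h =>
    eq_of_smul_eq_smul (α := Ω) fun x => by
      rw [one_smul]; exact H26.smul_eq_of_commute_of_fix K hc h x
  have hcV : centralizer (M : Set G) ≤ V := by
    intro c hc
    obtain ⟨v, hv⟩ := hVt.exists_smul_eq ω (c • ω)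
    have : c⁻¹ * v = 1 := semi M hMt _ (mul_mem (inv_mem hc) (hc1 v.2))
      (by rw [mul_smul, inv_smul_eq_iff]; exact hv)
    rw [inv_mul_eq_one.mp this]; exact v.2
  have hinf : M ⊓ V = ⊥ := hM.inf_eq_bot_of_ne hV hVM.symm
  have hNMV : N = M ⊔ V := by
    rw [hN]
    apply le_antisymm
    · refine sSup_le fun W hW => ?_
      have hW' : H3.IsMinNormal W := ⟨hW.1, hW.2.1, hW.2.2⟩
      by_cases e : W = M
      · exact e ▸ le_sup_left
      · exact ((hW'.le_centralizer_of_ne hM e).trans hcV).trans le_sup_right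
    · exact sup_le (le_sSup ⟨hM.normal, hM.ne_bot, hM.eq_bot_or_eq⟩)
        (le_sSup ⟨hV.normal, hV.ne_bot, hV.eq_bot_or_eq⟩)
  have hnc : ¬ IsMulCommutative T := fun h => by
    have := hcomm h
    apply hM.ne_bot
    rw [← hinf]
    exact (inf_eq_left.mpr ((le_centralizer M).trans hcV)).symm
  choose f hf using fun v : V => hMt.exists_smul_eq ω ((v : G)⁻¹ • ω)
  have hf' : ∀ v : V, (f v : G) • ω = (v : G)⁻¹ • ω := hf
  have uniq : ∀ a b : M, (a : G) • ω = (b : G) • ω → a = b := fun a b h =>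
    Subtype.ext (inv_mul_eq_one.mp (semi V hVt _ (hc2 (mul_mem (inv_mem b.2) a.2))
      (by rw [mul_smul, h, inv_smul_smul]))).symm
  let F : V →* M := MonoidHom.mk' f fun a b => uniq _ _ (by
    rw [hf', coe_mul, coe_mul, mul_smul, hf', ← mul_smul, ← hc2 (f a).2 _ (inv_mem b.2), mul_smul,
      hf', ← mul_smul, mul_inv_rev])
  have hF : Function.Bijective F := by
    constructor
    · rw [injective_iff_map_eq_one]
      intro v hv
      have h1 := hf' v
      rw [show f v = 1 from hv, coe_one, one_smul] at h1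
      exact Subtype.ext (inv_eq_one.mp (semi M hMt _ (hc1 (inv_mem v.2)) h1.symm))
    · intro a
      obtain ⟨v, hv⟩ := hVt.exists_smul_eq ω ((a : G) • ω)
      exact ⟨v⁻¹, uniq _ _ (by rw [show F v⁻¹ = f v⁻¹ from rfl, hf', coe_inv, inv_inv]; exact hv)⟩
  let P : M × V →* G := M.subtype.noncommCoprod V.subtype fun a b => (hc2 a.2 b b.2).symm
  have hP : Function.Injective P := by
    rw [injective_iff_map_eq_one]
    rintro ⟨a, b⟩ h
    have h1 : (a : G) * b = 1 := h
    have h2 : (a : G) ∈ M ⊓ V := ⟨a.2, by rw [eq_inv_of_mul_eq_one_left h1]; exact V.inv_mem b.2⟩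
    rw [hinf, mem_bot] at h2
    rw [h2, one_mul] at h1
    exact Prod.ext (Subtype.ext h2) (Subtype.ext h1)
  have hr : P.range = N := by
    rw [hNMV]
    exact (MonoidHom.noncommCoprod_range M.subtype V.subtype _).trans
      (by rw [range_subtype, range_subtype])
  exact Or.inr ⟨T, hT, m + m, by omega, hTs, hnc, ⟨(MulEquiv.subgroupCongr hr).symm.trans
    ((MonoidHom.ofInjective hP).symm.trans ((MulEquiv.prodCongr e
      ((MulEquiv.ofBijective F hF).trans e)).trans (appendEquiv T m m)))⟩⟩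

end Cfsg.Agent.S3680
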