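import Cfsg.Statements.S3702
import Mathlib
import Cfsg.Agent.Base
import Cfsg.Agent.Lib.A9.P9
import Cfsg.Agent.Lib.Core.PCore

set_option autoImplicit false
open Cfsg

namespace Cfsg.Agent.S3702

open H58.N9 H58.SE H53.Odd Subgroup

/-- Let K ≤ Sym(9) be generated by (1 2 3), (1 4 7)(2 5 8)(3 6 9), (1 2)(4 5) and (1 4)(2 5)(3 6)(7 8) (the normalizer in Alt(9) of the elementary abelian group generated by (1 2 3), (4 5 6), (7 8 9)). Let G be a finite group with a subgroup H ≅ K and J = O₃(H). If C_G(j) ≤ H for every j ≠ 1 in J and J is strongly closed in H with respect to G (a G-conjugate of an element of J lying in H lies in J), then G = H. -/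
theorem result {G : Type*} [Group G] [Finite G] (H : Subgroup G)
    (hH : Nonempty (↥H ≃* ↥(Subgroup.closure ({Equiv.swap (0 : Fin 9) 1 * Equiv.swap 1 2,
        Equiv.swap (0 : Fin 9) 3 * Equiv.swap 3 6 * (Equiv.swap (1 : Fin 9) 4 * Equiv.swap 4 7) * (Equiv.swap (2 : Fin 9) 5 * Equiv.swap 5 8),
        Equiv.swap (0 : Fin 9) 1 * Equiv.swap 3 4, Equiv.swap (0 : Fin 9) 3 * Equiv.swap 1 4 * Equiv.swap 2 5 * Equiv.swap 6 7} : Set (Equiv.Perm (Fin 9))))))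
    (J : Subgroup G) (hJ : J = (Cfsg.pCore 3 ↥H).map H.subtype)
    (hC : ∀ j ∈ J, j ≠ 1 → Subgroup.centralizer ({j} : Set G) ≤ H) (hsc : Cfsg.IsStronglyClosed J H) : H = ⊤ := by
  obtain ⟨e⟩ := hH
  obtain ⟨m, hm, rfl⟩ := exists_model e
  have h := mdl_of hm
  refine Hy.top ⟨h, fun u hu g hg => hC _ ?_ (md_ne h hu) (mem_centralizer_singleton_iff.2 hg)⟩
  let N : Subgroup m.range := ((md_add h).hom.range).subgroupOf m.range
  have hN : N.Normal := ⟨by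
    rintro ⟨_, hx⟩ ⟨v, rfl⟩ ⟨g, hg⟩
    obtain ⟨r, rfl⟩ := (h.mem g).1 hg
    exact ⟨_, (md_cj h r v).symm⟩⟩
  have h3 : IsPGroup 3 N := by
    rintro ⟨x, v, hv⟩
    refine ⟨1, Subtype.ext (Subtype.ext ?_)⟩
    change (m.range.subtype x) ^ 3 = 1
    rw [← hv]
    exact md_cube h v
  exact hJ ▸ ⟨⟨_, (h.mem _).2 ⟨(u, 0), rfl⟩⟩, H1.le_pCore h3 ⟨u, rfl⟩, rfl⟩

end Cfsg.Agent.S3702
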