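import Mathlib
import Cfsg.Statements.S3716
import Cfsg.Agent.Base
import Cfsg.Agent.Lib.Odd.Mdl72

set_option autoImplicit false
open Cfsg

namespace Cfsg.Agent.S3716


/-- Let G be a finite group with an elementary abelian Sylow 3-subgroup M of order 9 which is self-centralizing (C_G(M) = M), let N = N_G(M), and suppose C_G(g) ≤ N for every nonidentity g ∈ M. If the Sylow 2-subgroups of N are dihedral of order 8, then G is not simple. -/
theorem result {G : Type*} [Group G] [Finite G] (M : Sylow 3 G) (hM9 : Nat.card ↥(M : Subgroup G) = 9)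
    (hMel : ∀ m ∈ (M : Subgroup G), m ^ 3 = 1)
    (hCM : Subgroup.centralizer ((M : Subgroup G) : Set G) = (M : Subgroup G))
    (N : Subgroup G) (hN : N = Subgroup.normalizer ((M : Subgroup G) : Set G))
    (hCg : ∀ g ∈ (M : Subgroup G), g ≠ 1 → Subgroup.centralizer ({g} : Set G) ≤ N)
    (hS : ∀ S : Sylow 2 ↥N, Nonempty (↥(S : Subgroup ↥N) ≃* DihedralGroup 4)) :
    ¬ IsSimpleGroup G := by
  intro hs
  have hc : ∀ a ∈ (M : Subgroup G), ∀ b ∈ (M : Subgroup G), a * b = b * a := by
    letI : CommGroup (M : Subgroup G) := IsPGroup.commGroupOfCardEqPrimeSq (p := 3) hM9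
    exact fun a ha b hb => congrArg Subtype.val (mul_comm (⟨a, ha⟩ : (M : Subgroup G)) ⟨b, hb⟩)
  obtain ⟨S⟩ : Nonempty (Sylow 2 N) := inferInstance
  obtain ⟨e⟩ := hS S
  have hMN : (M : Subgroup G) ≤ N := hN ▸ Subgroup.le_normalizer
  have h8 : Nat.card (S : Subgroup N) = 8 := by
    rw [Nat.card_congr e.toEquiv, DihedralGroup.nat_card]
  have i2 := S.not_dvd_index
  have i3 := (M.subtype hMN).not_dvd_index
  have c2 := (S : Subgroup N).card_mul_index
  have c3 := (M.subtype hMN : Subgroup N).card_mul_index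
  rw [show Nat.card (M.subtype hMN : Subgroup N) = 9 from
    (Nat.card_congr (Subgroup.subgroupOfEquivOfLe hMN).toEquiv).trans hM9] at c3
  rw [h8] at c2
  obtain ⟨k, hk⟩ : 72 ∣ Nat.card N := by omega
  have h72 : Nat.card N = 72 := by
    by_contra hne
    obtain ⟨q, hq, hd⟩ := Nat.exists_prime_and_dvd (n := k) (by rintro rfl; omega)
    rcases H53.Odd.prime_dvd_norm hM9 hMel hCM hq (hN ▸ hk ▸ hd.mul_left 72) with rfl | rfl <;>
      omega
  obtain ⟨φ, hm, hT⟩ := H53.Odd.D72.exists_mdl hM9 hMel hCM hN h72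
    ((N.subtype.comp (S : Subgroup N).subtype).comp e.symm.toMonoidHom)
    ((N.subtype_injective.comp (S : Subgroup N).subtype_injective).comp e.symm.injective)
    fun d => (e.symm d).1.2
  subst hN
  exact H53.Odd.D72.not_simple hm hT (H53.Odd.TI_norm M hc hMel hCg)

end Cfsg.Agent.S3716
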