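import Cfsg.Statements.S3727
import Cfsg.Agent.Lib.HL3.Main

set_option autoImplicit false
open Cfsg

namespace Cfsg.Agent.S3727

/-- Let a finite group G act faithfully and 2-transitively on a finite set Ω of even size, and suppose the stabilizer of a point a has a normal subgroup N isomorphic to PSL₃(q) with q = 2ⁿ, n ≥ 1. Then N is transitive on the remaining points, and either G has a normal subgroup of order q³ acting regularly on Ω and n is odd, or Ω has 22 points, q = 4, and G is isomorphic to the Mathieu group M₂₂ or has a subgroup of index 2 isomorphic to M₂₂. -/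
theorem result {G Ω : Type*} [Group G] [Finite G] [Fintype Ω] [MulAction G Ω] [FaithfulSMul G Ω]
    (h2 : MulAction.IsMultiplyPretransitive G Ω 2) (hev : Even (Fintype.card Ω)) (a : Ω) (N : Subgroup G)
    (hNle : N ≤ MulAction.stabilizer G a) (hNnormal : ∀ g ∈ MulAction.stabilizer G a, ∀ x ∈ N, g * x * g⁻¹ ∈ N)
    (n : ℕ) (hn : 1 ≤ n)
    (hN : ∃ (F : Type) (_ : Field F) (_ : Fintype F), Fintype.card F = 2 ^ n ∧
      Nonempty (↥N ≃* Matrix.ProjectiveSpecialLinearGroup (Fin 3) F)) :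
    (∀ x y : Ω, x ≠ a → y ≠ a → ∃ g ∈ N, g • x = y) ∧
    ((Odd n ∧ ∃ E : Subgroup G, E.Normal ∧ Nat.card E = (2 ^ n) ^ 3 ∧ (∀ x y : Ω, ∃ r ∈ E, r • x = y) ∧
        ∀ x : Ω, ∀ r ∈ E, r • x = x → r = 1) ∨
     (Fintype.card Ω = 22 ∧ n = 2 ∧ (Cfsg.Spor.IsoM22 G ∨ ∃ H : Subgroup G, H.index = 2 ∧ Cfsg.Spor.IsoM22 ↥H))) := by
  obtain ⟨F, _, _, hF, ⟨e⟩⟩ := hN
  obtain ⟨V, Q, hL⟩ := H45.HL.l0_of_psl N hn hF e
  have two : ∀ x y x' y' : Ω, x ≠ y → x' ≠ y' → ∃ g : G, g • x = x' ∧ g • y = y' :=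
    fun x y x' y' h h' => (MulAction.is_two_pretransitive_iff.1 h2) h h'
  obtain ⟨M, hM, rfl⟩ := H45.HL.exists_cf two
    (fun g hg => eq_of_smul_eq_smul (α := Ω) fun x => by rw [hg, one_smul])
    (by rwa [Nat.card_eq_fintype_card]) a (fun h hh => hNle hh) (fun g hg => hNnormal g hg) hL
  obtain ⟨h1, h3⟩ := H45.HL.main hM
  refine ⟨h1 a, h3.imp ?_ ?_⟩
  · rintro ⟨hg, E, hE, hc⟩
    refine ⟨?_, E, hE.normal, hc, hE.tr, hE.reg⟩
    by_contra ho
    obtain ⟨k, rfl⟩ := Nat.not_odd_iff_even.1 ho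
    have : 3 ∣ 2 ^ (k + k) - 1 := by
      rw [← two_mul, pow_mul]
      simpa using Nat.sub_dvd_pow_sub_pow 4 1 k
    rw [Nat.gcd_eq_left this] at hg
    omega
  · rintro ⟨hc, hq, h4⟩
    refine ⟨by rwa [← Nat.card_eq_fintype_card], ?_, h4⟩
    exact Nat.pow_right_injective (le_refl 2) (hq.trans (by norm_num))

end Cfsg.Agent.S3727
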