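import Cfsg.Statements.S3730
import Cfsg.Agent.Lib.NCor.TI2
import Cfsg.Agent.S3322
import Cfsg.Agent.Lib.Ree2.Basic
import Cfsg.Agent.Lib.CIT.Part2

set_option autoImplicit false
open Cfsg

namespace Cfsg.Agent.S3730

open Subgroup H68 H2.JR H14.NC

variable {G : Type*} [Group G] [Finite G]

theorem mem_norm_zp {g x : G} : g ∈ normalizer (zpowers x : Set G) ↔ g * x * g⁻¹ ∈ zpowers x :=
  ⟨fun h => conj_mem_of_mem_normalizer h (mem_zpowers x), fun h =>
    mem_normalizer_of_cj_le (cj_le_iff'.2 fun y hy => by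
      obtain ⟨n, rfl⟩ := mem_zpowers_iff.1 hy
      rw [← conj_zpow]
      exact zpow_mem h n)⟩

variable (G) in
def NN : Prop := ∀ x y g : G, Even (orderOf x) → y ∈ zpowers x → y ≠ 1 →
  (g * x * g⁻¹ ∈ zpowers x ↔ g * y * g⁻¹ ∈ zpowers y)

theorem even_of {x t : G} (ht : Inv t) (m : t ∈ zpowers x) : Even (orderOf x) :=
  even_iff_two_dvd.2 (ht.orderOf ▸ orderOf_dvd_of_mem_zpowers m)

theorem inv_norm {t g : G} (ht : Inv t) : g * t * g⁻¹ ∈ zpowers t ↔ Commute g t :=
  ⟨fun h => comm_iff_conj.2 (((H73.mem_zpowers_of_mul_self ht.1).1 h).resolve_left (ht.conj g).2),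
    fun h => (comm_iff_conj.1 h).symm ▸ mem_zpowers t⟩

theorem NN.inv (h : NN G) {x t g : G} (ht : Inv t) (m : t ∈ zpowers x) :
    g * x * g⁻¹ ∈ zpowers x ↔ Commute g t := (h x t g (even_of ht m) m ht.2).trans (inv_norm ht)

theorem NN.n2 (h : NN G) : N2 G := fun x t g px m t1 c => by
  obtain ⟨u, hu, iu⟩ := (px.of_zpowers m).exists_inv t1
  exact (h.inv iu (zpowers_le.2 m hu)).2 (comm_zp c hu)

theorem NN.odd (h : NN G) {y t : G} (yo : Odd (orderOf y)) (y1 : y ≠ 1) (ht : Inv t)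
    (c : Commute y t) (g : G) : g * y * g⁻¹ ∈ zpowers y ↔ Commute g t := by
  have m1 : t ∈ zpowers (y * t) := ⟨(orderOf y : ℕ), by
    simp only [zpow_natCast]
    rw [c.mul_pow, pow_orderOf_eq_one, one_mul, pow_odd_of_sq ht.1 yo]⟩
  have m2 : y ∈ zpowers (y * t) := by
    have := mul_mem (mem_zpowers (y * t)) m1
    rwa [mul_assoc, ht.1, mul_one] at this
  exact (h _ y g (even_of ht m1) m2 y1).symm.trans (h.inv ht m1)

theorem cop {a b : G} (ha : P2 a) (hb : Odd (orderOf b)) : ∀ u ∈ zpowers a, u ∈ zpowers b → u = 1 :=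
  fun _ h1 h2 => let ⟨_, hk⟩ := ha.of_zpowers h1
    H32.eq_one_of_odd_of_pow (hb.of_dvd_nat (orderOf_dvd_of_mem_zpowers h2)) hk

theorem NN.no_cent (h : NN G) (hR : H32.Rad1 G) (hs : ¬ Group.IsSolvable G) (S : Sylow 2 G) {y : G}
    (yo : Odd (orderOf y)) (y1 : y ≠ 1) (hy : ∀ s ∈ (S : Subgroup G), Commute y s) : False := by
  have he := H32.even_of_not_solvable hs
  have h1 : ∀ P : Sylow 2 G, ∀ t ∈ (P : Subgroup G), orderOf t = 2 → centralizer {t} ≤ H32.Hs P := by
    intro P t ht to2 c hc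
    obtain ⟨g, rfl⟩ := MulAction.exists_smul_eq G S P
    have yo' : Odd (orderOf (g * y * g⁻¹)) := by rwa [H9.orderOf_conj]
    have y1' : g * y * g⁻¹ ≠ 1 := by simpa using y1
    have hy' : ∀ s ∈ ((g • S : Sylow 2 G) : Subgroup G), Commute (g * y * g⁻¹) s := fun s hs => by
      have := comm_conj (hy _ (H1.mem_conj_smul_iff.1 hs)) g
      rwa [show g * (g⁻¹ * s * g) * g⁻¹ = s by group] at this
    generalize g • S = P at ht hy'
    generalize g * y * g⁻¹ = y at yo' y1' hy'
    have it := inv_of_orderOf to2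
    have nm : ∀ a, Commute a t → ∀ s ∈ (P : Subgroup G), a * s * a⁻¹ ∈ zpowers s := by
      intro a ha s hs
      by_cases s1 : s = 1
      · simp [s1]
      obtain ⟨u, hu, iu⟩ := (P2.of_mem P.isPGroup' hs).exists_inv s1
      exact (h.inv iu hu).2 ((h.odd yo' y1' iu (hy' u (zpowers_le.2 hs hu)) a).1
        ((h.odd yo' y1' it (hy' t ht) a).2 ha))
    obtain ⟨a, ha, b, hb, ⟨k, hk⟩, bo, rfl⟩ := H32.exists_two_odd c
    have at' := comm_zp (mem_cent.1 hc).symm ha
    have bt := comm_zp (mem_cent.1 hc).symm hb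
    refine mul_mem (mem_sup_left (H32.mem_sylow_of_smul hk (Sylow.smul_eq_iff_mem_normalizer.2
      (mem_normalizer_of_cj_le (cj_le_iff'.2 fun s hs => zpowers_le.2 hs (nm a at'.symm s hs))))))
      (mem_sup_right (mem_centralizer_iff.2 fun s hs => ?_))
    by_cases b1 : b = 1
    · simp [b1]
    by_cases s1 : s = 1
    · simp [s1]
    obtain ⟨u, hu, iu⟩ := (P2.of_mem P.isPGroup' hs).exists_inv s1
    have bu := (h.inv iu hu).1 (nm b bt.symm s hs)
    exact (comm_of_norm ((h.odd bo b1 iu bu s).2 (comm_zp (Commute.refl s) hu)) (nm b bt.symm s hs)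
      (cop (P2.of_mem P.isPGroup' hs) bo)).eq
  have h2 := (H32.tic_of h1 fun P x hx x1 xo c hc => by
    obtain ⟨z, hz, zo, -⟩ := H32.exists_cinv he P
    refine h1 P z hz zo (mem_cent.2 ((h.odd xo x1 (inv_of_orderOf zo)
      (mem_centralizer_iff.1 hx z hz).symm c).1 ?_))
    rw [comm_iff_conj.1 (mem_cent.1 hc)]
    exact mem_zpowers x).cit (hR.rank2 he) (H32.not_normal_of_not_solvable hs)
  obtain ⟨z, hz, zo, -⟩ := H32.exists_cinv he S
  exact y1 (h2.eq_one zo yo (hy z hz).symm.eq)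

theorem prime_comm {a y : G} (yp : (orderOf y).Prime) (h1 : a * y * a⁻¹ ∈ zpowers y)
    (h2 : y * a * y⁻¹ ∈ zpowers a) : Commute a y := by
  by_cases hm : y ∈ zpowers a
  · exact comm_zp (Commute.refl a) hm
  · haveI := Fact.mk yp
    refine comm_of_norm h1 h2 fun u hu hu' => by_contra fun u1 => hm (zpowers_le.2 hu ?_)
    have e : Nat.card (zpowers u) = Nat.card (zpowers y) := by
      rw [Nat.card_zpowers, Nat.card_zpowers]
      exact ((Nat.dvd_prime yp).1 (orderOf_dvd_of_mem_zpowers hu')).resolve_left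
        (by simpa using u1)
    exact (eq_of_le_of_card_ge (zpowers_le.2 hu') e.ge).symm ▸ mem_zpowers y

theorem NN.case1 (h : NN G) (hR : H32.Rad1 G) (S₀ : Sylow 2 G) {z y : G} (hz : Inv z)
    (hS : (S₀ : Subgroup G) ≤ centralizer {z}) (yp : (orderOf y).Prime) (yo : Odd (orderOf y))
    (yz : Commute y z) {a : G} (az : Commute a z) (ay : ¬ Commute a y) : a * a = 1 := by
  haveI := Fact.mk Nat.prime_two
  have y1 : y ≠ 1 := H32.ne_one_of_prime yp
  have nz : ∀ g, Commute g z → g * y * g⁻¹ ∈ zpowers y := fun g => (h.odd yo y1 hz yz g).2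
  have cw : ∀ w : G, Inv w → Commute y w → ∀ g, Commute g w ↔ Commute g z := fun w hw c g =>
    (h.odd yo y1 hw c g).symm.trans (h.odd yo y1 hz yz g)
  have invs : ∀ t : G, Inv t → Commute t z → ¬ Commute t y → t * y * t⁻¹ = y⁻¹ := by
    intro t ht tz ty
    by_contra hn
    have m : y * (t * y * t⁻¹) ∈ zpowers y := mul_mem (mem_zpowers y) (nz t tz)
    have o1 := yo.of_dvd_nat (orderOf_dvd_of_mem_zpowers m)
    have n1 : y * (t * y * t⁻¹) ≠ 1 := fun e => hn (eq_inv_of_mul_eq_one_right e)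
    have c1 : Commute (y * (t * y * t⁻¹)) t := by
      refine (comm_iff_conj.2 ?_).symm
      rw [show t * (y * (t * y * t⁻¹)) * t⁻¹ = (t * y * t⁻¹) * ((t * t) * y * (t * t)⁻¹) by group, ht.1,
        one_mul, inv_one, mul_one, (comm_zp' (nz t tz) (mem_zpowers y)).eq]
    exact ty ((h.odd o1 n1 ht c1 y).1 ((h.odd o1 n1 hz (comm_zp yz.symm m).symm y).2 yz)).symm
  have prod : ∀ t t' : G, Inv t → Inv t' → Commute t z → Commute t' z → ¬ Commute t y → ¬ Commute t' y →
      Commute y (t * t') := fun t t' ht ht' tz tz' ty ty' => by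
    refine (comm_iff_conj.2 ?_).symm
    rw [show t * t' * y * (t * t')⁻¹ = t * (t' * y * t'⁻¹) * t⁻¹ by group, invs t' ht' tz' ty',
      show t * y⁻¹ * t⁻¹ = (t * y * t⁻¹)⁻¹ by group, invs t ht tz ty, inv_inv]
  have fin : ∀ k k' : G, Inv (k * k) → Inv (k' * k') → k * k ≠ k' * k' → Commute k k' → Commute k z →
      Commute k' z → ¬ Commute (k * k) y → ¬ Commute (k' * k') y → False := by
    intro k k' ik ik' ne c kz kz' ky ky'
    have c2 : Commute (k * k) (k' * k') := (c.mul_right c).mul_left (c.mul_right c)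
    have iw := inv_mul ik ik' ne c2
    have yw := prod _ _ ik ik' (kz.mul_left kz) (kz'.mul_left kz') ky ky'
    have key : ∀ m, m * m = k * k * (k' * k') → Commute m z → Commute m y := fun m e mz =>
      prime_comm yp (nz m mz) ((h.inv iw (e ▸ mul_mem (mem_zpowers m) (mem_zpowers m))).2 yw)
    have e1 := key (k * k') (c.symm.mul_mul_mul_comm k k') (kz.mul_left kz')
    have e2 := key (k * k'⁻¹) (by
      rw [c.inv_right.symm.mul_mul_mul_comm, ← mul_inv_rev, ik'.inv]) (kz.mul_left kz'.inv_left)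
    have := e2.inv_left.mul_left e1
    rw [show (k * k'⁻¹)⁻¹ * (k * k') = k' * k' by group] at this
    exact ky' this
  by_contra a2
  by_cases ao : Odd (orderOf a)
  · exact ay (prime_comm yp (nz a az) ((h.odd ao (fun e => a2 (by simp [e])) hz az y).2 yz))
  obtain ⟨t, ht, to2⟩ := H32.exists_invol_zpowers ao
  have it := inv_of_orderOf to2
  have ty : ¬ Commute t y := fun c => ay (prime_comm yp (nz a az) ((h.inv it ht).2 c.symm))
  obtain ⟨j, hj⟩ := H32.exists_odd_pow a
  have pa : P2 a := ⟨j, by_contra fun e => ty ((h.odd hj e it (comm_zp' (pow_mem (mem_zpowers a) _) ht) y).1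
    ((h.odd hj e hz (az.pow_left _) y).2 yz)).symm⟩
  obtain ⟨k, hk, ik⟩ := pa.exists_four a2
  obtain rfl : k * k = t := inv_uniq ik it (mul_mem hk hk) ht
  have kz : Commute k z := (comm_zp az.symm hk).symm
  obtain ⟨S, hS1, kS⟩ := exists_sylowIn_ge (pa.of_zpowers hk).pg (zpowers_le.2 (mem_cent.2 kz))
  have hS2 : SylowIn 2 S ⊤ := (sylowIn_top S₀).of_card_le hS1.isPGroup le_top
    (hS1.card_le S₀.isPGroup' hS)
  by_cases hc : ∀ s ∈ S, Commute s (k * k)
  swap
  · obtain ⟨g, gS, ne, c, -, -⟩ := h.n2.step hS1.isPGroup (kS (mem_zpowers k)) ik hc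
    have gz := mem_cent.1 (hS1.le gS)
    have e : g * k * g⁻¹ * (g * k * g⁻¹) = g * (k * k) * g⁻¹ := by group
    refine fin k (g * k * g⁻¹) ik (e ▸ ik.conj g) (e ▸ ne.symm) c kz
      ((gz.mul_left kz).mul_left gz.inv_left) ty (e ▸ fun c => ty ?_)
    have c1 := comm_conj ((cw _ (ik.conj g) c.symm (g * y * g⁻¹)).2
      ((gz.mul_left yz).mul_left gz.inv_left)) g⁻¹
    simpa [mul_assoc] using c1.symm
  have tz : Commute (k * k) z := kz.mul_left kz
  have zc : ∀ g, Commute g (k * k) → g * z * g⁻¹ = z ∨ g * z * g⁻¹ = k * k * z := fun g hg =>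
    h.n2.inv_conj ik hz.1 kz.symm hg
  have nrm : ∀ g n, Commute g (k * k) → Commute n (k * k) → Commute n z → Commute (g⁻¹ * n * g) z := by
    intro g n hg hn nz'
    have : Commute n (g * z * g⁻¹) := by
      rcases zc g hg with e | e <;> rw [e]
      exacts [nz', hn.mul_right nz']
    simpa [mul_assoc] using comm_conj this g⁻¹
  have le : ∀ g, Commute g (k * k) → Commute g z := by
    intro g hg
    obtain ⟨a, ha, b, hb, ⟨i, hi⟩, bo, rfl⟩ := H32.exists_two_odd g
    have ak := (comm_zp hg.symm ha).symm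
    have bk := (comm_zp hg.symm hb).symm
    refine Commute.mul_left ?_ ?_
    · obtain ⟨c, hc', e⟩ := (hS2.mono (K := centralizer {k * k}) (fun s hs => mem_cent.2 (hc s hs))
        le_top).exists_cj_le (isPGroup_zpowers hi) (zpowers_le.2 (mem_cent.2 ak))
      have m := cj_le_iff'.1 e a (mem_zpowers a)
      simpa [mul_assoc] using nrm c _ (mem_cent.1 hc') (hc _ m) (mem_cent.1 (hS1.le m))
    · obtain ⟨i, hi⟩ := exists_sq_of_odd bo (pow_orderOf_eq_one b)
      have : Commute (b * b) z := by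
        refine comm_iff_conj.2 ?_
        rw [show b * b * z * (b * b)⁻¹ = b * (b * z * b⁻¹) * b⁻¹ by group]
        rcases zc b bk with e | e
        · rw [e, e]
        · rw [e, show b * (k * k * z) * b⁻¹ = (b * (k * k) * b⁻¹) * (b * z * b⁻¹) by group, e,
            comm_iff_conj.1 bk, ← mul_assoc, ik.1, one_mul]
      rw [← hi, ← (Commute.refl b).mul_pow]
      exact this.pow_left i
  obtain ⟨g, ne, c⟩ := exists_conj_comm hR ik
  have e : g * k * g⁻¹ * (g * k * g⁻¹) = g * (k * k) * g⁻¹ := by group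
  have ig := ik.conj g
  have hcard : Nat.card (centralizer ({g * (k * k) * g⁻¹} : Set G))
      = Nat.card (centralizer ({k * k} : Set G)) := by rw [H73.centralizer_conj, card_map_of_injective (MulAut.conj g).injective]
  have ty' : ¬ Commute (g * (k * k) * g⁻¹) y := fun c' => ty (mem_cent.1 ((eq_of_le_of_card_ge
    (H := centralizer {k * k}) (K := centralizer {g * (k * k) * g⁻¹})
    (fun x hx => mem_cent.2 ((cw _ ig c'.symm x).2 (le x (mem_cent.1 hx)))) hcard.le).symm ▸
      mem_cent.2 c'.symm : y ∈ centralizer {k * k})).symm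
  have yw := prod _ _ ik ig tz (le _ c.symm) ty ty'
  have eq := eq_of_le_of_card_ge (H := centralizer {k * k}) (K := centralizer {g * (k * k) * g⁻¹})
    (fun x hx => by
      have h1 := (mem_cent.1 hx).mul_right ((cw _ (inv_mul ik ig ne.symm c) yw x).2 (le x (mem_cent.1 hx)))
      rw [← mul_assoc, ik.1, one_mul] at h1
      exact mem_cent.2 h1) hcard.le
  have kk : Commute k (k * k) := (Commute.refl k).mul_right (Commute.refl k)
  have c1 : Commute (g * k * g⁻¹) (k * k) :=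
    mem_cent.1 (eq.symm ▸ mem_cent.2 (comm_conj kk g) : g * k * g⁻¹ ∈ centralizer {k * k})
  exact fin k (g * k * g⁻¹) ik (e ▸ ig) (e ▸ ne.symm) (h.n2.comm4 ik (e ▸ ig) (e ▸ ne.symm)
    (e ▸ mem_cent.1 (eq ▸ mem_cent.2 kk : k ∈ centralizer {g * (k * k) * g⁻¹})) c1) kz (le _ c1) ty
    (e ▸ ty')

theorem case2 (h : N2 G) (hR : H32.Rad1 G) (hs : ¬ Group.IsSolvable G) (S : Sylow 2 G)
    (hS : ∀ j : G, Inv j → (∀ s ∈ (S : Subgroup G), Commute s j) → centralizer {j} = (S : Subgroup G)) :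
    (∃ A < (S : Subgroup G), ∀ a ∈ (S : Subgroup G), a ∉ A → a * a = 1) ∨
      ∃ (F : Type) (_ : Field F) (_ : Fintype F), 3 < Fintype.card F ∧
        Nonempty (G ≃* Matrix.ProjectiveSpecialLinearGroup (Fin 2) F) := by
  have he := H32.even_of_not_solvable hs
  by_cases h1 : ∀ a ∈ (S : Subgroup G), a * a = 1
  · exact Or.inl ⟨⊥, bot_lt_iff_ne_bot.2 (S.ne_bot_of_dvd_card he.two_dvd), fun a ha _ => h1 a ha⟩
  push Not at h1
  obtain ⟨k, kS, k2⟩ := h1
  obtain ⟨x, xS, ix, hx⟩ := h.exists_central_sq S.isPGroup' kS k2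
  have memS : ∀ g, Commute g (x * x) → g ∈ (S : Subgroup G) := fun g hg =>
    hS _ ix hx ▸ mem_cent.2 hg
  obtain ⟨g, ne, c⟩ := exists_conj_comm hR ix
  have e : g * x * g⁻¹ * (g * x * g⁻¹) = g * (x * x) * g⁻¹ := by group
  rw [← e] at ne c
  have ix' : Inv (g * x * g⁻¹ * (g * x * g⁻¹)) := e ▸ ix.conj g
  generalize g * x * g⁻¹ = x' at ne c ix'
  have lt : ∀ a ∈ (S : Subgroup G), ¬ Commute a x → (S : Subgroup G) ⊓ centralizer {x} < S :=
    fun a ha c => lt_of_le_of_ne inf_le_left fun e =>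
      c (mem_cent.1 (e.symm ▸ ha : a ∈ (S : Subgroup G) ⊓ centralizer {x}).2)
  by_cases hc : ∀ s ∈ (S : Subgroup G), Commute s (x' * x')
  · have x'S : x' ∈ (S : Subgroup G) :=
      hS _ ix' hc ▸ mem_cent.2 ((Commute.refl x').mul_right (Commute.refl x'))
    have cx := h.comm4 ix ix' ne.symm (hc x xS) (hx x' x'S)
    by_cases hA : ∀ a ∈ (S : Subgroup G), Commute a x
    swap
    · push Not at hA
      obtain ⟨a, ha, c⟩ := hA
      exact Or.inl ⟨_, lt a ha c, fun s hs hn => h.alpha2 ix ix' ne.symm cx (hx s hs) (hc s hs)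
        (P2.of_mem S.isPGroup' hs) fun c => hn ⟨hs, mem_cent.2 c⟩⟩
    right
    have all : ∀ P : Sylow 2 G, ∀ u ∈ (P : Subgroup G), Inv u → centralizer {u} = (P : Subgroup G) := by
      intro P u hu iu
      obtain ⟨g, rfl⟩ := MulAction.exists_smul_eq G S P
      have m := H1.mem_conj_smul_iff.1 hu
      have i2 : Inv (g⁻¹ * u * g) := by simpa using iu.conj g⁻¹
      have := hS _ i2 fun s hs => h.alpha3 ix ix' ne.symm i2.1 (hA _ m)
        (h.alpha1 ix ix' ne.symm cx (hc _ m) (hA _ m)) (hx s hs) (hc s hs)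
      ext y
      rw [mem_cent, Sylow.coe_subgroup_smul, H1.mem_conj_smul_iff, ← this, mem_cent,
        ← comm_conj_iff (g := g⁻¹), inv_inv]
    have cit : H32.CIT G := fun t ht => by
      obtain ⟨P, hP⟩ := H32.exists_sylow_invol ht
      exact (all P t hP (inv_of_orderOf ht)).symm ▸ P.isPGroup'
    have ti : H32.SylTI G := fun P Q hne => eq_bot_iff.2 fun y hy => by_contra fun y1 => by
      obtain ⟨u, hu, iu⟩ := (P2.of_mem P.isPGroup' hy.1).exists_inv y1
      exact hne (Sylow.ext ((all P u (zpowers_le.2 hy.1 hu) iu).symm.trans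
        (all Q u (zpowers_le.2 hy.2 hu) iu)))
    rcases (ti.gen cit (hR.pCore 2) hs).2 with ⟨F, _, _, ⟨n, hn, hF⟩, e⟩ | e
    · refine ⟨F, inferInstance, inferInstance, ?_, e⟩
      have := Nat.pow_le_pow_right (n := 2) (by norm_num) hn
      omega
    · exact absurd e h.not_sz
  push Not at hc
  obtain ⟨s, sS, sc⟩ := hc
  have inv : ∀ k, k * k = x * x → x' * x' * k * (x' * x')⁻¹ = k⁻¹ := fun k ek =>
    h.inverts (ek ▸ ix) (ek ▸ c.symm) fun ck => by
      refine h.wr ix ix' ne.symm ?_ (hx s sS) (((h.inv_conj (x := k) (ek ▸ ix) ix'.1 ck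
        (ek ▸ hx s sS)).resolve_left fun e => sc (comm_iff_conj.2 e)).trans (by rw [ek]))
        (P2.of_mem S.isPGroup' sS)
      exact ek ▸ (h.sq_comm ix' ck.symm).symm
  have nc : ¬ Commute (x' * x') x := fun e => ne_inv_of ix ((comm_iff_conj.1 e).symm.trans (inv x rfl))
  exact Or.inl ⟨_, lt _ (memS _ c.symm) nc, fun a ha hn => h.sq_one ix ix' c.symm inv (hx a ha)
    (P2.of_mem S.isPGroup' ha) fun c => hn ⟨ha, mem_cent.2 c⟩⟩

/-- Let G be a nontrivial finite group with no nontrivial solvable normal subgroup, such that for every cyclic subgroup X of even order and every nontrivial subgroup Y of X one has N_G(X) = N_G(Y) (every nontrivial subgroup of a cyclic subgroup of even order has the same normalizer as the whole cyclic subgroup). Then G is isomorphic to PSL(2, q) or to PGL(2, q) for some prime power q > 3. -/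
theorem result
    {G : Type*} [Group G] [Finite G] [Nontrivial G]
    (hss : ∀ N : Subgroup G, N.Normal → Group.IsSolvable ↥N → N = ⊥)
    (hii : ∀ X : Subgroup G, IsCyclic ↥X → Even (Nat.card ↥X) → ∀ Y : Subgroup G, Y ≤ X → Y ≠ ⊥ →
      Subgroup.normalizer (X : Set G) = Subgroup.normalizer (Y : Set G)) :
    ∃ (F : Type) (_ : Field F) (_ : Fintype F), 3 < Fintype.card F ∧
      (Nonempty (G ≃* Matrix.ProjectiveSpecialLinearGroup (Fin 2) F) ∨
        Nonempty (G ≃* Matrix.ProjGenLinGroup (Fin 2) F)) := by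
  have hR : H32.Rad1 G := hss
  have hs : ¬ Group.IsSolvable G := fun _ => top_ne_bot (hR ⊤ inferInstance inferInstance)
  have h : NN G := fun x y g he hy y1 => by
    rw [← mem_norm_zp, ← mem_norm_zp, hii (zpowers x) inferInstance (by rwa [Nat.card_zpowers])
      (zpowers y) (zpowers_le.2 hy) (by simpa using y1)]
  have he := H32.even_of_not_solvable hs
  obtain ⟨S⟩ : Nonempty (Sylow 2 G) := inferInstance
  obtain ⟨z₀, -, h0⟩ := H32.exists_central S he.two_dvd
  obtain ⟨z, ⟨zo, hz⟩, hm⟩ := Set.exists_max_image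
    {z : G | orderOf z = 2 ∧ (S : Subgroup G) ≤ centralizer {z}}
    (fun z => Nat.card (centralizer ({z} : Set G))) (Set.toFinite _) ⟨z₀, h0⟩
  have iz := inv_of_orderOf zo
  suffices hD : (∃ A < centralizer ({z} : Set G), ∀ a ∈ centralizer ({z} : Set G), a ∉ A → a * a = 1) ∨
      ∃ (F : Type) (_ : Field F) (_ : Fintype F), 3 < Fintype.card F ∧
        Nonempty (G ≃* Matrix.ProjectiveSpecialLinearGroup (Fin 2) F) by
    rcases hD with ⟨A, hA, hD⟩ | ⟨F, _, _, hF, e⟩
    swap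
    · exact ⟨F, inferInstance, inferInstance, hF, Or.inl e⟩
    obtain ⟨a, aS, b, bS, a1, b1, ab, aa, bb, c⟩ := H32.exists_four (hR.rank2 he) S
    obtain ⟨N, _, hN, F, _, _, hF, e⟩ := Cfsg.Agent.S3322.result _ A hA
      (fun x hx e => by rw [sq, hD x hx e])
      (four_dvd_card (pair_of ⟨aa, a1⟩ ⟨bb, b1⟩ ab c) (hz aS) (hz bS))
      (fun j _ jo e => (eq_of_le_of_card_ge (fun g hg => mem_cent.2 (e g hg))
        (hm j ⟨jo, fun g hg => mem_cent.2 (e g (hz hg))⟩)).symm) hs
    obtain rfl := hR N inferInstance (hN.elim H32.isSolvable_of_odd fun ⟨m, hm, e⟩ => by_contra fun e1 => by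
      obtain ⟨T⟩ : Nonempty (Sylow 2 N) := inferInstance
      refine H32.not_cyclic_sylow e1 T (isCyclic_of_card_dvd_prime (p := 2) ?_)
      exact (H1.coprime_card_of_isPGroup_of_coprime T.isPGroup'
        (Odd.coprime_two_right hm)).dvd_of_dvd_mul_right (e ▸ card_subgroup_dvd_card _))
    exact ⟨F, inferInstance, inferInstance, hF, e.imp (fun ⟨e⟩ => ⟨QuotientGroup.quotientBot.symm.trans e⟩)
      fun ⟨e⟩ => ⟨QuotientGroup.quotientBot.symm.trans e⟩⟩
  by_cases h2 : IsPGroup 2 (centralizer ({z} : Set G))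
  · have e : centralizer ({z} : Set G) = S := S.is_maximal' h2 hz
    rw [e]
    exact case2 h.n2 hR hs S fun j ij hj => (eq_of_le_of_card_ge (fun g hg => mem_cent.2 (hj g hg))
      (e ▸ hm j ⟨ij.orderOf, fun g hg => mem_cent.2 (hj g hg)⟩)).symm
  obtain ⟨y₀, hy, yo, y1⟩ := H32.exists_odd_of_not_isPGroup h2
  obtain ⟨y, m, yp⟩ := H32.exists_prime_zpowers y1
  have yo' := yo.of_dvd_nat (orderOf_dvd_of_mem_zpowers m)
  have yz : Commute y z := mem_cent.1 (zpowers_le.2 hy m)
  refine Or.inl ⟨centralizer {z} ⊓ centralizer {y}, lt_of_le_of_ne inf_le_left fun e =>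
    h.no_cent hR hs S yo' (H32.ne_one_of_prime yp) fun s hs => (mem_cent.1 (e.symm ▸ hz hs :
      s ∈ centralizer {z} ⊓ centralizer {y}).2).symm, fun a ha hn =>
    h.case1 hR S iz hz yp yo' yz (mem_cent.1 ha) fun c => hn ⟨ha, mem_cent.2 c⟩⟩

end Cfsg.Agent.S3730
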