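import Mathlib
import Cfsg.Statements.S3782
import Cfsg.Agent.Lib.FGS83.Alp
import Cfsg.Agent.Lib.Core.CoprimeNorm
import Cfsg.Agent.S3779

set_option autoImplicit false
open Cfsg

namespace Cfsg.Agent.S3782

open Subgroup H2 H83 H83.Krek
theorem inv_char {G : Type} [Group G] (N : Subgroup G) [h : N.Characteristic] :
    ∀ a : MulAut G, ∀ x ∈ N, MonoidHom.id (MulAut G) a x ∈ N :=
  fun a _ hx => characteristic_iff_le_comap.1 h a hx

theorem fix_sub {G : Type} [Group G] [Finite G] (N : Subgroup G) [N.Characteristic]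
    (α : MulAut G) : Nat.card {g // subAut (MonoidHom.id _) N (inv_char N) α g = g} ≤
      Nat.card {g // α g = g} :=
  card_le_of_imp (P := fun g => subAut (MonoidHom.id _) N (inv_char N) α g = g)
    (Q := fun g => α g = g) Subtype.val Subtype.val_injective (fun _ hx => congrArg Subtype.val hx)

theorem fix_quot {G : Type} [Group G] [Finite G] (N : Subgroup G) [N.Characteristic]
    (α : MulAut G) : Nat.card {g // quotAut (MonoidHom.id _) N (inv_char N) α g = g} ≤
      Nat.card {g // α g = g} :=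
  card_fix_quot_le (α : G →* G) (QuotientGroup.mk' N) (QuotientGroup.mk'_surjective N) _
    (fun _ => rfl)

theorem pgroup_bound (p : ℕ) [hp : Fact p.Prime] (n : ℕ) : ∃ l : ℕ, ∀ (G : Type) [Group G]
    [Finite G], IsPGroup p G → ∀ α : MulAut G, α ^ p = 1 → Nat.card {g // α g = g} ≤ p ^ n →
      derivedSeries G l = ⊥ := by
  let c := ∑ i ∈ Finset.range (2 ^ (p - 1) - 1), (p - 1) ^ i
  let f := n * p * ((n + 1) * (c + 1))
  refine ⟨f + (c + 1), fun G _ _ hG α hα h => ?_⟩
  refine derivedSeries_add (lc G f).subtype (QuotientGroup.mk' (lc G f)) (by simp) ?_ ?_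
  · rw [eq_bot_iff]
    refine (derivedSeries_le_lc f).trans ?_
    change (⊤ : Subgroup (G ⧸ lc G f)).lowerCentralSeries f ≤ ⊥
    rw [← map_top_of_surjective _ (QuotientGroup.mk'_surjective (lc G f)),
      ← Subgroup.map_lowerCentralSeries, le_bot_iff, Subgroup.map_eq_bot_iff,
      QuotientGroup.ker_mk']
  · rw [eq_bot_iff]
    refine (derivedSeries_le_lc _).trans ?_
    have h1 := relIndex_lc_le (hG.to_subgroup (lc G f))
      (subAut (MonoidHom.id _) (lc G f) (inv_char _) α) (by rw [← map_pow, hα, map_one])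
      ((fix_sub _ α).trans h) c (fun L' _ M hM h0 => hkk hp.out hM h0)
    rw [← relIndex_map_map_of_injective _ _ (lc G f).subtype_injective,
      top_subtype_lowerCentralSeries, top_subtype_lowerCentralSeries] at h1
    rw [le_bot_iff, ← map_subtype_inj, top_subtype_lowerCentralSeries, Subgroup.map_bot]
    by_contra hne
    have h2 := (pow_le_relIndex hG ((lc G f).lowerCentralSeries c) (lc G f) f le_rfl hne).trans h1
    rw [Nat.pow_le_pow_iff_right hp.out.one_lt] at h2
    omega

theorem core_bound (p : ℕ) [hp : Fact p.Prime] (n : ℕ) : ∃ l : ℕ, ∀ (G : Type) [Group G]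
    [Finite G], Group.IsSolvable G → pPrimeCore p G = ⊥ → ∀ α : MulAut G, α ^ p = 1 →
      Nat.card {g // α g = g} ≤ p ^ n → derivedSeries G l = ⊥ := by
  obtain ⟨l, hl⟩ := pgroup_bound p n
  refine ⟨((p ^ n) ^ p).factorial + l, fun G _ _ hG hO α hα h => ?_⟩
  let Φ : Subgroup G := (frattini (pCore p G)).map (pCore p G).subtype
  have hΦ : Φ ≤ frattini G := H1.map_subtype_frattini_le _
  have hF : fittingSubgroup (G ⧸ Φ) = (pCore p G).map (QuotientGroup.mk' Φ) := by
    rw [H1.fitting_quotient_of_le_frattini hΦ, H1.fitting_eq_pCore_of_pPrimeCore_eq_bot hO]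
  obtain ⟨h1, h2⟩ := (H1.map_subtype_frattini_le_iff (N := Φ) (H1.isPGroup_pCore (p := p))).1 le_rfl
  let g : G →* MulAut (fittingSubgroup (G ⧸ Φ)) := MulAut.conjNormal.comp (QuotientGroup.mk' Φ)
  refine derivedSeries_add (pCore p G).subtype g.rangeRestrict ?_ ?_
    (hl _ H1.isPGroup_pCore (subAut (MonoidHom.id _) _ (inv_char _) α)
      (by rw [← map_pow, hα, map_one]) ((fix_sub _ α).trans h))
  · intro x hx
    rw [MonoidHom.ker_rangeRestrict] at hx
    have h3 : (x : G ⧸ Φ) ∈ fittingSubgroup (G ⧸ Φ) := by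
      apply H1.centralizer_fitting_le
      intro y hy
      have := congrArg (fun f : MulAut (fittingSubgroup (G ⧸ Φ)) => (f ⟨y, hy⟩ : G ⧸ Φ)) hx
      change (x : G ⧸ Φ) * y * (x : G ⧸ Φ)⁻¹ = y at this
      rw [← mul_inv_eq_iff_eq_mul.1 this]
    rw [hF] at h3
    have h4 : x ∈ ((pCore p G).map (QuotientGroup.mk' Φ)).comap (QuotientGroup.mk' Φ) := h3
    rw [comap_map_eq, QuotientGroup.ker_mk', sup_eq_left.2 (map_subtype_le _)] at h4
    rwa [range_subtype]
  · apply derivedSeries_eq_bot_of_card_le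
      (Group.isSolvable_of_surjective g.rangeRestrict_surjective)
    have h3 : ∀ x y : fittingSubgroup (G ⧸ Φ), x * y = y * x := by
      rintro ⟨x, hx⟩ ⟨y, hy⟩
      rw [hF] at hx hy
      obtain ⟨a, ha, rfl⟩ := hx
      obtain ⟨b, hb, rfl⟩ := hy
      apply Subtype.ext
      change ((a * b : G) : G ⧸ Φ) = (b * a : G)
      rw [QuotientGroup.eq]
      have := h1 (commutator_mem_commutator (inv_mem hb) (inv_mem ha))
      simpa [commutatorElement_def, mul_assoc] using this
    have h4 : ∀ x : fittingSubgroup (G ⧸ Φ), x ^ p = 1 := by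
      rintro ⟨x, hx⟩
      rw [hF] at hx
      obtain ⟨a, ha, rfl⟩ := hx
      exact Subtype.ext ((QuotientGroup.eq_one_iff (a ^ p)).2 (h2 a ha))
    let β := subAut (MonoidHom.id _) (fittingSubgroup (G ⧸ Φ)) (inv_char _)
      (quotAut (MonoidHom.id _) Φ (inv_char _) α)
    have h5 : Nat.card {x // β x = x} ≤ p ^ n := (fix_sub _ _).trans ((fix_quot _ α).trans h)
    have h6 : ∀ w, (⇑β)^[p] w = w := fun w => by
      rw [mulAut_iterate, ← map_pow, ← map_pow, hα, map_one, map_one, MulAut.one_apply]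
    let _ : CommGroup (fittingSubgroup (G ⧸ Φ)) :=
      { (inferInstance : Group (fittingSubgroup (G ⧸ Φ))) with mul_comm := h3 }
    have h7 := (card_torsion_le β.toMonoidHom hp.out h6).trans (Nat.pow_le_pow_left h5 p)
    rw [Nat.card_congr (Equiv.subtypeUnivEquiv h4)] at h7
    refine (card_le_card_group g.range).trans (le_trans ?_ (Nat.factorial_le h7))
    rw [← Nat.card_perm]
    exact Nat.card_le_card_of_injective MulEquiv.toEquiv MulEquiv.toEquiv_injective

/-- Alperin's Theorem: for each prime p and each n ≥ 0 there is an integer l such that every finite solvable group admitting an automorphism of order p with exactly p^n fixed points has derived length at most l. -/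
theorem result (p : ℕ) (hp : p.Prime) (n : ℕ) : ∃ l : ℕ, ∀ (G : Type) [Group G] [Finite G], Group.IsSolvable G → ∀ α : MulAut G, orderOf α = p → Nat.card {g : G // α g = g} = p ^ n → derivedSeries G l = ⊥ := by

  have : Fact p.Prime := ⟨hp⟩
  obtain ⟨l, hl⟩ := core_bound p n
  refine ⟨l + ∑ i ∈ Finset.range (2 ^ (p - 1) - 1), (p - 1) ^ i, fun G _ _ hG α hα h => ?_⟩
  have hα' : α ^ p = 1 := by rw [← hα, pow_orderOf_eq_one]
  refine derivedSeries_add (pPrimeCore p G).subtype (QuotientGroup.mk' (pPrimeCore p G)) (by simp)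
    (hl _ inferInstance H1.pPrimeCore_quotient_pPrimeCore
      (quotAut (MonoidHom.id _) _ (inv_char _) α) (by rw [← map_pow, hα', map_one])
      ((fix_quot _ α).trans h.le)) ?_
  let β := subAut (MonoidHom.id _) (pPrimeCore p G) (inv_char _) α
  have hβ : ∀ g, β g = g → g = 1 := by
    intro g hg
    have hU : IsPGroup p ((α : G →* G).eqLocus (MonoidHom.id G)) := IsPGroup.of_card h
    have h1 : (g : G) ∈ (α : G →* G).eqLocus (MonoidHom.id G) ⊓ pPrimeCore p G :=
      ⟨congrArg Subtype.val hg, g.2⟩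
    rw [H1.inf_pPrimeCore_eq_bot hU, mem_bot] at h1
    exact Subtype.ext h1
  rw [eq_bot_iff]
  by_cases h1 : β = 1
  · intro g _
    exact hβ g (by rw [h1, MulAut.one_apply])
  · have h2 : orderOf β = p := orderOf_eq_prime (by rw [← map_pow, hα', map_one]) h1
    exact (derivedSeries_le_lc _).trans (Cfsg.Agent.S3779.result hp β h2 hβ).2.2.le

end Cfsg.Agent.S3782
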