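import Cfsg.Statements.S3805
import Mathlib
import Cfsg.Agent.Lib.Odd.B36

set_option autoImplicit false
open Cfsg

namespace Cfsg.Agent.S3805


open H53.Odd H53.Odd.H36 Subgroup in
set_option synthInstance.maxSize 2000 in
theorem exists_mdl {G : Type*} [Group G] [Finite G] {S H : Subgroup G} (h9 : Nat.card S = 9)
    (h3 : ∀ a ∈ S, a ^ 3 = 1)
    (hC : centralizer (S : Set G) = S) (hH : H = normalizer (S : Set G)) (hN : Nat.card H = 36)
    (ψ : Multiplicative W4 →* G) (hψ : ∀ d, ψ d ∈ S → d = 1) (hψ' : ∀ d, ψ d ∈ H) :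
    ∃ φ : V9 × W4 → G, Mdl H mul φ ∧ ∀ g, g ∈ S ↔ ∃ u, φ (u, 0) = g := by
  subst hH
  have hc : ∀ a ∈ S, ∀ b ∈ S, a * b = b * a := fun a ha b hb =>
    (hC.ge hb : b ∈ centralizer (S : Set G)) a ha
  let s : W4 → G := fun w => ψ (Multiplicative.ofAdd w)
  have sm : ∀ w w', s (w + w') = s w * s w' := fun w w' => by
    simp only [s, ofAdd_add, map_mul]
  have s0 : s 0 = 1 := map_one ψ
  obtain ⟨a0, ha0, b0, hb0, a1, b1⟩ := exists_gens9 h9 h3
  obtain ⟨hA0, hi0, hm0⟩ := par9 h9 hc h3 ha0 hb0 a1 b1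
  choose A hA using fun w : W4 => exists_lin9 hA0 hm0 (hψ' (Multiplicative.ofAdd w))
  change ∀ w p, s w * f9 a0 b0 p * (s w)⁻¹ = _ at hA
  have hmul : ∀ w w' p, lin9 (A w) (lin9 (A w') p) = lin9 (A (w + w')) p := fun w w' p =>
    hi0 (by rw [← hA, ← hA, ← hA, sm]; group)
  have hz : ∀ p, lin9 (A 0) p = p := fun p => hi0 (by rw [← hA, s0]; group)
  have hf : ∀ w, (∀ p, lin9 (A w) p = p) → w = 0 := fun w e => by
    have := hψ (Multiplicative.ofAdd w) (hC.le fun x hx => by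
      obtain ⟨p, rfl⟩ := (hm0 x).1 hx
      have := hA w p
      rw [e, mul_inv_eq_iff_eq_mul] at this
      exact this.symm)
    exact this
  obtain ⟨u, v, u0, u1, hh⟩ := (by decide +kernel : ∀ X : V9 × V9,
    (∀ p, lin9 X (lin9 X p) = p) → (¬ ∀ p, lin9 X p = p) → ∀ Y : V9 × V9,
    (∀ p, lin9 Y (lin9 Y p) = p) → (¬ ∀ p, lin9 Y p = p) →
    (∀ p, lin9 X (lin9 Y p) = lin9 Y (lin9 X p)) → (¬ ∀ p, lin9 X (lin9 Y p) = p) →
    ∃ u v : V9, u ≠ 0 ∧ ¬ (v = 0 ∨ v = u ∨ v = -u) ∧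
      ((lin9 X u = -u ∧ lin9 X v = v ∧ lin9 Y u = u ∧ lin9 Y v = -v) ∨
       (lin9 X u = -u ∧ lin9 X v = v ∧ lin9 X (lin9 Y u) = u ∧ lin9 X (lin9 Y v) = -v) ∨
       (lin9 Y u = -u ∧ lin9 Y v = v ∧ lin9 X (lin9 Y u) = u ∧ lin9 X (lin9 Y v) = -v)))
    (A (1, 0)) (fun p => by rw [hmul]; exact hz p) (fun e => absurd (hf _ e) (by decide))
    (A (0, 1)) (fun p => by rw [hmul]; exact hz p) (fun e => absurd (hf _ e) (by decide))
    (fun p => by rw [hmul, hmul, add_comm])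
    (fun e => absurd (hf ((1, 0) + (0, 1)) fun p => by rw [← hmul]; exact e p) (by decide))
  obtain ⟨w1, w2, e1, e2, e3, e4⟩ : ∃ w1 w2 : W4, lin9 (A w1) u = -u ∧ lin9 (A w1) v = v ∧
      lin9 (A w2) u = u ∧ lin9 (A w2) v = -v := by
    simp only [hmul] at hh
    rcases hh with h | h | h
    exacts [⟨_, _, h⟩, ⟨_, _, h⟩, ⟨_, _, h⟩]
  have ha : f9 a0 b0 u ∈ S := (hm0 _).2 ⟨_, rfl⟩
  obtain ⟨hA1, hi, hm⟩ := par9 h9 hc h3 ha ((hm0 _).2 ⟨v, rfl⟩)
    (fun e => u0 (hi0 (e.trans hA0.zero.symm))) (by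
      rw [mem_zpowers_three (h3 _ ha), ← hA0.zero, ← hA0.neg]
      simpa only [hi0.eq_iff] using u1)
  have ea := hA w1 u
  have eb := hA w1 v
  have ec := hA w2 u
  have ed := hA w2 v
  rw [e1, hA0.neg] at ea
  rw [e2] at eb
  rw [e3] at ec
  rw [e4, hA0.neg] at ed
  generalize f9 a0 b0 v = b at *
  generalize f9 a0 b0 u = a at *
  have cr : ∀ p, s w1 * f9 a b p * (s w1)⁻¹ = f9 a b (-p.1, p.2) := fun p => by
    rw [conj_f9 hA1 (u := -(1, 0)) (v := (0, 1)) (by rw [hA1.neg, f9_10, ea]) (by rw [f9_01, eb])]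
    exact congrArg _ ((by decide +kernel : ∀ p : V9, lin9 (-(1, 0), (0, 1)) p = (-p.1, p.2)) p)
  have cs : ∀ p, s w2 * f9 a b p * (s w2)⁻¹ = f9 a b (p.1, -p.2) := fun p => by
    rw [conj_f9 hA1 (u := (1, 0)) (v := -(0, 1)) (by rw [f9_10, ec]) (by rw [hA1.neg, f9_01, ed])]
    exact congrArg _ ((by decide +kernel : ∀ p : V9, lin9 ((1, 0), -(0, 1)) p = (p.1, -p.2)) p)
  have sn : ∀ (n : ℕ) w, s w ^ n = s (n • w) := fun n w => by
    simp only [s, ofAdd_nsmul, map_pow]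
  refine ⟨_, mdl_sd_card (s := fun w : W4 => s w1 ^ w.1.val * s w2 ^ w.2.val) hA1 hi
    (fun w w' => ?_)
    (fun w p => ?_) (by decide +kernel) 0 (by simp) (fun p => le_normalizer ((hm _).2 ⟨p, rfl⟩))
    (fun w => mul_mem (pow_mem (hψ' _) _) (pow_mem (hψ' _) _)) (by rw [hN]; rfl),
    fun g => by simp [hm]⟩
  · simp only [sn, ← sm]
    exact congrArg s ((by decide +kernel : ∀ w w' w1 w2 : W4, (w + w').1.val • w1 +
      (w + w').2.val • w2 = w.1.val • w1 + w.2.val • w2 + (w'.1.val • w1 + w'.2.val • w2)) w w' w1 w2)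
  · rw [← (by decide +kernel : ∀ (w : W4) (p : V9), (fun p : V9 => (-p.1, p.2))^[w.1.val]
      ((fun p : V9 => (p.1, -p.2))^[w.2.val] p) = act w p) w p, ← conj_iter cr, ← conj_iter cs]
    group

/-- Let G be a finite group whose Sylow 3-subgroup T is elementary abelian of order 9 and self-centralizing, with N_G(T)/T a Klein four-group, and suppose that the centralizer of every nonidentity element of T lies in N_G(T). Then T is normal in G. -/
theorem result {G : Type*} [Group G] [Finite G]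
    (T : Sylow 3 G) (hT : Cfsg.IsElementaryAbelian 3 (T : Subgroup G)) (hcard : Nat.card T = 9)
    (hC : Subgroup.centralizer ((T : Subgroup G) : Set G) = T)
    [hn : ((T : Subgroup G).subgroupOf (Subgroup.normalizer ((T : Subgroup G) : Set G))).Normal]
    (hK : IsKleinFour (↥(Subgroup.normalizer ((T : Subgroup G) : Set G)) ⧸
      (T : Subgroup G).subgroupOf (Subgroup.normalizer ((T : Subgroup G) : Set G))))
    (hloc : ∀ t ∈ (T : Subgroup G), t ≠ 1 →
      Subgroup.centralizer ({t} : Set G) ≤ Subgroup.normalizer ((T : Subgroup G) : Set G)) :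
    Subgroup.normalizer ((T : Subgroup G) : Set G) = ⊤ := by
  classical
  set N := Subgroup.normalizer ((T : Subgroup G) : Set G) with hN
  have hc : ∀ a ∈ (T : Subgroup G), ∀ b ∈ (T : Subgroup G), a * b = b * a := fun a ha b hb =>
    (hC.ge hb : b ∈ Subgroup.centralizer ((T : Subgroup G) : Set G)) a ha
  have h3 := hT.2
  have hPN : (T : Subgroup G) ≤ N := Subgroup.le_normalizer
  have c9 : Nat.card ((T : Subgroup G).subgroupOf N) = 9 :=
    (Nat.card_congr (Subgroup.subgroupOfEquivOfLe hPN).toEquiv).trans hcard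
  have h36 : Nat.card N = 36 := by
    rw [Subgroup.card_eq_card_quotient_mul_card_subgroup ((T : Subgroup G).subgroupOf N), c9,
      hK.card_four]
  obtain ⟨eN⟩ : Nonempty ((N ⧸ (T : Subgroup G).subgroupOf N) ≃* Multiplicative H53.Odd.H36.W4) :=
    IsKleinFour.nonempty_mulEquiv
  let π : N →* Multiplicative H53.Odd.H36.W4 := eN.toMonoidHom.comp (QuotientGroup.mk' _)
  have hk : ∀ n : N, π n = 1 ↔ (n : G) ∈ (T : Subgroup G) := fun n =>
    (map_eq_one_iff eN eN.injective).trans ((QuotientGroup.eq_one_iff _).trans Iff.rfl)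
  obtain ⟨Q⟩ : Nonempty (Sylow 2 N) := inferInstance
  have h4 : Nat.card (Q : Subgroup N) = 4 := by
    rw [Sylow.card_eq_multiplicity, h36, show 36 = 2 ^ 2 * 9 from rfl,
      Nat.factorization_mul (by norm_num) (by norm_num), Nat.Prime.factorization_pow Nat.prime_two]
    simp [Nat.factorization_eq_zero_of_not_dvd (show ¬ 2 ∣ 9 by norm_num)]
  have hb : Function.Bijective (π.comp (Q : Subgroup N).subtype) := by
    refine (Nat.bijective_iff_injective_and_card _).2 ⟨(injective_iff_map_eq_one _).2 fun q hq => ?_,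
      by rw [h4]; simp⟩
    rw [← orderOf_eq_one_iff]
    refine Nat.eq_one_of_dvd_coprimes (show Nat.Coprime 4 3 by norm_num)
      (h4 ▸ orderOf_dvd_natCard q) (orderOf_dvd_of_pow_eq_one (Subtype.ext (Subtype.ext ?_)))
    exact h3 _ ((hk _).1 hq)
  let e := MulEquiv.ofBijective _ hb
  obtain ⟨φ, hm, hT'⟩ := exists_mdl hcard h3 hC hN h36
    ((N.subtype.comp (Q : Subgroup N).subtype).comp e.symm.toMonoidHom)
    (fun d hd => by
      have h1 : π ((e.symm d : Q) : N) = 1 := (hk _).2 hd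
      have h2 : e (e.symm d) = 1 := h1
      simpa using h2)
    (fun d => ((e.symm d : Q) : N).2)
  have ti := H53.Odd.TI_norm T hc h3 hloc
  have t9 : H53.Odd.T9 T N φ := by
    have one : φ (0, 0) = 1 := by
      have := hm.hom (0, 0) (0, 0)
      rwa [show H53.Odd.H36.mul (0, 0) (0, 0) = (0, 0) by decide, left_eq_mul] at this
    have key : ∀ u, u ≠ 0 → ∀ c, c * φ (u, 0) = φ (u, 0) * c → c ∈ N := fun u hu c e =>
      hloc _ ((hT' _).2 ⟨u, rfl⟩) (fun e => hu (by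
        have := hm.inj (e.trans one.symm)
        exact (Prod.ext_iff.1 this).1)) (Subgroup.mem_centralizer_singleton_iff.2 e)
    exact ⟨hm, hT', le_rfl, fun u hu => ⟨⊥, H53.Odd.Loc.bot (key u hu)⟩, key _ (by decide)⟩
  obtain ⟨X, hX, hc3, hXg⟩ := t9.main
  have se : H53.Odd.SE T N := ⟨hc, h3, fun hcy => by
    obtain ⟨g, hg⟩ := IsCyclic.exists_ofOrder_eq_natCard (α := (T : Subgroup G))
    have : orderOf g ∣ 3 := orderOf_dvd_of_pow_eq_one (Subtype.ext (h3 g g.2))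
    rw [hg] at this
    have h9 : Nat.card (T : Subgroup G) = 9 := hcard
    rw [h9] at this
    omega, ti, fun h hh a ha => (Subgroup.mem_normalizer_iff.1 hh a).1 ha,
    fun g hg => hC.le fun a ha => (hg a ha).symm⟩
  have hX0 : X = ⊥ := se.eq_bot (fun a _ k hk => hX.conj_mem k hk a) hc3
  rw [eq_top_iff]
  intro g _
  obtain ⟨x, hx, e⟩ := hXg g
  rw [hX0, Subgroup.mem_bot] at hx
  simpa [hx] using e

end Cfsg.Agent.S3805
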