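import Cfsg.Statements.S3806
import Mathlib
import Cfsg.Agent.Base
import Cfsg.Agent.Lib.MaxCl.Basic

set_option autoImplicit false
open Cfsg

namespace Cfsg.Agent.S3806

open Subgroup H83.Krek H81 H93 in
theorem aux {G : Type*} [Group G] [Finite G] {p k : ℕ} [hp : Fact p.Prime]
    (h : MC p (2 * k + 5) G) (hpk : k + 4 ≤ p) : IsElementaryAbelian p (lc G (k + 1)) := by
  have hcomm : ∀ i, ⁅lc G (i + 1), lc G (i + 1)⁆ ≤ lc G (2 * i + 4) := fun i => by
    by_cases h1 : lc G (i + 1) ≤ lc G (i + 2)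
    · exact (commutator_mono h1 le_rfl).trans ((commutator_lcs_le ⊤ _ _).trans (lc_anti (by omega)))
    obtain ⟨u, hu, h2⟩ := SetLike.not_le_iff_exists.1 h1
    have h3 : ∀ x ∈ lc G (i + 2), x ∈ cm (lc G (i + 1)) (lc G (2 * i + 4)) := fun x hx y hy =>
      lc_anti (by omega) (comm_mem_lc hx hy)
    refine commutator_le.2 fun x hx => (h.eq_sup hu h2).ge.trans (sup_le h3 (zpowers_le.2 ?_)) hx
    exact h.eq_sup hu h2 ▸ mem_cm_sup_zpowers (fun y hy => comm_mem_comm (h3 y hy u hu)) (by simp)
  have hlc : ∀ j, (lc G 1).lowerCentralSeries (j + 1) ≤ lc G (2 * j + 4) := fun j => by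
    induction j with
    | zero => exact hcomm 0
    | succ j ih =>
      exact (commutator_mono ih le_rfl).trans ((commutator_lcs_le ⊤ _ _).trans (lc_anti (by omega)))
  have hG := h.isPGroup.to_subgroup (lc G 1)
  have hr : Reg1 p (lc G 1) := reg1_of_class_lt hp.out fun a b => by
    rw [← Subgroup.map_eq_bot_iff_of_injective _ (lc G 1).subtype_injective, map_lowerCentralSeries,
      show p - 1 = p - 2 + 1 by omega]
    exact eq_bot_iff.2 ((lowerCentralSeries_mono _ (map_subtype_le _)).trans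
      ((hlc _).trans (h.lc_eq_bot (by omega)).le))
  let Ω := (hr.omega hG 1).map (lc G 1).subtype
  haveI := hr.omega_characteristic hG 1
  have h1 : powerClosure p 1 (lc G 1) ≤ lc G (k + 4) := powerClosure_le_iff.2 fun x hx => by
    by_cases h1 : 2 * k + 5 ≤ p + 1
    · rw [pow_one, h.pow_eq_one h1 hx]; exact one_mem _
    obtain ⟨m, rfl⟩ := Nat.exists_eq_add_of_le' hp.out.two_le
    have := (h.quot_lc (m := m) (by omega)).pow_eq_one le_rfl (hom_mem_lc (QuotientGroup.mk' _) hx)
    rw [pow_one]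
    exact lc_anti hpk ((QuotientGroup.eq_one_iff (x ^ (m + 2))).1 this)
  have h2 := hr.card_omega_mul hG ⊤ 1
  rw [relIndex_top_right, ← card_map_of_injective (lc G 1).subtype_injective, map_powerClosure,
    ← MonoidHom.range_eq_map, subtype_range] at h2
  have h3 : lc G (k + 1) ≤ Ω := h.lc_le (j := k + 3) (by omega) (by
    have h3 := (hr.omega hG 1).card_mul_index
    rw [h2, h.card_lc (j := 2 * k + 3) (by omega)] at h3
    have h4 := card_le_of_le h1
    rw [h.card_lc (j := k) (by omega)] at h4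
    rw [card_map_of_injective (lc G 1).subtype_injective]
    refine Nat.le_of_mul_le_mul_right (le_trans (le_of_eq ?_) (h3.ge.trans (Nat.mul_le_mul_left _ h4)))
      (pow_pos hp.out.pos k)
    ring)
  refine ⟨⟨⟨fun a b => Subtype.ext (commutatorElement_eq_one_iff_mul_comm.1 (mem_bot.1
    ((hcomm k).trans (h.lc_eq_bot le_rfl).le (commutator_mem_commutator a.2 b.2))))⟩⟩, fun x hx => ?_⟩
  obtain ⟨y, hy, rfl⟩ := h3 hx
  exact pow_one p ▸ congrArg Subtype.val ((hr.mem_omega hG).1 hy)

/-- Let p be a prime and S a finite p-group of order pⁿ (n ≥ 2) of maximal nilpotency class n − 1 whose sectional p-rank is exactly k (every section has p-rank at most k, and some section has p-rank k). If p ≥ k + 2 then the order of S is at most p^(2k). -/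
theorem result {S : Type*} [Group S] [Finite S] (p : ℕ) [Fact p.Prime] (hS : IsPGroup p S) [Group.IsNilpotent S]
    (n : ℕ) (hn : 2 ≤ n) (hcard : Nat.card S = p ^ n) (hmax : Group.nilpotencyClass S = n - 1)
    (k : ℕ) (hk : 1 ≤ k) (hsr : Cfsg.SectionalPRankLE p k S ∧ ¬ Cfsg.SectionalPRankLE p (k - 1) S)
    (hpk : k + 2 ≤ p) : Nat.card S ≤ p ^ (2 * k) := by
  have hp : p.Prime := Fact.out
  rw [hcard]
  refine Nat.pow_le_pow_right hp.pos (not_lt.1 fun h => ?_)
  have h1 := H93.mc_of_class hcard (by omega) hmax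
  obtain rfl | h2 := hk.eq_or_lt
  · haveI : IsMulCommutative ((⊤ : Subgroup S) ⧸ (H83.Krek.lc S 1).subgroupOf ⊤) :=
      (Subgroup.Normal.quotient_commutative_iff_commutator_le).2
        (Subgroup.commutator_le.2 fun a _ b _ => H93.comm_mem_lc_succ (a : S) (H93.mem_lc_zero b))
    have := hsr.1 ⊤ ((H83.Krek.lc S 1).subgroupOf ⊤) ⊤ inferInstance fun a _ => by
      obtain ⟨a, rfl⟩ := QuotientGroup.mk_surjective a
      exact (QuotientGroup.eq_one_iff (a ^ p)).2 (h1.pow_mem_lc_one a)
    rw [Subgroup.card_top, ← Subgroup.index, ← Subgroup.relIndex, Subgroup.relIndex_top_right,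
      h1.index_lc_one, Nat.pow_le_pow_iff_right hp.one_lt] at this
    omega
  obtain ⟨k, rfl⟩ := Nat.exists_eq_add_of_le' h2
  have h3 := h1.quot_lc (m := 2 * k + 2) (by omega)
  let e := QuotientGroup.quotientKerEquivOfSurjective ((QuotientGroup.mk'
    (H83.Krek.lc S (2 * k + 2 + 2))).comp (Subgroup.topEquiv (G := S)).toMonoidHom)
    ((QuotientGroup.mk'_surjective _).comp (Subgroup.topEquiv (G := S)).surjective)
  have h4 := aux h3 hpk
  haveI := h4.1
  have := hsr.1 ⊤ _ ((H83.Krek.lc _ (k + 1)).map e.symm.toMonoidHom) inferInstance (by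
    rintro _ ⟨a, ha, rfl⟩
    rw [← map_pow, h4.2 a ha, map_one])
  rw [Subgroup.card_map_of_injective e.symm.injective, h3.card_lc (j := k + 3) (by omega),
    Nat.pow_le_pow_iff_right hp.one_lt] at this
  omega

end Cfsg.Agent.S3806
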