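import Cfsg.Statements.S3866
import Mathlib
import Cfsg.Agent.Lib.Core.GrpBasic
import Cfsg.Agent.Lib.PGroup.Basic

set_option autoImplicit false
open Cfsg

namespace Cfsg.Agent.S3866

open Subgroup
open scoped Pointwise commutatorElement

/-- Let A be a commutative normal subgroup of the finite group G with G generated by A and an element x. Then a ↦ x a x⁻¹ a⁻¹ is a surjective homomorphism from A onto the commutator subgroup of G whose kernel is the centralizer of x in A; in particular the commutator subgroup has order equal to the index in A of that centralizer. -/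
theorem result {G : Type*} [Group G] [Finite G] (A : Subgroup G) [A.Normal] (hA : IsMulCommutative A) (x : G) (hgen : A ⊔ Subgroup.zpowers x = ⊤) : (∀ a ∈ A, x * a * x⁻¹ * a⁻¹ ∈ commutator G) ∧ (∀ c ∈ commutator G, ∃ a ∈ A, x * a * x⁻¹ * a⁻¹ = c) ∧ (∀ a ∈ A, ∀ b ∈ A, x * (a * b) * x⁻¹ * (a * b)⁻¹ = (x * a * x⁻¹ * a⁻¹) * (x * b * x⁻¹ * b⁻¹)) ∧ Nat.card (commutator G) * Nat.card ↥(A ⊓ Subgroup.centralizer ({x} : Set G)) = Nat.card A := by
  have hc : ∀ a ∈ A, ∀ b ∈ A, a * b = b * a := fun x hx y hy =>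
    congrArg Subtype.val (hA.is_comm.comm ⟨x, hx⟩ ⟨y, hy⟩)
  have hAn : A.Normal := inferInstance
  have hm : ∀ a ∈ A, x * a * x⁻¹ * a⁻¹ ∈ A := fun a ha =>
    A.mul_mem (hAn.conj_mem a ha x) (A.inv_mem ha)
  have h3 : ∀ a ∈ A, ∀ b ∈ A, x * (a * b) * x⁻¹ * (a * b)⁻¹ =
      (x * a * x⁻¹ * a⁻¹) * (x * b * x⁻¹ * b⁻¹) := by
    intro a ha b hb
    have : x * (a * b) * x⁻¹ * (a * b)⁻¹ = (x * a * x⁻¹ * a⁻¹) * (a * (x * b * x⁻¹ * b⁻¹) * a⁻¹) := by
      group
    rw [this, hc a ha _ (hm b hb), mul_inv_cancel_right]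
  let f : A →* G := MonoidHom.mk' (fun a => x * a * x⁻¹ * (a : G)⁻¹) fun a b => h3 a a.2 b b.2
  have hf : f.range = commutator G := by
    apply le_antisymm
    · rintro _ ⟨a, rfl⟩
      exact commutator_mem_commutator (mem_top x) (mem_top (a : G))
    · have hn : f.range.Normal := by
        rw [← normalizer_eq_top_iff, eq_top_iff, ← hgen]
        apply sup_le
        · intro b hb
          apply centralizer_le_normalizer
          rintro _ ⟨a, rfl⟩
          exact hc _ (hm a a.2) b hb
        · rw [zpowers_le]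
          apply mem_normalizer_fintype
          rintro _ ⟨a, rfl⟩
          exact ⟨⟨x * a * x⁻¹, hAn.conj_mem _ a.2 x⟩, by
            change x * (x * a * x⁻¹) * x⁻¹ * (x * a * x⁻¹)⁻¹ = x * (x * a * x⁻¹ * (a : G)⁻¹) * x⁻¹
            group⟩
      rw [commutator_def, commutator_le]
      intro g _ h _
      have hxn : x ∈ normalizer (A : Set G) := by rw [normalizer_eq_top]; trivial
      obtain ⟨a, ha, i, rfl⟩ := (H5.mem_sup_zpowers_iff hxn).mp (hgen ▸ mem_top g)
      obtain ⟨b, hb, j, rfl⟩ := (H5.mem_sup_zpowers_iff hxn).mp (hgen ▸ mem_top h)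
      let π := QuotientGroup.mk' f.range
      have e1 : ∀ a ∈ A, Commute (π x) (π a) := fun a ha => by
        rw [← commutatorElement_eq_one_iff_commute, ← map_commutatorElement]
        exact (QuotientGroup.eq_one_iff _).mpr ⟨⟨a, ha⟩, rfl⟩
      rw [← QuotientGroup.ker_mk' f.range, MonoidHom.mem_ker, map_commutatorElement,
        commutatorElement_eq_one_iff_commute]
      simp only [map_mul, map_zpow]
      refine Commute.mul_left (Commute.mul_right ?_ ?_) (Commute.mul_right ?_ ?_)
      · exact Commute.map (hc a ha b hb) π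
      · exact (e1 a ha).symm.zpow_right j
      · exact (e1 b hb).zpow_left i
      · exact (Commute.refl _).zpow_zpow i j
  refine ⟨fun a ha => hf.le ⟨⟨a, ha⟩, rfl⟩, fun c hc => ?_, h3, ?_⟩
  · obtain ⟨a, rfl⟩ := hf.ge hc
    exact ⟨a, a.2, rfl⟩
  · have hk : f.ker = (centralizer ({x} : Set G)).subgroupOf A := by
      ext a
      rw [MonoidHom.mem_ker, mem_subgroupOf, mem_centralizer_singleton_iff, eq_comm (a := (a : G) * x)]
      exact commutatorElement_eq_one_iff_mul_comm
    rw [← hf, inf_comm, ← H1.card_subgroupOf_eq, ← hk, ← index_ker, mul_comm, card_mul_index]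

end Cfsg.Agent.S3866
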