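import Cfsg.Statements.S3807
import Mathlib
import Cfsg.Agent.S3866
import Cfsg.Agent.Lib.BG.Api.Rank2

set_option autoImplicit false
open Cfsg

namespace Cfsg.Agent.S3807

open Subgroup
open scoped Pointwise commutatorElement

theorem center_le {S : Type*} [Group S] {p : ℕ} (hp : p.Prime) (hna : ¬ IsMulCommutative S)
    (A : Subgroup S) (hA : IsMulCommutative ↥A) (hAi : A.index = p) : center S ≤ A := by
  intro z hz
  by_contra h
  have h1 := H5.sup_zpowers_eq_top_of_isCoatom (H5.isCoatom_of_index_prime (hAi ▸ hp)) h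
  have h2 := H5.isMulCommutative_sup_zpowers hA (center_le_centralizer (A : Set S) hz)
  rw [h1] at h2
  exact hna ⟨⟨fun a b => congrArg Subtype.val (h2.is_comm.comm ⟨a, trivial⟩ ⟨b, trivial⟩)⟩⟩

/-- Let S be a non-abelian finite p-group with an abelian subgroup A of index p. Then [S : Z(S)] = p·#[S,S], and either [S,S] has order p, S/Z(S) is elementary abelian of order p², and S has exactly p + 1 abelian subgroups of index p; or [S,S] has order at least p² and A is the only abelian subgroup of index p in S. -/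
theorem result {S : Type*} [Group S] [Finite S] (p : ℕ) [Fact p.Prime] (hS : IsPGroup p S) (hna : ¬ IsMulCommutative S)
    (A : Subgroup S) (hA : IsMulCommutative ↥A) (hAi : A.index = p) :
    (Subgroup.center S).index = p * Nat.card (commutator S) ∧
      ((Nat.card (commutator S) = p ∧ Cfsg.IsElementaryAbelian p (⊤ : Subgroup (S ⧸ Subgroup.center S)) ∧
          Nat.card (S ⧸ Subgroup.center S) = p ^ 2 ∧
          Nat.card {B : Subgroup S // IsMulCommutative ↥B ∧ B.index = p} = p + 1) ∨
        (p ^ 2 ≤ Nat.card (commutator S) ∧ ∀ B : Subgroup S, IsMulCommutative ↥B → B.index = p → B = A)) := by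
  have hp := (Fact.out : p.Prime)
  have hAn := H5.normal_of_index_eq hS hAi
  have hco := H5.isCoatom_of_index_prime (hAi ▸ hp)
  obtain ⟨x, hx⟩ : ∃ x, x ∉ A := by
    by_contra h
    push Not at h
    exact hco.1 (eq_top_iff.mpr fun x _ => h x)
  have hgen := H5.sup_zpowers_eq_top_of_isCoatom hco hx
  have h1 := (Cfsg.Agent.S3866.result A hA x hgen).2.2.2
  have hZ : A ⊓ centralizer ({x} : Set S) = center S := by
    apply le_antisymm _ (le_inf (center_le hp hna A hA hAi) (center_le_centralizer _))
    intro a ha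
    rw [← centralizer_univ, ← coe_top, ← hgen]
    have : A ⊔ zpowers x ≤ centralizer ({a} : Set S) := by
      apply sup_le
      · intro b hb
        rw [mem_centralizer_singleton_iff]
        exact congrArg Subtype.val (hA.is_comm.comm ⟨b, hb⟩ ⟨a, ha.1⟩)
      · rw [zpowers_le, mem_centralizer_singleton_iff]
        exact (mem_centralizer_singleton_iff.mp ha.2).symm
    intro g hg
    exact mem_centralizer_singleton_iff.mp (this hg)
  rw [hZ] at h1
  have h2 : (center S).index = p * Nat.card (commutator S) := by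
    apply Nat.eq_of_mul_eq_mul_left (Nat.card_pos (α := center S))
    rw [card_mul_index, ← A.card_mul_index, ← h1, hAi]; ring
  refine ⟨h2, ?_⟩
  obtain ⟨k, hk⟩ := IsPGroup.iff_card.mp (hS.to_subgroup (commutator S))
  have hk0 : k ≠ 0 := by
    rintro rfl
    rw [pow_zero, card_eq_one, commutator_eq_bot_iff] at hk
    exact hna hk
  rcases Nat.lt_or_ge k 2 with h | h
  · obtain rfl : k = 1 := by omega
    rw [pow_one] at hk
    have h3 : Nat.card (S ⧸ center S) = p ^ 2 := by
      rw [← index_eq_card, h2, hk, sq]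
    have hcyc : ¬ IsCyclic (S ⧸ center S) := fun h =>
      hna ⟨⟨fun a b => commutative_of_cyclic_center_quotient (QuotientGroup.mk' (center S))
        (by rw [QuotientGroup.ker_mk']) a b⟩⟩
    have h4 : IsElementaryAbelian p (⊤ : Subgroup (S ⧸ center S)) := by
      refine ⟨⟨⟨fun a b => Subtype.ext (IsPGroup.commutative_of_card_eq_prime_sq h3 a b)⟩⟩, fun a _ => ?_⟩
      have h5 : orderOf a ∣ p ^ 2 := h3 ▸ orderOf_dvd_natCard a
      obtain ⟨i, hi, h6⟩ := (Nat.dvd_prime_pow hp).mp h5
      rcases Nat.lt_or_ge i 2 with h7 | h7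
      · rw [← orderOf_dvd_iff_pow_eq_one, h6]
        interval_cases i <;> simp
      · obtain rfl : i = 2 := by omega
        exact absurd (isCyclic_of_orderOf_eq_card a (h6.trans h3.symm)) hcyc
    refine Or.inl ⟨hk, h4, h3, ?_⟩
    have h5 := H45.card_p1Elem_p2Elem (G := S ⧸ center S) (p := p) (H := ⊤) (A := ⊤)
      ⟨le_rfl, h4, by rw [card_top, h3]⟩
    rw [← h5, ← Nat.card_coe_set_eq]
    have hsurj := QuotientGroup.mk'_surjective (center S)
    symm
    refine Nat.card_congr (Equiv.ofBijective (fun X => ⟨X.1.comap (QuotientGroup.mk' (center S)), ?_, ?_⟩) ⟨?_, ?_⟩)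
    · obtain ⟨X, -, -, hX⟩ := X
      rw [pow_one] at hX
      have := isCyclic_of_prime_card hX
      obtain ⟨⟨g, hg⟩, hg'⟩ := IsCyclic.exists_generator (α := X)
      obtain ⟨y, rfl⟩ := hsurj g
      have hc : IsMulCommutative (center S) := inferInstance
      have h6 := H5.isMulCommutative_sup_zpowers hc (x := y) (fun z hz => (mem_center_iff.mp hz y).symm)
      have h7 : X.comap (QuotientGroup.mk' (center S)) ≤ center S ⊔ zpowers y := by
        intro a ha
        obtain ⟨i, hi⟩ := hg' ⟨_, ha⟩
        have hi' : QuotientGroup.mk' (center S) (y ^ i) = QuotientGroup.mk' (center S) a := by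
          rw [map_zpow]; exact congrArg Subtype.val hi
        obtain ⟨z, hz, rfl⟩ := (QuotientGroup.mk'_eq_mk' _).mp hi'
        exact mul_mem (mem_sup_right ⟨i, rfl⟩) (mem_sup_left hz)
      exact ⟨⟨fun a b => Subtype.ext (congrArg Subtype.val (h6.is_comm.comm ⟨a, h7 a.2⟩ ⟨b, h7 b.2⟩) :)⟩⟩
    · obtain ⟨X, -, -, hX⟩ := X
      rw [index_comap_of_surjective _ hsurj]
      apply Nat.eq_of_mul_eq_mul_left hp.pos
      have := X.card_mul_index
      rw [hX, h3, pow_one] at this
      rw [this, sq]
    · intro X Y h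
      exact Subtype.ext (comap_injective hsurj (congrArg Subtype.val h))
    · rintro ⟨B, hB, hBi⟩
      have h6 : (B.map (QuotientGroup.mk' (center S))).comap (QuotientGroup.mk' (center S)) = B :=
        comap_map_eq_self (by rw [QuotientGroup.ker_mk']; exact center_le hp hna B hB hBi)
      refine ⟨⟨B.map (QuotientGroup.mk' (center S)), le_top, ⟨?_, fun a _ => h4.2 a trivial⟩, ?_⟩, Subtype.ext h6⟩
      · exact ⟨⟨fun a b => Subtype.ext (IsPGroup.commutative_of_card_eq_prime_sq h3 a b)⟩⟩
      · have h7 := (B.map (QuotientGroup.mk' (center S))).card_mul_index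
        rw [← index_comap_of_surjective _ hsurj, h6, hBi, h3, sq] at h7
        rw [pow_one]
        exact Nat.eq_of_mul_eq_mul_right hp.pos h7
  · refine Or.inr ⟨hk ▸ Nat.pow_le_pow_right hp.pos h, fun B hB hBi => ?_⟩
    by_contra hne
    have hcoB := H5.isCoatom_of_index_prime (hBi ▸ hp)
    have h3 : A ⊔ B = ⊤ := hco.2 _ (left_lt_sup.mpr fun h => hne ((hcoB.le_iff.mp h).resolve_left hco.1).symm)
    have h4 : A ⊓ B ≤ center S := by
      intro a ha
      rw [mem_center_iff]
      have : A ⊔ B ≤ centralizer ({a} : Set S) := by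
        apply sup_le
        · intro b hb
          rw [mem_centralizer_singleton_iff]
          exact congrArg Subtype.val (hA.is_comm.comm ⟨b, hb⟩ ⟨a, ha.1⟩)
        · intro b hb
          rw [mem_centralizer_singleton_iff]
          exact congrArg Subtype.val (hB.is_comm.comm ⟨b, hb⟩ ⟨a, ha.2⟩)
      intro g
      exact mem_centralizer_singleton_iff.mp (this (h3 ▸ mem_top g))
    have h5 := index_inf_le (H := A) (K := B)
    have h6 := Nat.le_of_dvd (Nat.pos_of_ne_zero (A ⊓ B).index_ne_zero_of_finite) (index_dvd_of_le h4)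
    rw [h2, hk] at h6
    rw [hAi, hBi] at h5
    have h7 := Nat.le_of_mul_le_mul_left (h6.trans h5) hp.pos
    have h8 : p ^ 1 < p ^ k := Nat.pow_lt_pow_right hp.one_lt (by omega)
    rw [pow_one] at h8
    omega

end Cfsg.Agent.S3807
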