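import Cfsg.Statements.S3808
import Mathlib
import Cfsg.Agent.Lib.PGroup.Basic
import Cfsg.Agent.Lib.Core.GrpBasic
import Cfsg.Agent.Lib.Core.HallSZ

set_option autoImplicit false
open Cfsg

namespace Cfsg.Agent.S3808

open Subgroup
open scoped Pointwise commutatorElement

/-- Let S be a finite p-group with an extraspecial subgroup Q of index p. Then either Z(S) = Z(Q), or S = Q·Z(S) and Z(S) has order p². -/
theorem result {S : Type*} [Group S] [Finite S] (p : ℕ) [Fact p.Prime] (hS : IsPGroup p S) (Q : Subgroup S) (hQ : Cfsg.IsExtraspecial p ↥Q) (hQi : Q.index = p) :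
    Subgroup.center S = (Subgroup.center ↥Q).map Q.subtype ∨
      (Q ⊔ Subgroup.center S = ⊤ ∧ Nat.card (Subgroup.center S) = p ^ 2) := by
  have hQn := H5.normal_of_index_eq hS hQi
  have hp := (Fact.out : p.Prime)
  have h1 : Nat.card ((center Q).map Q.subtype) = p := by rw [H3.card_map_subtype, hQ.2]
  have h2 : (center Q).map Q.subtype ≤ center S := H5.le_center_of_card_eq_prime hS _ h1
  have h3 : center S ⊓ Q = (center Q).map Q.subtype := by
    apply le_antisymm _ (le_inf h2 (map_subtype_le _))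
    intro x hx
    exact ⟨⟨x, hx.2⟩, mem_center_iff.mpr fun y => Subtype.ext (mem_center_iff.mp hx.1 y), rfl⟩
  by_cases h : center S ≤ Q
  · exact Or.inl (by rw [← h3, inf_eq_left.mpr h])
  · have h4 : Q ⊔ center S = ⊤ :=
      (H5.isCoatom_of_index_prime (hQi ▸ hp)).2 _ (left_lt_sup.mpr h)
    refine Or.inr ⟨h4, ?_⟩
    have h5 := H1.card_sup_mul_card_inf_of_normal (center S) Q
    rw [sup_comm, h4, h3, h1, card_top, ← Q.card_mul_index, hQi] at h5
    apply Nat.eq_of_mul_eq_mul_right (Nat.card_pos (α := Q))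
    rw [← h5]; ring

end Cfsg.Agent.S3808
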