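import Cfsg.Statements.S3809
import Mathlib
import Cfsg.Agent.Base
import Cfsg.Agent.Lib.PGroup.Extra
import Cfsg.Agent.Lib.PGroup.Basic

set_option autoImplicit false
open Cfsg

namespace Cfsg.Agent.S3809

open Subgroup
open scoped commutatorElement

/-- Let S be a finite p-group with an extraspecial subgroup of index p. Then S has order p^(2+2n) for some n ≥ 1, derived length at most 3, and exponent dividing p³. -/
theorem result {S : Type*} [Group S] [Finite S] (p : ℕ) [Fact p.Prime] (hS : IsPGroup p S) (Q : Subgroup S) (hQ : Cfsg.IsExtraspecial p ↥Q) (hQi : Q.index = p) :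
    (∃ n : ℕ, 1 ≤ n ∧ Nat.card S = p ^ (2 + 2 * n)) ∧ derivedSeries S 3 = ⊥ ∧ ∀ x : S, x ^ (p ^ 3) = 1 := by
  have hp : p.Prime := Fact.out
  obtain ⟨z, h, hne⟩ := H5.exists_wes hQ
  haveI := H5.normal_of_index_eq hS hQi
  refine ⟨?_, ?_, ?_⟩
  · obtain ⟨n, hn⟩ := h.exists_card hp
    refine ⟨n, ?_, ?_⟩
    · rcases n with _ | n
      · exact absurd (eq_of_le_of_card_ge h.zpowers_le (by rw [hn, h.card_zpowers]; simp)).symm hne
      · omega
    · rw [← Q.card_mul_index, hn, hQi]; ring
  · have h1 : derivedSeries S 1 ≤ Q := H5.commutator_le_of_index_prime (hQi ▸ hp)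
    have h2 : derivedSeries S 2 ≤ zpowers z := by
      rw [derivedSeries_succ, commutator_le]
      exact fun x hx y hy => h.comm x (h1 hx) y (h1 hy)
    rw [derivedSeries_succ, commutator_eq_bot_iff_le_centralizer]
    exact h2.trans (h.zpowers_le_cent.trans (centralizer_le (h2.trans h.zpowers_le)))
  · intro x
    rw [pow_succ, pow_two, pow_mul, pow_mul]
    exact h.pow_eq_one (h.pow_mem (H5.pow_mem_of_index_eq hQi x))

end Cfsg.Agent.S3809
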