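import Cfsg.Statements.S3810
import Mathlib
import Cfsg.Agent.Base
import Cfsg.Agent.Lib.PGroup.Extra
import Cfsg.Agent.Lib.PGroup.Basic
import Cfsg.Agent.Lib.Core.HallSZ

set_option autoImplicit false
open Cfsg

namespace Cfsg.Agent.S3810

open Subgroup
open scoped commutatorElement

/-- Let S be a finite p-group with an extraspecial subgroup of index p. Then S has an abelian subgroup of index p if and only if S has order p⁴. -/
theorem result {S : Type*} [Group S] [Finite S] (p : ℕ) [Fact p.Prime] (hS : IsPGroup p S) (Q : Subgroup S) (hQ : Cfsg.IsExtraspecial p ↥Q) (hQi : Q.index = p) :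
    (∃ A : Subgroup S, IsMulCommutative ↥A ∧ A.index = p) ↔ Nat.card S = p ^ 4 := by
  have hp : p.Prime := Fact.out
  obtain ⟨z, h, hne⟩ := H5.exists_wes hQ
  haveI := H5.normal_of_index_eq hS hQi
  constructor
  · rintro ⟨A, hA, hAi⟩
    haveI := H5.normal_of_index_eq hS hAi
    have hAc := H5.isCoatom_of_index_prime (hAi ▸ hp : A.index.Prime)
    have hAA : ∀ a ∈ A, ∀ b ∈ A, Commute a b := fun a ha b hb =>
      congrArg Subtype.val (hA.is_comm.comm (⟨a, ha⟩ : A) ⟨b, hb⟩)
    obtain ⟨x, hxQ, hxA⟩ : ∃ x ∈ Q, x ∉ A := by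
      by_contra hc
      push Not at hc
      obtain ⟨a, ha, b, hb, hab⟩ := h.exists_noncomm hne
      exact hab (commutatorElement_eq_one_iff_commute.2 (hAA a (hc a ha) b (hc b hb)))
    have htop := H5.sup_zpowers_eq_top_of_isCoatom hAc hxA
    have hcent : ∀ d ∈ Q, d ∈ A → Commute x d → d ∈ zpowers z := by
      intro d hdQ hdA hxd
      refine h.mem_zpowers_of_commute hdQ fun y _ => ?_
      have : (⊤ : Subgroup S) ≤ centralizer {d} := by
        rw [← htop]
        exact sup_le (fun a ha => mem_centralizer_singleton_iff.2 (hAA a ha d hdA))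
          (zpowers_le.2 (mem_centralizer_singleton_iff.2 hxd))
      exact mem_centralizer_singleton_iff.1 (this (mem_top y))
    obtain ⟨y, hyQ, hyA, hxy⟩ : ∃ y ∈ Q, y ∈ A ∧ ⁅x, y⁆ ≠ 1 := by
      by_contra hc
      push Not at hc
      have h1 := H3.sup_inf_assoc_of_le_normalizer' (N := A) (K := zpowers x) (L := Q)
        (by rw [normalizer_eq_top]; exact le_top) (zpowers_le.2 hxQ)
      rw [htop, top_inf_eq] at h1
      have h2 : A ⊓ Q ≤ zpowers z := fun d hd =>
        hcent d hd.2 hd.1 (commutatorElement_eq_one_iff_commute.1 (hc d hd.2 hd.1))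
      have h3 : x ∈ zpowers z := by
        refine h.mem_zpowers_of_commute hxQ fun y hy => ?_
        have : Q ≤ centralizer {x} := by
          rw [h1]
          exact sup_le (fun a ha => mem_centralizer_singleton_iff.2
            (commutatorElement_eq_one_iff_commute.1 (hc a ha.2 ha.1)).symm)
            (zpowers_le.2 (mem_centralizer_singleton_iff.2 rfl))
        exact mem_centralizer_singleton_iff.1 (this hy)
      exact hne (le_antisymm (h1.le.trans (sup_le h2 (zpowers_le.2 h3))) h.zpowers_le)
    have hCy : centralizer {y} = A := by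
      by_contra hc
      have h1 : A ≤ centralizer {y} := fun a ha => mem_centralizer_singleton_iff.2 (hAA a ha y hyA)
      have h2 := hAc.2 _ (lt_of_le_of_ne h1 (Ne.symm hc))
      exact hxy (commutatorElement_eq_one_iff_commute.2
        (mem_centralizer_singleton_iff.1 (h2 ▸ mem_top x)))
    have hD : Q ⊓ centralizer {x} ⊓ centralizer {y} = zpowers z := by
      refine le_antisymm (fun d hd => hcent d hd.1.1 (hCy ▸ hd.2)
        (mem_centralizer_singleton_iff.1 hd.1.2).symm) (h.sub hp hxQ hyQ hxy).zpowers_le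
    rw [← Q.card_mul_index, h.card_sub hp hxQ hyQ hxy, hD, h.card_zpowers, hQi]
    ring
  · intro h4
    have hzn : (zpowers z).Normal := by rw [← h.cent]; infer_instance
    have hzc : zpowers z ≤ center S := H5.le_center_of_card_eq_prime hS _ h.card_zpowers
    obtain ⟨y, hyQ, hyz, hyp, hy⟩ := H5.exists_step hS (zpowers z) Q
      (fun hle => hne (le_antisymm hle h.zpowers_le))
    let φ : S →* S := MonoidHom.mk' (fun g => ⁅y, g⁆) fun a b =>
      H5.commutator_mul_right_of_commute (mem_center_iff.1 (hzc (hy b)) a)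
    have hker : ∀ g, g ∈ φ.ker ↔ Commute y g := fun g => commutatorElement_eq_one_iff_commute
    have hidx : φ.ker.index = p := by
      have h1 : φ.ker.index ∣ p := by
        rw [index_ker, ← h.card_zpowers]
        exact card_dvd_of_le (by rintro _ ⟨g, rfl⟩; exact hy g)
      refine ((Nat.dvd_prime hp).1 h1).resolve_left fun h2 => hyz ?_
      rw [index_eq_one] at h2
      exact h.mem_zpowers_of_commute hyQ fun g _ => ((hker g).1 (h2 ▸ mem_top g)).symm
    refine ⟨φ.ker, ?_, hidx⟩
    have hC : Nat.card φ.ker = p ^ 3 := by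
      refine Nat.eq_of_mul_eq_mul_right hp.pos ?_
      rw [← pow_succ, ← h4, ← φ.ker.card_mul_index, hidx]
    set W := zpowers z ⊔ zpowers y with hW
    have hWc : Nat.card W = p * p := by
      rw [hW, H5.card_sup_zpowers hp (by rw [normalizer_eq_top]; trivial) hyz hyp, h.card_zpowers]
    have hWC : W ≤ φ.ker := sup_le (fun a ha => (hker a).2 (mem_center_iff.1 (hzc ha) y))
      (zpowers_le.2 ((hker y).2 (Commute.refl y)))
    have hCW : W ≤ centralizer (φ.ker : Set S) :=
      sup_le (hzc.trans (center_le_centralizer _))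
        (zpowers_le.2 fun g hg => ((hker g).1 hg).symm)
    have hlt : W < φ.ker := lt_of_le_of_ne hWC fun he => by
      rw [he, hC, ← pow_two] at hWc
      exact absurd (Nat.pow_right_injective hp.two_le hWc) (by norm_num)
    obtain ⟨w, hw, hwW, hwp, hwn⟩ := H5.exists_mem_normalizer_of_lt (hS.to_subgroup _) hlt
    have h5 : W ⊔ zpowers w = φ.ker := eq_of_le_of_card_ge (sup_le hWC (zpowers_le.2 hw))
      (by rw [H5.card_sup_zpowers hp hwn hwW hwp, hWc, hC]; exact le_of_eq (by ring))
    rw [← h5]
    refine H5.isMulCommutative_sup_zpowers ?_ (le_centralizer_iff.1 hCW hw)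
    exact le_centralizer_iff_isMulCommutative.1 (hCW.trans (centralizer_le hWC))

end Cfsg.Agent.S3810
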