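import Mathlib
import Cfsg.Statements.S3814
import Cfsg.Agent.Lib.Sq.Four

set_option autoImplicit false
open Cfsg

namespace Cfsg.Agent.S3814

/-- A criterion for nonsolvability from element orders: let G be a finite group and σ a set of at least four primes such that for all distinct p, q ∈ σ the product pq is the order of some element of G, while for all pairwise distinct p, q, r ∈ σ no element of G has order pqr. Then G is not solvable. -/
theorem result {G : Type*} [Group G] [Finite G]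
    (σ : Finset ℕ) (hσ : 4 ≤ σ.card) (hprime : ∀ p ∈ σ, p.Prime)
    (h2 : ∀ p ∈ σ, ∀ q ∈ σ, p ≠ q → ∃ g : G, orderOf g = p * q)
    (h3 : ∀ p ∈ σ, ∀ q ∈ σ, ∀ r ∈ σ, p ≠ q → q ≠ r → p ≠ r → ∀ g : G, orderOf g ≠ p * q * r) :
    ¬ Group.IsSolvable G := by
  obtain ⟨τ, hτ, hc⟩ := Finset.exists_subset_card_eq hσ
  intro hs
  refine H34.Sq.four (H := (⊤ : Subgroup G)) τ hc (fun p hp => hprime p (hτ hp))
    (fun p hp q hq hpq => ?_) (fun x _ y _ z _ hx hy hz h1 h4 h5 c1 c2 c3 => ?_) inferInstance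
  · obtain ⟨g, hg⟩ := h2 p (hτ hp) q (hτ hq) hpq
    exact H34.Sq.pair_of_order (hprime p (hτ hp)) (hprime q (hτ hq)) (Subgroup.mem_top g) hg
  · exact h3 _ (hτ hx) _ (hτ hy) _ (hτ hz) h1 h4 h5 _
      (H34.Sq.order_triple (hprime _ (hτ hx)) (hprime _ (hτ hy)) (hprime _ (hτ hz)) h1 h4 h5
        c1 c2 c3)

end Cfsg.Agent.S3814
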