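import Cfsg.Statements.S3817
import Cfsg.Agent.Lib.FB.Cyc

set_option autoImplicit false
open Cfsg

namespace Cfsg.Agent.S3817

/-- Let G be a finite group and write F₂(X) for the second term of the upper Fitting chain of a finite group X: the preimage in X of the Fitting subgroup of X/F(X). Then an element x of G lies in F₂(G) if and only if x lies in F₂(⟨x, y⟩) for every y ∈ G. -/
theorem result {G : Type*} [Group G] [Finite G]
    [hF : (Cfsg.fittingSubgroup G).Normal]
    (hK : ∀ K : Subgroup G, (Cfsg.fittingSubgroup ↥K).Normal) (x : G) :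
    x ∈ (Cfsg.fittingSubgroup (G ⧸ Cfsg.fittingSubgroup G)).comap (QuotientGroup.mk' (Cfsg.fittingSubgroup G)) ↔
      ∀ y : G, ∀ hx : x ∈ Subgroup.closure ({x, y} : Set G),
        haveI := hK (Subgroup.closure ({x, y} : Set G));
        (⟨x, hx⟩ : ↥(Subgroup.closure ({x, y} : Set G))) ∈
          (Cfsg.fittingSubgroup (↥(Subgroup.closure ({x, y} : Set G)) ⧸ Cfsg.fittingSubgroup ↥(Subgroup.closure ({x, y} : Set G)))).comap
            (QuotientGroup.mk' (Cfsg.fittingSubgroup ↥(Subgroup.closure ({x, y} : Set G)))) := by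
  have tr : ∀ (p : ℕ) (H : Subgroup G) (z : H), H81.FB.Good p H (z : G) ↔ H81.FB.Good p ⊤ z := fun p H z => by
    have e : (⊤ : Subgroup H).map H.subtype = H := by rw [← MonoidHom.range_eq_map, Subgroup.range_subtype]
    exact ⟨fun h => H81.FB.Good.of_map H.subtype_injective (e.symm ▸ h),
      fun h => by have := h.map H.subtype; rwa [e] at this⟩
  constructor
  · intro h y hx
    refine H81.FB.mem_of_parts _ fun r hr _ z hz pz => H81.FB.mem_of_good hr ((tr r _ z).1 ?_)
    obtain ⟨i, rfl⟩ := hz
    exact (H81.FB.good_of_mem hr (pz.map (Subgroup.subtype _)) (zpow_mem h i)).mono le_top (zpow_mem hx i)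
  · intro h
    refine H81.FB.mem_of_parts _ fun r hr _ z hz pz => H81.FB.mem_of_good hr (H81.FB.good_top hr pz fun y => ?_)
    have hx : x ∈ Subgroup.closure ({x, y} : Set G) := Subgroup.subset_closure (by simp)
    obtain ⟨i, rfl⟩ := hz
    exact ⟨_, zpow_mem hx i, Subgroup.subset_closure (by simp), (tr r _ (⟨x, hx⟩ ^ i)).2
      (H81.FB.good_of_mem hr (H81.FB.Pe.of_map (Subgroup.subtype_injective _) pz) (zpow_mem (h y hx) i))⟩

end Cfsg.Agent.S3817
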