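import Cfsg.Statements.S3824
import Mathlib
import Cfsg.Agent.S0143
import Cfsg.Agent.Lib.Core.GrpBasic
import Cfsg.Agent.Lib.Transfer.Residual

set_option autoImplicit false
open Cfsg

namespace Cfsg.Agent.S3824

open Subgroup
open scoped Pointwise commutatorElement

theorem aux.{u} (n : ℕ) : ∀ (G : Type u) [Group G] [Finite G] (A : Subgroup G), Nat.card G ≤ n →
    IsMulCommutative A → (∃ k : ℕ, A.index = 2 ^ k) → Group.IsSolvable G := by
  induction n with
  | zero => intro G _ _ _ h; exact absurd h (not_le.mpr Nat.card_pos)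
  | succ n ih =>
    intro G _ _ A hc hA ⟨k, hk⟩
    by_cases hN : ∃ N : Subgroup G, N.Normal ∧ N ≠ ⊥ ∧ N ≠ ⊤
    · obtain ⟨N, hN, h1, h2⟩ := hN
      have h3 : Group.IsSolvable N := by
        refine ih N (A.subgroupOf N) (Nat.lt_succ_iff.mp ((H1.card_lt_of_ne_top h2).trans_le hc))
          inferInstance ?_
        obtain ⟨j, -, hj⟩ := (Nat.dvd_prime_pow Nat.prime_two).mp
          (hk ▸ H4.relIndex_dvd_index_of_normal_right A N)
        exact ⟨j, hj⟩
      have h4 : Group.IsSolvable (G ⧸ N) := by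
        refine ih (G ⧸ N) (A.map (QuotientGroup.mk' N))
          (Nat.lt_succ_iff.mp ((H1.card_quotient_lt h1).trans_le hc)) inferInstance ?_
        obtain ⟨j, -, hj⟩ := (Nat.dvd_prime_pow Nat.prime_two).mp
          (hk ▸ index_map_dvd A (QuotientGroup.mk'_surjective N))
        exact ⟨j, hj⟩
      exact solvable_of_ker_le_range N.subtype (QuotientGroup.mk' N) (by simp)
    by_cases hA1 : A = ⊥
    · rw [hA1, index_bot] at hk
      have := (IsPGroup.of_card hk).isNilpotent
      infer_instance
    obtain ⟨⟨a, ha⟩, ha1⟩ := (ne_bot_iff_exists_ne_one).mp hA1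
    have ha1' : a ≠ 1 := fun h => ha1 (Subtype.ext h)
    have : Nontrivial G := ⟨⟨a, 1, ha1'⟩⟩
    have : IsSimpleGroup G := ⟨fun N hN' => by
      by_contra h
      push Not at h
      exact hN ⟨N, hN', h.1, h.2⟩⟩
    have h5 : A ≤ centralizer ({a} : Set G) := fun b hb => mem_centralizer_singleton_iff.mpr
      (congrArg Subtype.val (hA.is_comm.comm ⟨b, hb⟩ ⟨a, ha⟩))
    obtain ⟨j, -, hj⟩ := (Nat.dvd_prime_pow Nat.prime_two).mp (hk ▸ index_dvd_of_le h5)
    have h6 := Cfsg.Agent.S0143.result 2 j Nat.prime_two a ha1' hj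
    have : Fact (Nat.card G).Prime := ⟨h6⟩
    have := (IsPGroup.of_card (p := Nat.card G) (G := G) (n := 1) (pow_one _).symm).isNilpotent
    infer_instance

/-- Every finite group having an abelian subgroup whose index is a power of 2 is solvable. -/
theorem result {G : Type*} [Group G] [Finite G]
    (A : Subgroup G) (hA : IsMulCommutative A) (hidx : ∃ k : ℕ, A.index = 2 ^ k) : Group.IsSolvable G := by
  exact aux _ G A le_rfl hA hidx

end Cfsg.Agent.S3824
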