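import Mathlib
import Cfsg.Agent.Base
import Cfsg.Agent.Lib.FGS.TwoFrob
import Cfsg.Statements.S3857

set_option autoImplicit false
open Cfsg

namespace Cfsg.Agent.S3857

open Subgroup H79 in
theorem fk_of_pi {X : Type*} [Group X] [Finite X] {π : Set ℕ}
    (hno : ∀ a ∈ π, ∀ b ∉ π, a.Prime → b.Prime → ∀ g : X, orderOf g ≠ a * b)
    {N : Subgroup X} [N.Normal] (h1 : N ≠ ⊥) (h2 : N ≠ ⊤) (hN : IsPiSubgroup π N)
    (hi : ∀ p : ℕ, p.Prime → p ∣ N.index → p ∉ π) : FK N := by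
  refine ⟨h1, h2, fun n hn hn1 => H1.le_of_coprime_index (Nat.coprime_of_dvd fun b hb hbC hbi => ?_)⟩
  obtain ⟨a, ha, had⟩ := Nat.exists_prime_and_dvd (mt orderOf_eq_one_iff.mp hn1)
  have haπ := hN a ha (had.trans (H1.orderOf_dvd_card_of_mem hn))
  obtain ⟨y, hy, hyo⟩ := H1.exists_mem_orderOf_eq_prime hb hbC
  obtain ⟨g, hg⟩ := exists_orderOf_eq_mul_of_commute
    ((Nat.coprime_primes ha hb).mpr (fun e => hi b hb hbi (e ▸ haπ)))
    (mem_centralizer_singleton_iff.mp hy).symm had hyo.symm.dvd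
  exact hno a haπ b (hi b hb hbi) ha hb g hg

open Subgroup H79 in
theorem no_of_surj {X Y : Type*} [Group X] [Finite X] [Group Y] {f : X →* Y} (hf : Function.Surjective f)
    {n : ℕ} (h : ∀ g : X, orderOf g ≠ n) (g : Y) : orderOf g ≠ n := by
  obtain ⟨x, rfl⟩ := hf g
  intro e
  exact h _ (orderOf_pow_orderOf_div (orderOf_pos x).ne' (e ▸ orderOf_map_dvd f x))

open Subgroup H79 in
theorem main {G : Type*} [Group G] [Finite G] [Group.IsSolvable G] {π : Set ℕ}
    (hno : ∀ a ∈ π, ∀ b ∉ π, a.Prime → b.Prime → ∀ g : G, orderOf g ≠ a * b)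
    (hb : ∃ b ∉ π, b.Prime ∧ b ∣ Nat.card G) (hH : piCore π G ≠ ⊥) :
    (∃ C : Subgroup G, Cfsg.IsFrobeniusComplement C) ∨
    (∃ (H K : Subgroup G) (_ : H.Normal), K.Normal ∧ H < K ∧
      (∃ C : Subgroup ↥K, Cfsg.IsFrobeniusComplement C ∧ Cfsg.frobeniusKernel C = (H.subgroupOf K : Set ↥K)) ∧
      (∃ C : Subgroup (G ⧸ H), Cfsg.IsFrobeniusComplement C ∧ Cfsg.frobeniusKernel C = (K.map (QuotientGroup.mk' H) : Set (G ⧸ H)))) := by
  classical
  set H := piCore π G with hHdef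
  have hHπ : IsPiSubgroup π H := H1.isPiSubgroup_piCore
  obtain ⟨b, hbπ, hb, hbG⟩ := hb
  have hHt : H ≠ ⊤ := fun e => hbπ (hHπ b hb (by rw [e, card_top]; exact hbG))
  by_cases hi : ∀ p : ℕ, p.Prime → p ∣ H.index → p ∉ π
  · obtain ⟨C, hC, -⟩ := (fk_of_pi hno hH hHt hHπ hi).exists_frob
    exact Or.inl ⟨C, hC⟩
  right
  push Not at hi
  obtain ⟨r, hr, hri, hrπ⟩ := hi
  set Kb := piCore πᶜ (G ⧸ H) with hKbdef
  have hKπ : IsPiSubgroup πᶜ Kb := H1.isPiSubgroup_piCore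
  have hsurj := QuotientGroup.mk'_surjective H
  have hno' : ∀ a ∈ πᶜ, ∀ b ∉ πᶜ, a.Prime → b.Prime → ∀ g : G ⧸ H, orderOf g ≠ a * b :=
    fun a ha b hb ha' hb' => no_of_surj hsurj (by
      rw [mul_comm]; exact hno b (not_not.mp hb) a ha hb' ha')
  have hF : fittingSubgroup (G ⧸ H) ≤ Kb := by
    refine H1.le_piCore fun q hq hd hqπ => ?_
    haveI := Fact.mk hq
    obtain ⟨x, hx, hxo⟩ := H1.exists_mem_orderOf_eq_prime hq hd
    have h1 : zpowers x ≤ pCore q (G ⧸ H) := H1.le_pCore_of_le_fitting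
      (IsPGroup.of_card (n := 1) (by simp [hxo])) (zpowers_le.mpr hx)
    have h2 : pCore q (G ⧸ H) ≤ piCore π (G ⧸ H) := by
      rw [H1.pCore_eq_piCore]; exact H1.piCore_mono (Set.singleton_subset_iff.mpr hqπ)
    rw [H1.piCore_quotient_piCore] at h2
    have := h2 (h1 (mem_zpowers x))
    rw [mem_bot] at this
    rw [this, orderOf_one] at hxo
    exact hq.one_lt.ne hxo
  haveI : Nontrivial (G ⧸ H) := QuotientGroup.nontrivial_iff.mpr hHt
  have hKb : Kb ≠ ⊥ := fun e => H1.fitting_ne_bot_of_isSolvable (le_bot_iff.mp (e ▸ hF))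
  set K := Kb.comap (QuotientGroup.mk' H) with hKdef
  have hmap : K.map (QuotientGroup.mk' H) = Kb := map_comap_eq_self_of_surjective hsurj Kb
  have hle : H ≤ K := fun x hx => by
    rw [hKdef, mem_comap, QuotientGroup.mk'_apply, (QuotientGroup.eq_one_iff x).mpr hx]
    exact one_mem _
  have hne : H ≠ K := fun e => hKb (by rw [← hmap, ← e]; simp)
  have hrel : (H.subgroupOf K).index = Nat.card Kb := by
    rw [← hmap, H1.card_map_mk'_eq_relIndex]; rfl
  have hFK : FK (H.subgroupOf K) := by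
    refine fk_of_pi (X := K) (π := π) (fun a ha b hb ha' hb' g e => hno a ha b hb ha' hb' g
      (by rw [orderOf_coe, e])) ?_ ?_ (H1.isPiSubgroup_subgroupOf hHπ K) fun p hp hd => ?_
    · intro e
      rw [subgroupOf_eq_bot] at e
      exact hH (e.eq_bot_of_le hle)
    · intro e
      exact hne (le_antisymm hle (subgroupOf_eq_top.mp e))
    · exact hKπ p hp (hrel ▸ hd)
  have hInt : H82.IntFPF Kb := by
    obtain ⟨e⟩ := nonempty_quotient_equiv_map H K
    rw [← hmap]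
    exact hFK.intFPF.of_equiv e
  haveI := Fact.mk hr
  obtain ⟨g, hg⟩ := exists_prime_orderOf_dvd_card' (G := G ⧸ H) r hri
  have hfp : Kb ⊓ centralizer {g} = ⊥ := by
    rw [H2.inf_centralizer_singleton_eq_bot_iff]
    intro k hk e
    by_contra h1
    obtain ⟨a, ha, had⟩ := Nat.exists_prime_and_dvd (mt orderOf_eq_one_iff.mp h1)
    have haπ := hKπ a ha (had.trans (H1.orderOf_dvd_card_of_mem hk))
    obtain ⟨x, hx⟩ := exists_orderOf_eq_mul_of_commute
      ((Nat.coprime_primes ha hr).mpr (fun e => haπ (e ▸ hrπ))) e had hg.symm.dvd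
    exact hno' a haπ r (not_not.mpr hrπ) ha hr x hx
  obtain ⟨hcyc, -⟩ := isCyclic_of_intFPF_of_fpf hInt (hg ▸ hr) hfp
  have hC : centralizer (Kb : Set (G ⧸ H)) ≤ Kb :=
    (centralizer_le hF).trans (H1.centralizer_fitting_le.trans hF)
  have hcomm := quotient_comm_of_isCyclic hC
  have hidx : ∀ p : ℕ, p.Prime → p ∣ Kb.index → p ∉ πᶜ := by
    intro p hp hd hpπ
    haveI := Fact.mk hp
    obtain ⟨x, hx⟩ := exists_prime_orderOf_dvd_card' (G := (G ⧸ H) ⧸ Kb) p hd
    haveI : (zpowers x).Normal := ⟨fun n hn y => by rw [hcomm y n]; simpa using hn⟩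
    have h1 : zpowers x ≤ piCore πᶜ ((G ⧸ H) ⧸ Kb) := H1.le_piCore fun q hq hqd => by
      rw [Nat.card_zpowers, hx] at hqd
      rwa [(Nat.prime_dvd_prime_iff_eq hq hp).mp hqd]
    rw [H1.piCore_quotient_piCore] at h1
    have := h1 (mem_zpowers x)
    rw [mem_bot] at this
    rw [this, orderOf_one] at hx
    exact hp.one_lt.ne hx
  have hKt : Kb ≠ ⊤ := fun e => hKπ r hr (by rw [e, card_top]; exact hri) hrπ
  refine ⟨H, K, inferInstance, inferInstance, lt_of_le_of_ne hle hne, hFK.exists_frob, ?_⟩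
  rw [hmap]
  exact (fk_of_pi hno' hKb hKt hKπ hidx).exists_frob

/-- A finite solvable group whose prime graph (prime divisors of the order, two distinct primes joined when there is an element of order their product) is disconnected is a Frobenius group or a 2-Frobenius group (it has normal subgroups H < K with K a Frobenius group with kernel H and G/H a Frobenius group with kernel K/H). -/
theorem result {G : Type*} [Group G] [Finite G] (hsol : Group.IsSolvable G)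
    (hdisc : (∃ A : Set ℕ, (∃ a ∈ A, a.Prime ∧ a ∣ Nat.card G) ∧ (∃ b ∉ A, b.Prime ∧ b ∣ Nat.card G) ∧
      ∀ a ∈ A, ∀ b ∉ A, a.Prime → b.Prime → a ∣ Nat.card G → b ∣ Nat.card G → ¬ ∃ g : G, orderOf g = a * b)) :
    (∃ C : Subgroup G, Cfsg.IsFrobeniusComplement C) ∨
    (∃ (H K : Subgroup G) (_ : H.Normal), K.Normal ∧ H < K ∧
      (∃ C : Subgroup ↥K, Cfsg.IsFrobeniusComplement C ∧ Cfsg.frobeniusKernel C = (H.subgroupOf K : Set ↥K)) ∧
      (∃ C : Subgroup (G ⧸ H), Cfsg.IsFrobeniusComplement C ∧ Cfsg.frobeniusKernel C = (K.map (QuotientGroup.mk' H) : Set (G ⧸ H)))) := by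
  obtain ⟨A, ⟨a, haA, ha, haG⟩, ⟨b, hbA, hb, hbG⟩, h⟩ := hdisc
  have hno : ∀ a ∈ A, ∀ b ∉ A, a.Prime → b.Prime → ∀ g : G, orderOf g ≠ a * b := by
    intro a haA b hbA ha hb g e
    have := e ▸ orderOf_dvd_natCard g
    exact h a haA b hbA ha hb ((Dvd.intro _ rfl).trans this) ((Dvd.intro_left _ rfl).trans this) ⟨g, e⟩
  haveI : Nontrivial G := Finite.one_lt_card_iff_nontrivial.mp
    (lt_of_lt_of_le ha.one_lt (Nat.le_of_dvd Nat.card_pos haG))
  obtain ⟨p, hp, hne⟩ := H1.exists_pCore_ne_bot_of_isSolvable (G := G)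
  haveI := Fact.mk hp
  rw [H1.pCore_eq_piCore] at hne
  by_cases hpA : p ∈ A
  · exact main hno ⟨b, hbA, hb, hbG⟩ fun e => hne (le_bot_iff.mp
      (e ▸ H1.piCore_mono (Set.singleton_subset_iff.mpr hpA)))
  · exact main (π := Aᶜ) (fun a ha b hb ha' hb' g => by
      rw [mul_comm]; exact hno b (not_not.mp hb) a ha hb' ha' g) ⟨a, not_not.mpr haA, ha, haG⟩
      fun e => hne (le_bot_iff.mp (e ▸ H1.piCore_mono (Set.singleton_subset_iff.mpr hpA)))

end Cfsg.Agent.S3857
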