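import Cfsg.Statements.S3868
import Mathlib
import Cfsg.Agent.Lib.FGS.IrredCyclic

set_option autoImplicit false
open Cfsg

namespace Cfsg.Agent.S3868

open Subgroup
open scoped Pointwise commutatorElement

/-- Structure of the non-simple minimal non-p-closed groups. Call a finite group p-closed when its Sylow p-subgroups are normal, and minimal non-p-closed when it is not p-closed but every proper subgroup and every proper quotient is. If such a group G is not simple, then there is a prime q ≠ p such that G has order p · q^e, where e is the multiplicative order of q modulo p, and G has a normal subgroup A of order q^e that is elementary abelian and is a minimal normal subgroup of G (so G is the semidirect product of A by a group of order p acting irreducibly). -/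
theorem result {G : Type*} [Group G] [Finite G] {p : ℕ} [Fact p.Prime]
    (hnc : ¬ Cfsg.IsPClosed p G) (hsub : ∀ H : Subgroup G, H ≠ ⊤ → Cfsg.IsPClosed p ↥H)
    (hquo : ∀ (N : Subgroup G) [N.Normal], N ≠ ⊥ → Cfsg.IsPClosed p (G ⧸ N)) (hns : ¬ IsSimpleGroup G) :
    ∃ q : ℕ, q.Prime ∧ q ≠ p ∧ Nat.card G = p * q ^ orderOf (q : ZMod p) ∧
      ∃ A : Subgroup G, A.Normal ∧ Nat.card ↥A = q ^ orderOf (q : ZMod p) ∧ Cfsg.IsElementaryAbelian q A ∧
        ∀ B : Subgroup G, B.Normal → B ≤ A → B = ⊥ ∨ B = A := by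
  obtain ⟨P⟩ : Nonempty (Sylow p G) := Sylow.nonempty
  have hP : ¬ (P : Subgroup G).Normal := fun h => hnc (H77.isPClosed_of_normal P h)
  have hd : p ∣ Nat.card G := by
    by_contra h
    exact hnc (H77.isPClosed_of_not_dvd h)
  have hsup : ∀ (N : Subgroup G) [N.Normal], N ≠ ⊥ → (N ⊔ (P : Subgroup G)).Normal := by
    intro N _ hN
    have h1 := hquo N hN (P.mapSurjective (QuotientGroup.mk'_surjective N))
    have h2 := h1.comap (QuotientGroup.mk' N)
    rwa [Sylow.coe_mapSurjective, comap_map_eq, QuotientGroup.ker_mk', sup_comm] at h2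
  have hO : Cfsg.pCore p G = ⊥ := by
    by_contra h
    have := hsup _ h
    rw [sup_eq_right.mpr (H1.pCore_le_sylow P)] at this
    exact hP this
  have hK : ∀ K : Subgroup G, K ≠ ⊤ → ∀ Q : Subgroup G, IsPGroup p Q → Q ≤ K →
      Q ≤ Cfsg.pCoreOf p K := by
    intro K hK Q hQ hQK
    obtain ⟨S, hS⟩ := (H4.isPGroup_subgroupOf hQ K).exists_le_sylow
    have := hsub K hK S
    rw [H1.pCoreOf_def, H1.pCore_eq_of_sylow_normal S]
    exact fun x hx => ⟨⟨x, hQK hx⟩, hS hx, rfl⟩
  have hK' : ∀ K : Subgroup G, K.Normal → K ≠ ⊤ → ¬ p ∣ Nat.card K := by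
    intro K _ hK1 h
    obtain ⟨x, hx, hxo⟩ := H1.exists_mem_orderOf_eq_prime Fact.out h
    have := hK K hK1 (zpowers x) (IsPGroup.of_card (n := 1) (by rw [Nat.card_zpowers, hxo, pow_one]))
      (zpowers_le.mpr hx) (mem_zpowers x)
    rw [H1.pCoreOf_eq_inf, hO, bot_inf_eq, mem_bot] at this
    rw [this, orderOf_one] at hxo
    exact (Fact.out : p.Prime).one_lt.ne hxo
  have : Nontrivial G := by
    by_contra h
    rw [not_nontrivial_iff_subsingleton] at h
    exact hP (by rw [Subsingleton.elim (P : Subgroup G) ⊥]; infer_instance)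
  obtain ⟨M, hM, hM1, hM2⟩ : ∃ M : Subgroup G, M.Normal ∧ M ≠ ⊥ ∧ M ≠ ⊤ := by
    by_contra h
    push Not at h
    exact hns ⟨fun M hM => by by_contra h'; push Not at h'; exact h'.2 (h M hM h'.1)⟩
  obtain ⟨N, hN, hNM⟩ := H3.exists_isMinNormal_le M hM1
  have := hN.normal
  have hNt : N ≠ ⊤ := fun h => hM2 (eq_top_iff.mpr (h ▸ hNM))
  refine H77.minimal_non_closed_core hO hd hN (hK' N this hNt) P ?_ fun K hK1 x hx hxp => ?_
  · by_contra h
    exact hK' _ (hsup N hN.ne_bot) h ((P.dvd_card_of_dvd_card hd).trans (card_dvd_of_le le_sup_right))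
  · exact hK K hK1 (zpowers x) (H3.isPGroup_of_pow_eq_one (by
      rintro _ ⟨k, rfl⟩
      rw [← zpow_natCast, ← zpow_mul, mul_comm, zpow_mul, zpow_natCast, hxp, one_zpow])) (zpowers_le.mpr hx) (mem_zpowers x)

end Cfsg.Agent.S3868
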