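import Cfsg.Statements.S3869
import Mathlib
import Cfsg.Agent.Lib.FGS.IrredCyclic

set_option autoImplicit false
open Cfsg

namespace Cfsg.Agent.S3869

open Subgroup
open scoped Pointwise commutatorElement

/-- Let p and q be distinct primes and G a finite non-abelian group with a normal elementary abelian q-subgroup A that is a minimal normal subgroup of G and has index p. Then A has order q^e with e the multiplicative order of q modulo p, and G is minimal non-p-closed: its Sylow p-subgroups are not normal, while in every proper subgroup and in every proper quotient of G the Sylow p-subgroups are normal. -/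
theorem result {G : Type*} [Group G] [Finite G] {p q : ℕ} [Fact p.Prime] (hq : q.Prime) (hpq : q ≠ p)
    (hna : ¬ IsMulCommutative G) (A : Subgroup G) [A.Normal] (hA : Cfsg.IsElementaryAbelian q A) (hidx : A.index = p)
    (hmin : ∀ B : Subgroup G, B.Normal → B ≤ A → B = ⊥ ∨ B = A) :
    Nat.card ↥A = q ^ orderOf (q : ZMod p) ∧ ¬ Cfsg.IsPClosed p G ∧ (∀ H : Subgroup G, H ≠ ⊤ → Cfsg.IsPClosed p ↥H) ∧
      ∀ (N : Subgroup G) [N.Normal], N ≠ ⊥ → Cfsg.IsPClosed p (G ⧸ N) := by
  have hp := (Fact.out : p.Prime)
  have hco := H5.isCoatom_of_index_prime (hidx ▸ hp)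
  have hAq : IsPGroup q A := H3.isPGroup_of_pow_eq_one hA.2
  have hAp : ¬ p ∣ Nat.card A := by
    have : Fact q.Prime := ⟨hq⟩
    obtain ⟨k, hk⟩ := IsPGroup.iff_card.mp hAq
    rw [hk]
    exact fun h => hpq ((Nat.prime_dvd_prime_iff_eq hp hq).mp (hp.dvd_of_dvd_pow h)).symm
  have hC : ∀ g, g ∉ A → g ∉ centralizer (A : Set G) := fun g hg h =>
    hna (H77.isMulCommutative_of_sup_zpowers hA.1 h (H5.sup_zpowers_eq_top_of_isCoatom hco hg))
  have hN : ∀ N : Subgroup G, N.Normal → N ⊓ A = ⊥ → N = ⊥ := by
    intro N hN h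
    rw [eq_bot_iff]
    intro g hg
    by_cases hgA : g ∈ A
    · exact h.le ⟨hg, hgA⟩
    · refine absurd (fun a ha => ?_) (hC g hgA)
      exact (commute_of_normal_of_disjoint A N inferInstance hN
        (disjoint_iff.mpr (by rwa [inf_comm])) a g ha hg)
  refine ⟨H77.card_of_minimal_index_prime hq hpq hna A hA hidx hmin, fun h => ?_, fun H hH => ?_,
    fun N _ hN1 => ?_⟩
  · obtain ⟨P⟩ : Nonempty (Sylow p G) := Sylow.nonempty
    have := hN P (h P) (by rw [inf_comm]; exact H4.inf_eq_bot_of_not_dvd_card hAp P.isPGroup')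
    exact P.not_dvd_index (by rw [this, index_bot, ← hidx]; exact index_dvd_card A)
  · by_cases hHA : H ≤ A
    · exact H77.isPClosed_of_not_dvd fun h => hAp (h.trans (card_dvd_of_le hHA))
    have h1 : H ⊔ A = ⊤ := hco.2 _ (right_lt_sup.mpr hHA)
    have h2 : (H ⊓ A).Normal := by
      rw [← normalizer_eq_top_iff, eq_top_iff, ← h1]
      refine sup_le (H2.le_normalizer_inf le_normalizer (by rw [normalizer_eq_top]; exact le_top))
        (le_trans ?_ (centralizer_le_normalizer _))
      exact (le_centralizer_iff_isMulCommutative.mpr hA.1).trans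
        (centralizer_le (SetLike.coe_subset_coe.mpr inf_le_right))
    rcases hmin _ h2 inf_le_right with h3 | h3
    · have h4 := H1.card_sup_mul_card_inf_of_normal H A
      rw [h1, h3, card_top, card_bot, mul_one, ← A.card_mul_index, hidx, mul_comm] at h4
      exact H77.isPClosed_of_isPGroup (IsPGroup.of_card (n := 1)
        (by rw [pow_one]; exact (Nat.eq_of_mul_eq_mul_right Nat.card_pos h4).symm))
    · exact absurd (by rw [← h1, sup_eq_left.mpr (h3 ▸ inf_le_left)]) hH
  · rcases hmin (N ⊓ A) inferInstance inf_le_right with h | h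
    · exact absurd (hN N inferInstance h) hN1
    · have h1 : N.index ∣ p ^ 1 := by
        rw [pow_one, ← hidx]; exact index_dvd_of_le (h ▸ inf_le_left)
      obtain ⟨k, -, hk⟩ := (Nat.dvd_prime_pow hp).mp h1
      exact H77.isPClosed_of_isPGroup (IsPGroup.of_card hk)

end Cfsg.Agent.S3869
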