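import Cfsg.Statements.S3870
import Mathlib
import Cfsg.Agent.Lib.FGS.Pronormal
import Cfsg.Agent.Lib.PGroup.Basic

set_option autoImplicit false
open Cfsg

namespace Cfsg.Agent.S3870

open Subgroup
open scoped Pointwise commutatorElement

/-- Let G be a finite simple group whose Sylow p-subgroups are not normal but such that every proper subgroup of G has a normal Sylow p-subgroup. Then any two distinct Sylow p-subgroups of G intersect trivially, and for every Sylow p-subgroup P the normalizer of every non-identity subgroup of P lies in the normalizer of P. -/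
theorem result {G : Type*} [Group G] [Finite G] [IsSimpleGroup G] {p : ℕ} [Fact p.Prime]
    (hnc : ¬ Cfsg.IsPClosed p G) (hsub : ∀ H : Subgroup G, H ≠ ⊤ → Cfsg.IsPClosed p ↥H) :
    (∀ P Q : Sylow p G, P ≠ Q → (P : Subgroup G) ⊓ (Q : Subgroup G) = ⊥) ∧
      ∀ (P : Sylow p G) (R : Subgroup G), R ≤ P → R ≠ ⊥ →
        Subgroup.normalizer (R : Set G) ≤ Subgroup.normalizer ((P : Subgroup G) : Set G) := by
  have key : ∀ n : ℕ, ∀ R : Subgroup G, R ≠ ⊥ → Nat.card G ≤ Nat.card R + n →
      ∀ P Q : Sylow p G, R ≤ P → R ≤ Q → P = Q := by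
    intro n
    induction n with
    | zero =>
      intro R _ hc P Q hP hQ
      have : R = ⊤ := eq_top_of_le_card R hc
      subst this
      exact H4.sylow_eq_of_le (le_top.trans hQ)
    | succ n ih =>
      intro R hR hc P Q hP hQ
      by_contra hne
      have hRp : IsPGroup p R := P.isPGroup'.to_le hP
      have hN : normalizer (R : Set G) ≠ ⊤ := by
        intro h
        rcases (normalizer_eq_top_iff.mp h).eq_bot_or_eq_top with h1 | h1
        · exact hR h1
        · subst h1
          exact hne (H4.sylow_eq_of_le (le_top.trans hQ))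
      have hlt : ∀ P Q : Sylow p G, P ≠ Q → R ≤ P → R ≤ Q → R < P := fun P Q h hP hQ =>
        lt_of_le_of_ne hP fun he => h (H4.sylow_eq_of_le (he ▸ hQ))
      set N := normalizer (R : Set G) with hNd
      obtain ⟨S⟩ : Nonempty (Sylow p N) := Sylow.nonempty
      have hSn := hsub N hN S
      obtain ⟨T, hT⟩ := (S.isPGroup'.map N.subtype).exists_le_sylow
      have h3 : ∀ P : Sylow p G, R < P → P = T := by
        intro P hP
        have h4 := H4.lt_inf_normalizer_of_lt P.isPGroup' hP
        refine ih _ (ne_bot_of_gt h4) (by have := H1.card_lt_of_lt h4; omega) P T inf_le_left ?_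
        refine le_trans ?_ hT
        intro x hx
        obtain ⟨S', hS'⟩ := (H4.isPGroup_subgroupOf P.isPGroup' N).exists_le_sylow
        have := Sylow.unique_of_normal S hSn
        exact ⟨⟨x, hx.2⟩, Subsingleton.elim S' S ▸ hS' hx.1, rfl⟩
      exact hne ((h3 P (hlt P Q hne hP hQ)).trans (h3 Q (hlt Q P (Ne.symm hne) hQ hP)).symm)
  refine ⟨fun P Q hne => ?_, fun P R hRP hR g hg => ?_⟩
  · by_contra h
    exact hne (key _ _ h (Nat.le_add_left _ _) P Q inf_le_left inf_le_right)
  · refine Sylow.smul_eq_iff_mem_normalizer.mp (key _ R hR (Nat.le_add_left _ _) _ _ ?_ hRP)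
    have := H77.conj_smul_mono g hRP
    rwa [H1.mem_normalizer_iff_conj_smul_eq.mp hg] at this

end Cfsg.Agent.S3870
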