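import Cfsg.Statements.S3872
import Mathlib
import Cfsg.Agent.Base
import Cfsg.Agent.Lib.H81.Regular
import Cfsg.Agent.Lib.PGroup.Rank

set_option autoImplicit false
open Cfsg

namespace Cfsg.Agent.S3872


/-- Say that a finite group is p-exponent closed when its elements of order dividing p form a subgroup. Let G be a finite p-group that is not p-exponent closed, but all of whose proper subgroups and proper quotients are. Then G is generated by two elements, has nilpotency class at least p, has exponent p², has cyclic center, and has order at least p^(p+1). -/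
theorem result {G : Type*} [Group G] [Finite G] {p : ℕ} [Fact p.Prime] (hG : IsPGroup p G)
    (hnc : ¬ (∃ H : Subgroup G, (H : Set G) = {g : G | g ^ p = 1})) (hsub : ∀ K : Subgroup G, K ≠ ⊤ → (∃ H : Subgroup ↥K, (H : Set ↥K) = {g : ↥K | g ^ p = 1}))
    (hquo : ∀ (N : Subgroup G) [N.Normal], N ≠ ⊥ → (∃ H : Subgroup (G ⧸ N), (H : Set (G ⧸ N)) = {g : (G ⧸ N) | g ^ p = 1})) :
    (∃ x y : G, Subgroup.closure ({x, y} : Set G) = ⊤) ∧ (⊤ : Subgroup G).lowerCentralSeries (p - 1) ≠ ⊥ ∧
      Monoid.exponent G = p ^ 2 ∧ IsCyclic ↥(Subgroup.center G) ∧ p ^ (p + 1) ≤ Nat.card G := by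
  have hp : p.Prime := Fact.out
  -- two elements of order `p` whose product is not
  obtain ⟨x, y, hx, hy, hxy⟩ : ∃ x y : G, x ^ p = 1 ∧ y ^ p = 1 ∧ (x * y) ^ p ≠ 1 := by
    by_contra h
    push Not at h
    exact hnc ⟨H81.omegaOf ⊤ p fun a _ b _ => h a b, by ext; exact ⟨fun h => h.2, fun h => ⟨trivial, h⟩⟩⟩
  have hgen : Subgroup.closure ({x, y} : Set G) = ⊤ := by
    by_contra h
    obtain ⟨H, hH⟩ := hsub _ h
    have h1 : (⟨x, H81.left_mem_pair x y⟩ : Subgroup.closure ({x, y} : Set G)) ∈ H := by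
      rw [← SetLike.mem_coe, hH]; exact Subtype.ext hx
    have h2 : (⟨y, H81.right_mem_pair x y⟩ : Subgroup.closure ({x, y} : Set G)) ∈ H := by
      rw [← SetLike.mem_coe, hH]; exact Subtype.ext hy
    have h3 := H.mul_mem h1 h2
    rw [← SetLike.mem_coe, hH] at h3
    exact hxy (congrArg Subtype.val h3)
  have hq : ∀ (N : Subgroup G) [N.Normal], N ≠ ⊥ → ∀ g : G, g ^ p ∈ N := by
    intro N _ hN g
    obtain ⟨H, hH⟩ := hquo N hN
    have : (⊤ : Subgroup G) ≤ H.comap (QuotientGroup.mk' N) := by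
      rw [← hgen]
      apply H81.pair_le
      · rw [Subgroup.mem_comap, ← SetLike.mem_coe, hH]
        change (QuotientGroup.mk' N x) ^ p = 1
        rw [← map_pow, hx, map_one]
      · rw [Subgroup.mem_comap, ← SetLike.mem_coe, hH]
        change (QuotientGroup.mk' N y) ^ p = 1
        rw [← map_pow, hy, map_one]
    have h1 := this (Subgroup.mem_top g)
    rw [Subgroup.mem_comap, ← SetLike.mem_coe, hH] at h1
    exact (QuotientGroup.eq_one_iff _).1 h1
  have hcl : (⊤ : Subgroup G).lowerCentralSeries (p - 1) ≠ ⊥ := by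
    intro hcl
    have : H81.Reg1 p G := H81.reg1_of_class_lt hp fun a b =>
      eq_bot_iff.2 (hcl ▸ Subgroup.lowerCentralSeries_mono (p - 1) le_top)
    exact hxy (this.mul_pow_eq_one hG hx hy)
  have hz : ∀ z ∈ Subgroup.center G, z ≠ 1 → ∀ g : G, g ^ p ∈ Subgroup.zpowers z := by
    intro z hz hz1 g
    have : (Subgroup.zpowers z).Normal := ⟨fun u hu g => by
      have h1 : u ∈ Subgroup.center G := (Subgroup.zpowers_le.2 hz) hu
      rw [Subgroup.mem_center_iff.1 h1 g]
      simpa using hu⟩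
    exact hq _ (by simpa using hz1) g
  have hnt : (⊤ : Subgroup G) ≠ ⊥ := by
    intro h
    apply hxy
    have : (x * y) ^ p ∈ (⊥ : Subgroup G) := h ▸ Subgroup.mem_top _
    exact this
  obtain ⟨z, -, hzc, hzo⟩ := H5.exists_mem_center_orderOf_eq hG ⊤ hnt
  have hz1 : z ≠ 1 := by
    rintro rfl
    rw [orderOf_one] at hzo
    exact hp.one_lt.ne hzo
  have hpp : ∀ g : G, (g ^ p) ^ p = 1 := by
    intro g
    obtain ⟨i, hi⟩ := hz z hzc hz1 g
    simp only at hi
    rw [← hi, ← zpow_natCast, ← zpow_mul, mul_comm, zpow_mul, zpow_natCast, ← hzo,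
      pow_orderOf_eq_one, one_zpow]
  have key : ∀ a ∈ Subgroup.center G, a ≠ 1 → ∀ b ∈ Subgroup.center G, b ^ p = 1 →
      b ∈ Subgroup.zpowers a := by
    intro a ha ha1 b hb hbp
    by_cases hb1 : b = 1
    · rw [hb1]; exact Subgroup.one_mem _
    have h1 := hz b hb hb1 (x * y)
    have h2 := hz a ha ha1 (x * y)
    have h3 : Subgroup.zpowers ((x * y) ^ p) = Subgroup.zpowers b := by
      apply Subgroup.eq_of_le_of_card_ge (Subgroup.zpowers_le.2 h1)
      rw [Nat.card_zpowers, Nat.card_zpowers, orderOf_eq_prime hbp hb1,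
        orderOf_eq_prime (hpp _) hxy]
    exact Subgroup.zpowers_le.2 h2 (h3 ▸ Subgroup.mem_zpowers b)
  refine ⟨⟨x, y, hgen⟩, hcl, ?_, ?_, ?_⟩
  · have h1 : Monoid.exponent G ∣ p ^ 2 := by
      rw [Monoid.exponent_dvd_iff_forall_pow_eq_one]
      intro g
      rw [sq, pow_mul, hpp]
    obtain ⟨i, hi, h2⟩ := (Nat.dvd_prime_pow hp).1 h1
    rw [h2]
    by_contra hne
    have hi' : i ≤ 1 := by
      by_contra h3
      exact hne (by congr 1; omega)
    have : Monoid.exponent G ∣ p := by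
      rw [h2]
      simpa using Nat.pow_dvd_pow p hi'
    exact hxy (Monoid.exponent_dvd_iff_forall_pow_eq_one.1 this _)
  · suffices ∃ a ∈ Subgroup.center G, ∀ b ∈ Subgroup.center G, b ∈ Subgroup.zpowers a by
      obtain ⟨a, ha, h⟩ := this
      refine ⟨⟨⟨a, ha⟩, fun b => ?_⟩⟩
      obtain ⟨i, hi⟩ := h b b.2
      exact ⟨i, Subtype.ext hi⟩
    by_cases h : ∀ a ∈ Subgroup.center G, a ^ p = 1
    · exact ⟨z, hzc, fun b hb => key z hzc hz1 b hb (h b hb)⟩
    push Not at h
    obtain ⟨a, ha, hap⟩ := h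
    refine ⟨a, ha, fun b hb => ?_⟩
    obtain ⟨i, hi⟩ := key _ (Subgroup.pow_mem _ ha p) hap _ (Subgroup.pow_mem _ hb p) (hpp b)
    simp only at hi
    have hc : Commute b (a ^ i)⁻¹ := (Subgroup.mem_center_iff.1 hb _).symm
    have h1 := key a ha (by rintro rfl; simp at hap) (b * (a ^ i)⁻¹)
      (Subgroup.mul_mem _ hb (Subgroup.inv_mem _ (Subgroup.zpow_mem _ ha i))) (by
        rw [hc.mul_pow, ← hi, inv_pow, ← zpow_natCast, ← zpow_natCast, ← zpow_mul, ← zpow_mul,
          mul_comm i, mul_inv_cancel])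
    simpa using Subgroup.mul_mem _ h1 (Subgroup.zpow_mem_zpowers a i)
  · by_contra hlt
    push Not at hlt
    obtain ⟨n, hn⟩ := hG.exists_card_eq
    rw [hn, Nat.pow_lt_pow_iff_right hp.one_lt] at hlt
    obtain ⟨m, hm⟩ : ∃ m, p = m + 2 := ⟨p - 2, by have := hp.two_le; omega⟩
    apply hcl
    have : p - 1 = m + 1 := by omega
    rw [this]
    apply H5.lowerCentralSeries_eq_bot_of_card_dvd (p := p)
    rw [Subgroup.card_top, hn]
    exact Nat.pow_dvd_pow p (by omega)

end Cfsg.Agent.S3872
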