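import Cfsg.Statements.S3873
import Mathlib
import Cfsg.Agent.Lib.FGS.IrredCyclic
import Cfsg.Agent.Lib.Core.Frattini

set_option autoImplicit false
open Cfsg

namespace Cfsg.Agent.S3873

open Subgroup
open scoped Pointwise commutatorElement

/-- Say that a finite group is p-exponent closed when its elements of order dividing p form a subgroup. Let G be a finite group that is not p-exponent closed, but all of whose proper subgroups and proper quotients are, and suppose G is neither simple nor a p-group. Then there is a prime q ≠ p such that G has order p · q^e, where e is the multiplicative order of q modulo p, and G has a normal elementary abelian subgroup of order q^e that is a minimal normal subgroup of G. -/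
theorem result {G : Type*} [Group G] [Finite G] {p : ℕ} [Fact p.Prime]
    (hnc : ¬ (∃ H : Subgroup G, (H : Set G) = {g : G | g ^ p = 1})) (hsub : ∀ K : Subgroup G, K ≠ ⊤ → (∃ H : Subgroup ↥K, (H : Set ↥K) = {g : ↥K | g ^ p = 1}))
    (hquo : ∀ (N : Subgroup G) [N.Normal], N ≠ ⊥ → (∃ H : Subgroup (G ⧸ N), (H : Set (G ⧸ N)) = {g : (G ⧸ N) | g ^ p = 1}))
    (hns : ¬ IsSimpleGroup G) (hnp : ¬ IsPGroup p G) :
    ∃ q : ℕ, q.Prime ∧ q ≠ p ∧ Nat.card G = p * q ^ orderOf (q : ZMod p) ∧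
      ∃ A : Subgroup G, A.Normal ∧ Nat.card ↥A = q ^ orderOf (q : ZMod p) ∧ Cfsg.IsElementaryAbelian q A ∧
        ∀ B : Subgroup G, B.Normal → B ≤ A → B = ⊥ ∨ B = A := by
  obtain ⟨P⟩ : Nonempty (Sylow p G) := Sylow.nonempty
  have hK : ∀ K : Subgroup G, K ≠ ⊤ → ∀ x ∈ K, x ^ p = 1 → x ∈ Cfsg.pCoreOf p K := by
    intro K hK x hx hxp
    obtain ⟨H, hH⟩ := hsub K hK
    have hm : ∀ y : K, y ∈ H ↔ y ^ p = 1 := fun y => by rw [← SetLike.mem_coe, hH]; rfl
    have : H.Normal := ⟨fun y hy g => by rw [hm] at hy ⊢; rw [conj_pow, hy]; simp⟩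
    exact ⟨⟨x, hx⟩, H1.le_pCore (H3.isPGroup_of_pow_eq_one fun y hy => (hm y).mp hy)
      ((hm _).mpr (Subtype.ext hxp)), rfl⟩
  have hgen : closure {g : G | g ^ p = 1} = ⊤ := by
    by_contra h
    obtain ⟨H, hH⟩ := hsub _ h
    refine hnc ⟨H.map (Subgroup.subtype _), Set.ext fun g => ⟨?_, fun hg => ?_⟩⟩
    · rintro ⟨y, hy, rfl⟩
      rw [hH] at hy
      exact congrArg Subtype.val hy
    · refine ⟨⟨g, subset_closure hg⟩, ?_, rfl⟩
      rw [hH]
      exact Subtype.ext hg
  have hq : ∀ (N : Subgroup G) [N.Normal], N ≠ ⊥ → IsPGroup p (G ⧸ N) := by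
    intro N _ hN
    obtain ⟨H, hH⟩ := hquo N hN
    have h1 : closure {g : G | g ^ p = 1} ≤ H.comap (QuotientGroup.mk' N) := by
      rw [closure_le]
      intro g hg
      rw [SetLike.mem_coe, mem_comap, ← SetLike.mem_coe, hH, Set.mem_ofPred_eq, ← map_pow,
        show g ^ p = 1 from hg, map_one]
    intro y
    obtain ⟨g, rfl⟩ := QuotientGroup.mk'_surjective N y
    have h2 : QuotientGroup.mk' N g ∈ (H : Set (G ⧸ N)) := h1 (hgen ▸ mem_top g)
    rw [hH] at h2
    exact ⟨1, by rw [pow_one]; exact h2⟩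
  have hO : Cfsg.pCore p G = ⊥ := by
    by_contra h
    have h1 := (hq _ h).to_subgroup ⊤
    have h2 := h1.comap_of_ker_isPGroup (QuotientGroup.mk' _)
      (by rw [QuotientGroup.ker_mk']; exact H1.isPGroup_pCore)
    rw [comap_top] at h2
    exact hnp (h2.of_equiv topEquiv)
  have hd : p ∣ Nat.card G := by
    by_contra h
    refine hnc ⟨⊥, Set.ext fun g => ⟨fun hg => by simp [mem_bot.mp hg], fun hg => ?_⟩⟩
    rcases (Nat.dvd_prime Fact.out).mp (orderOf_dvd_of_pow_eq_one hg) with h1 | h1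
    · exact mem_bot.mpr (orderOf_eq_one_iff.mp h1)
    · exact absurd (h1 ▸ orderOf_dvd_natCard g) h
  have : Nontrivial G := by
    by_contra h
    rw [not_nontrivial_iff_subsingleton] at h
    exact hnp fun g => ⟨0, Subsingleton.elim _ _⟩
  obtain ⟨M, hM, hM1, hM2⟩ : ∃ M : Subgroup G, M.Normal ∧ M ≠ ⊥ ∧ M ≠ ⊤ := by
    by_contra h
    push Not at h
    exact hns ⟨fun M hM => by by_contra h'; push Not at h'; exact h'.2 (h M hM h'.1)⟩
  obtain ⟨N, hN, hNM⟩ := H3.exists_isMinNormal_le M hM1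
  have := hN.normal
  have hNt : N ≠ ⊤ := fun h => hM2 (eq_top_iff.mpr (h ▸ hNM))
  refine H77.minimal_non_closed_core hO hd hN (fun h => ?_) P ?_ hK
  · obtain ⟨x, hx, hxo⟩ := H1.exists_mem_orderOf_eq_prime Fact.out h
    have := hK N hNt x hx (hxo ▸ pow_orderOf_eq_one x)
    rw [H1.pCoreOf_eq_inf, hO, bot_inf_eq, mem_bot] at this
    rw [this, orderOf_one] at hxo
    exact (Fact.out : p.Prime).one_lt.ne hxo
  · rw [sup_comm]
    exact H1.sylow_sup_eq_top_of_isPGroup_quotient P (hq N hN.ne_bot)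

end Cfsg.Agent.S3873
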