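import Cfsg.Statements.S3875
import Mathlib
import Cfsg.Agent.Base
import Cfsg.Agent.S4700
import Cfsg.Agent.Lib.GL.Basic
import Cfsg.Agent.Lib.Block.SelfCen
import Cfsg.Agent.Lib.SL2.Borel

set_option autoImplicit false
open Cfsg

namespace Cfsg.Agent.S3875

theorem not_closed_of_card {p : ℕ} [Fact p.Prime] {H : Type*} [Group H] [Finite H]
    (h : Nat.card (Sylow p H) ≠ 1) : ¬ IsPClosed p H := fun hc => by
  have := (default : Sylow p H).unique_of_normal (hc _)
  exact h Nat.card_unique

theorem affine (p : ℕ) [hp : Fact p.Prime] (m : ℕ) (hm : IsPrimePow m) (hm1 : m % p = 1) :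
    ∃ (H : Type) (_ : Group H) (_ : Finite H), Nat.card H = p * m ∧ ¬ IsPClosed p H := by
  obtain ⟨q, k, hq, hk, rfl⟩ := (isPrimePow_nat_iff m).1 hm
  haveI := Fact.mk hq
  have hF := GaloisField.card q k hk.ne'
  generalize q ^ k = m at *
  have hd : p ∣ Nat.card (GaloisField q k)ˣ := by
    rw [Nat.card_units, hF]
    exact (Nat.modEq_iff_dvd' hm.pos).1 (by rw [Nat.ModEq, hm1, Nat.mod_eq_of_lt hp.out.one_lt])
  obtain ⟨ζ, hζ⟩ := exists_prime_orderOf_dvd_card' p hd
  let φ : Subgroup.zpowers ζ →* MulAut (Multiplicative (GaloisField q k)) :=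
    (MulAutMultiplicative (GaloisField q k)).symm.toMonoidHom.comp
      ((DistribMulAction.toAddAut (GaloisField q k)ˣ (GaloisField q k)).comp (Subgroup.subtype _))
  have hfin : Finite (Multiplicative (GaloisField q k) ⋊[φ] Subgroup.zpowers ζ) :=
    Finite.of_equiv _ SemidirectProduct.equivProd.symm
  have hc : Nat.card (Multiplicative (GaloisField q k) ⋊[φ] Subgroup.zpowers ζ) = p * m := by
    rw [SemidirectProduct.card, Nat.card_zpowers, hζ, mul_comm]
    exact congrArg _ hF
  refine ⟨_, inferInstance, hfin, hc, fun h => ?_⟩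
  have hP : Nat.card (SemidirectProduct.inr (φ := φ)).range = p := by
    rw [← Nat.card_congr (MonoidHom.ofInjective SemidirectProduct.inr_injective).toEquiv,
      Nat.card_zpowers, hζ]
  obtain ⟨S, hS⟩ := H84.exists_sylow_eq hP (by
    have := (SemidirectProduct.inr (φ := φ)).range.card_mul_index
    rw [hP, hc] at this
    rw [Nat.eq_of_mul_eq_mul_left hp.out.pos this, Nat.dvd_iff_mod_eq_zero, hm1]
    exact one_ne_zero)
  have hn := h S
  rw [hS] at hn
  obtain ⟨y, hy⟩ := hn.conj_mem _ ⟨⟨ζ, Subgroup.mem_zpowers ζ⟩, rfl⟩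
    (SemidirectProduct.inl (Multiplicative.ofAdd 1))
  have h1 := congrArg (fun z => Multiplicative.toAdd z.left) hy
  simp only [SemidirectProduct.left_inr, SemidirectProduct.mul_left, SemidirectProduct.left_inl,
    SemidirectProduct.right_inl, SemidirectProduct.mul_right, SemidirectProduct.right_inr,
    ← map_inv, map_one, mul_one, one_mul] at h1
  have h2 : (0 : GaloisField q k) = 1 + (ζ : GaloisField q k) * -1 := h1
  have h3 : ζ = 1 := Units.ext (by rw [Units.val_one]; linear_combination h2)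
  rw [h3, orderOf_one] at hζ
  exact hp.out.one_lt.ne hζ

theorem solv {p : ℕ} [hp : Fact p.Prime] {H : Type*} [Group H] [Finite H] {P K : Subgroup H}
    [K.Normal] (hP : Nat.card P = p) (hK : ¬ p ∣ Nat.card K) (h : ¬ K ≤ H86.Nor P) :
    ∃ k, IsPrimePow k ∧ k % p = 1 ∧ p * k ≤ Nat.card H := by
  obtain ⟨q, hq, hqd⟩ := Nat.exists_prime_and_dvd (Subgroup.relIndex_eq_one.not.2 h)
  haveI := Fact.mk hq
  letI : MulDistribMulAction P K :=
    MulDistribMulAction.compHom K ((MulAut.conjNormal (H := K)).comp P.subtype)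
  obtain ⟨R, hR⟩ := (H84.isPGroup_of_card hP).nonempty_fixed_point_of_prime_not_dvd_card
    (Sylow q K) fun hd => hK (hd.trans ((default : Sylow q K).card_dvd_index.trans
      (Subgroup.index_dvd_card _)))
  obtain ⟨R', hR'⟩ : ∃ R' : Subgroup H, R' = (R : Subgroup K).map K.subtype := ⟨_, rfl⟩
  have h1 : P ≤ H86.Nor R' := by
    have key : ∀ g ∈ P, ∀ r ∈ R', g * r * g⁻¹ ∈ R' := by
      rw [hR']
      rintro g hg _ ⟨r, hr, rfl⟩
      have h2 := Subgroup.smul_mem_pointwise_smul r (⟨g, hg⟩ : P) (R : Subgroup K) hr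
      rw [← Sylow.pointwise_smul_def, hR ⟨g, hg⟩] at h2
      exact ⟨_, h2, rfl⟩
    intro g hg
    rw [Subgroup.mem_normalizer_iff]
    refine fun r => ⟨key g hg r, fun hr => ?_⟩
    simpa [mul_assoc] using key g⁻¹ (P.inv_mem hg) _ hr
  have h2 : ¬ R' ≤ H86.Nor P := fun h2 => R.not_dvd_index (hqd.trans (by
    refine Subgroup.index_dvd_of_le fun r hr => h2 ?_
    rw [hR']
    exact ⟨r, hr, rfl⟩))
  obtain ⟨k, hk⟩ := IsPGroup.iff_card.1 R.isPGroup'
  have hRc : Nat.card R' = q ^ k := by
    rw [hR', Subgroup.card_map_of_injective K.subtype_injective, hk]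
  have hn := Subgroup.normal_subgroupOf_sup_of_le_normalizer h1
  have hPT : Nat.card (P.subgroupOf (P ⊔ R')) = p := by
    rw [Nat.card_congr (Subgroup.subgroupOfEquivOfLe le_sup_left).toEquiv, hP]
  have h3 : (P.subgroupOf (P ⊔ R')).index ∣ q ^ k := by
    have h4 : (R'.subgroupOf (P ⊔ R')).index ∣ p := by
      rw [← Subgroup.relIndex_top_right, ← Subgroup.subgroupOf_self,
        Subgroup.subgroupOf_sup le_sup_left le_sup_right, Subgroup.relIndex_sup_right, ← hPT]
      exact Subgroup.relIndex_dvd_card _ _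
    refine Nat.dvd_of_mul_dvd_mul_left hp.out.pos ?_
    rw [← hPT, Subgroup.card_mul_index, hPT, ← (R'.subgroupOf (P ⊔ R')).index_mul_card,
      Nat.card_congr (Subgroup.subgroupOfEquivOfLe le_sup_right).toEquiv, hRc]
    exact Nat.mul_dvd_mul_right h4 _
  have hqp : ¬ p ∣ q ^ k := fun hd => hK (hd.trans (hk ▸ Subgroup.card_subgroup_dvd_card _))
  obtain ⟨S, hS⟩ := H84.exists_sylow_eq hPT fun hd => hqp (hd.trans h3)
  have h5 := S.card_dvd_index
  rw [hS] at h5
  obtain ⟨j, -, hj⟩ := (Nat.dvd_prime_pow hq).1 (h5.trans h3)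
  refine ⟨q ^ j, hq.isPrimePow.pow ?_, ?_, ?_⟩
  · rintro rfl
    have := (Nat.card_eq_one_iff_unique.1 hj).1
    have h6 := S.normal_of_subsingleton
    rw [hS, Subgroup.normal_subgroupOf_iff_le_normalizer le_sup_left] at h6
    exact h2 (le_sup_right.trans h6)
  · rw [← hj, card_sylow_modEq_one p, Nat.mod_eq_of_lt hp.out.one_lt]
  · refine le_trans ?_ (Subgroup.card_le_card_group (P ⊔ R'))
    rw [← (P.subgroupOf (P ⊔ R')).card_mul_index, hPT, ← hj]
    exact Nat.mul_le_mul_left _ (Nat.le_of_dvd (Nat.pos_of_ne_zero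
      Subgroup.index_ne_zero_of_finite) h5)

theorem card_sylow_eq {p : ℕ} [hp : Fact p.Prime] {G : Type*} [Group G] [Finite G]
    (hbig : Nat.card G < p ^ 3) (P : Sylow p G) (hP : ¬ (P : Subgroup G).Normal) :
    Nat.card P = p := by
  have h1 : p < Nat.card (Sylow p G) := by
    have h2 := card_sylow_modEq_one p G
    have h3 : Nat.card (Sylow p G) ≠ 1 := fun h => by
      have := (Nat.card_eq_one_iff_unique.1 h).1
      exact hP P.normal_of_subsingleton
    have h4 : 0 < Nat.card (Sylow p G) := Nat.card_pos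
    have h5 := Nat.le_of_dvd (by omega) ((Nat.modEq_iff_dvd' h4).1 h2.symm)
    omega
  have h2 := Nat.le_of_dvd (Nat.pos_of_ne_zero Subgroup.index_ne_zero_of_finite) P.card_dvd_index
  obtain ⟨k, hk⟩ := IsPGroup.iff_card.1 P.isPGroup'
  obtain _ | _ | k := k
  · exact absurd (by rw [Subgroup.card_eq_one.1 hk]; infer_instance) hP
  · simpa using hk
  · exfalso
    rw [← (P : Subgroup G).card_mul_index, hk] at hbig
    have h3 : p ^ 2 ≤ p ^ (k + 1 + 1) := Nat.pow_le_pow_right hp.out.pos (by omega)
    have := Nat.mul_le_mul h3 (h1.le.trans h2)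
    rw [← pow_succ] at this
    exact hbig.not_ge this

theorem perfect {p : ℕ} [hp : Fact p.Prime] {G : Type*} [Group G] [Finite G]
    (hperf : commutator G = ⊤) (P : Sylow p G) (hPc : Nat.card P = p) :
    p * (p ^ 2 - 1) ≤ 2 * Nat.card G := by
  have hs : Nat.card (Sylow p G) = 1 + Nat.card (Sylow p G) / p * p := by
    have := card_sylow_modEq_one p G
    rw [Nat.ModEq, Nat.mod_eq_of_lt hp.out.one_lt] at this
    rw [← this, Nat.mod_add_div']
  generalize Nat.card (Sylow p G) / p = n at hs
  have hq : Nat.card (G ⧸ pPrimeCore p G) ≤ Nat.card G :=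
    Nat.le_of_dvd Nat.card_pos (Subgroup.card_quotient_dvd_card _)
  rcases Cfsg.Agent.S4700.result hperf p P hPc n hs with
    ⟨F, _, _, hF, h3, ⟨e⟩⟩ | ⟨m, F, _, _, hF, hm, h3, ⟨e⟩⟩ | ⟨h, u, hh, hu, e⟩
  · have h4 := H10.card_PSL_two (F := F)
    rw [Nat.card_eq_fintype_card (α := F), hF, ← Nat.card_congr e.toEquiv] at h4
    have h5 : Nat.gcd 2 (p - 1) ≤ 2 := Nat.gcd_le_left _ two_pos
    have h6 := Nat.mul_le_mul h5 hq
    rwa [h4, mul_assoc, mul_comm (p - 1), ← Nat.sq_sub_sq p 1, one_pow] at h6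
  · have h4 := H10.card_SL_two (F := F)
    rw [Nat.card_eq_fintype_card (α := F), hF, ← Nat.card_congr e.toEquiv] at h4
    refine le_trans ?_ (Nat.mul_le_mul_left 2 hq)
    rw [h4, hm]
    have hp' := hp.out
    generalize 2 ^ m = q at *
    have hq4 : 4 ≤ q := by
      by_contra hq
      obtain rfl : q = 3 := by omega
      rw [hm] at hp'; norm_num at hp'
    obtain ⟨c, rfl⟩ := Nat.exists_eq_add_of_le hq4
    rw [show 4 + c - 1 = 3 + c by omega,
      show (4 + c + 1) ^ 2 - 1 = (4 + c) * (6 + c) from Nat.sub_eq_of_eq_add (by ring)]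
    nlinarith [Nat.zero_le (c ^ 3), Nat.zero_le (c ^ 2)]
  · have hr := Subgroup.relIndex_mul_index (K := H86.Nor (P : Subgroup G))
      (Subgroup.le_normalizer (H := (P : Subgroup G)))
    have hidx : Nat.card (Sylow p G) = (H86.Nor (P : Subgroup G)).index :=
      P.card_eq_index_normalizer
    rw [← hidx, hs] at hr
    have hr0 : (P : Subgroup G).relIndex (H86.Nor (P : Subgroup G)) ≠ 0 :=
      Subgroup.index_ne_zero_of_finite
    rw [← (P : Subgroup G).card_mul_index, hPc, ← hr]
    have h3 : p ≤ 2 * n := by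
      refine Nat.le_of_mul_le_mul_right (c := u + 1) ?_ (by omega)
      rw [mul_assoc, e]
      have : u * p ≤ h * u * p := by rw [mul_assoc]; exact Nat.le_mul_of_pos_left _ hh
      nlinarith
    have h4 : 1 + n * p ≤ (P : Subgroup G).relIndex (H86.Nor (P : Subgroup G)) * (1 + n * p) :=
      Nat.le_mul_of_pos_left _ (by omega)
    rw [mul_left_comm]
    refine Nat.mul_le_mul_left p ((Nat.sub_le _ _).trans ?_)
    nlinarith [Nat.mul_le_mul_left p h3]

/-- Let p be an odd prime and let m be the least prime power congruent to 1 modulo p. Then the least order of a finite group whose Sylow p-subgroups are not normal is the smaller of p · m and p(p² − 1)/2: every finite group whose Sylow p-subgroups are not normal has at least that order, and some group of exactly that order has non-normal Sylow p-subgroups. -/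
theorem result (p : ℕ) [Fact p.Prime] (hp : p ≠ 2) (m : ℕ) (hm : IsPrimePow m) (hm1 : m % p = 1)
    (hleast : ∀ k : ℕ, IsPrimePow k → k % p = 1 → m ≤ k) :
    (∀ (H : Type) [Group H] [Finite H], ¬ Cfsg.IsPClosed p H → min (p * m) (p * (p ^ 2 - 1) / 2) ≤ Nat.card H) ∧
      ∃ (H : Type) (_ : Group H) (_ : Finite H), Nat.card H = min (p * m) (p * (p ^ 2 - 1) / 2) ∧ ¬ Cfsg.IsPClosed p H := by
  have hp' : p.Prime := Fact.out
  constructor
  · intro H _ _ hH
    induction hn : Nat.card H using Nat.strong_induction_on generalizing H with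
    | _ n ih =>
    subst hn
    by_contra! hlt
    rw [lt_min_iff] at hlt
    obtain ⟨P, hP⟩ := not_forall.1 hH
    have h1 : p * (p ^ 2 - 1) ≤ p ^ 3 := by
      rw [pow_succ' p 2]; exact Nat.mul_le_mul_left _ (Nat.sub_le _ _)
    have hPc := card_sylow_eq (by omega) P hP
    by_cases hperf : commutator H = ⊤
    · have := perfect hperf P hPc
      omega
    by_cases hd : p ∣ Nat.card (commutator H)
    · have hle := H84.le_of_dvd_card hPc P.not_dvd_index hd
      have h2 : Nat.card (commutator H) < Nat.card H := by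
        rw [← (commutator H).card_mul_index]
        exact lt_mul_of_one_lt_right Nat.card_pos (Subgroup.one_lt_index_of_ne_top hperf)
      have h3 := ih _ h2 (commutator H) (fun hc => hP ?_) rfl
      · rw [min_le_iff] at h3; omega
      · have h4 := (P.subtype hle).characteristic_of_normal (hc _)
        have h5 := ConjAct.normal_of_characteristic_of_normal (H := commutator H)
          (K := (P.subtype hle : Subgroup (commutator H)))
        rwa [Sylow.coe_subtype, Subgroup.map_subgroupOf_eq_of_le hle] at h5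
    · obtain ⟨k, hk, hk1, hk2⟩ := solv hPc hd fun h => hP (by
        have hn : ((P : Subgroup H) ⊔ commutator H).Normal :=
          Subgroup.Normal.of_commutator_le _ le_sup_right
        have h2 := H84.Nor_sup_eq_top hPc P.not_dvd_index
          (S := (P : Subgroup H) ⊔ commutator H) le_sup_left
        rw [sup_eq_left.2 (sup_le Subgroup.le_normalizer h)] at h2
        exact Subgroup.normalizer_eq_top_iff.1 h2)
      have := Nat.mul_le_mul_left p (hleast k hk hk1)
      omega
  · rcases le_total (p * m) (p * (p ^ 2 - 1) / 2) with h | h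
    · rw [min_eq_left h]
      exact affine p m hm hm1
    · rw [min_eq_right h]
      refine ⟨Matrix.ProjectiveSpecialLinearGroup (Fin 2) (ZMod p), inferInstance, inferInstance,
        ?_, not_closed_of_card ?_⟩
      · have h4 := H10.card_PSL_two (F := ZMod p)
        rw [Nat.card_zmod, Nat.gcd_eq_left (hp'.even_sub_one hp).two_dvd, mul_assoc,
          mul_comm (p - 1), ← Nat.sq_sub_sq p 1, one_pow] at h4
        omega
      · rw [H29.card_sylow_char_PSL, Nat.card_zmod]
        have := hp'.pos
        omega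

end Cfsg.Agent.S3875
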