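import Cfsg.Statements.S3889
import Mathlib
import Cfsg.Agent.Lib.FGS.NilpCover

set_option autoImplicit false
open Cfsg

namespace Cfsg.Agent.S3889

/-- A finite abelian group that is the union of a family of proper subgroups any two of which intersect trivially is elementary abelian: its exponent is a prime. -/
theorem result {G : Type*} [CommGroup G] [Finite G] (𝓑 : Set (Subgroup G)) (hprop : ∀ B ∈ 𝓑, B ≠ ⊤)
    (hcov : ∀ g : G, ∃ B ∈ 𝓑, g ∈ B) (hdisj : ∀ B ∈ 𝓑, ∀ C ∈ 𝓑, B ≠ C → B ⊓ C = ⊥) :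
    (Monoid.exponent G).Prime := by
  obtain ⟨q, hq, ⟨w, -, hw1⟩, hq'⟩ := H77.prime_exponent_of_partition (ι := 𝓑) (⊤ : Subgroup G)
    (fun x _ y _ => mul_comm x y) (fun B => B.1) (fun B h => hprop B B.2 (top_le_iff.mp h))
    (fun g _ => by
      obtain ⟨B, hB, hg⟩ := hcov g
      exact ⟨⟨B, hB⟩, hg⟩) (fun B C g _ hB hC => by
      by_cases h : B.1 = C.1
      · exact Or.inr h
      · left
        rw [← Subgroup.mem_bot, ← hdisj B B.2 C C.2 h]
        exact ⟨hB, hC⟩)
  have : Monoid.exponent G = q := by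
    apply Nat.dvd_antisymm
    · refine Monoid.exponent_dvd_of_forall_pow_eq_one fun g => ?_
      by_cases hg : g = 1
      · rw [hg, one_pow]
      · rw [← hq' g trivial hg, pow_orderOf_eq_one]
    · rw [← hq' w trivial hw1]
      exact Monoid.order_dvd_exponent w
  rwa [this]

end Cfsg.Agent.S3889
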