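import Cfsg.Statements.S3890
import Mathlib
import Cfsg.Agent.Lib.FGS.NilpCover

set_option autoImplicit false
open Cfsg

namespace Cfsg.Agent.S3890

/-- A cover of a group is a finite set of proper subgroups whose union is the whole group; it is minimal when no cover has fewer members, and nilpotent when all its members are nilpotent. Let G be a finite group with trivial center admitting a nilpotent minimal cover 𝓐, and let P be an abelian Sylow p-subgroup of G that is not normal. Then either P is elementary abelian of order greater than p, or P is a Sylow p-subgroup of some member A of 𝓐, the normalizer N of P is a maximal subgroup of G, N meets each of its conjugates by elements outside N in a subgroup of order prime to p, and the centralizer of P equals A. -/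
theorem result {G : Type*} [Group G] [Finite G] (hZ : Subgroup.center G = ⊥) (𝓐 : Finset (Subgroup G))
    (h𝓐 : ((∀ A ∈ 𝓐, A ≠ ⊤) ∧ (∀ g : G, ∃ A ∈ 𝓐, g ∈ A)) ∧ (∀ 𝓑 : Finset (Subgroup G), (∀ A ∈ 𝓑, A ≠ ⊤) ∧ (∀ g : G, ∃ A ∈ 𝓑, g ∈ A) → 𝓐.card ≤ 𝓑.card) ∧ (∀ A ∈ 𝓐, Group.IsNilpotent ↥A)) {p : ℕ} [Fact p.Prime] (P : Sylow p G) (hab : IsMulCommutative ↥(P : Subgroup G))
    (hnn : ¬ (P : Subgroup G).Normal) :
    (Cfsg.IsElementaryAbelian p (P : Subgroup G) ∧ p < Nat.card ↥(P : Subgroup G)) ∨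
    (∃ A ∈ 𝓐, (P : Subgroup G) ≤ A ∧ ¬ p ∣ ((P : Subgroup G).subgroupOf A).index ∧
      IsCoatom (Subgroup.normalizer ((P : Subgroup G) : Set G)) ∧
      (∀ g : G, g ∉ Subgroup.normalizer ((P : Subgroup G) : Set G) →
        ¬ p ∣ Nat.card ↥(Subgroup.normalizer ((P : Subgroup G) : Set G) ⊓
          (Subgroup.normalizer ((P : Subgroup G) : Set G)).map (MulAut.conj g).toMonoidHom)) ∧
      Subgroup.centralizer ((P : Subgroup G) : Set G) = A) := by
  obtain ⟨⟨h1, h2⟩, hmin, hnil⟩ := h𝓐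
  by_cases hel : Cfsg.IsElementaryAbelian p (P : Subgroup G) ∧ p < Nat.card (P : Subgroup G)
  · exact Or.inl hel
  right
  have hel' : IsCyclic (P : Subgroup G) ∨ ¬ ∀ x ∈ (P : Subgroup G), x ^ p = 1 := by
    by_cases h : ∀ x ∈ (P : Subgroup G), x ^ p = 1
    · left
      have h3 : Nat.card (P : Subgroup G) ≤ p := not_lt.mp fun h4 => hel ⟨⟨hab, h⟩, h4⟩
      obtain ⟨k, hk⟩ := P.isPGroup'.exists_card_eq
      have hk1 : k ≤ 1 := by
        rw [hk] at h3
        exact (Nat.pow_le_pow_iff_right (Fact.out : p.Prime).one_lt).mp (by rwa [pow_one])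
      refine isCyclic_of_card_dvd_prime (p := p) ?_
      rw [hk]
      interval_cases k <;> simp
    · exact Or.inr h
  obtain ⟨h3, -, h5, h6⟩ := H77.cover_abelian_sylow hZ h1 h2 hmin hnil P hab hnn hel'
  have hle : (P : Subgroup G) ≤ Subgroup.centralizer ((P : Subgroup G) : Set G) :=
    fun x hx y hy => congrArg Subtype.val (hab.1.1 ⟨y, hy⟩ ⟨x, hx⟩)
  have hPN : ∀ (Q : Sylow p G) (x : G), orderOf x = p →
      x ∈ Subgroup.normalizer ((Q : Subgroup G) : Set G) → x ∈ (Q : Subgroup G) := by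
    intro Q x hx hxN
    have h7 : IsPGroup p ((Q : Subgroup G) ⊔ Subgroup.zpowers x : Subgroup G) :=
      IsPGroup.to_sup_of_normal_left' Q.isPGroup'
        (H77.isPGroup_zpowers_of_orderOf ⟨1, by rw [hx, pow_one]⟩) (Subgroup.zpowers_le.mpr hxN)
    rw [← Q.is_maximal' h7 le_sup_left]
    exact Subgroup.mem_sup_right (Subgroup.mem_zpowers x)
  refine ⟨_, h3, hle, H4.not_dvd_relIndex_sylow P hle, h5, fun g hg hd => hg ?_, rfl⟩
  obtain ⟨x, ⟨hx1, hx2⟩, hx⟩ := H1.exists_mem_orderOf_eq_prime Fact.out hd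
  have hx3 : x ∈ Subgroup.normalizer (((g • P : Sylow p G) : Subgroup G) : Set G) := by
    rw [Sylow.coe_subgroup_smul, H1.normalizer_conj_smul]
    exact hx2
  refine Sylow.smul_eq_iff_mem_normalizer.mp (h6 (g • P) x (hPN P x hx hx1) (hPN _ x hx hx3) ?_).symm
  rintro rfl
  rw [orderOf_one] at hx
  exact (Fact.out : p.Prime).one_lt.ne hx

end Cfsg.Agent.S3890
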