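import Cfsg.Statements.S3892
import Mathlib
import Cfsg.Agent.Lib.FGS.NilpCover

set_option autoImplicit false
open Cfsg

namespace Cfsg.Agent.S3892

open Equiv Equiv.Perm

section
variable {α : Type*} [Fintype α] [DecidableEq α]

theorem exists_cycle (s : Finset α) (hs : 2 ≤ s.card) :
    ∃ x : Perm α, x.IsCycle ∧ x.support = s := by
  obtain ⟨x, hx, hxs⟩ := s.exists_cycleOn
  have hnt : (s : Set α).Nontrivial := Finset.one_lt_card_iff_nontrivial.mp hs
  refine ⟨x, isCycle_iff_exists_isCycleOn.mpr ⟨s, hnt, hx, fun a ha => hxs (mem_support.mpr ha)⟩,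
    Finset.Subset.antisymm hxs fun a ha => mem_support.mpr (hx.apply_ne hnt ha)⟩

omit [Fintype α] [DecidableEq α] in
theorem fix_iff_of_commute {x z : Perm α} (h : Commute z x) (b : α) : x (z b) = z b ↔ x b = b := by
  rw [← mul_apply, ← h.eq, mul_apply, z.apply_eq_iff_eq]

omit [DecidableEq α] in
theorem fix_of_commute {x z : Perm α} (hx : x.IsCycle) (h : Commute z x) {a : α} (ha : x a ≠ a)
    (hz : z a = a) {b : α} (hb : x b ≠ b) : z b = b := by
  obtain ⟨i, rfl⟩ := hx.exists_pow_eq ha hb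
  rw [← mul_apply, (h.pow_right i).eq, mul_apply, hz]

theorem fix_pt {A : Subgroup (Perm α)} (hA : Group.IsNilpotent A) {x : Perm α} (hx : x.IsCycle)
    (hxA : x ∈ A) {c : α} (hc : ∀ b, x b = b ↔ b = c) : ∀ a ∈ A, a c = c := by
  obtain ⟨z, hz, hz1, hzc⟩ := H77.exists_mem_center_of_isNilpotent hA
    (fun h => hx.ne_one (by rwa [h, Subgroup.mem_bot] at hxA))
  have hcomm : Commute z x := (hzc x hxA).symm
  have h1 : z c = c := (hc _).mp ((fix_iff_of_commute hcomm c).mpr ((hc c).mpr rfl))
  intro a ha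
  by_contra hne
  apply hz1
  ext b
  by_cases hb : b = c
  · rw [hb, h1, one_apply]
  · refine fix_of_commute hx hcomm (a := a c) (fun h => hne ((hc _).mp h)) ?_
      (fun h => hb ((hc _).mp h))
    rw [← mul_apply, ← hzc a ha, mul_apply, h1]

theorem invol_fix {A : Subgroup (Perm α)} (hA : Group.IsNilpotent A) {x : Perm α}
    (hx : x.IsCycle) (hxA : x ∈ A) (hodd : Odd x.support.card) {b : Perm α} (hb : b ∈ A)
    (hb2 : orderOf b = 2) {a : α} (ha : x a ≠ a) : b a = a := by
  have hcomm : Commute b x := H77.commute_of_isNilpotent_of_coprime hA hb hxA (by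
    rw [hb2, hx.orderOf]; exact Nat.coprime_two_left.mpr hodd)
  obtain ⟨i, hi⟩ := hx.exists_pow_eq ha (y := b a) (fun h => ha ((fix_iff_of_commute hcomm a).mp h))
  have h1 : (x ^ (2 * i)) a = a := by
    rw [two_mul, pow_add, mul_apply, hi, ← mul_apply, ← (hcomm.pow_right i).eq, mul_apply, hi,
      ← mul_apply, ← pow_two, ← hb2, pow_orderOf_eq_one, one_apply]
  have hon : x.IsCycleOn (x.support : Set α) := by
    convert hx.isCycleOn using 1
    ext; simp
  have ha' : a ∈ x.support := mem_support.mpr ha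
  rw [hon.pow_apply_eq ha'] at h1
  rw [← hi, hon.pow_apply_eq ha']
  exact (Nat.coprime_two_right.mpr hodd).dvd_of_dvd_mul_left h1

omit [Fintype α] [DecidableEq α] in
theorem fix_of_odd {a : Perm α} (ha : Odd (orderOf a)) {c : α} (h : a (a c) = c) : a c = c := by
  obtain ⟨k, hk⟩ := ha
  have h1 : ∀ j : ℕ, (a ^ (2 * j)) c = c := by
    intro j
    induction j with
    | zero => simp
    | succ j ih => rw [mul_add, pow_add, mul_one, pow_two, mul_apply, mul_apply, h, ih]
  have h2 : (a ^ (2 * k + 1)) c = c := by rw [← hk, pow_orderOf_eq_one, one_apply]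
  rwa [pow_succ', mul_apply, h1] at h2

theorem odd_orderOf {G : Type*} [Group G] [Finite G] {A : Subgroup G}
    (h : ∀ b ∈ A, orderOf b ≠ 2) : ∀ a ∈ A, Odd (orderOf a) := by
  intro a ha
  by_contra hodd
  obtain ⟨b, hb, hb2⟩ := H1.exists_mem_orderOf_eq_prime (H := Subgroup.zpowers a) Nat.prime_two
    (by rw [Nat.card_zpowers]; exact (Nat.not_odd_iff_even.mp hodd).two_dvd)
  exact h b (Subgroup.zpowers_le.mpr ha hb) hb2

theorem le_alt {A : Subgroup (Perm α)} (hA : Group.IsNilpotent A) {x : Perm α} (hx : x.IsCycle)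
    (hxA : x ∈ A) (hodd : Odd x.support.card) {c : α} (hc : ∀ b, x b = b ↔ b = c) :
    A ≤ alternatingGroup α := by
  intro a ha
  have h1 := odd_orderOf (A := A) (fun b hb hb2 => by
    have : b = 1 := by
      ext d
      by_cases hd : d = c
      · rw [hd, fix_pt hA hx hxA hc b hb, one_apply]
      · exact invol_fix hA hx hxA hodd hb hb2 fun h => hd ((hc _).mp h)
    simp [this] at hb2) a ha
  rw [mem_alternatingGroup]
  have h2 : sign a ^ orderOf a = 1 := by rw [← map_pow, pow_orderOf_eq_one, map_one]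
  rcases Int.units_eq_one_or (sign a) with h | h
  · exact h
  · rw [h, h1.neg_one_pow] at h2
    exact absurd h2 (by decide)

theorem fix_two {A : Subgroup (Perm α)} (hA : Group.IsNilpotent A) (hAa : A ≤ alternatingGroup α)
    {x : Perm α} (hx : x.IsCycle) (hxA : x ∈ A) (hodd : Odd x.support.card) {c d : α}
    (hcd : c ≠ d) (hc : ∀ b, x b = b ↔ b = c ∨ b = d) : ∀ a ∈ A, a c = c ∧ a d = d := by
  have h1 := odd_orderOf (A := A) (fun b hb hb2 => by
    have hcomm : Commute b x := H77.commute_of_isNilpotent_of_coprime hA hb hxA (by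
      rw [hb2, hx.orderOf]; exact Nat.coprime_two_left.mpr hodd)
    have hfix : ∀ e, e ≠ c → e ≠ d → b e = e := fun e h1 h2 =>
      invol_fix hA hx hxA hodd hb hb2 fun h => ((hc _).mp h).elim h1 h2
    have hbc := (hc _).mp ((fix_iff_of_commute hcomm c).mpr ((hc c).mpr (Or.inl rfl)))
    have hbd := (hc _).mp ((fix_iff_of_commute hcomm d).mpr ((hc d).mpr (Or.inr rfl)))
    rcases hbc with h | h
    · have h' : b d = d := hbd.resolve_left fun h' => hcd (b.injective (h.trans h'.symm))
      have : b = 1 := by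
        ext e
        by_cases he : e = c
        · rw [he, h, one_apply]
        by_cases he' : e = d
        · rw [he', h', one_apply]
        exact hfix e he he'
      simp [this] at hb2
    · have h' : b d = c := hbd.resolve_right fun h' => hcd (b.injective (h.trans h'.symm))
      have : b = swap c d := by
        ext e
        by_cases he : e = c
        · rw [he, h, swap_apply_left]
        by_cases he' : e = d
        · rw [he', h', swap_apply_right]
        rw [hfix e he he', swap_apply_of_ne_of_ne he he']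
      have h2 := mem_alternatingGroup.mp (hAa hb)
      rw [this, sign_swap hcd] at h2
      exact absurd h2 (by decide))
  have key : ∀ a ∈ A, (a c = c ∨ a c = d) → (a d = c ∨ a d = d) → a c = c ∧ a d = d := by
    intro a ha h2 h3
    have h4 : a c = c := by
      rcases h2 with h | h
      · exact h
      · refine fix_of_odd (h1 a ha) ?_
        rw [h]
        exact h3.resolve_right fun h' => hcd (a.injective (h.trans h'.symm))
    exact ⟨h4, h3.resolve_left fun h' => hcd (a.injective (h4.trans h'.symm))⟩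
  obtain ⟨z, hz, hz1, hzc⟩ := H77.exists_mem_center_of_isNilpotent hA
    (fun h => hx.ne_one (by rwa [h, Subgroup.mem_bot] at hxA))
  have hcomm : Commute z x := (hzc x hxA).symm
  obtain ⟨h2, h3⟩ := key z hz
    ((hc _).mp ((fix_iff_of_commute hcomm c).mpr ((hc c).mpr (Or.inl rfl))))
    ((hc _).mp ((fix_iff_of_commute hcomm d).mpr ((hc d).mpr (Or.inr rfl))))
  have h4 : ∀ e, z e = e → e = c ∨ e = d := by
    intro e he
    by_contra hne
    apply hz1
    ext b
    by_cases hb : b = c
    · rw [hb, h2, one_apply]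
    by_cases hb' : b = d
    · rw [hb', h3, one_apply]
    exact fix_of_commute hx hcomm (fun h => hne ((hc _).mp h)) he
      (fun h => ((hc _).mp h).elim hb hb')
  intro a ha
  refine key a ha (h4 _ ?_) (h4 _ ?_)
  · rw [← mul_apply, ← hzc a ha, mul_apply, h2]
  · rw [← mul_apply, ← hzc a ha, mul_apply, h3]

theorem not_mem_conj {A : Subgroup (Perm α)} (hA : Group.IsNilpotent A) {x : Perm α}
    (hx : x.IsCycle) (hxA : x ∈ A) (h4 : 4 ≤ x.support.card) {a : α} (ha : x a ≠ a) :
    swap (x a) (x (x a)) * x * (swap (x a) (x (x a)))⁻¹ ∉ A := by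
  intro hy
  have hon : x.IsCycleOn (x.support : Set α) := by
    convert hx.isCycleOn using 1
    ext; simp
  have ha' : a ∈ x.support := mem_support.mpr ha
  have hne : ∀ i : ℕ, 0 < i → i < 4 → (x ^ i) a ≠ a := fun i h1 h2 h =>
    absurd (Nat.le_of_dvd h1 ((hon.pow_apply_eq ha').mp h)) (by omega)
  have h01 : x a ≠ a := ha
  have h02 : x (x a) ≠ a := hne 2 (by norm_num) (by norm_num)
  have h03 : x (x (x a)) ≠ a := hne 3 (by norm_num) (by norm_num)
  have h12 : x (x a) ≠ x a := fun h => h01 (x.injective h)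
  have h13 : x (x (x a)) ≠ x a := fun h => h02 (x.injective h)
  have h23 : x (x (x a)) ≠ x (x a) := fun h => h12 (x.injective h)
  set b0 := a
  set b1 := x a
  set b2 := x b1
  set b3 := x b2
  have ht : swap b0 b1 * swap b1 b2 ∈ A := by
    have := mul_mem (inv_mem hxA) hy
    convert this using 1
    have h5 : swap b1 b2 = x * swap b0 b1 * x⁻¹ := swap_apply_apply x b0 b1
    rw [swap_inv]
    conv_rhs => rw [h5]
    rw [← h5]
    conv_rhs => enter [2, 1, 1]; rw [h5]
    group
  have ht' : swap b1 b2 * swap b2 b3 ∈ A := by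
    have := mul_mem (mul_mem hxA ht) (inv_mem hxA)
    convert this using 1
    rw [show swap b1 b2 * swap b2 b3 = (x * swap b0 b1 * x⁻¹) * (x * swap b1 b2 * x⁻¹) by
      rw [← swap_apply_apply, ← swap_apply_apply]]
    group
  have hu : swap b0 b1 * swap b2 b3 ∈ A := by
    have := mul_mem ht ht'
    rwa [mul_assoc, ← mul_assoc (swap b1 b2), swap_mul_self, one_mul] at this
  have h3 : orderOf (swap b0 b1 * swap b1 b2) = 3 := by
    rw [swap_comm b0 b1]
    exact (isThreeCycle_swap_mul_swap_same h01 h12.symm h02.symm).orderOf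
  have h2 : orderOf (swap b0 b1 * swap b2 b3) ∣ 2 := by
    rw [orderOf_dvd_iff_pow_eq_one]
    have hd : Commute (swap b0 b1) (swap b2 b3) := by
      apply Disjoint.commute
      apply disjoint_swap_swap
      simp [h01.symm, h02.symm, h03.symm, h12.symm, h13.symm, h23.symm]
    rw [hd.mul_pow, pow_two, pow_two, swap_mul_self, swap_mul_self, one_mul]
  have hc := H77.commute_of_isNilpotent_of_coprime hA hu ht (by
    rw [h3]; exact Nat.Coprime.coprime_dvd_left h2 (by norm_num))
  have := congrArg (fun f : Perm α => f b0) hc.eq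
  simp [swap_apply_def, h01, h02, h03, h12, h13, h23, h01.symm, h02.symm, h03.symm, h12.symm,
    h13.symm, h23.symm] at this

theorem exists_pair (h5 : 5 ≤ Fintype.card α) (c : α) : ∃ x y : Perm α,
    sign x = (-1) ^ Fintype.card α ∧ sign y = (-1) ^ Fintype.card α ∧
    (∀ A : Subgroup (Perm α), Group.IsNilpotent A → x ∈ A → ∀ a ∈ A, a c = c) ∧
    (∀ A : Subgroup (Perm α), Group.IsNilpotent A → y ∈ A → ∀ a ∈ A, a c = c) ∧
    ∀ A : Subgroup (Perm α), Group.IsNilpotent A → x ∈ A → y ∉ A := by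
  have hcard : ({c}ᶜ : Finset α).card = Fintype.card α - 1 := by
    rw [Finset.card_compl, Finset.card_singleton]
  obtain ⟨x, hx, hs⟩ := exists_cycle ({c}ᶜ : Finset α) (by omega)
  have hc : ∀ b, x b = b ↔ b = c := fun b => by
    rw [← notMem_support, hs]; simp
  obtain ⟨a, ha, -⟩ := id hx
  have hsx : sign x = (-1) ^ Fintype.card α := by
    rw [hx.sign, hs, hcard]
    obtain ⟨m, hm⟩ : ∃ m, Fintype.card α = m + 1 := ⟨Fintype.card α - 1, by omega⟩
    rw [hm, pow_succ]
    simp
  refine ⟨x, swap (x a) (x (x a)) * x * (swap (x a) (x (x a)))⁻¹, hsx, ?_,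
    fun A hA hxA => fix_pt hA hx hxA hc, fun A hA hyA => fix_pt hA hx.conj hyA fun b => ?_,
    fun A hA hxA => not_mem_conj hA hx hxA (by rw [hs]; omega) ha⟩
  · rw [map_mul, map_mul, map_inv, mul_right_comm, mul_inv_cancel, one_mul, hsx]
  · have h1 : x a ≠ c := fun h => ha (x.injective ((hc _).mpr h))
    have h2 : x (x a) ≠ c := fun h => ha (x.injective (x.injective ((hc _).mpr h)))
    rw [swap_inv, mul_apply, mul_apply, swap_apply_eq_iff, hc, swap_apply_eq_iff,
      swap_apply_of_ne_of_ne h1.symm h2.symm]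

theorem exists_even_move (h3 : 3 ≤ Fintype.card α) (c : α) :
    ∃ g ∈ alternatingGroup α, g c ≠ c := by
  obtain ⟨s, hs, -, hs'⟩ := Finset.exists_subsuperset_card_eq (Finset.subset_univ {c})
    (n := 3) (by simp) h3
  obtain ⟨x, hx, hxs⟩ := exists_cycle s (by omega)
  refine ⟨x, ?_, ?_⟩
  · rw [mem_alternatingGroup, hx.sign, hxs, hs']
    decide
  · rw [← mem_support, hxs]
    exact hs (Finset.mem_singleton_self c)

end

/-- A cover of a group is a finite set of proper subgroups whose union is the whole group; it is minimal when no cover has fewer members, and nilpotent when all its members are nilpotent. The alternating groups of degree at least 5 and the symmetric groups of degree at least 4 have no nilpotent minimal cover. -/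
theorem result (n : ℕ) :
    (5 ≤ n → ¬ ∃ 𝓐 : Finset (Subgroup ↥(alternatingGroup (Fin n))), ((∀ A ∈ 𝓐, A ≠ ⊤) ∧ (∀ g : ↥(alternatingGroup (Fin n)), ∃ A ∈ 𝓐, g ∈ A)) ∧ (∀ 𝓑 : Finset (Subgroup ↥(alternatingGroup (Fin n))), (∀ A ∈ 𝓑, A ≠ ⊤) ∧ (∀ g : ↥(alternatingGroup (Fin n)), ∃ A ∈ 𝓑, g ∈ A) → 𝓐.card ≤ 𝓑.card) ∧ (∀ A ∈ 𝓐, Group.IsNilpotent ↥A)) ∧
    (4 ≤ n → ¬ ∃ 𝓐 : Finset (Subgroup (Equiv.Perm (Fin n))), ((∀ A ∈ 𝓐, A ≠ ⊤) ∧ (∀ g : (Equiv.Perm (Fin n)), ∃ A ∈ 𝓐, g ∈ A)) ∧ (∀ 𝓑 : Finset (Subgroup (Equiv.Perm (Fin n))), (∀ A ∈ 𝓑, A ≠ ⊤) ∧ (∀ g : (Equiv.Perm (Fin n)), ∃ A ∈ 𝓑, g ∈ A) → 𝓐.card ≤ 𝓑.card) ∧ (∀ A ∈ 𝓐, Group.IsNilpotent ↥A)) := by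
  constructor
  · intro hn
    let c : Fin n := ⟨0, by omega⟩
    have hM : (MulAction.stabilizer (Perm (Fin n)) c).subgroupOf (alternatingGroup (Fin n)) ≠ ⊤ := by
      obtain ⟨g, hg, hgc⟩ := exists_even_move (α := Fin n) (by simp; omega) c
      intro h
      have : (⟨g, hg⟩ : alternatingGroup (Fin n)) ∈ (MulAction.stabilizer (Perm (Fin n)) c).subgroupOf
        (alternatingGroup (Fin n)) := h ▸ Subgroup.mem_top _
      exact hgc this
    rcases Nat.even_or_odd n with he | ho
    · obtain ⟨x, y, hx, hy, h1, h2, h3⟩ := exists_pair (α := Fin n) (by simpa using hn) c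
      rw [Fintype.card_fin, he.neg_one_pow] at hx hy
      exact H77.no_nilpotent_cover_pair (⟨x, hx⟩ : alternatingGroup (Fin n)) ⟨y, hy⟩ _ hM
        (fun A hA hxA a ha => h1 _ (H1.isNilpotent_map hA (Subgroup.subtype _)) ⟨_, hxA, rfl⟩ a
          ⟨_, ha, rfl⟩)
        (fun A hA hxA a ha => h2 _ (H1.isNilpotent_map hA (Subgroup.subtype _)) ⟨_, hxA, rfl⟩ a
          ⟨_, ha, rfl⟩)
        (fun A hA hxA hyA => h3 _ (H1.isNilpotent_map hA (Subgroup.subtype _)) ⟨_, hxA, rfl⟩
          ⟨_, hyA, rfl⟩)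
    · have key : ∀ d : Fin n, c ≠ d → ∃ x : alternatingGroup (Fin n),
          (∀ b, b ≠ c → b ≠ d → (x : Perm (Fin n)) b ≠ b) ∧
          ∀ A : Subgroup (alternatingGroup (Fin n)), Group.IsNilpotent A → x ∈ A →
            ∀ a ∈ A, (a : Perm (Fin n)) c = c ∧ (a : Perm (Fin n)) d = d := by
        intro d hcd
        have hcard : ({c, d}ᶜ : Finset (Fin n)).card = n - 2 := by
          rw [Finset.card_compl, Finset.card_pair hcd, Fintype.card_fin]
        obtain ⟨x, hx, hs⟩ := exists_cycle ({c, d}ᶜ : Finset (Fin n)) (by omega)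
        have hc : ∀ b, x b = b ↔ b = c ∨ b = d := fun b => by
          rw [← notMem_support, hs]; simp only [Finset.mem_compl, not_not]; simp
        have hodd : Odd x.support.card := by
          rw [hs, hcard]
          obtain ⟨k, hk⟩ := ho
          exact ⟨k - 1, by omega⟩
        refine ⟨⟨x, ?_⟩, fun b h1 h2 h => ((hc b).mp h).elim h1 h2, fun A hA hxA a ha =>
          fix_two (H1.isNilpotent_map hA (Subgroup.subtype _)) (Subgroup.map_subtype_le _) hx
            ⟨_, hxA, rfl⟩ hodd hcd hc a ⟨_, ha, rfl⟩⟩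
        rw [mem_alternatingGroup, hx.sign, hodd.neg_one_pow, neg_neg]
      obtain ⟨x, -, hx⟩ := key ⟨1, by omega⟩ (by simp [c, Fin.ext_iff])
      obtain ⟨y, hy', hy⟩ := key ⟨2, by omega⟩ (by simp [c, Fin.ext_iff])
      exact H77.no_nilpotent_cover_pair x y _ hM (fun A hA hxA a ha => (hx A hA hxA a ha).1)
        (fun A hA hyA a ha => (hy A hA hyA a ha).1)
        (fun A hA hxA hyA => hy' _ (by simp [c, Fin.ext_iff]) (by simp [Fin.ext_iff])
          (hx A hA hxA y hyA).2)
  · intro hn
    let c : Fin n := ⟨0, by omega⟩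
    by_cases h4 : n = 4
    · have key : ∀ d : Fin n, ∃ x : Perm (Fin n), (∀ b, x b = b ↔ b = d) ∧
          ∀ A : Subgroup (Perm (Fin n)), Group.IsNilpotent A → x ∈ A →
            A ≤ alternatingGroup (Fin n) ∧ ∀ a ∈ A, a d = d := by
        intro d
        have hcard : ({d}ᶜ : Finset (Fin n)).card = 3 := by
          rw [Finset.card_compl, Finset.card_singleton, Fintype.card_fin, h4]
        obtain ⟨x, hx, hs⟩ := exists_cycle ({d}ᶜ : Finset (Fin n)) (by omega)
        have hc : ∀ b, x b = b ↔ b = d := fun b => by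
          rw [← notMem_support, hs]; simp
        exact ⟨x, hc, fun A hA hxA => ⟨le_alt hA hx hxA (by rw [hs, hcard]; decide) hc,
          fix_pt hA hx hxA hc⟩⟩
      obtain ⟨x, -, hx⟩ := key c
      obtain ⟨y, hy', hy⟩ := key ⟨1, by omega⟩
      refine H77.no_nilpotent_cover_pair x y (alternatingGroup (Fin n)) (fun h => ?_)
        (fun A hA hxA => (hx A hA hxA).1) (fun A hA hyA => (hy A hA hyA).1)
        (fun A hA hxA hyA => ?_)
      · have h1 : c ≠ ⟨1, by omega⟩ := by simp [c, Fin.ext_iff]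
        have : swap c ⟨1, by omega⟩ ∈ alternatingGroup (Fin n) := h ▸ Subgroup.mem_top _
        rw [mem_alternatingGroup, sign_swap h1] at this
        exact absurd this (by decide)
      · have := (hy' c).mp ((hx A hA hxA).2 y hyA)
        simp [c, Fin.ext_iff] at this
    · obtain ⟨x, y, -, -, h1, h2, h3⟩ := exists_pair (α := Fin n) (by simp; omega) c
      refine H77.no_nilpotent_cover_pair x y (MulAction.stabilizer (Perm (Fin n)) c) (fun h => ?_)
        (fun A hA hxA a ha => h1 A hA hxA a ha) (fun A hA hxA a ha => h2 A hA hxA a ha) h3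
      obtain ⟨g, -, hgc⟩ := exists_even_move (α := Fin n) (by simp; omega) c
      have : g ∈ MulAction.stabilizer (Perm (Fin n)) c := h ▸ Subgroup.mem_top _
      exact hgc this

end Cfsg.Agent.S3892
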