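import Cfsg.Statements.S3893
import Cfsg.Agent.Lib.Suzuki.Partition
import Cfsg.Agent.Lib.Suzuki.LieModel

set_option autoImplicit false
open Cfsg

namespace Cfsg.Agent.S3893

/-- A cover of a group is a finite set of proper subgroups whose union is the whole group; it is minimal when no cover has fewer members, and nilpotent when all its members are nilpotent. The Suzuki groups Sz(q), q = 2^(2m+1) with m ≥ 1, have no nilpotent minimal cover. -/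
theorem result {F : Type*} [Field F] [Fintype F] (m : ℕ) (hm : 1 ≤ m) (hF : Fintype.card F = 2 ^ (2 * m + 1)) :
    ¬ ∃ 𝓐 : Finset (Subgroup ↥(Cfsg.Lie.Sz F (2 ^ (m + 1)))), ((∀ A ∈ 𝓐, A ≠ ⊤) ∧ (∀ g : ↥(Cfsg.Lie.Sz F (2 ^ (m + 1))), ∃ A ∈ 𝓐, g ∈ A)) ∧ (∀ 𝓑 : Finset (Subgroup ↥(Cfsg.Lie.Sz F (2 ^ (m + 1)))), (∀ A ∈ 𝓑, A ≠ ⊤) ∧ (∀ g : ↥(Cfsg.Lie.Sz F (2 ^ (m + 1))), ∃ A ∈ 𝓑, g ∈ A) → 𝓐.card ≤ 𝓑.card) ∧ (∀ A ∈ 𝓐, Group.IsNilpotent ↥A) := by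
  classical
  haveI : H14.Sz.SzF F m := ⟨hm, hF⟩
  let S := H14.Sz.lieModel F m
  rintro ⟨𝓐, ⟨h1, h2⟩, h3, h4⟩
  obtain ⟨k, hk⟩ := H14.Sz.exists_unit_ne_one F
  have hk1 : S.h k ≠ 1 := fun h => hk (S.h_eq_one.1 h)
  have hu1 : S.u 0 1 ≠ 1 := fun h => one_ne_zero (S.u_eq_one.1 h).2
  obtain ⟨A, hA, hAu⟩ := h2 (S.u 0 1)
  obtain ⟨A', hA', hAh⟩ := h2 (S.h k)
  haveI := h4 A hA
  haveI := h4 A' hA'
  have e1 := S.le_U_of_nilpotent hAu (S.u_mem_U 0 1) hu1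
  have e2 := S.le_H_of_nilpotent hAh (S.h_mem_H k) hk1
  have hne : A' ≠ A := by
    rintro rfl
    exact hk (S.h_mem_U (e1 hAh))
  have h5 := h3 (insert S.B ((𝓐.erase A).erase A')) ⟨?_, ?_⟩
  · have h6 := Finset.card_insert_le S.B ((𝓐.erase A).erase A')
    rw [Finset.card_erase_of_mem (Finset.mem_erase.2 ⟨hne, hA'⟩), Finset.card_erase_of_mem hA] at h6
    have h7 : 1 < 𝓐.card := Finset.one_lt_card.2 ⟨A', hA', A, hA, hne⟩
    omega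
  · intro C hC
    rcases Finset.mem_insert.1 hC with rfl | hC
    · exact S.B_ne_top
    · exact h1 C (Finset.mem_of_mem_erase (Finset.mem_of_mem_erase hC))
  · intro g
    obtain ⟨C, hC, hg⟩ := h2 g
    by_cases c1 : C = A
    · subst c1
      exact ⟨S.B, Finset.mem_insert_self _ _, S.U_le_B (e1 hg)⟩
    by_cases c2 : C = A'
    · subst c2
      exact ⟨S.B, Finset.mem_insert_self _ _, S.H_le_B (e2 hg)⟩
    exact ⟨C, Finset.mem_insert_of_mem (Finset.mem_erase.2 ⟨c2, Finset.mem_erase.2 ⟨c1, hC⟩⟩), hg⟩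

end Cfsg.Agent.S3893
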