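import Mathlib
import Cfsg.Statements.S3900
import Mathlib
import Cfsg.Agent.Base
import Cfsg.Agent.Lib.FGS.ComVal
import Cfsg.Agent.Lib.FGS.NilpCover
import Cfsg.Agent.S0200
import Cfsg.Agent.S0205
-- import your own Cfsg.Agent.* helpers here

set_option autoImplicit false
open Cfsg

namespace Cfsg.Agent.S3900

open Subgroup H76.CV
open scoped Pointwise commutatorElement

def Hyp (k : ℕ) (G : Type*) [Group G] : Prop :=
  ∀ x y : G, Val k x → Val k y → (orderOf x).Coprime (orderOf y) →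
    (∀ r : ℕ, r.Prime → r ∣ orderOf x * orderOf y → r ∣ orderOf (x * y)) ∨
      orderOf x * orderOf y ≤ orderOf (x * y)

section
variable {k : ℕ} {G : Type*} [Group G]

theorem Hyp.sub (h : Hyp k G) (L : Subgroup G) : Hyp k L := by
  intro x y hx hy hc
  have := h x y (hx.map L.subtype) (hy.map L.subtype) (by simpa using hc)
  simpa only [← coe_mul, orderOf_coe] using this

variable [Finite G]

theorem Hyp.comm (h : Hyp k G) {x y : G} (hx : Val k x)
    (hc : (orderOf ⁅x, y⁆).Coprime (orderOf x)) : Commute x y := by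
  have h1 : orderOf (y * x * y⁻¹) = orderOf x := (MulAut.conj y).orderOf_eq x
  have h2 : ⁅x, y⁆ * (y * x * y⁻¹) = x := by rw [commutatorElement_def]; group
  rw [← commutatorElement_eq_one_iff_commute, ← orderOf_eq_one_iff]
  rcases h ⁅x, y⁆ (y * x * y⁻¹) (Val.mono ⟨x, y, hx, rfl⟩) (hx.conj y) (h1 ▸ hc) with h3 | h3
  · rw [h2, h1] at h3
    by_contra h4
    obtain ⟨r, hr, hd⟩ := Nat.exists_prime_and_dvd h4
    exact hr.ne_one (Nat.eq_one_of_dvd_coprimes hc hd (h3 r hr (hd.mul_right _)))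
  · rw [h2, h1] at h3
    have := orderOf_pos x
    have := orderOf_pos ⁅x, y⁆
    nlinarith

theorem Hyp.comm' (h : Hyp k G) {x y : G} (hx : Val k x) {p q : ℕ} (hp : p.Prime) (hq : q.Prime)
    (hqp : q ≠ p) (hxp : ∃ n, orderOf x = p ^ n) (hc : ∃ n, ⁅x, y⁆ ^ q ^ n = 1) : Commute x y := by
  obtain ⟨n, hn⟩ := hxp
  obtain ⟨m, hm⟩ := hc
  refine h.comm hx ?_
  rw [hn]
  exact Nat.Coprime.coprime_dvd_left (orderOf_dvd_of_pow_eq_one hm)
    (Nat.coprime_pow_primes m n hq hp hqp)

omit [Finite G] in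
theorem comm_mem' {N : Subgroup G} [hN : N.Normal] (x : G) {y : G} (hy : y ∈ N) : ⁅x, y⁆ ∈ N := by
  rw [commutatorElement_def]
  exact mul_mem (hN.conj_mem y hy x) (inv_mem hy)

omit [Finite G] in
theorem pelt {p : ℕ} [Fact p.Prime] {Q : Subgroup G} (hQ : IsPGroup p Q) {x : G} (hx : x ∈ Q) :
    ∃ n, orderOf x = p ^ n := by
  obtain ⟨n, hn⟩ := IsPGroup.iff_orderOf.1 hQ ⟨x, hx⟩
  exact ⟨n, by rw [← hn, orderOf_mk]⟩

theorem solv (h : Hyp k G) [Group.IsSolvable G] :
    Group.IsNilpotent ((⊤ : Subgroup G).lowerCentralSeries k) := by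
  let φ := QuotientGroup.mk' (fittingSubgroup G)
  have hA : ∀ q : ℕ, q.Prime → ∀ x, Val k x → (∃ n, orderOf x = q ^ n) →
      φ x ∈ pCore q (G ⧸ fittingSubgroup G) → φ x = 1 := by
    intro q hq x hx hxq hm
    have := Fact.mk hq
    refine (QuotientGroup.eq_one_iff _).2 (mem_fitting (p := q) (K := (pCore q _).comap φ)
      (fun g hg => ?_) hm fun r hr hrq y hy => h.comm' hx hq hr hrq hxq ?_)
    · obtain ⟨n, hn⟩ := H1.isPGroup_pCore (p := q) ⟨_, hg⟩
      exact ⟨n, (QuotientGroup.eq_one_iff _).1 (congrArg Subtype.val hn)⟩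
    · obtain ⟨n, hn⟩ := H1.isPGroup_pCore (p := r) ⟨_, comm_mem' x hy⟩
      exact ⟨n, congrArg Subtype.val hn⟩
  have hX : Group.IsNilpotent (G ⧸ fittingSubgroup G) := isNilpotent_of_commute (by
    intro p q hp hq hqp a ha y hy
    have := Fact.mk hq
    have hn : a ∈ normalizer (pCore q (G ⧸ fittingSubgroup G) : Set _) := by
      rw [normalizer_eq_top]; trivial
    obtain ⟨Q, hQ, hm, a', ha', rfl, -⟩ := lift_norm φ (QuotientGroup.mk'_surjective _) hp
      (H1.isPGroup_pCore (p := q)) hn ha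
    obtain ⟨y', hy', rfl⟩ : y ∈ Q.map φ := hm ▸ hy
    have h1 := hA q hq _ (val_E a' k y') (pelt hQ (E_mem ha' k hy'))
      (hm ▸ mem_map_of_mem φ (E_mem ha' k hy'))
    rw [map_E] at h1
    obtain ⟨n, hn'⟩ := ha
    obtain ⟨m, hm'⟩ := (H1.isPGroup_pCore (p := q) (G := G ⧸ fittingSubgroup G)).exists_card_eq
    exact (commute_of_E hn (by rw [hn', hm']; exact Nat.coprime_pow_primes n m hp hq hqp.symm)
      k hy h1).symm)
  refine H1.isNilpotent_of_le_fitting (lcs_le k _ fun x hx => (QuotientGroup.eq_one_iff _).1 ?_)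
  change φ x = 1
  rw [← orderOf_eq_one_iff]
  by_contra h1
  obtain ⟨p, hp, hd⟩ := Nat.exists_prime_and_dvd h1
  have := Fact.mk hp
  obtain ⟨P⟩ : Nonempty (Sylow p G) := inferInstance
  have := H4.pResidual_normal p (G ⧸ fittingSubgroup G)
  let ψ := (QuotientGroup.mk' (pResidual p (G ⧸ fittingSubgroup G))).comp φ
  have hs : Function.Surjective ψ :=
    (QuotientGroup.mk'_surjective _).comp (QuotientGroup.mk'_surjective _)
  obtain ⟨x', h2, h3, h4⟩ := hx.lift ψ P
    ((P.mapSurjective hs).is_maximal' (H4.isPGroup_quotient_pResidual.to_subgroup ⊤) le_top).symm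
  have h5 := hA p hp x' h3 (pelt P.2 h2) (H1.le_pCore_of_le_fitting (P.2.map φ)
    (by rw [H1.fitting_eq_top_iff.2 hX]; exact le_top) (mem_map_of_mem φ h2))
  have h6 : φ x ∈ pResidual p (G ⧸ fittingSubgroup G) := (QuotientGroup.eq_one_iff _).1 (by
    change ψ x = 1
    rw [← h4, MonoidHom.comp_apply, h5, map_one])
  exact hp.ne_one (Nat.eq_one_of_dvd_coprimes
    ((H4.mem_pResidual_iff_of_hasNormalPComplement H4.hasNormalPComplement_of_isNilpotent).1 h6)
    hd dvd_rfl)

omit [Finite G] in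
theorem solv_of (h : Group.IsNilpotent ((⊤ : Subgroup G).lowerCentralSeries k)) :
    Group.IsSolvable G := by
  refine H1.isSolvable_of_normal_of_quotient ((⊤ : Subgroup G).lowerCentralSeries k)
    inferInstance ?_
  have : Group.IsNilpotent (G ⧸ (⊤ : Subgroup G).lowerCentralSeries k) :=
    Subgroup.nilpotent_iff_lowerCentralSeries.2 ⟨k, by
      rw [← map_top_of_surjective _ (QuotientGroup.mk'_surjective _), ← map_lowerCentralSeries,
        Subgroup.map_eq_bot_iff, QuotientGroup.ker_mk']⟩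
  infer_instance

universe u

theorem aux (n : ℕ) : ∀ (G : Type u) [Group G] [Finite G], Nat.card G = n → Hyp k G →
    Group.IsNilpotent ((⊤ : Subgroup G).lowerCentralSeries k) := by
  induction n using Nat.strong_induction_on with
  | _ n ih =>
  intro G _ _ hn h
  by_cases hs : Group.IsSolvable G
  · exact solv h
  exfalso
  have hsub : ∀ L : Subgroup G, L ≠ ⊤ → Group.IsNilpotent ((⊤ : Subgroup L).lowerCentralSeries k) :=
    fun L hL => ih _ (hn ▸ H3.card_lt_of_ne_top L hL) L rfl (h.sub L)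
  have : Nontrivial G := by
    by_contra h0
    have := not_nontrivial_iff_subsingleton.1 h0
    exact hs inferInstance
  obtain ⟨R, hR, hRt, -, hmax⟩ := H3.exists_maximal_normal_ge (⊥ : Subgroup G) bot_ne_top
  have := H3.isSimpleGroup_quotient_of_maximal_normal R hRt hmax
  have hXs : ¬ Group.IsSolvable (G ⧸ R) := fun h1 =>
    hs (H1.isSolvable_of_normal_of_quotient R (solv_of (hsub R hRt)) h1)
  have hna : ¬ IsMulCommutative (G ⧸ R) := fun h1 =>
    hXs (have := H1.isNilpotent_of_isMulCommutative (h := h1); inferInstance)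
  obtain ⟨A, hA, p, hp, hp2, a, ha, hap, y, hy, hya⟩ := exists_elem_two hna (by
    by_contra h2
    exact hXs (Cfsg.Agent.S0205.result (Nat.odd_iff.2 (by omega))))
  have hA2 : IsPGroup 2 A := fun z => ⟨1, Subtype.ext (hA z z.2)⟩
  let φ := QuotientGroup.mk' R
  obtain ⟨Q, hQ, hm, a', ha', rfl, -⟩ := lift_norm φ (QuotientGroup.mk'_surjective _) hp hA2 ha hap
  obtain ⟨y', hy', rfl⟩ : y ∈ Q.map φ := hm ▸ hy
  have hx1 : φ (E a' k y') ≠ 1 := by
    intro h1
    rw [map_E] at h1
    obtain ⟨n, hn'⟩ := hap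
    obtain ⟨m, hm'⟩ := hA2.exists_card_eq
    exact hya (commute_of_E ha
      (by rw [hn', hm']; exact Nat.coprime_pow_primes n m hp Nat.prime_two hp2) k hy h1)
  have hx2 : orderOf (φ (E a' k y')) = 2 :=
    orderOf_eq_prime (hA _ (hm ▸ mem_map_of_mem φ (E_mem ha' k hy'))) hx1
  have hxv := val_E a' k y'
  have hxp := pelt hQ (E_mem ha' k hy')
  generalize E a' k y' = x at hx1 hx2 hxv hxp
  obtain ⟨b0, hb0, hodd, hinv0⟩ := Cfsg.Agent.S0200.result (φ x) hx2 fun N hN hN2 hxN => by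
    rcases hN.eq_bot_or_eq_top with rfl | rfl
    · exact hx1 hxN
    · exact hXs (H1.isSolvable_of_isPGroup (hN2.of_equiv topEquiv))
  obtain ⟨r, hr, hrd⟩ := Nat.exists_prime_and_dvd (mt orderOf_eq_one_iff.1 hb0)
  have hb : orderOf (b0 ^ (orderOf b0 / r)) = r := orderOf_pow_orderOf_div (orderOf_pos _).ne' hrd
  have hinv : φ x * b0 ^ (orderOf b0 / r) * (φ x)⁻¹ = (b0 ^ (orderOf b0 / r))⁻¹ := by
    rw [← conj_pow, hinv0, inv_pow]
  have hro : Odd r := hodd.of_dvd_nat hrd
  generalize b0 ^ (orderOf b0 / r) = b at hb hinv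
  have := Fact.mk hr
  let L := (normalizer (zpowers b : Set (G ⧸ R))).comap φ
  have hL : L ≠ ⊤ := by
    intro h1
    have h2 : normalizer (zpowers b : Set (G ⧸ R)) = ⊤ :=
      comap_injective (QuotientGroup.mk'_surjective R) (h1.trans (comap_top _).symm)
    rcases (normalizer_eq_top_iff.1 h2).eq_bot_or_eq_top with h3 | h3
    · rw [zpowers_eq_bot.1 h3, orderOf_one] at hb
      exact hr.ne_one hb.symm
    · exact hna ⟨⟨fun u v => congrArg Subtype.val ((inferInstance : IsMulCommutative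
        (zpowers b)).is_comm.comm ⟨u, h3 ▸ mem_top u⟩ ⟨v, h3 ▸ mem_top v⟩)⟩⟩
  have hinv' : ∀ w ∈ zpowers b, φ x * w * (φ x)⁻¹ = w⁻¹ := by
    rintro _ ⟨j, rfl⟩
    rw [← conj_zpow, hinv, inv_zpow]
  have hxL : x ∈ L := mem_normalizer_fintype fun w hw => hinv' w hw ▸ inv_mem hw
  have hH : ∀ j : ℕ, ∀ w ∈ zpowers b, ∃ g ∈ (⊤ : Subgroup L).lowerCentralSeries j, φ g = w := by
    intro j
    induction j with
    | zero =>
      intro w hw
      obtain ⟨g, rfl⟩ := QuotientGroup.mk'_surjective R w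
      exact ⟨⟨g, le_normalizer hw⟩, mem_top _, rfl⟩
    | succ j ihj =>
      intro w hw
      obtain ⟨m, hm⟩ := hro
      obtain ⟨g, h1, h2⟩ := ihj _ (pow_mem hw (m + 1))
      refine ⟨⁅g, ⟨x, hxL⟩⁆, commutator_mem_commutator h1 (mem_top _), ?_⟩
      have h3 : w ^ r = 1 := orderOf_dvd_iff_pow_eq_one.1 (hb ▸ orderOf_dvd_of_mem_zpowers hw)
      change φ (g * x * (g : G)⁻¹ * x⁻¹) = w
      rw [map_mul, map_mul, map_mul, map_inv, map_inv, h2, mul_assoc, mul_assoc, ← mul_assoc (φ x),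
        hinv' _ (inv_mem (pow_mem hw _)), inv_inv, ← pow_add,
        show m + 1 + (m + 1) = r + 1 by omega, pow_succ, h3, one_mul]
  obtain ⟨g, h1, h2⟩ := hH k b (mem_zpowers b)
  obtain ⟨n, h3, h4⟩ := exists_pow_lift (φ.comp L.subtype) hr (y := g) ⟨1, by
    rw [pow_one, ← hb, ← h2]; rfl⟩
  have h5 : g ^ n ∈ pCore r L := by
    obtain ⟨i, hi⟩ := h4
    exact H1.le_pCore_of_le_fitting (IsPGroup.of_card (by rw [Nat.card_zpowers, hi]))
      ((zpowers_le.2 (pow_mem h1 n)).trans (H1.le_fitting (hsub L hL))) (mem_zpowers _)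
  have h6 := h.comm' (y := (g ^ n : L)) hxv Nat.prime_two hr (by rintro rfl; exact absurd hro (by decide))
    hxp (by
      obtain ⟨i, hi⟩ := H1.isPGroup_pCore (p := r) ⟨_, comm_mem' (⟨x, hxL⟩ : L) h5⟩
      exact ⟨i, congrArg (fun z : pCore r L => ((z : L) : G)) hi⟩)
  have h7 : Commute (φ x) b := by
    have := h6.map φ
    rwa [show φ (g ^ n : L) = b from h3.trans h2] at this
  rw [h7.eq, mul_inv_cancel_right, eq_inv_iff_mul_eq_one, ← pow_two] at hinv
  have := orderOf_dvd_of_pow_eq_one hinv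
  rw [hb, Nat.prime_dvd_prime_iff_eq hr Nat.prime_two] at this
  subst this
  exact absurd hro (by decide)

end

/-- A criterion of Baumslag–Wiegold type for a term of the lower central series. Let G be a finite group and k ≥ 0; call an element a left-normed commutator value of length k + 1 when it has the form [[…[x₀, x₁], …], x_k] with k + 1 entries (for k = 0, any element), where [a, b] = aba⁻¹b⁻¹. Then the (k+1)-st term γ_{k+1}(G) of the lower central series (γ₁(G) = G) is nilpotent if and only if for every two such values x, y of coprime orders, either every prime dividing o(x)·o(y) divides o(xy), or o(x)·o(y) ≤ o(xy). -/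
theorem result {G : Type*} [Group G] [Finite G] (k : ℕ) :
    Group.IsNilpotent ↥((⊤ : Subgroup G).lowerCentralSeries k) ↔
      ∀ x y : G, (∃ f : Fin (k + 1) → G, x = ((List.ofFn f).tail).foldl (fun a b => a * b * a⁻¹ * b⁻¹) (f 0)) → (∃ f : Fin (k + 1) → G, y = ((List.ofFn f).tail).foldl (fun a b => a * b * a⁻¹ * b⁻¹) (f 0)) → (orderOf x).Coprime (orderOf y) →
        (∀ r : ℕ, r.Prime → r ∣ orderOf x * orderOf y → r ∣ orderOf (x * y)) ∨ orderOf x * orderOf y ≤ orderOf (x * y) := by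
  constructor
  · intro h x y hx hy hc
    right
    rw [(H77.commute_of_isNilpotent_of_coprime h ((val_iff k x).2 hx).mem ((val_iff k y).2 hy).mem
      hc).orderOf_mul_eq_mul_orderOf_of_coprime hc]
  · intro h
    exact aux _ G rfl fun x y hx hy hc => h x y ((val_iff k x).1 hx) ((val_iff k y).1 hy) hc

end Cfsg.Agent.S3900
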