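import Mathlib
import Cfsg.Statements.S3901
import Cfsg.Agent.S0144
import Cfsg.Agent.S0205
import Cfsg.Agent.Lib.Wielandt.FixPoint
import Cfsg.Agent.Lib.Inv73.Basic
import Cfsg.Agent.Lib.LocEven.Basic
import Cfsg.Agent.Lib.Core.GrpBasic

set_option autoImplicit false
open Cfsg

namespace Cfsg.Agent.S3901

open Subgroup H68

universe u v

theorem not_pp {G : Type*} [Group G] [Finite G] {x y : G} (hc : Commute x y)
    (hco : (orderOf x).Coprime (orderOf y)) (hx : x ≠ 1) (hy : y ≠ 1) :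
    ¬ IsPrimePow (orderOf (x * y)) := by
  rw [hc.orderOf_mul_eq_mul_orderOf_of_coprime hco]
  intro h
  have h1 : 0 < orderOf x := orderOf_pos x
  have h2 : 0 < orderOf y := orderOf_pos y
  rcases (hco.isPrimePow_dvd_mul h).1 dvd_rfl with e | e
  · have := Nat.le_of_dvd h1 e
    have : orderOf y = 1 := by nlinarith
    exact hy (orderOf_eq_one_iff.1 this)
  · have := Nat.le_of_dvd h2 e
    have : orderOf x = 1 := by nlinarith
    exact hx (orderOf_eq_one_iff.1 this)

theorem pp_map {G H : Type*} [Group G] [Group H] (f : G →* H) {x : G}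
    (h : IsPrimePow (orderOf x)) (hx : f x ≠ 1) : IsPrimePow (orderOf (f x)) :=
  h.dvd (orderOf_map_dvd f x) (fun e => hx (orderOf_eq_one_iff.1 e))

theorem coprime_of_pow {G : Type*} [Group G] {x y : G} {p q a b : ℕ} (hpq : p.Coprime q)
    (hx : x ^ p ^ a = 1) (hy : y ^ q ^ b = 1) : (orderOf x).Coprime (orderOf y) :=
  Nat.Coprime.coprime_dvd_left (orderOf_dvd_of_pow_eq_one hx)
    (Nat.Coprime.coprime_dvd_right (orderOf_dvd_of_pow_eq_one hy) (Nat.Coprime.pow a b hpq))

theorem exists_third {Q : Type*} [Group Q] [Finite Q] (hQ : ¬ Group.IsSolvable Q) {q : ℕ}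
    (hq : q.Prime) : ∃ r : ℕ, r.Prime ∧ r ∣ Nat.card Q ∧ r ≠ 2 ∧ r ≠ q := by
  by_contra hno
  push Not at hno
  have h0 : Nat.card Q ≠ 0 := Nat.card_pos.ne'
  obtain ⟨a, m, hm, e⟩ := Nat.exists_eq_pow_mul_and_not_dvd h0 2 (by norm_num)
  have hm0 : m ≠ 0 := by rintro rfl; simp at hm
  have : m = q ^ m.primeFactorsList.length := Nat.eq_prime_pow_of_unique_prime_dvd hm0 (by
    intro d hd hdm
    refine hno d hd (hdm.trans (e ▸ dvd_mul_left _ _)) ?_
    rintro rfl
    exact hm hdm)
  exact hQ (Cfsg.Agent.S0144.result 2 q a _ Nat.prime_two hq (by rw [e, ← this]))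

theorem main {Q : Type v} [Group Q] [Finite Q] (hQ : ¬ Group.IsSolvable Q) (n : ℕ) :
    ∀ (G : Type u) [Group G] [Finite G], Nat.card G = n → ∀ f : G →* Q, Function.Surjective f →
      (∀ x, f x ≠ 1 → IsPrimePow (orderOf x)) → IsPGroup 2 f.ker := by
  induction n using Nat.strong_induction_on with
  | _ n ih =>
  intro G _ _ hn f hf h
  by_contra hN
  set N := f.ker with hNdef
  haveI : Fact (Nat.Prime 2) := ⟨Nat.prime_two⟩
  -- proper supplements meet `N` in a 2-group
  have hsub : ∀ H : Subgroup G, H ≠ ⊤ → (∀ g : G, ∃ m ∈ N, ∃ x ∈ H, g = m * x) →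
      ∀ x ∈ H, x ∈ N → ∃ k : ℕ, x ^ 2 ^ k = 1 := by
    intro H hH hs x hx hxN
    have hlt : Nat.card H < n := by
      rw [← hn]
      refine lt_of_le_of_ne (card_le_card_group H) fun e => hH ?_
      exact (card_eq_iff_eq_top H).1 e
    have := ih _ hlt H rfl (f.comp H.subtype) (by
      intro y
      obtain ⟨g, rfl⟩ := hf y
      obtain ⟨m, hm, x, hx, rfl⟩ := hs g
      refine ⟨⟨x, hx⟩, ?_⟩
      rw [map_mul, MonoidHom.mem_ker.1 hm, one_mul]
      rfl) (by
      intro y hy
      have := h y hy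
      rwa [Subgroup.orderOf_coe] at this)
    obtain ⟨k, hk⟩ := isPGroup_iff_forall.1 this ⟨x, hx⟩ hxN
    exact ⟨k, by simpa using congrArg Subtype.val hk⟩
  -- quotients
  have hquo : ∀ W : Subgroup G, W.Normal → W ≠ ⊥ → W ≤ N → ∀ x ∈ N, ∃ k : ℕ, x ^ 2 ^ k ∈ W := by
    intro W hW hW1 hWN x hx
    have hlt : Nat.card (G ⧸ W) < n := by
      rw [← hn, card_eq_card_quotient_mul_card_subgroup W]
      have h1 : 1 < Nat.card W := (one_lt_card_iff_ne_bot W).2 hW1
      have h2 : 0 < Nat.card (G ⧸ W) := Nat.card_pos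
      nlinarith
    have := ih _ hlt (G ⧸ W) rfl (QuotientGroup.lift W f hWN) (by
      intro y
      obtain ⟨g, rfl⟩ := hf y
      exact ⟨(g : G ⧸ W), rfl⟩) (by
      intro y hy
      obtain ⟨g, rfl⟩ := QuotientGroup.mk_surjective y
      refine pp_map (QuotientGroup.mk' W) (h g hy) ?_
      intro e
      apply hy
      change QuotientGroup.lift W f hWN (QuotientGroup.mk' W g) = 1
      rw [e, map_one])
    obtain ⟨k, hk⟩ := isPGroup_iff_forall.1 this (x : G ⧸ W) hx
    refine ⟨k, ?_⟩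
    rw [← QuotientGroup.eq_one_iff]
    simpa using hk
  -- an odd prime
  obtain ⟨q, hq, hqN, hq2⟩ : ∃ q : ℕ, q.Prime ∧ q ∣ Nat.card N ∧ q ≠ 2 := by
    by_contra hno
    push Not at hno
    exact hN (IsPGroup.of_card (Nat.eq_prime_pow_of_unique_prime_dvd Nat.card_pos.ne'
      (fun hd hdm => hno _ hd hdm)))
  haveI : Fact q.Prime := ⟨hq⟩
  have hc2q : Nat.Coprime 2 q := (Nat.coprime_primes Nat.prime_two hq).2 hq2.symm
  obtain ⟨V, hV⟩ := exists_sylowIn q N
  have hV1 : V ≠ ⊥ := hV.ne_bot hqN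
  have hVq := isPGroup_iff_forall.1 hV.isPGroup
  obtain ⟨⟨v0, hv0⟩, hv1⟩ := ne_bot_iff_exists_ne_one.1 hV1
  replace hv1 : v0 ≠ 1 := fun e => hv1 (Subtype.ext e)
  have triv : ∀ {x : G} {a b : ℕ}, x ^ 2 ^ a = 1 → x ^ q ^ b = 1 → x = 1 := by
    intro x a b h1 h2
    have := coprime_of_pow hc2q h1 h2
    simpa using this
  have hVn : V.Normal := by
    rw [← normalizer_eq_top_iff]
    by_contra hne
    obtain ⟨k, hk⟩ := hsub _ hne (fun g => hV.frattini (le_normalizer_of_normal (mem_top g))) v0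
      (le_normalizer hv0) (hV.le hv0)
    obtain ⟨l, hl⟩ := hVq v0 hv0
    exact hv1 (triv hk hl)
  have hNV := hquo V hVn hV1 hV.le
  obtain ⟨r, hr, hrQ, hr2, hrq⟩ := exists_third hQ hq
  haveI : Fact r.Prime := ⟨hr⟩
  have hcr2 : Nat.Coprime r 2 := (Nat.coprime_primes hr Nat.prime_two).2 hr2
  have hcrq : Nat.Coprime r q := (Nat.coprime_primes hr hq).2 hrq
  -- nontrivial `r`-elements are outside `N`
  have hrN : ∀ y : G, y ^ r = 1 → y ∈ N → y = 1 := by
    intro y hy hyN
    obtain ⟨k, hk⟩ := hNV y hyN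
    obtain ⟨l, hl⟩ := hVq _ hk
    rw [← pow_mul] at hl
    have h1 := orderOf_dvd_of_pow_eq_one hy
    have h2 := orderOf_dvd_of_pow_eq_one hl
    have : Nat.Coprime r (2 ^ k * q ^ l) :=
      Nat.Coprime.mul_right (hcr2.pow_right _) (hcrq.pow_right _)
    exact orderOf_eq_one_iff.1 (Nat.eq_one_of_dvd_coprimes this h1 h2)
  -- fixed point freeness
  have hfpf : ∀ y : G, y ∉ N → ∀ m ∈ N, Commute y m → (orderOf y).Coprime (orderOf m) → m = 1 := by
    intro y hy m hm hc hco
    by_contra hm1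
    refine not_pp hc hco (fun e => hy (e ▸ N.one_mem)) hm1 (h _ ?_)
    intro e
    rw [map_mul, MonoidHom.mem_ker.1 hm, mul_one] at e
    exact hy e
  obtain ⟨T, hT⟩ := exists_sylowIn 2 N
  have hT2 := isPGroup_iff_forall.1 hT.isPGroup
  by_cases hT1 : T = ⊥
  · -- `N = V`
    have hodd : ¬ 2 ∣ Nat.card N := fun hd => hT.ne_bot hd hT1
    have hN2 : ∀ m ∈ N, ∀ k : ℕ, m ^ 2 ^ k = 1 → m = 1 := by
      intro m hm k hk
      have := eq_bot_of_isPGroup_of_not_dvd (isPGroup_zpowers hk) (zpowers_le.2 hm) hodd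
      exact zpowers_eq_bot.1 this
    have hNV' : N ≤ V := by
      intro m hm
      obtain ⟨k, hk⟩ := hNV m hm
      have hco : (orderOf m).Coprime (2 ^ k) := by
        refine Nat.Coprime.pow_right _ (Nat.Coprime.symm ?_)
        rw [Nat.Prime.coprime_iff_not_dvd Nat.prime_two]
        exact fun hd => hodd (hd.trans (N.orderOf_dvd_natCard hm))
      obtain ⟨j, hj⟩ := exists_pow_eq_self_of_coprime hco.symm
      rw [← hj]
      exact V.pow_mem hk _
    have hev : 2 ∣ Nat.card G := by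
      by_contra hodd'
      have : Group.IsSolvable G := Cfsg.Agent.S0205.result (Nat.odd_iff.2 (by omega))
      exact hQ (Group.isSolvable_of_surjective hf)
    obtain ⟨t, ht⟩ := exists_prime_orderOf_dvd_card' 2 hev
    have ht1 : t ≠ 1 := by rintro rfl; simp at ht
    have ht2 : t ^ 2 ^ 1 = 1 := by rw [pow_one, ← ht, pow_orderOf_eq_one]
    have htN : t ∉ N := fun hm => ht1 (hN2 t hm 1 ht2)
    have hinv : ∀ m ∈ V, t * m * t⁻¹ = m⁻¹ := by
      refine H73.inverts_of_fpf (by rw [← sq]; simpa using ht2) (fun m hm => hVn.conj_mem m hm t) ?_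
      intro m hm hc
      obtain ⟨l, hl⟩ := hVq m hm
      exact hfpf t htN m (hV.le hm) hc.symm (coprime_of_pow hc2q ht2 hl)
    obtain ⟨g, hg⟩ := exists_prime_orderOf_dvd_card' r (hrQ.trans (card_dvd_of_surjective f hf))
    have hg1 : g ≠ 1 := by rintro rfl; simp at hg; exact hr.one_lt.ne hg
    have hgr : g ^ r ^ 1 = 1 := by rw [pow_one, ← hg, pow_orderOf_eq_one]
    have hgN : g ∉ N := fun hm => hg1 (hrN g (by simpa using hgr) hm)
    let C : Subgroup G := centralizer (V : Set G)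
    haveI : C.Normal := inferInstanceAs (centralizer (V : Set G)).Normal
    have hVC : V ≤ C := fun a ha => mem_centralizer_iff.2 fun b hb =>
      H73.commute_of_inverts hinv hb ha
    obtain ⟨l0, hl0⟩ := hVq v0 hv0
    have hgC : g ∉ C := fun hm => hv1 (hfpf g hgN v0 (hV.le hv0)
      (mem_centralizer_iff.1 hm v0 hv0).symm (coprime_of_pow hcrq hgr hl0))
    have htC : t ∉ C := fun hm => hv1 (hfpf t htN v0 (hV.le hv0)
      (mem_centralizer_iff.1 hm v0 hv0).symm (coprime_of_pow hc2q ht2 hl0))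
    let π := QuotientGroup.mk' C
    have hπ : ∀ a, π a = 1 ↔ a ∈ C := fun a => QuotientGroup.eq_one_iff a
    have hcomm : Commute (π g) (π t) := by
      have : g * t * g⁻¹ * t⁻¹ ∈ C := by
        refine mem_centralizer_iff.2 fun m hm => ?_
        have h1 : t⁻¹ * m * t = m⁻¹ := by
          have := hinv _ (V.inv_mem hm)
          rw [inv_inv] at this
          calc t⁻¹ * m * t = t⁻¹ * (t * m⁻¹ * t⁻¹) * t := by rw [this]
            _ = m⁻¹ := by group
        have h2 := hinv _ (hVn.conj_mem _ hm g⁻¹)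
        have h3 : g * t * g⁻¹ * m⁻¹ * (g * t⁻¹ * g⁻¹) = m := by
          have : t * (g⁻¹ * m⁻¹ * g) * t⁻¹ = g⁻¹ * m * g := by
            have h4 := congrArg (·⁻¹) h2
            simpa [mul_assoc] using h4
          calc g * t * g⁻¹ * m⁻¹ * (g * t⁻¹ * g⁻¹) = g * (t * (g⁻¹ * m⁻¹ * g) * t⁻¹) * g⁻¹ := by
                group
            _ = m := by rw [this]; group
        calc m * (g * t * g⁻¹ * t⁻¹)
            = (g * t * g⁻¹ * m⁻¹ * (g * t⁻¹ * g⁻¹)) * (g * t * g⁻¹ * t⁻¹) := by rw [h3]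
          _ = g * t * g⁻¹ * (t⁻¹ * m * t) * t⁻¹ := by rw [h1]; group
          _ = _ := by group
      rw [← hπ] at this
      simp only [map_mul, map_inv] at this
      rw [mul_inv_eq_one, mul_inv_eq_iff_eq_mul] at this
      exact this
    have hco : (orderOf (π g)).Coprime (orderOf (π t)) :=
      coprime_of_pow hcr2 (a := 1) (b := 1) (by rw [← map_pow, hgr, map_one])
        (by rw [← map_pow, ht2, map_one])
    have hg' : π g ≠ 1 := fun e => hgC ((hπ g).1 e)
    have ht' : π t ≠ 1 := fun e => htC ((hπ t).1 e)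
    have hne : π (g * t) ≠ 1 := by
      intro e
      rw [map_mul] at e
      have := hcomm.orderOf_mul_eq_mul_orderOf_of_coprime hco
      rw [e, orderOf_one] at this
      exact hg' (orderOf_eq_one_iff.1 (Nat.eq_one_of_mul_eq_one_right this.symm))
    have := pp_map π (h (g * t) (fun e => hne ((hπ _).2 (hVC (hNV' e))))) hne
    rw [map_mul] at this
    exact not_pp hcomm hco hg' ht' this
  · have hH : normalizer (T : Set G) ≠ ⊤ := by
      intro e
      have hTn : T.Normal := normalizer_eq_top_iff.1 e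
      refine hN (isPGroup_iff_forall.2 fun x hx => ?_)
      obtain ⟨k, hk⟩ := hquo T hTn hT1 hT.le x hx
      obtain ⟨l, hl⟩ := hT2 _ hk
      exact ⟨k + l, by rw [pow_add, pow_mul, hl]⟩
    have hfr : ∀ g : G, ∃ m ∈ N, ∃ x ∈ normalizer (T : Set G), g = m * x :=
      fun g => hT.frattini (le_normalizer_of_normal (mem_top g))
    have hs := hsub _ hH hfr
    have hsurj : Function.Surjective (f.comp (normalizer (T : Set G)).subtype) := by
      intro y
      obtain ⟨g, rfl⟩ := hf y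
      obtain ⟨m, hm, x, hx, rfl⟩ := hfr g
      refine ⟨⟨x, hx⟩, ?_⟩
      rw [map_mul, MonoidHom.mem_ker.1 hm, one_mul]
      rfl
    obtain ⟨⟨x, hxT⟩, hx⟩ := exists_prime_orderOf_dvd_card' r
      (hrQ.trans (card_dvd_of_surjective _ hsurj))
    rw [← Subgroup.orderOf_coe] at hx
    change orderOf x = r at hx
    have hxr : x ^ r = 1 := by rw [← hx, pow_orderOf_eq_one]
    have hx1 : x ≠ 1 := by rintro rfl; simp at hx; exact hr.one_lt.ne hx
    have hE : ∀ e ∈ zpowers x, e ^ r ^ 1 = 1 := by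
      rintro _ ⟨i, rfl⟩
      rw [pow_one, ← zpow_natCast, ← zpow_mul, mul_comm, zpow_mul, zpow_natCast, hxr, one_zpow]
    have hEN : ∀ e ∈ zpowers x, e ≠ 1 → e ∉ N := fun e he h1 hm =>
      h1 (hrN e (by simpa using hE e he) hm)
    have hEn : zpowers x ≤ normalizer (T : Set G) := zpowers_le.2 hxT
    have key := H53.Wielandt.frobenius_le_centralizer T (zpowers x) V
      (by
        rw [eq_bot_iff]
        rintro a ⟨h1, h2⟩
        by_contra h3
        exact hEN a h2 h3 (hT.le h1))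
      (fun e he a ha => conj_mem_of_mem_normalizer (hEn he) ha)
      (fun e he h1 a ha hc => by
        obtain ⟨l, hl⟩ := hT2 a ha
        exact hfpf e (hEN e he h1) a (hT.le ha) hc (coprime_of_pow hcr2 (hE e he) hl))
      le_normalizer_of_normal
      (by haveI := hV.isPGroup.isNilpotent; infer_instance)
      (by
        obtain ⟨a, ha⟩ := IsPGroup.iff_card.1 hV.isPGroup
        obtain ⟨b, hb⟩ := IsPGroup.iff_card.1 hT.isPGroup
        rw [ha, sup_comm]
        refine Nat.Coprime.pow_left _ (Nat.Coprime.coprime_dvd_right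
          (H1.card_sup_dvd_of_le_normalizer hEn) ?_)
        rw [hb, Nat.card_zpowers, hx]
        exact Nat.Coprime.mul_right hcrq.symm (hc2q.symm.pow_right _))
      (by
        rw [eq_bot_iff]
        rintro a ⟨h1, h2⟩
        obtain ⟨l, hl⟩ := hVq a h1
        exact hfpf x (hEN x (mem_zpowers x) hx1) a (hV.le h1)
          (mem_centralizer_iff.1 h2 x (mem_zpowers x)) (coprime_of_pow hcrq (hE x (mem_zpowers x)) hl))
    obtain ⟨k, hk⟩ := hs v0 (centralizer_le_normalizer _ (key hv0)) (hV.le hv0)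
    obtain ⟨l, hl⟩ := hVq v0 hv0
    exact hv1 (triv hk hl)


/-- Let N be a non-trivial normal subgroup of the finite group G such that every element of G outside N has prime power order. If N is not solvable, then G/N is solvable. -/
theorem result {G : Type*} [Group G] [Finite G] (N : Subgroup G) [N.Normal] (hN : N ≠ ⊥) (hns : ¬ Group.IsSolvable ↥N)
    (h : ∀ x : G, x ∉ N → IsPrimePow (orderOf x)) : Group.IsSolvable (G ⧸ N) := by
  by_contra hQ
  have h2 := main hQ _ G rfl (QuotientGroup.mk' N) (QuotientGroup.mk'_surjective N)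
    (fun x hx => h x (fun e => hx ((QuotientGroup.eq_one_iff x).2 e)))
  rw [QuotientGroup.ker_mk'] at h2
  haveI : Fact (Nat.Prime 2) := ⟨Nat.prime_two⟩
  haveI := h2.isNilpotent
  exact hns inferInstance

end Cfsg.Agent.S3901
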