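import Mathlib
import Cfsg.Statements.S3915
import Cfsg.Agent.Lib.Comp.Component
import Cfsg.Agent.S0205

set_option autoImplicit false
open Cfsg

namespace Cfsg.Agent.S3915


theorem exists_two_elt {H : Type*} [Group H] [Finite H] (h : IsQuasisimple H) :
    ∃ x : H, x ∉ Subgroup.center H ∧ ∃ k : ℕ, orderOf x = 2 ^ k := by
  haveI : Fact (Nat.Prime 2) := ⟨Nat.prime_two⟩
  by_contra hcon
  push Not at hcon
  obtain ⟨P⟩ : Nonempty (Sylow 2 H) := inferInstance
  have hP : (P : Subgroup H) ≤ Subgroup.center H := by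
    intro x hx
    by_contra hxc
    obtain ⟨k, hk⟩ := (IsPGroup.iff_orderOf.mp P.isPGroup') ⟨x, hx⟩
    exact hcon x hxc k (by rw [← hk, Subgroup.orderOf_mk])
  have hidx : (Subgroup.center H).index ∣ (P : Subgroup H).index := Subgroup.index_dvd_of_le hP
  have hodd : Odd (Nat.card (H ⧸ Subgroup.center H)) := by
    rw [← Nat.not_even_iff_odd, even_iff_two_dvd]
    intro h2
    exact P.not_dvd_index (h2.trans hidx)
  have hsol := Cfsg.Agent.S0205.result hodd
  haveI := h.2
  have hcomm := IsSimpleGroup.comm_iff_isSolvable.mpr hsol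
  exact H23.IsQuasisimple.quotient_not_isMulCommutative h ⟨⟨hcomm⟩⟩

theorem exists_two_elt' {G : Type*} [Group G] [Finite G] {L : Subgroup G} (h : IsComponent L) :
    ∃ x ∈ L, x ∉ Subgroup.centralizer (L : Set G) ∧ ∃ k : ℕ, orderOf x = 2 ^ k := by
  obtain ⟨x, hx, k, hk⟩ := exists_two_elt h.2
  refine ⟨x, x.2, fun hc => hx ?_, k, by rw [← hk, Subgroup.orderOf_coe]⟩
  rw [Subgroup.mem_center_iff]
  intro g
  exact Subtype.ext (Subgroup.mem_centralizer_iff.mp hc g g.2)

theorem key {G : Type*} [Group G] [Finite G] (hP : ∀ (p : ℕ), p.Prime → ∀ A B : Subgroup G, IsCyclic ↥A → IsCyclic ↥B → IsPGroup p ↥A → Nat.card ↥A = Nat.card ↥B → ∃ g : G, B = A.map (MulAut.conj g).toMonoidHom)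
    {L K : Subgroup G} (hL : IsComponent L) (hK : IsComponent K) (hne : L ≠ K)
    {x y : G} (hxL : x ∈ L) (hyK : y ∈ K) (hx : x ∉ Subgroup.centralizer (L : Set G))
    (hy : y ∉ Subgroup.centralizer (K : Set G)) {a : ℕ} (ha : orderOf x = 2 ^ a)
    (hyx : orderOf y ∣ orderOf x) : False := by
  haveI : Fact (Nat.Prime 2) := ⟨Nat.prime_two⟩
  have cent : ∀ {A B : Subgroup G}, IsComponent A → IsComponent B → A ≠ B →
      A ≤ Subgroup.centralizer (B : Set G) := fun hA hB hAB =>
    Subgroup.commutator_eq_bot_iff_le_centralizer.mp (H23.IsComponent.commutator_eq_bot_of_ne hA hB hAB)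
  have hxK : x ∈ Subgroup.centralizer (K : Set G) := cent hL hK hne hxL
  have hyL : y ∈ Subgroup.centralizer (L : Set G) := cent hK hL hne.symm hyK
  have hcomm : Commute x y := (Subgroup.mem_centralizer_iff.mp hxK y hyK).symm
  have hz : orderOf (x * y) ∣ orderOf x := by
    refine orderOf_dvd_of_pow_eq_one ?_
    rw [hcomm.mul_pow, pow_orderOf_eq_one, one_mul]
    exact orderOf_dvd_iff_pow_eq_one.mp hyx
  obtain ⟨m, hm⟩ := hz
  have hxpos : 0 < orderOf x := orderOf_pos x
  have hm0 : m ≠ 0 := by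
    rintro rfl
    rw [mul_zero] at hm
    omega
  have hord : orderOf (x ^ m) = orderOf (x * y) := by
    rw [orderOf_pow_of_dvd hm0 ⟨orderOf (x * y), by rw [hm, mul_comm]⟩, hm]
    exact Nat.mul_div_cancel _ (Nat.pos_of_ne_zero hm0)
  have hpg : IsPGroup 2 (Subgroup.zpowers (x ^ m)) := by
    have : orderOf (x ^ m) ∣ 2 ^ a := ha ▸ orderOf_pow_dvd m
    obtain ⟨b, -, hb⟩ := (Nat.dvd_prime_pow Nat.prime_two).mp this
    exact IsPGroup.of_card (by rw [Nat.card_zpowers, hb])
  obtain ⟨g, hg⟩ := hP 2 Nat.prime_two (Subgroup.zpowers (x ^ m)) (Subgroup.zpowers (x * y))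
    inferInstance inferInstance hpg (by rw [Nat.card_zpowers, Nat.card_zpowers, hord])
  have hM : IsComponent (L.map (MulAut.conj g).toMonoidHom) := H23.IsComponent.map_conj hL g
  have hzM : x * y ∈ L.map (MulAut.conj g).toMonoidHom := by
    have : Subgroup.zpowers (x * y) ≤ L.map (MulAut.conj g).toMonoidHom := by
      rw [hg]
      exact Subgroup.map_mono (by rw [Subgroup.zpowers_le]; exact L.pow_mem hxL m)
    exact this (Subgroup.mem_zpowers _)
  by_cases hML : L.map (MulAut.conj g).toMonoidHom = L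
  · have h1 : x * y ∈ Subgroup.centralizer (K : Set G) := cent hM hK (by rw [hML]; exact hne) hzM
    exact hy ((Subgroup.mul_mem_cancel_left _ hxK).mp h1)
  · have h1 : x * y ∈ Subgroup.centralizer (L : Set G) := cent hM hL hML hzM
    exact hx ((Subgroup.mul_mem_cancel_right _ hyL).mp h1)

/-- Let G be a finite group in which, for every prime p, any two cyclic p-subgroups of the same order are conjugate. If the layer E(G), the subgroup generated by the components of G, is non-trivial, then E(G)/Z(E(G)) is a non-abelian simple group. -/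
theorem result {G : Type*} [Group G] [Finite G] (hP : ∀ (p : ℕ), p.Prime → ∀ A B : Subgroup G, IsCyclic ↥A → IsCyclic ↥B → IsPGroup p ↥A → Nat.card ↥A = Nat.card ↥B → ∃ g : G, B = A.map (MulAut.conj g).toMonoidHom) (hE : Cfsg.layer G ≠ ⊥) :
    IsSimpleGroup (↥(Cfsg.layer G) ⧸ Subgroup.center ↥(Cfsg.layer G)) ∧ ¬ IsMulCommutative (↥(Cfsg.layer G) ⧸ Subgroup.center ↥(Cfsg.layer G)) := by
  have huniq : ∀ L K : Subgroup G, IsComponent L → IsComponent K → L = K := by
    intro L K hL hK
    by_contra hne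
    obtain ⟨x, hxL, hx, a, ha⟩ := exists_two_elt' hL
    obtain ⟨y, hyK, hy, b, hb⟩ := exists_two_elt' hK
    rcases le_total a b with hab | hab
    · exact key hP hK hL (Ne.symm hne) hyK hxL hy hx hb (by rw [ha, hb]; exact pow_dvd_pow 2 hab)
    · exact key hP hL hK hne hxL hyK hx hy ha (by rw [ha, hb]; exact pow_dvd_pow 2 hab)
  have hex : ∃ L : Subgroup G, IsComponent L := by
    by_contra h
    push Not at h
    exact hE (H23.layer_eq_bot_iff.mpr h)
  obtain ⟨L, hL⟩ := hex
  have hEq : Cfsg.layer G = L :=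
    le_antisymm (H23.layer_le_iff.mpr fun K hK => (huniq K L hK hL).le) (H23.IsComponent.le_layer hL)
  rw [hEq]
  exact ⟨hL.2.2, H23.IsQuasisimple.quotient_not_isMulCommutative hL.2⟩

end Cfsg.Agent.S3915
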