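import Cfsg.Statements.S3921
import Mathlib
import Cfsg.Agent.Lib.CIT.Main
import Cfsg.Agent.Lib.SL2Elt.Sylow
import Cfsg.Agent.Lib.SL2Elt.Torus
import Cfsg.Agent.Lib.GWCor.BSW2
import Cfsg.Agent.Lib.FGS.KPi
import Cfsg.Agent.Lib.GL.Basic
import Cfsg.Agent.S0204

set_option autoImplicit false
open Cfsg

namespace Cfsg.Agent.S3921

set_option linter.style.haveILetI false
set_option linter.unusedSectionVars false

open Subgroup
open scoped MatrixGroups

section General

variable {K : Type*} [Group K] [Finite K]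

theorem two_group_of {z u : K} (hz : ∀ g, g * z = z * g) (hp : H29.IsPair z u)
    (h4 : ∀ v, H29.IsPair z v → ∀ g, g * v = v * g → g ∈ closure ({z, v} : Set K))
    (hinv : ∀ y, Odd (orderOf y) → u * y * u⁻¹ = y⁻¹ → y = 1) : IsPGroup 2 K := by
  classical
  have haa := hp.sq₂
  have h1 : IsPGroup 2 (normalClosure ({u} : Set K)) := by
    refine H9.isPGroup_normalClosure_of_forall_conj fun g => ?_
    have hb : (g * u * g⁻¹) * (g * u * g⁻¹) = 1 := by
      calc _ = g * (u * u) * g⁻¹ := by group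
        _ = 1 := by rw [haa]; group
    obtain ⟨k, hk⟩ := H32.exists_odd_pow (u * (g * u * g⁻¹))
    exact H9.isPGroup_closure_pair haa hb (a := k)
      (hinv _ hk (H9.conj_pow_of_inverts (H9.left_inverts haa hb) _))
  set Q := Cfsg.pCore 2 K with hQ
  have hQp : IsPGroup 2 Q := H1.isPGroup_pCore
  have huQ : u ∈ Q := H1.le_pCore h1 (subset_normalClosure rfl)
  have hzn : (zpowers z).Normal := ⟨fun n hn g => by
    obtain ⟨k, rfl⟩ := mem_zpowers_iff.mp hn
    rw [← conj_zpow, hz g, mul_inv_cancel_right]; exact zpow_mem (mem_zpowers z) k⟩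
  have hzQ : z ∈ Q := by
    refine H1.le_pCore (N := zpowers z) ?_ (mem_zpowers z)
    exact H64.SL2.isPGroup_zpowers_of_pow (k := 1) (by rw [pow_one, pow_two, hp.sq₁])
  have hC : centralizer ({u} : Set K) = closure ({z, u} : Set K) := by
    refine le_antisymm (fun g hg => h4 u hp g (mem_centralizer_singleton_iff.mp hg)) ?_
    rw [closure_le]
    rintro g (rfl | rfl)
    · exact mem_centralizer_singleton_iff.mpr (hz u).symm
    · exact mem_centralizer_singleton_iff.mpr rfl
  have hC4 : Nat.card (centralizer ({u} : Set K)) = 4 := by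
    rw [hC]; exact hp.isKleinFour.card_four
  have hcl := H77.ncard_isConj_mul_card_centralizer u
  rw [hC4] at hcl
  by_contra hK
  have hidx : 3 ≤ Q.index := by
    by_contra h
    have h0 := Q.index_ne_zero_of_finite
    obtain ⟨k, hk⟩ := hQp.exists_card_eq
    have h2 := Q.card_mul_index
    apply hK
    rcases (by omega : Q.index = 1 ∨ Q.index = 2) with h3 | h3
    · exact IsPGroup.of_card (n := k) (by rw [← h2, hk, h3, mul_one])
    · exact IsPGroup.of_card (n := k + 1) (by rw [← h2, hk, h3, pow_succ])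
  have hQc := Q.card_mul_index
  set I : Set K := {y | y ∈ Q ∧ y * y = 1} with hI
  have hsub : insert 1 (insert z {y | IsConj u y}) ⊆ I := by
    rintro y (rfl | rfl | hy)
    · exact ⟨one_mem _, one_mul _⟩
    · exact ⟨hzQ, hp.sq₁⟩
    · obtain ⟨c, rfl⟩ := isConj_iff.mp hy
      refine ⟨(inferInstance : Q.Normal).conj_mem u huQ c, ?_⟩
      calc _ = c * (u * u) * c⁻¹ := by group
        _ = 1 := by rw [haa]; group
  have hz1 : z ∉ {y | IsConj u y} := by
    intro h
    obtain ⟨c, hc⟩ := isConj_iff.mp h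
    apply hp.ne
    calc z = c⁻¹ * z * c := by rw [hz c⁻¹]; group
      _ = u := by rw [← hc]; group
  have h11 : (1 : K) ∉ insert z {y | IsConj u y} := by
    rintro (h | h)
    · exact hp.ne₁ h.symm
    · exact hp.ne₂ (isConj_one_left.mp (show IsConj u 1 from h))
  have hIc := Set.ncard_le_ncard hsub
  rw [Set.ncard_insert_of_notMem h11, Set.ncard_insert_of_notMem hz1] at hIc
  set J : Set K := (fun y => u * y) '' I with hJ
  have hJc : J.ncard = I.ncard := Set.ncard_image_of_injective _ (mul_right_injective u)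
  have hU : I ∪ J ⊆ (Q : Set K) := by
    rintro y (hy | ⟨w, hw, rfl⟩)
    · exact hy.1
    · exact mul_mem huQ hw.1
  have hUc : (I ∪ J).ncard ≤ Nat.card Q := Set.ncard_le_ncard hU
  have hN : I ∩ J ⊆ (centralizer ({u} : Set K) : Set K) := by
    rintro y ⟨hy, w, hw, rfl⟩
    refine mem_centralizer_singleton_iff.mpr ?_
    have h2 := hy.2
    have h3 := hw.2
    have h5 : w * u = u * w := by
      calc w * u = (u * u) * (w * u) * (w * w) := by rw [haa, h3, one_mul, mul_one]
        _ = u * (u * w * (u * w)) * w := by group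
        _ = u * w := by rw [h2, mul_one]
    show u * w * u = u * (u * w)
    rw [mul_assoc, h5]
  have hNc : (I ∩ J).ncard ≤ 4 := by rw [← hC4]; exact Set.ncard_le_ncard hN
  have hUN := Set.ncard_union_add_ncard_inter I J
  have : Nat.card Q * 3 ≤ Nat.card Q * Q.index := Nat.mul_le_mul_left _ hidx
  have hpos : 0 < Nat.card Q := Nat.card_pos
  omega

theorem exists_pair {V : Subgroup K} (hV : IsKleinFour V) {z : K} (hz : orderOf z = 2) :
    ∃ u, H29.IsPair z u := by
  haveI : Fact (Nat.Prime 2) := ⟨Nat.prime_two⟩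
  have hzz := H9.mul_self_of_orderOf_two hz
  have hz1 := H9.ne_one_of_orderOf_two hz
  obtain ⟨S, hS⟩ := (H64.SL2.isPGroup_zpowers_of_pow (p := 2) (k := 1) (x := z)
    (by rw [pow_one, pow_two, hzz])).exists_le_sylow
  have hzS : z ∈ (S : Subgroup K) := hS (mem_zpowers z)
  obtain ⟨T, hT⟩ := (IsPGroup.of_card (p := 2) (n := 2) (G := V) hV.card_four).exists_le_sylow
  obtain ⟨g, hg⟩ := MulAction.exists_smul_eq K T S
  obtain ⟨s, t, hst, hcl⟩ := H29.exists_isPair hV
  have hm : ∀ x ∈ V, g * x * g⁻¹ ∈ (S : Subgroup K) := fun x hx => by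
    rw [← hg, Sylow.coe_subgroup_smul]
    exact smul_mem_pointwise_smul x (MulAut.conj g) _ (hT hx)
  have hs := hm s (hcl ▸ subset_closure (by simp))
  have ht := hm t (hcl ▸ subset_closure (by simp))
  have hp := hst.conj g
  haveI : Nontrivial S := ⟨⟨⟨z, hzS⟩, 1, fun h => hz1 (congrArg Subtype.val h)⟩⟩
  haveI := S.isPGroup'.center_nontrivial
  obtain ⟨w, hw⟩ := exists_ne (1 : center S)
  obtain ⟨k, hk⟩ := S.isPGroup' w
  have hw1 : ((w : S) : K) ≠ 1 := fun h => hw (Subtype.ext (Subtype.ext h))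
  obtain ⟨j, hj⟩ := H32.exists_invol_pow hw1 (k := k) (congrArg Subtype.val hk)
  have hc : ∀ x ∈ (S : Subgroup K), x * ((w : S) : K) ^ j = ((w : S) : K) ^ j * x := fun x hx =>
    (show Commute x ((w : S) : K) from
      congrArg Subtype.val (mem_center_iff.mp w.2 ⟨x, hx⟩)).pow_right j
  by_cases h : z = ((w : S) : K) ^ j
  · rw [← h] at hc
    by_cases h2 : z = g * s * g⁻¹
    · exact ⟨_, h2 ▸ hp⟩
    · exact ⟨_, hzz, hz1, hp.sq₁, hp.ne₁, h2, (hc _ hs).symm⟩
  · exact ⟨_, hzz, hz1, H9.mul_self_of_orderOf_two hj, H9.ne_one_of_orderOf_two hj, h, hc _ hzS⟩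

/-- the property of the statement -/
def SC (K : Type*) [Group K] : Prop :=
  ∀ H : Subgroup K, ¬ IsCyclic H → centralizer (H : Set K) ≤ H

theorem SC.mem_closure (h : SC K) {s : Set K} (hn : ¬ IsCyclic (closure s)) {g : K}
    (hg : ∀ x ∈ s, x * g = g * x) : g ∈ closure s := by
  apply h _ hn
  rw [centralizer_closure]
  exact hg

theorem SC.cit (h : SC K) {V : Subgroup K} (hV : IsKleinFour V) : H32.CIT K := by
  intro z hz
  obtain ⟨u, hp⟩ := exists_pair hV hz
  have hzC : z ∈ centralizer ({z} : Set K) := mem_centralizer_singleton_iff.mpr rfl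
  have huC : u ∈ centralizer ({z} : Set K) := mem_centralizer_singleton_iff.mpr hp.comm.symm
  have hpair : ∀ {a b : centralizer ({z} : Set K)}, H29.IsPair a b ↔ H29.IsPair (a : K) b := by
    intro a b
    constructor
    · intro h
      exact ⟨congrArg Subtype.val h.sq₁, fun e => h.ne₁ (Subtype.ext e), congrArg Subtype.val h.sq₂,
        fun e => h.ne₂ (Subtype.ext e), fun e => h.ne (Subtype.ext e), congrArg Subtype.val h.comm⟩
    · intro h
      exact ⟨Subtype.ext h.sq₁, fun e => h.ne₁ (congrArg Subtype.val e), Subtype.ext h.sq₂,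
        fun e => h.ne₂ (congrArg Subtype.val e), fun e => h.ne (congrArg Subtype.val e),
        Subtype.ext h.comm⟩
  refine two_group_of (z := ⟨z, hzC⟩) (u := ⟨u, huC⟩)
    (fun g => Subtype.ext (mem_centralizer_singleton_iff.mp g.2)) (hpair.mpr hp) ?_ ?_
  · intro v hv g hg
    have hv' := hpair.mp hv
    have h1 : (g : K) ∈ closure ({z, (v : K)} : Set K) := by
      refine h.mem_closure hv'.isKleinFour.not_isCyclic ?_
      rintro x (rfl | rfl)
      · exact (mem_centralizer_singleton_iff.mp g.2).symm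
      · exact (congrArg Subtype.val hg).symm
    rw [hv.mem_closure]
    rcases hv'.mem_closure.mp h1 with e | e | e | e
    · exact Or.inl (Subtype.ext e)
    · exact Or.inr (Or.inl (Subtype.ext e))
    · exact Or.inr (Or.inr (Or.inl (Subtype.ext e)))
    · exact Or.inr (Or.inr (Or.inr (Subtype.ext e)))
  · intro y hy hinv
    have hy' : Odd (orderOf (y : K)) := by rwa [orderOf_coe]
    have hinv' : u * y * u⁻¹ = (y : K)⁻¹ := congrArg Subtype.val hinv
    have hyz : (y : K) * z = z * y := mem_centralizer_singleton_iff.mp y.2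
    by_contra hy1
    have hyy : (y : K) * y ≠ 1 := by
      intro e
      have h3 : orderOf (y : K) ∣ 2 := orderOf_dvd_of_pow_eq_one (by rw [pow_two, e])
      have : orderOf (y : K) = 1 :=
        Nat.eq_one_of_dvd_coprimes ((Nat.coprime_two_right).mpr hy') dvd_rfl h3
      exact hy1 (Subtype.ext (orderOf_eq_one_iff.mp this))
    have hui : u⁻¹ = u := inv_eq_of_mul_eq_one_right hp.sq₂
    have huy : u * y = (y : K)⁻¹ * u := by rw [← hinv']; group
    have hv : (u * y) * (u * y) = 1 := by
      calc (u * y) * (u * y) = (u * y) * ((y : K)⁻¹ * u) := by rw [← huy]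
        _ = u * u := by group
        _ = 1 := hp.sq₂
    have hnc : ¬ IsCyclic (closure ({u, u * y} : Set K)) := by
      intro hc
      have h1 : u ∈ closure ({u, u * y} : Set K) := subset_closure (by simp)
      have h2 : u * y ∈ closure ({u, u * y} : Set K) := subset_closure (by simp)
      have h3 : u * (u * y) = (u * y) * u := congrArg Subtype.val
        (hc.commGroup.mul_comm (⟨u, h1⟩ : closure ({u, u * y} : Set K)) ⟨_, h2⟩)
      apply hyy
      calc (y : K) * y = y * ((u * u) * y) := by rw [hp.sq₂, one_mul]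
        _ = y * (u * y * u⁻¹) := by rw [hui, ← h3, mul_assoc]
        _ = 1 := by rw [hinv', mul_inv_cancel]
    have hzm : z ∈ closure ({u, u * y} : Set K) := by
      refine h.mem_closure hnc ?_
      rintro x (rfl | rfl)
      · exact hp.comm.symm
      · rw [mul_assoc, hyz, ← mul_assoc, ← hp.comm, mul_assoc]
    have he : u * (u * y) = y := by rw [← mul_assoc, hp.sq₂, one_mul]
    have hodd : ∀ k : ℤ, (y : K) ^ k * (y : K) ^ k = 1 → (y : K) ^ k = 1 := by
      intro k e
      have h3 : orderOf ((y : K) ^ k) ∣ 2 := orderOf_dvd_of_pow_eq_one (by rw [pow_two, e])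
      have h4 : orderOf ((y : K) ^ k) ∣ orderOf (y : K) :=
        orderOf_dvd_of_mem_zpowers (zpow_mem (mem_zpowers _) k)
      exact orderOf_eq_one_iff.mp
        (Nat.eq_one_of_dvd_coprimes ((Nat.coprime_two_right).mpr hy') h4 h3)
    obtain ⟨k, hk | hk⟩ := (H9.mem_closure_pair_iff hp.sq₂ hv z).mp hzm
    · rw [he] at hk
      exact hp.ne₁ (hk ▸ hodd k (hk ▸ hp.sq₁))
    · rw [he] at hk
      have h1 : (y : K) * u = u * y := by
        calc (y : K) * u = ((y : K) ^ k)⁻¹ * (y * ((y : K) ^ k * u)) := by group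
          _ = ((y : K) ^ k)⁻¹ * (((y : K) ^ k * u) * y) := by rw [← hk, hyz]
          _ = u * y := by group
      apply hyy
      calc (y : K) * y = y * (u * y * u⁻¹) := by rw [← h1]; group
        _ = 1 := by rw [hinv', mul_inv_cancel]

theorem SC.of_equiv {L : Type*} [Group L] (h : SC L) (e : K ≃* L) : SC K := by
  intro H hH g hg
  have h1 : ¬ IsCyclic (H.map e.toMonoidHom) := fun hc =>
    hH ((e.subgroupMap H).isCyclic.mpr hc)
  have h2 : e g ∈ H.map e.toMonoidHom := by
    apply h _ h1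
    rintro _ ⟨x, hx, rfl⟩
    have := congrArg e (hg x hx)
    simpa using this
  obtain ⟨x, hx, hx'⟩ := h2
  rwa [← e.injective hx']

theorem mem_of_dihInv {j : K} {R : Subgroup K} (h : H29.DihInv j R) (hR : IsCyclic R)
    (h2 : IsPGroup 2 (centralizer ({j} : Set K))) {H : Subgroup K} (hH : ¬ IsCyclic H)
    (hj : ∀ x ∈ H, j * x = x * j) : j ∈ H := by
  have h1 : ∃ t ∈ H, t ∉ R := by
    by_contra hc
    push Not at hc
    exact hH (isCyclic_of_le hc)
  obtain ⟨t, ht, htR⟩ := h1
  have hpt := h.isPair_iff.mpr ⟨hj t ht, htR⟩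
  have h3 : ∃ r ∈ H, r ∈ R ∧ r ≠ 1 := by
    by_contra hc
    push Not at hc
    apply hH
    have : H ≤ zpowers t := by
      intro x hx
      by_cases hxR : x ∈ R
      · rw [hc x hx hxR]; exact one_mem _
      · have h4 := hc _ (mul_mem hx ht) (h.mul_mem (h.isPair_iff.mpr ⟨hj x hx, hxR⟩) hpt)
        rw [eq_inv_of_mul_eq_one_left h4]
        exact inv_mem (mem_zpowers t)
    exact isCyclic_of_le this
  obtain ⟨r, hr, hrR, hr1⟩ := h3
  obtain ⟨k, hk⟩ := H32.pow_of_mem_pgroup h2 (mem_centralizer_singleton_iff.mpr (hj r hr).symm)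
  obtain ⟨i, hi⟩ := H32.exists_invol_pow hr1 hk
  by_contra hn
  exact (h.inv (r ^ i) (hj _ (pow_mem hr i))).mp ⟨H9.mul_self_of_orderOf_two hi,
    H9.ne_one_of_orderOf_two hi, fun e => hn (e ▸ pow_mem hr i)⟩ (pow_mem hrR i)

theorem mem_of_dihInv' {j : K} {R : Subgroup K} (h : H29.DihInv j R) (hR : IsCyclic R)
    (h2 : IsPGroup 2 (centralizer ({j} : Set K))) {H : Subgroup K} (hH : ¬ IsCyclic H) {x : K}
    (hx : x * x = 1) (hx1 : x ≠ 1) (hj : ∀ y ∈ H, y * x = x * y) : x ∈ H := by
  obtain ⟨c, rfl⟩ := h.conj x hx hx1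
  have h1 : ¬ IsCyclic (H.map (MulAut.conj c⁻¹).toMonoidHom) := fun hc =>
    hH (((MulAut.conj c⁻¹).subgroupMap H).isCyclic.mpr hc)
  obtain ⟨y, hy, hy'⟩ := mem_of_dihInv h hR h2 h1 (by
    rintro _ ⟨y, hy, rfl⟩
    have := hj y hy
    show j * (c⁻¹ * y * c⁻¹⁻¹) = (c⁻¹ * y * c⁻¹⁻¹) * j
    calc j * (c⁻¹ * y * c⁻¹⁻¹) = c⁻¹ * (c * j * c⁻¹ * y) * c := by group
      _ = _ := by rw [← this]; group)
  have : c * j * c⁻¹ = y := by
    rw [← hy']
    show c * (c⁻¹ * y * c⁻¹⁻¹) * c⁻¹ = y
    group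
  rwa [this]

end General

section PSL

open H64.SL2

variable {F : Type*} [Field F] [Fintype F]

theorem cent_cases {x : PSL(2, F)} (hx : x ≠ 1) :
    Nat.card (centralizer ({x} : Set PSL(2, F))) ∣ Fintype.card F ∨
      IsCyclic (centralizer ({x} : Set PSL(2, F))) ∨ ((2 : F) ≠ 0 ∧ x * x = 1) := by
  obtain ⟨g, rfl⟩ := proj_surjective x
  have hg : g ∉ center SL(2, F) := fun h => hx (proj_eq_one_iff.mpr h)
  by_cases h2 : (2 : F) ≠ 0 ∧ proj g * proj g = 1
  · exact Or.inr (Or.inr h2)
  have hC : centralizer ({proj g} : Set PSL(2, F)) = (centralizer ({g} : Set SL(2, F))).map proj := by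
    refine le_antisymm (fun y hy => ?_) ?_
    · obtain ⟨h, rfl⟩ := proj_surjective y
      have h1 := mem_centralizer_singleton_iff.mp hy
      rw [← map_mul, ← map_mul, proj_eq_iff] at h1
      refine ⟨h, mem_centralizer_singleton_iff.mpr ?_, rfl⟩
      rcases h1 with h1 | h1
      · exact h1
      · by_cases h3 : (2 : F) = 0
        · rw [h1, neg_eq_self_of_two_eq_zero h3]
        · exfalso
          apply h2
          refine ⟨h3, ?_⟩
          have h4 : h * g * h⁻¹ = -g := by rw [h1]; simp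
          have h5 := tr_conj g h
          rw [h4, tr_neg] at h5
          have h6 : tr g = 0 := by
            have : 2 * tr g = 0 := by linear_combination -h5
            exact (mul_eq_zero.mp this).resolve_left h3
          rw [← map_mul, mul_self_eq_neg_one_of_tr h6, proj_eq_one_iff]
          exact neg_one_mem_center
    · rintro _ ⟨h, hh, rfl⟩
      rw [mem_centralizer_singleton_iff, ← map_mul, ← map_mul, mem_centralizer_singleton_iff.mp hh]
  by_cases ht : tr g ^ 2 = 4
  · left
    obtain ⟨p, hp⟩ := CharP.exists F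
    obtain ⟨n, hpp, hn⟩ := FiniteField.card F p
    haveI : Fact p.Prime := ⟨hpp⟩
    have hP : IsPGroup p (centralizer ({proj g} : Set PSL(2, F))) := by
      rintro ⟨y, hy⟩
      rw [hC] at hy
      obtain ⟨h, hh, rfl⟩ := hy
      refine ⟨1, Subtype.ext ?_⟩
      show proj h ^ p ^ 1 = 1
      rw [pow_one, ← map_pow, proj_eq_one_iff]
      apply pow_char_mem_center
      by_contra h4
      exact tr_sq_ne_four_of_mem_centralizer h4
        (mem_centralizer_singleton_iff.mpr (mem_centralizer_singleton_iff.mp hh).symm) hg ht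
    obtain ⟨k, hk⟩ := hP.exists_card_eq
    have h1 : p ^ k ∣ Nat.card F * (Nat.card F - 1) * (Nat.card F + 1) := by
      rw [← H10.card_PSL_two, ← hk]
      exact (card_subgroup_dvd_card _).mul_left _
    rw [Nat.card_eq_fintype_card] at h1
    rw [hk]
    have hd : p ∣ Fintype.card F := char_dvd_card p
    have hpos : 1 ≤ Fintype.card F := Fintype.card_pos
    have c1 : (p ^ k).Coprime (Fintype.card F + 1) := by
      apply Nat.Coprime.pow_left
      rw [Nat.Prime.coprime_iff_not_dvd hpp]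
      intro h
      exact hpp.one_lt.ne' (Nat.dvd_one.mp ((Nat.dvd_add_right hd).mp h))
    have c2 : (p ^ k).Coprime (Fintype.card F - 1) := by
      apply Nat.Coprime.pow_left
      rw [Nat.Prime.coprime_iff_not_dvd hpp]
      intro h
      have := (Nat.dvd_sub hd h)
      rw [Nat.sub_sub_self hpos] at this
      exact hpp.one_lt.ne' (Nat.dvd_one.mp this)
    exact c2.dvd_of_dvd_mul_right (c1.dvd_of_dvd_mul_right h1)
  · right; left
    rw [hC]
    haveI := isCyclic_centralizer ht
    exact isCyclic_of_surjective _ (proj.subgroupMap_surjective _)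

theorem sc_psl (hF : Fintype.card F = 4 ∨ Fintype.card F = 9 ∨ ((Fintype.card F).Prime ∧
    ∃ k : ℕ, Fintype.card F = 2 ^ k + 1 ∨ Fintype.card F = 2 ^ k - 1)) : SC PSL(2, F) := by
  intro H hH x hx
  by_cases hx1 : x = 1
  · rw [hx1]; exact one_mem _
  have hle : H ≤ centralizer ({x} : Set PSL(2, F)) := fun y hy =>
    mem_centralizer_singleton_iff.mpr (hx y hy)
  have hsq : ∀ p : ℕ, p.Prime → Nat.card (centralizer ({x} : Set PSL(2, F))) ∣ p ^ 2 → x ∈ H := by
    intro p hp hd
    haveI : Fact p.Prime := ⟨hp⟩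
    have h1 := (card_dvd_of_le hle).trans hd
    obtain ⟨i, hi, hi'⟩ := (Nat.dvd_prime_pow hp).mp h1
    have h2 : i = 2 := by
      by_contra h3
      apply hH
      exact isCyclic_of_card_dvd_prime (p := p) (by
        rw [hi']
        calc p ^ i ∣ p ^ 1 := pow_dvd_pow _ (by omega)
          _ = p := pow_one p)
    have h4 : H = centralizer ({x} : Set PSL(2, F)) :=
      eq_of_le_of_card_ge hle (by rw [hi', h2]; exact Nat.le_of_dvd (pow_pos hp.pos _) hd)
    rw [h4]
    exact mem_centralizer_singleton_iff.mpr rfl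
  rcases cent_cases hx1 with h | h | ⟨h2, h⟩
  · rcases hF with e | e | ⟨e, -⟩
    · exact hsq 2 Nat.prime_two (by rwa [e] at h)
    · exact hsq 3 Nat.prime_three (by rwa [e] at h)
    · exact hsq _ e (h.trans (dvd_pow_self _ two_ne_zero))
  · exact absurd (isCyclic_of_le hle) hH
  · have hd := H29.dihInv_psl h2
    have ho := odd_card_of_two_ne_zero h2
    refine mem_of_dihInv' hd (H29.isCyclic_rotPSL h2) ?_ hH h hx1 hx
    have hc := H29.card_centralizer_psl (F := F)
      (by rw [Nat.card_eq_fintype_card]; exact Nat.odd_iff.mpr ho) (MulEquiv.refl _)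
      (orderOf_eq_prime (p := 2) (by rw [pow_two, hd.sq]) hd.ne)
    rw [Nat.card_eq_fintype_card (α := F)] at hc
    have key : ∀ k : ℕ, 2 ≤ k → 2 ^ k % 4 = 0 := fun k hk => by
      obtain ⟨i, rfl⟩ := Nat.exists_eq_add_of_le hk
      rw [pow_add]; omega
    suffices ∀ c : ℕ, (Fintype.card F % 4 = 1 ∧ c + 1 = Fintype.card F) ∨
        (Fintype.card F % 4 = 3 ∧ c = Fintype.card F + 1) → ∃ n, c = 2 ^ n by
      obtain ⟨n, hn⟩ := this _ hc
      exact IsPGroup.of_card hn
    clear hc
    intro c hc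
    rcases hF with e | e | ⟨e, k, e' | e'⟩
    · omega
    · exact ⟨3, by omega⟩
    · rcases hc with hc | hc
      · exact ⟨k, by omega⟩
      · by_cases hk : 2 ≤ k
        · have := key k hk; omega
        · refine ⟨2, ?_⟩
          interval_cases k <;> omega
    · have hpos : 1 ≤ 2 ^ k := Nat.one_le_two_pow
      rcases hc with hc | hc
      · have := e.two_le
        by_cases hk : 2 ≤ k
        · have := key k hk; omega
        · interval_cases k <;> omega
      · exact ⟨k, by omega⟩

end PSL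

/-- Say that a group has self-centralizing non-cyclic subgroups when every non-cyclic subgroup H satisfies C_G(H) ≤ H. A non-abelian finite simple group has self-centralizing non-cyclic subgroups if and only if it is isomorphic to PSL₂(q) with q = 4, q = 9, or q a prime of the form 2^k + 1 or 2^k − 1. -/
theorem result {G : Type*} [Group G] [Finite G] [IsSimpleGroup G] (hna : ¬ IsMulCommutative G) :
    (∀ H : Subgroup G, ¬ IsCyclic ↥H → Subgroup.centralizer (H : Set G) ≤ H) ↔ ∃ (F : Type) (_ : Field F) (_ : Fintype F),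
      (Fintype.card F = 4 ∨ Fintype.card F = 9 ∨ ((Fintype.card F).Prime ∧ ∃ k : ℕ, Fintype.card F = 2 ^ k + 1 ∨ Fintype.card F = 2 ^ k - 1)) ∧
      Nonempty (G ≃* Matrix.ProjectiveSpecialLinearGroup (Fin 2) F) := by
  haveI : Fact (Nat.Prime 2) := ⟨Nat.prime_two⟩
  have hna' : ∃ a b : G, a * b ≠ b * a := by
    by_contra h
    push Not at h
    exact hna ⟨⟨h⟩⟩
  constructor
  · intro h
    obtain ⟨V, hV⟩ := Cfsg.Agent.S0204.result (G := G) (fun hc => hna ⟨⟨hc.commGroup.mul_comm⟩⟩)
    have hcit := SC.cit h hV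
    have hVc : Subgroup.centralizer (V : Set G) = V := by
      refine le_antisymm (h V hV.not_isCyclic) fun v hv w hw => ?_
      exact congrArg Subtype.val (IsKleinFour.isMulCommutative.is_comm.comm (⟨w, hw⟩ : V) ⟨v, hv⟩)
    obtain ⟨S, hS⟩ := (IsPGroup.of_card (p := 2) (n := 2) (G := V) hV.card_four).exists_le_sylow
    have hd : ∃ n, 2 ≤ n ∧ Nonempty ((S : Subgroup G) ≃* DihedralGroup n) := by
      rcases hS.lt_or_eq with hlt | heq
      · obtain ⟨k, hk⟩ := hcit.dihedral (H32.index_ne_two_of_simple hna') hV.card_four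
          (fun v hv => congrArg Subtype.val (IsKleinFour.mul_self (⟨v, hv⟩ : V))) hVc S hlt
        exact ⟨_, le_trans (by norm_num) (Nat.pow_le_pow_right two_pos (Nat.le_add_left 2 k)), hk⟩
      · refine ⟨2, le_rfl, ?_⟩
        rw [← heq]
        exact IsKleinFour.nonempty_mulEquiv
    obtain ⟨n, hn, e⟩ := hd
    obtain ⟨F, _, _, ho, ⟨e'⟩⟩ := hcit.psl2_of_dihedral S hn e
    refine ⟨F, inferInstance, inferInstance, Or.inr ?_, ⟨e'⟩⟩
    rcases (hcit.of_equiv e'.symm).card_field ho with h9 | ⟨hp, k, hk⟩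
    · exact Or.inl h9
    · exact Or.inr ⟨hp, k, by omega⟩
  · rintro ⟨F, _, _, hF, ⟨e⟩⟩
    exact (sc_psl hF).of_equiv e

end Cfsg.Agent.S3921
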