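import Mathlib
import Cfsg.Agent.Base
import Cfsg.Agent.S3633
import Cfsg.Agent.S1475
import Cfsg.Agent.S0144
import Cfsg.Agent.Lib.Core.MinNormal
import Cfsg.Agent.Lib.Core.Fitting
import Cfsg.Statements.S3992

set_option autoImplicit false
open Cfsg

namespace Cfsg.Agent.S3992

open Subgroup in
theorem solv_of_cent {X : Type*} [Group X] [Finite X] (hpp : ∀ g : X, g ≠ 1 → IsPrimePow (orderOf g))
    {A B : Subgroup X} (hA : A ≠ ⊥) (hAB : ∀ a ∈ A, ∀ b ∈ B, Commute a b) : Group.IsSolvable B := by
  have hc : Nat.card A ≠ 1 := fun h => hA (Subgroup.card_eq_one.mp h)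
  obtain ⟨p, hp, hpA⟩ := Nat.exists_prime_and_dvd hc
  haveI := Fact.mk hp
  obtain ⟨a, ha⟩ := exists_prime_orderOf_dvd_card' p hpA
  have hB : IsPGroup p B := by
    rw [IsPGroup.iff_card]
    refine ⟨_, Nat.eq_prime_pow_of_unique_prime_dvd Nat.card_pos.ne' ?_⟩
    intro q hq hqB
    by_contra hne
    haveI := Fact.mk hq
    obtain ⟨b, hb⟩ := exists_prime_orderOf_dvd_card' q hqB
    have ha' : orderOf (a : X) = p := by rw [Subgroup.orderOf_coe, ha]
    have hb' : orderOf (b : X) = q := by rw [Subgroup.orderOf_coe, hb]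
    have hcop : (orderOf (a : X)).Coprime (orderOf (b : X)) := by
      rw [ha', hb']; exact (Nat.coprime_primes hp hq).mpr (Ne.symm hne)
    have ho := (hAB a a.2 b b.2).orderOf_mul_eq_mul_orderOf_of_coprime hcop
    rw [ha', hb'] at ho
    have h1 : (a : X) * b ≠ 1 := by
      intro h; rw [h, orderOf_one] at ho
      exact hp.one_lt.ne' (Nat.eq_one_of_mul_eq_one_right ho.symm)
    have := hpp _ h1
    rw [ho, isPrimePow_nat_iff] at this
    obtain ⟨r, k, hr, hk, hrk⟩ := this
    have e1 : p ∣ r ^ k := by rw [hrk]; exact dvd_mul_right _ _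
    have e2 : q ∣ r ^ k := by rw [hrk]; exact dvd_mul_left _ _
    exact hne (((Nat.prime_dvd_prime_iff_eq hq hr).mp (hq.dvd_of_dvd_pow e2)).trans
      ((Nat.prime_dvd_prime_iff_eq hp hr).mp (hp.dvd_of_dvd_pow e1)).symm)
  exact H1.isSolvable_of_isPGroup hB

open Subgroup in
theorem min_le {X : Type*} [Group X] [Finite X] (hpp : ∀ g : X, g ≠ 1 → IsPrimePow (orderOf g))
    {M : Subgroup X} (hM : H3.IsMinNormal M) (hs : ¬ Group.IsSolvable M) (N : Subgroup X) [N.Normal]
    (hN : N ≠ ⊥) : M ≤ N := by
  haveI := hM.normal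
  rcases hM.inf_eq_bot_or_le N with h | h
  · exfalso
    apply hs
    refine solv_of_cent hpp hN fun a ha b hb => ?_
    exact (Subgroup.commute_of_normal_of_disjoint M N inferInstance inferInstance
      (disjoint_iff.mpr h) b a hb ha).symm
  · exact h

/-- Let G be a finite non-solvable group in which every element has prime-power order, and let R be its largest solvable normal subgroup. Then R is a p-group for some prime p; G/R has a non-abelian simple normal subgroup contained in every nontrivial normal subgroup of G/R (its unique minimal normal subgroup); and the order of every solvable subgroup of G has at most two prime divisors. -/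
theorem result {G : Type*} [Group G] [Finite G] (hns : ¬ Group.IsSolvable G) (hpp : ∀ g : G, g ≠ 1 → IsPrimePow (orderOf g))
    (R : Subgroup G) [R.Normal] (hRs : Group.IsSolvable ↥R) (hRmax : ∀ N : Subgroup G, N.Normal → Group.IsSolvable ↥N → N ≤ R) :
    (∃ p : ℕ, p.Prime ∧ IsPGroup p ↥R) ∧
      (∃ M : Subgroup (G ⧸ R), M.Normal ∧ IsSimpleGroup ↥M ∧ ¬ IsMulCommutative ↥M ∧
        ∀ N : Subgroup (G ⧸ R), N.Normal → N ≠ ⊥ → M ≤ N) ∧
      ∀ H : Subgroup G, Group.IsSolvable ↥H → (Nat.card ↥H).primeFactors.card ≤ 2 := by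
  classical
  have hsub : ∀ H : Subgroup G, ∀ g : H, IsPrimePow (orderOf g) ∨ g = 1 := by
    intro H g
    by_cases hg : g = 1
    · exact Or.inr hg
    · left
      rw [← Subgroup.orderOf_coe]
      exact hpp _ (fun h => hg (Subtype.ext h))
  refine ⟨?_, ?_, fun H hH => Cfsg.Agent.S1475.result (hsub H)⟩
  · have h3 : 3 ≤ (Nat.card G).primeFactors.card := by
      by_contra hlt
      apply hns
      have h0 : Nat.card G ≠ 0 := Nat.card_pos.ne'
      obtain ⟨p, q, hp, hq, hsub'⟩ : ∃ p q : ℕ, p.Prime ∧ q.Prime ∧ (Nat.card G).primeFactors ⊆ {p, q} := by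
        have : (Nat.card G).primeFactors.card = 0 ∨ (Nat.card G).primeFactors.card = 1 ∨
          (Nat.card G).primeFactors.card = 2 := by omega
        rcases this with h | h | h
        · exact ⟨2, 2, Nat.prime_two, Nat.prime_two, by rw [Finset.card_eq_zero.mp h]; simp⟩
        · obtain ⟨p, hp⟩ := Finset.card_eq_one.mp h
          have : p.Prime := Nat.prime_of_mem_primeFactors (by rw [hp]; simp : p ∈ (Nat.card G).primeFactors)
          exact ⟨p, p, this, this, by rw [hp]; simp⟩
        · obtain ⟨p, q, -, hp⟩ := Finset.card_eq_two.mp h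
          exact ⟨p, q, Nat.prime_of_mem_primeFactors (by rw [hp]; simp : p ∈ (Nat.card G).primeFactors),
            Nat.prime_of_mem_primeFactors (by rw [hp]; simp : q ∈ (Nat.card G).primeFactors), hp.le⟩
      by_cases hpq : p = q
      · subst hpq
        refine Cfsg.Agent.S0144.result p p (Nat.card G).primeFactorsList.length 0 hp hp ?_
        rw [pow_zero, mul_one]
        refine Nat.eq_prime_pow_of_unique_prime_dvd h0 fun {d} hd hdv => ?_
        have := hsub' (Nat.mem_primeFactors.mpr ⟨hd, hdv, h0⟩)
        simpa using this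
      · refine Cfsg.Agent.S0144.result p q ((Nat.card G).factorization p) ((Nat.card G).factorization q) hp hq ?_
        conv_lhs => rw [← Nat.prod_factorization_pow_eq_self h0]
        rw [Finsupp.prod_of_support_subset _ (s := {p, q}) (by simpa using hsub') _ (by simp),
          Finset.prod_pair hpq]
    have key := (Cfsg.Agent.S3633.result (G := G) (Nat.card G).primeFactors h3 ⟨fun r hr =>
      ⟨Nat.prime_of_mem_primeFactors hr, Nat.dvd_of_mem_primeFactors hr⟩, ?_⟩ R hRs).1
    · by_cases h1 : Nat.card R = 1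
      · exact ⟨2, Nat.prime_two, IsPGroup.of_card (n := 0) (by simpa using h1)⟩
      · obtain ⟨p, hp, hpR⟩ := Nat.exists_prime_and_dvd h1
        refine ⟨p, hp, ?_⟩
        haveI := Fact.mk hp
        rw [IsPGroup.iff_card]
        refine ⟨_, Nat.eq_prime_pow_of_unique_prime_dvd Nat.card_pos.ne' fun {q} hq hqR => ?_⟩
        have hd := Subgroup.card_subgroup_dvd_card R
        exact key q (Nat.mem_primeFactors.mpr ⟨hq, hqR.trans hd, Nat.card_pos.ne'⟩) p
          (Nat.mem_primeFactors.mpr ⟨hp, hpR.trans hd, Nat.card_pos.ne'⟩) hqR hpR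
    · rintro p hp' q hq' hne ⟨x, hx⟩
      have hp := Nat.prime_of_mem_primeFactors hp'
      have hq := Nat.prime_of_mem_primeFactors hq'
      have h1 : x ≠ 1 := by
        intro h; rw [h, orderOf_one] at hx
        exact hp.one_lt.ne' (Nat.eq_one_of_mul_eq_one_right hx.symm)
      have := hpp _ h1
      rw [hx, isPrimePow_nat_iff] at this
      obtain ⟨r, k, hr, hk, hrk⟩ := this
      have e1 : p ∣ r ^ k := by rw [hrk]; exact dvd_mul_right _ _
      have e2 : q ∣ r ^ k := by rw [hrk]; exact dvd_mul_left _ _
      exact hne (((Nat.prime_dvd_prime_iff_eq hp hr).mp (hp.dvd_of_dvd_pow e1)).trans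
        ((Nat.prime_dvd_prime_iff_eq hq hr).mp (hq.dvd_of_dvd_pow e2)).symm)
  · have hQ : ∀ g : G ⧸ R, g ≠ 1 → IsPrimePow (orderOf g) := by
      intro g hg
      obtain ⟨x, rfl⟩ := QuotientGroup.mk_surjective g
      have hx : x ≠ 1 := by rintro rfl; exact hg rfl
      have hd : orderOf (x : G ⧸ R) ∣ orderOf x := orderOf_map_dvd (QuotientGroup.mk' R) x
      exact (hpp x hx).dvd hd (by simpa using hg)
    have hno : ∀ N : Subgroup (G ⧸ R), N.Normal → Group.IsSolvable N → N = ⊥ := by
      intro N hN hs
      have h1 : N.comap (QuotientGroup.mk' R) ≤ R := hRmax _ inferInstance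
        (H1.isSolvable_comap hs (by rw [QuotientGroup.ker_mk']; exact hRs))
      rw [eq_bot_iff]
      intro g hg
      obtain ⟨x, rfl⟩ := QuotientGroup.mk_surjective g
      exact (QuotientGroup.eq_one_iff x).mpr (h1 hg)
    haveI : Nontrivial (G ⧸ R) := by
      by_contra hh
      haveI := not_nontrivial_iff_subsingleton.mp hh
      exact hns (H1.isSolvable_of_normal_of_quotient R hRs inferInstance)
    obtain ⟨M, hM⟩ := H3.exists_isMinNormal (G ⧸ R)
    haveI := hM.normal
    have hMs : ¬ Group.IsSolvable M := fun h => hM.ne_bot (hno M inferInstance h)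
    refine ⟨M, inferInstance, ?_, ?_, fun N hN hne => min_le hQ hM hMs N hne⟩
    · haveI := hM.nontrivial
      have hMp : ∀ g : M, g ≠ 1 → IsPrimePow (orderOf g) := by
        intro g hg
        rw [← Subgroup.orderOf_coe]
        exact hQ _ (fun h => hg (Subtype.ext h))
      obtain ⟨T, hT⟩ := H3.exists_isMinNormal M
      haveI := hT.normal
      have hTs : ¬ Group.IsSolvable T := by
        intro h
        have h1 := H1.le_solvableRadical h
        rcases hM.eq_bot_or_top_of_characteristic (Cfsg.solvableRadical M) with h2 | h2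
        · exact hT.ne_bot (le_bot_iff.mp (h2 ▸ h1))
        · exact hMs (H1.solvableRadical_eq_top_iff.mp h2)
      haveI : T.Characteristic := by
        rw [Subgroup.characteristic_iff_le_comap]
        intro φ
        refine min_le hMp hT hTs _ ?_
        intro h
        apply hT.ne_bot
        rw [eq_bot_iff]
        intro t ht
        have : φ.symm t ∈ T.comap φ.toMonoidHom := by simpa using ht
        rw [h, Subgroup.mem_bot] at this
        simpa using this
      have hTt : T = ⊤ := (hM.eq_bot_or_top_of_characteristic T).resolve_left hT.ne_bot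
      refine ⟨fun N hN => ?_⟩
      by_cases hb : N = ⊥
      · exact Or.inl hb
      · right
        rw [eq_top_iff, ← hTt]
        exact min_le hMp hT hTs N hb
    · intro h
      exact hMs (haveI := H1.isNilpotent_of_isMulCommutative (H := M); IsNilpotent.to_isSolvable)

end Cfsg.Agent.S3992
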