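import Mathlib
import Cfsg.Agent.Base
import Cfsg.Agent.Lib.FGS.SameOrd
import Cfsg.Agent.S0205
import Cfsg.Statements.S3996

set_option autoImplicit false
open Cfsg

namespace Cfsg.Agent.S3996

/-- A finite group in which the numbers of elements of each order that occurs (the numbers #{g : o(g) = m}, m ranging over the element orders) take exactly three different values is solvable. -/
theorem result {G : Type*} [Group G] [Finite G] (h : (((fun m : ℕ => Nat.card {g : G // orderOf g = m}) '' Set.range (orderOf : G → ℕ))).ncard = 3) : Group.IsSolvable G := by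
  classical
  obtain ⟨a, b, hab⟩ := H79.exists_vals_of_ncard h
  have hval : ∀ m, 3 ≤ m → H79.so G m = 0 ∨ H79.so G m = a ∨ H79.so G m = b := by
    intro m hm
    have := H79.two_dvd_so (G := G) hm
    have := hab m
    omega
  rcases Nat.even_or_odd (Nat.card G) with hev | hodd
  swap
  · exact Cfsg.Agent.S0205.result hodd
  have h2G := hev.two_dvd
  have hs2 := H79.not_prime_dvd_so Nat.prime_two h2G
  -- it suffices to exclude two odd primes
  have fin : (∀ p q : ℕ, p.Prime → q.Prime → p ≠ 2 → q ≠ 2 → p ∣ Nat.card G → q ∣ Nat.card G → p = q) →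
      Group.IsSolvable G := by
    intro hh
    by_cases he : ∃ p : ℕ, p.Prime ∧ p ≠ 2 ∧ p ∣ Nat.card G
    · obtain ⟨p, hp, h2, hd⟩ := he
      refine H79.isSolvable_of_primes Nat.prime_two hp fun r hr hrd => ?_
      by_cases e : r = 2
      · exact Or.inl e
      · exact Or.inr (hh r p hr hp e h2 hrd hd)
    · refine H79.isSolvable_of_primes Nat.prime_two Nat.prime_two fun r hr hrd => ?_
      left
      by_contra e
      exact he ⟨r, hr, e, hrd⟩
  by_cases h1 : H79.so G 2 = 1
  · by_cases h4 : 4 ∣ Nat.card G
    · apply fin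
      intro p q hp hq hp2 hq2 hpG hqG
      by_contra hpq
      have h5 := H79.four_dvd_so h4
      rw [h1] at h5
      have hs4 : ¬ 4 ∣ H79.so G 4 := by omega
      have hs40 : H79.so G 4 ≠ 0 := fun e => hs4 (e ▸ dvd_zero _)
      have hc4 : ∀ {p : ℕ}, p.Prime → p ≠ 2 → Nat.Coprime 4 p := fun {p} hp h2 =>
        Nat.Coprime.pow_left 2 ((Nat.coprime_primes Nat.prime_two hp).mpr (Ne.symm h2))
      have hfour : ∀ m n : ℕ, 3 ≤ m → 3 ≤ n → m.Coprime n → 4 ∣ H79.so G (m * n) := by
        intro m n hm hn hc
        refine Dvd.dvd.trans ?_ (H79.totient_dvd_so _)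
        rw [Nat.totient_mul hc]
        exact mul_dvd_mul (Nat.totient_even (by omega)).two_dvd (Nat.totient_even (by omega)).two_dvd
      have hnT1 : ∀ {p q : ℕ}, p.Prime → q.Prime → p ≠ 2 → q ≠ 2 → p ∣ Nat.card G → q ∣ Nat.card G →
          p ≠ q → ¬ H79.SoT1 G p := by
        intro p q hp hq hp2 hq2 hpG hqG hpq hT
        have hp3 : 3 ≤ p := by have := hp.two_le; omega
        have hq3 : 3 ≤ q := by have := hq.two_le; omega
        have hcop : q.Coprime p := (Nat.coprime_primes hq hp).mpr (Ne.symm hpq)
        have hq0 := H79.so_prime_ne_zero hq hqG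
        obtain ⟨h6, h7⟩ := hT.2 q hq3 hcop hq0
        have h8 := hfour q p hq3 hp3 hcop
        have h9 := hval 4 (by norm_num)
        have h10 := hval q hq3
        have h11 := hval (q * p) (by nlinarith)
        have h12 : H79.so G q = H79.so G 4 := by omega
        rcases H79.soT1_or_soT2 hq hq2 hqG hval with hT' | hT'
        · obtain ⟨h13, -⟩ := hT'.2 4 (by norm_num) (hc4 hq hq2) hs40
          obtain ⟨h14, h15⟩ := hT.2 (4 * q) (by omega) (Nat.Coprime.mul_left (hc4 hp hp2) hcop) h13
          have h16 := hfour 4 q (by norm_num) hq3 (hc4 hq hq2)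
          have h17 := hfour (4 * q) p (by omega) hp3 (Nat.Coprime.mul_left (hc4 hp hp2) hcop)
          have h18 := hval (4 * q) (by omega)
          have h19 := hval (4 * q * p) (by nlinarith)
          omega
        · exact (hT' 4 (by norm_num) (hc4 hq hq2) hs40).1 h12.symm
      have hTp := (H79.soT1_or_soT2 hp hp2 hpG hval).resolve_left (hnT1 hp hq hp2 hq2 hpG hqG hpq)
      have hTq := (H79.soT1_or_soT2 hq hq2 hqG hval).resolve_left
        (hnT1 hq hp hq2 hp2 hqG hpG (Ne.symm hpq))
      have hp3 : 3 ≤ p := by have := hp.two_le; omega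
      have hq3 : 3 ≤ q := by have := hq.two_le; omega
      have hp0 := H79.so_prime_ne_zero hp hpG
      have hq0 := H79.so_prime_ne_zero hq hqG
      have h6 := (hTp 4 (by norm_num) (hc4 hp hp2) hs40).1
      have h7 := (hTq 4 (by norm_num) (hc4 hq hq2) hs40).1
      have h8 := (hTp q hq3 ((Nat.coprime_primes hq hp).mpr (Ne.symm hpq)) hq0).1
      have h9 := hval 4 (by norm_num)
      have h10 := hval q hq3
      have h11 := hval p hp3
      omega
    · obtain ⟨z, hz⟩ := H79.so_ne_zero_iff.mp (H79.so_prime_ne_zero Nat.prime_two h2G)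
      have hzc := H79.mem_center_of_so_eq_one h1 hz
      haveI : (Subgroup.zpowers z).Normal := ⟨fun x hx g => by
        rw [Subgroup.mem_center_iff.mp (Subgroup.zpowers_le.mpr hzc hx) g]; simpa using hx⟩
      refine H1.isSolvable_of_normal_of_quotient (Subgroup.zpowers z) inferInstance
        (Cfsg.Agent.S0205.result ?_)
      have := Subgroup.card_eq_card_quotient_mul_card_subgroup (Subgroup.zpowers z)
      rw [Nat.card_zpowers, hz] at this
      rw [Nat.odd_iff]
      omega
  · apply fin
    intro p q hp hq hp2 hq2 hpG hqG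
    by_contra hpq
    have hp3 : 3 ≤ p := by have := hp.two_le; omega
    have hq3 : 3 ≤ q := by have := hq.two_le; omega
    have hp0 := H79.so_prime_ne_zero hp hpG
    have hq0 := H79.so_prime_ne_zero hq hqG
    have h5 := hab 2
    have h6 := hval p hp3
    have h7 := hval q hq3
    have h8 := hval (q * p) (by nlinarith)
    have h9 := H79.two_dvd_so (G := G) hp3
    have h10 := H79.two_dvd_so (G := G) hq3
    have h11 := H79.two_dvd_so (G := G) (m := q * p) (by nlinarith)
    have h12 := H79.prime_dvd_so_add hp hpG ((Nat.coprime_primes hq hp).mpr (Ne.symm hpq))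
    have h13 := H79.not_prime_dvd_so hp hpG
    have h14 : H79.so G q = H79.so G p := by omega
    have h15 : H79.so G (q * p) = 0 ∨ H79.so G (q * p) = H79.so G p := by omega
    rw [h14] at h12
    rcases h15 with e | e <;> rw [e] at h12
    · exact h13 h12
    · rw [← two_mul] at h12
      exact (hp.dvd_mul.mp h12).elim
        (fun h => hp2 ((Nat.prime_dvd_prime_iff_eq hp Nat.prime_two).mp h)) h13

end Cfsg.Agent.S3996
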