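import Mathlib
import Cfsg.Agent.Base
import Cfsg.Agent.Lib.FGS.TwoFrob
import Cfsg.Statements.S4001

set_option autoImplicit false
open Cfsg

namespace Cfsg.Agent.S4001

open Subgroup H79 in
open scoped IsMulCommutative in
theorem mixed {G : Type*} [Group G] [Finite G] (H K : Subgroup G) [H.Normal] [K.Normal] (hle : H ≤ K)
    (h1 : FK (H.subgroupOf K)) (h2 : FK (K.map (QuotientGroup.mk' H))) {p q : ℕ} (hp : p.Prime)
    (hq : q.Prime) (hpq : p ≠ q) (hpH : p ∣ Nat.card H) (hqK : q ∣ (K.map (QuotientGroup.mk' H)).index) :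
    ∃ g : G, orderOf g = p * q := by
  haveI := Fact.mk hp
  haveI : Group.IsNilpotent H :=
    haveI := h1.isNilpotent
    Group.nilpotent_of_mulEquiv (subgroupOfEquivOfLe hle)
  obtain ⟨x, hx, hxo⟩ := H1.exists_mem_orderOf_eq_prime hp hpH
  have hx1 : x ≠ 1 := by rintro rfl; rw [orderOf_one] at hxo; exact hp.one_lt.ne hxo
  have h3 : zpowers x ≤ pCore p G := H1.le_pCore_of_le_fitting
    (IsPGroup.of_card (n := 1) (by simp [hxo])) ((zpowers_le.mpr hx).trans (H1.le_fitting inferInstance))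
  have h4 : pCore p G ⊓ H ≠ ⊥ := fun e => hx1 (by
    rw [← mem_bot, ← e]; exact ⟨h3 (mem_zpowers x), hx⟩)
  obtain ⟨V, hV, hVle⟩ := H3.exists_isMinNormal_le _ h4
  haveI := hV.normal
  have hVp : IsPGroup p V := H1.isPGroup_pCore.to_le (hVle.trans inf_le_left)
  have hVH : V ≤ H := hVle.trans inf_le_right
  haveI : IsMulCommutative V := hV.isMulCommutative (H1.isSolvable_of_isPGroup hVp)
  have hVC : V ≤ centralizer (H : Set G) := by
    refine (hV.inf_eq_bot_or_le _).resolve_left fun e => ?_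
    have h5 : V.subgroupOf H ≠ ⊥ := fun e' => hV.ne_bot ((subgroupOf_eq_bot.mp e').eq_bot_of_le hVH)
    obtain ⟨z, hz, hz1⟩ := (bot_or_exists_ne_one _).resolve_left (H5.inf_center_ne_bot_of_nilpotent _ h5)
    apply hz1
    have : (z : G) ∈ V ⊓ centralizer (H : Set G) :=
      ⟨hz.1, fun h hh => congrArg Subtype.val (mem_center_iff.mp hz.2 ⟨h, hh⟩)⟩
    rw [e, mem_bot] at this
    exact Subtype.ext this
  let φ : G ⧸ H →* MulAut V := QuotientGroup.lift H MulAut.conjNormal fun h hh => by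
    ext v
    simp only [MulAut.conjNormal_apply, MulAut.one_apply]
    rw [hVC v.2 h hh, mul_inv_cancel_right]
  have hφ : ∀ (g : G) (v : V), φ g v = v → Commute g v := by
    intro g v e
    have := congrArg Subtype.val e
    exact mul_inv_eq_iff_eq_mul.mp this
  obtain ⟨y, hy, hyK⟩ := h2.exists_prime hq hqK
  set Kb := K.map (QuotientGroup.mk' H) with hKb
  have hsr : ∀ r ∈ zpowers y, r ≠ 1 → Kb ⊓ centralizer {r} = ⊥ := by
    refine H2.semiregular_of_prime_card (by rw [Nat.card_zpowers, hy]; exact hq) ?_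
    rw [H2.centralizer_zpowers]
    exact h2.inf_centralizer hyK
  have hcop : (Nat.card Kb).Coprime (Nat.card V) := by
    have := h1.coprime
    rw [H1.card_subgroupOf_of_le hle] at this
    rw [hKb, H1.card_map_mk'_eq_relIndex]
    exact (this.coprime_dvd_left (card_dvd_of_le hVH)).symm
  by_contra hcon
  obtain ⟨y, rfl⟩ := QuotientGroup.mk_surjective y
  have hfix : ∀ v : V, φ y v = v → v = 1 := by
    intro v e
    by_contra hv
    exact hcon (exists_orderOf_eq_mul_of_commute ((Nat.coprime_primes hp hq).mpr hpq) (hφ y v e).symm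
      (prime_dvd_orderOf_of_isPGroup hVp v.2 (fun e => hv (Subtype.ext e)))
      (hy ▸ orderOf_map_dvd (QuotientGroup.mk' H) y))
  obtain ⟨k, hk⟩ : ∃ k : K, k ∉ H.subgroupOf K := by
    by_contra hh
    push Not at hh
    exact h1.2.1 (eq_top_iff.mpr fun k _ => hh k)
  obtain ⟨v, hv, hv1⟩ := (bot_or_exists_ne_one V).resolve_left hV.ne_bot
  have := H2.apply_eq_of_frobenius_action le_normalizer_of_normal hsr (φ.comp (Subgroup.subtype _)) hcop
    (fun v hv => hfix v (hv ⟨y, mem_sup_right (mem_zpowers _)⟩ (mem_zpowers _)))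
    ⟨((k : G) : G ⧸ H), mem_sup_left (mem_map_of_mem _ k.2)⟩ (mem_map_of_mem _ k.2) ⟨v, hv⟩
  have hc := hφ k ⟨v, hv⟩ this
  exact hk (h1.2.2 ⟨v, hle (hVH hv)⟩ (hVH hv) (fun e => hv1 (congrArg Subtype.val e))
    (mem_centralizer_singleton_iff.mpr (Subtype.ext hc)))

theorem lift_ord {X Y : Type*} [Group X] [Finite X] [Group Y] (f : X →* Y) {n : ℕ} {x : X}
    (h : n ∣ orderOf (f x)) : ∃ g : X, orderOf g = n :=
  ⟨_, orderOf_pow_orderOf_div (orderOf_pos x).ne' (h.trans (orderOf_map_dvd f x))⟩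

/-- Let G be a 2-Frobenius group: it has normal subgroups H < K with K a Frobenius group with kernel H and G/H a Frobenius group with kernel K/H. Then G is solvable; K/H has odd order coprime to the order of H and to the order of G/K (it is the image of an odd-order Hall subgroup); G/K is cyclic; and the prime graph of G has exactly two connected components, both complete: for distinct primes p, q dividing the order of G, G has an element of order pq exactly when p and q either both divide the order of K/H or both do not. -/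
theorem result {G : Type*} [Group G] [Finite G] (H K : Subgroup G) [H.Normal] [K.Normal] (hlt : H < K)
    (hK : ∃ C : Subgroup ↥K, Cfsg.IsFrobeniusComplement C ∧ Cfsg.frobeniusKernel C = (H.subgroupOf K : Set ↥K))
    (hGH : ∃ C : Subgroup (G ⧸ H), Cfsg.IsFrobeniusComplement C ∧ Cfsg.frobeniusKernel C = (K.map (QuotientGroup.mk' H) : Set (G ⧸ H))) :
    Group.IsSolvable G ∧ Odd (Nat.card (↥K ⧸ H.subgroupOf K)) ∧
      Nat.Coprime (Nat.card (↥K ⧸ H.subgroupOf K)) (Nat.card ↥H * Nat.card (G ⧸ K)) ∧ IsCyclic (G ⧸ K) ∧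
      ∀ p q : ℕ, p.Prime → q.Prime → p ≠ q → p ∣ Nat.card G → q ∣ Nat.card G →
        ((∃ g : G, orderOf g = p * q) ↔ (p ∣ Nat.card (↥K ⧸ H.subgroupOf K) ↔ q ∣ Nat.card (↥K ⧸ H.subgroupOf K))) := by
  classical
  have hle := hlt.le
  have h1 : H79.FK (H.subgroupOf K) := H79.fk_iff.mp hK
  have h2 : H79.FK (K.map (QuotientGroup.mk' H)) := H79.fk_iff.mp hGH
  obtain ⟨e⟩ := H79.nonempty_quotient_equiv_map H K
  rw [Nat.card_congr e.toEquiv]
  set Kb := K.map (QuotientGroup.mk' H) with hKb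
  have hInt : H82.IntFPF Kb := h1.intFPF.of_equiv e
  obtain ⟨r, hr, hri⟩ := Nat.exists_prime_and_dvd (n := Kb.index)
    (fun e => h2.2.1 (Subgroup.index_eq_one.mp e))
  obtain ⟨g, hg, hgK⟩ := h2.exists_prime hr hri
  obtain ⟨hcyc, hodd⟩ := H79.isCyclic_of_intFPF_of_fpf hInt (hg ▸ hr) (h2.inf_centralizer hgK)
  have hC : Subgroup.centralizer (Kb : Set (G ⧸ H)) ≤ Kb := by
    obtain ⟨k, hk, hk1⟩ := (Subgroup.bot_or_exists_ne_one Kb).resolve_left h2.1
    exact (Subgroup.centralizer_le (Set.singleton_subset_iff.mpr hk)).trans (h2.2.2 k hk hk1)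
  have hcyc2 : IsCyclic ((G ⧸ H) ⧸ Kb) := h2.intFPF.isCyclic_of_comm (H79.quotient_comm_of_isCyclic hC)
  have e2 : (G ⧸ H) ⧸ Kb ≃* G ⧸ K := QuotientGroup.quotientQuotientEquivQuotient H K hle
  have hcyc3 : IsCyclic (G ⧸ K) := isCyclic_of_surjective e2 e2.surjective
  have hidx : Kb.index = Nat.card (G ⧸ K) := Nat.card_congr e2.toEquiv
  haveI hnil : Group.IsNilpotent H :=
    haveI := h1.isNilpotent
    Group.nilpotent_of_mulEquiv (Subgroup.subgroupOfEquivOfLe hle)
  have hc1 : (Nat.card Kb).Coprime (Nat.card H) := by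
    have := h1.coprime
    rw [H1.card_subgroupOf_of_le hle] at this
    rw [hKb, H1.card_map_mk'_eq_relIndex]
    exact this.symm
  have hc2 : (Nat.card Kb).Coprime Kb.index := h2.coprime
  have hcard : Nat.card G = Nat.card Kb * Kb.index * Nat.card H := by
    rw [Kb.card_mul_index, Subgroup.card_eq_card_quotient_mul_card_subgroup H]
  refine ⟨H1.isSolvable_of_normal_of_quotient H inferInstance
    (H1.isSolvable_of_normal_of_quotient Kb inferInstance inferInstance), hodd,
    Nat.Coprime.mul_right hc1 (hidx ▸ hc2), hcyc3, fun p q hp hq hpq hpG hqG => ?_⟩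
  have hcop : p.Coprime q := (Nat.coprime_primes hp hq).mpr hpq
  have hmix : ∀ {p q : ℕ}, p.Prime → q.Prime → p ≠ q → p ∣ Nat.card Kb → ¬ q ∣ Nat.card Kb →
      ∀ g : G, orderOf g ≠ p * q := by
    intro p q hp hq hpq hpK hqK g hg
    have h0 := (orderOf_pos g).ne'
    have hx := orderOf_pow_orderOf_div h0 (hg ▸ Dvd.intro _ rfl : p ∣ orderOf g)
    have hy := orderOf_pow_orderOf_div h0 (hg ▸ Dvd.intro_left _ rfl : q ∣ orderOf g)
    have hxy : Commute (g ^ (orderOf g / p)) (g ^ (orderOf g / q)) := Commute.pow_pow_self _ _ _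
    generalize g ^ (orderOf g / p) = x at hx hxy
    generalize g ^ (orderOf g / q) = y at hy hxy
    have hxd : orderOf (x : G ⧸ H) ∣ p := hx ▸ orderOf_map_dvd (QuotientGroup.mk' H) x
    have hyd : orderOf (y : G ⧸ H) ∣ q := hy ▸ orderOf_map_dvd (QuotientGroup.mk' H) y
    have hxH : x ∉ H := fun h => hp.one_lt.ne'
      (Nat.eq_one_of_dvd_coprimes hc1 hpK (hx ▸ H1.orderOf_dvd_card_of_mem h))
    have hxK : (x : G ⧸ H) ∈ Kb :=
      H1.mem_of_coprime_index ((hc2.coprime_dvd_left hpK).coprime_dvd_left hxd)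
    have hyK : (y : G ⧸ H) ∈ Kb := h2.2.2 _ hxK (fun e => hxH ((QuotientGroup.eq_one_iff x).mp e))
      (Subgroup.mem_centralizer_singleton_iff.mpr (hxy.symm.map (QuotientGroup.mk' H)))
    have hyH : y ∈ H := by
      rw [← QuotientGroup.eq_one_iff, ← orderOf_eq_one_iff]
      exact Nat.eq_one_of_dvd_coprimes ((hq.coprime_iff_not_dvd).mpr hqK) hyd
        (H1.orderOf_dvd_card_of_mem hyK)
    have hxK' : x ∈ K := by
      have : x ∈ Kb.comap (QuotientGroup.mk' H) := hxK
      rwa [hKb, Subgroup.comap_map_eq, QuotientGroup.ker_mk', sup_eq_left.mpr hle] at this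
    have hy1 : y ≠ 1 := by rintro rfl; rw [orderOf_one] at hy; exact hq.one_lt.ne hy
    have hm : (⟨x, hxK'⟩ : K) ∈ Subgroup.centralizer {(⟨y, hle hyH⟩ : K)} :=
      Subgroup.mem_centralizer_singleton_iff.mpr (Subtype.ext hxy)
    exact hxH (h1.2.2 ⟨y, hle hyH⟩ hyH (fun e => hy1 (congrArg Subtype.val e)) hm)
  constructor
  · rintro ⟨g, hg⟩
    constructor
    · intro h
      by_contra h'
      exact hmix hp hq hpq h h' g hg
    · intro h
      by_contra h'
      exact hmix hq hp hpq.symm h h' g (by rw [hg, mul_comm])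
  · intro hiff
    by_cases hpK : p ∣ Nat.card Kb
    · obtain ⟨k, hk⟩ := IsCyclic.exists_ofOrder_eq_natCard (α := Kb)
      obtain ⟨x, hx⟩ := QuotientGroup.mk'_surjective H k
      refine lift_ord (QuotientGroup.mk' H) (x := x) ?_
      rw [hx, Subgroup.orderOf_coe, hk]
      exact hcop.mul_dvd_of_dvd_of_dvd hpK (hiff.mp hpK)
    have hqK : ¬ q ∣ Nat.card Kb := fun h => hpK (hiff.mpr h)
    have split : ∀ {p : ℕ}, p.Prime → p ∣ Nat.card G → ¬ p ∣ Nat.card Kb →
        p ∣ Kb.index ∨ p ∣ Nat.card H := by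
      intro p hp hd hn
      rw [hcard, hp.dvd_mul, hp.dvd_mul] at hd
      tauto
    rcases split hp hpG hpK with h3 | h3 <;> rcases split hq hqG hqK with h4 | h4
    · obtain ⟨k, hk⟩ := IsCyclic.exists_ofOrder_eq_natCard (α := G ⧸ K)
      obtain ⟨x, rfl⟩ := QuotientGroup.mk'_surjective K k
      refine lift_ord (QuotientGroup.mk' K) (x := x) ?_
      rw [hk, ← hidx]
      exact hcop.mul_dvd_of_dvd_of_dvd h3 h4
    · rw [mul_comm]; exact mixed H K hle h1 h2 hq hp hpq.symm h4 h3
    · exact mixed H K hle h1 h2 hp hq hpq h3 h4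
    · haveI := Fact.mk hp
      haveI := Fact.mk hq
      obtain ⟨x, hx, hxo⟩ := H1.exists_mem_orderOf_eq_prime hp h3
      obtain ⟨y, hy, hyo⟩ := H1.exists_mem_orderOf_eq_prime hq h4
      have hF : H ≤ fittingSubgroup G := H1.le_fitting inferInstance
      have h5 : Subgroup.zpowers x ≤ pCore p G := H1.le_pCore_of_le_fitting
        (IsPGroup.of_card (n := 1) (by simp [hxo])) ((Subgroup.zpowers_le.mpr hx).trans hF)
      have h6 : Subgroup.zpowers y ≤ pCore q G := H1.le_pCore_of_le_fitting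
        (IsPGroup.of_card (n := 1) (by simp [hyo])) ((Subgroup.zpowers_le.mpr hy).trans hF)
      exact H79.exists_orderOf_eq_mul_of_commute hcop
        (H1.pCore_le_centralizer_pCore hpq (h5 (Subgroup.mem_zpowers x)) y
          (h6 (Subgroup.mem_zpowers y))).symm hxo.symm.dvd hyo.symm.dvd

end Cfsg.Agent.S4001
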