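import Mathlib
import Cfsg.Agent.Base
import Cfsg.Agent.Lib.FGS.SmallExp
import Cfsg.Statements.S4006

set_option autoImplicit false
open Cfsg

namespace Cfsg.Agent.S4006

open Subgroup H79 in
theorem inverts {G : Type*} [Group G] [Finite G] (V : Subgroup G) [V.Normal] {s : G} (hs : s * s = 1)
    (h : V ⊓ centralizer {s} = ⊥) : (∀ v ∈ V, s * v * s⁻¹ = v⁻¹) ∧ IsMulCommutative V := by
  let φ : MulAut V := MulAut.conjNormal s
  have hφ : MonoidHom.FixedPointFree φ := by
    intro g hg
    have := congrArg Subtype.val hg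
    rw [MulAut.conjNormal_apply] at this
    exact Subtype.ext (H2.inf_centralizer_singleton_eq_bot_iff.mp h g g.2
      (mul_inv_eq_iff_eq_mul.mp this).symm)
  have hi : Function.Involutive φ := fun g => by
    rw [← MulAut.mul_apply, ← map_mul, hs, map_one, MulAut.one_apply]
  refine ⟨fun v hv => ?_, ⟨⟨fun a b => hφ.commute_all_of_involutive hi a b⟩⟩⟩
  have := congrArg Subtype.val (congrFun (hφ.coe_eq_inv_of_involutive hi) ⟨v, hv⟩)
  rwa [MulAut.conjNormal_apply] at this

/-- A finite group whose set of element orders is exactly {1, 2, 3, 4} has a normal subgroup N such that either N is a 2-group of exponent 4 and nilpotency class at most 2 with G/N of order 3, or N is an elementary abelian 2-group with G/N isomorphic to the symmetric group of degree 3, or N is an elementary abelian 3-group with G/N cyclic of order 4 or quaternion of order 8. -/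
theorem result {G : Type*} [Group G] [Finite G] (h : Set.range (orderOf : G → ℕ) = {k : ℕ | 1 ≤ k ∧ k ≤ 4}) :
    ∃ (N : Subgroup G) (_ : N.Normal),
      (IsPGroup 2 ↥N ∧ Monoid.exponent ↥N = 4 ∧ Group.nilpotencyClass ↥N ≤ 2 ∧ N.index = 3) ∨
      (Cfsg.IsElementaryAbelian 2 N ∧ Nonempty (G ⧸ N ≃* Equiv.Perm (Fin 3))) ∨
      (Cfsg.IsElementaryAbelian 3 N ∧ ((IsCyclic (G ⧸ N) ∧ N.index = 4) ∨ Nonempty (G ⧸ N ≃* QuaternionGroup 2))) := by
  classical
  haveI := Fact.mk Nat.prime_three
  have hmem : ∀ g : G, 1 ≤ orderOf g ∧ orderOf g ≤ 4 := fun g => by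
    have : orderOf g ∈ Set.range (orderOf : G → ℕ) := ⟨g, rfl⟩
    rwa [h] at this
  have h43 : ∀ g : G, g ^ 4 = 1 ∨ orderOf g = 3 := by
    intro g
    obtain ⟨h1, h2⟩ := hmem g
    rw [← orderOf_dvd_iff_pow_eq_one]
    interval_cases orderOf g <;> simp
  have hno : ∀ g : G, orderOf g ≠ 2 * 3 := fun g e => by have := hmem g; omega
  have hno' : ∀ g : G, orderOf g ≠ 3 * 2 := hno
  obtain ⟨y, hy⟩ : 4 ∈ Set.range (orderOf : G → ℕ) := by rw [h]; constructor <;> norm_num
  obtain ⟨x0, hx0⟩ : 3 ∈ Set.range (orderOf : G → ℕ) := by rw [h]; constructor <;> norm_num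
  have h3G : 3 ∣ Nat.card G := hx0 ▸ orderOf_dvd_natCard x0
  have hpr : ∀ r : ℕ, r.Prime → r ∣ Nat.card G → r = 2 ∨ r = 3 := fun r hr hd => by
    haveI := Fact.mk hr
    obtain ⟨g, hg⟩ := exists_prime_orderOf_dvd_card' r hd
    have := hmem g
    have := hr.two_le
    have : r ≠ 4 := by rintro rfl; norm_num at hr
    omega
  haveI : Group.IsSolvable G := H79.isSolvable_of_primes Nat.prime_two Nat.prime_three hpr
  haveI : Nontrivial G := ⟨⟨y, 1, by rintro rfl; simp at hy⟩⟩
  have he3 : ∀ {A : Subgroup G}, IsPGroup 3 A → ∀ a ∈ A, a ^ 3 = 1 := by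
    intro A hA a ha
    rcases h43 a with h' | h'
    · by_contra h5
      have h6 : a ≠ 1 := by rintro rfl; simp at h5
      have := (H79.prime_dvd_orderOf_of_isPGroup hA ha h6).trans (orderOf_dvd_of_pow_eq_one h')
      norm_num at this
    · rw [← h', pow_orderOf_eq_one]
  have he2 : ∀ {A : Subgroup G}, IsPGroup 2 A → ∀ a ∈ A, a ^ 4 = 1 := by
    intro A hA a ha
    refine (h43 a).resolve_right fun h' => ?_
    have h6 : a ≠ 1 := by rintro rfl; simp at h'
    have := H79.prime_dvd_orderOf_of_isPGroup hA ha h6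
    omega
  have hz2 : ∀ g : G, g ^ 4 = 1 → IsPGroup 2 (Subgroup.zpowers g) := fun g hg =>
    IsPGroup.of_card_dvd_pow (n := 2) (by rw [Nat.card_zpowers]; exact orderOf_dvd_of_pow_eq_one hg)
  have hz3 : ∀ g : G, orderOf g = 3 → IsPGroup 3 (Subgroup.zpowers g) := fun g hg =>
    IsPGroup.of_card (n := 1) (by rw [Nat.card_zpowers, hg, pow_one])
  obtain ⟨V, hVm, -, hVc, r, hr, hrV, -, hVp⟩ := H3.exists_normal_elementary_le (⊤ : Subgroup G)
    top_ne_bot inferInstance
  haveI := hVm.normal
  have hV := hVm.ne_bot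
  rcases hpr r hr (hrV.trans (Subgroup.card_subgroup_dvd_card V)) with rfl | rfl
  · obtain ⟨Q⟩ : Nonempty (Sylow 3 G) := inferInstance
    have hQne : (Q : Subgroup G) ≠ ⊥ := Q.ne_bot_of_dvd_card h3G
    have hQc : Nat.card Q = 3 := H79.card_eq_prime_of_semiregular hV Subgroup.le_normalizer_of_normal
      (he3 Q.isPGroup') hQne (H79.semiregular_of_no_mul (by norm_num) hno hVp Q.isPGroup')
    obtain ⟨x, hxQ, hx⟩ := H1.exists_mem_orderOf_eq_prime (H := (Q : Subgroup G)) Nat.prime_three
      hQc.symm.dvd
    have hx1 : x ≠ 1 := by rintro rfl; simp at hx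
    have hx3 : x ^ 3 = 1 := by rw [← hx, pow_orderOf_eq_one]
    have hQx : (Q : Subgroup G) = Subgroup.zpowers x :=
      (Subgroup.eq_of_le_of_card_ge (Subgroup.zpowers_le.mpr hxQ) (by rw [hQc, Nat.card_zpowers, hx])).symm
    have hfp : ∀ (A : Subgroup G) [A.Normal], IsPGroup 2 A →
        (MulAut.conjNormal x : MulAut A) ^ 3 = 1 ∧ ∀ g : A, MulAut.conjNormal x g = g → g = 1 := by
      intro A _ hA
      refine ⟨by rw [← map_pow, hx3, map_one], fun g hg => ?_⟩
      have := congrArg Subtype.val hg
      rw [MulAut.conjNormal_apply] at this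
      exact Subtype.ext (H2.inf_centralizer_singleton_eq_bot_iff.mp
        (H79.semiregular_of_no_mul (by norm_num) hno hA Q.isPGroup' x hxQ hx1) g g.2
        (mul_inv_eq_iff_eq_mul.mp this).symm)
    by_cases hNQ : Subgroup.normalizer ((Q : Subgroup G) : Set G) ≤
        Subgroup.centralizer ((Q : Subgroup G) : Set G)
    · have hc := MonoidHom.ker_transferSylow_isComplement' Q hNQ
      set K := (MonoidHom.transferSylow Q hNQ).ker with hKdef
      have hK : IsPGroup 2 K := H79.isPGroup_of_primes Nat.prime_two fun r hr hd =>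
        (hpr r hr (hd.trans (Subgroup.card_subgroup_dvd_card K))).resolve_right (by
          rintro rfl; exact MonoidHom.not_dvd_card_ker_transferSylow Q hNQ hd)
      have hidx : K.index = 3 := by rw [hc.symm.index_eq_card, hQc]
      refine ⟨K, inferInstance, Or.inl ⟨hK, ?_, (H79.class_le_two_of_fpf_three _ (hfp K hK).1
        (hfp K hK).2).2, hidx⟩⟩
      have hyK : y ∈ K := H1.mem_of_coprime_index (by rw [hy, hidx]; norm_num)
      refine Nat.dvd_antisymm (Monoid.exponent_dvd_of_forall_pow_eq_one fun g =>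
        Subtype.ext (he2 hK g g.2)) ?_
      have := Monoid.order_dvd_exponent (⟨y, hyK⟩ : K)
      rwa [← Subgroup.orderOf_coe, hy] at this
    · obtain ⟨t, htN, htC⟩ := SetLike.not_le_iff_exists.mp hNQ
      have htx : ¬ Commute t x := by
        intro hc
        apply htC
        rw [hQx, H2.centralizer_zpowers, Subgroup.mem_centralizer_singleton_iff]
        exact hc
      have hti : t * x * t⁻¹ = x⁻¹ := by
        have h1 : t * x * t⁻¹ ∈ Subgroup.zpowers x := by
          rw [← hQx]; exact (Subgroup.mem_normalizer_iff.mp htN x).mp hxQ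
        obtain ⟨k, hk, e⟩ := (mem_zpowers_iff_mem_range_orderOf (x := x)).mp h1 |> Finset.mem_image.mp
        rw [hx, Finset.mem_range] at hk
        interval_cases k
        · exfalso; apply hx1
          have : x = t⁻¹ * (t * x * t⁻¹) * t := by group
          rw [this, ← e]; simp
        · exact absurd (mul_inv_eq_iff_eq_mul.mp (by simpa using e.symm)) htx
        · rw [← e, eq_inv_iff_mul_eq_one, ← pow_succ, hx3]
      have ht4 : t ^ 4 = 1 := by
        refine (h43 t).resolve_right fun h' => ?_
        have h1 := H79.commute_sq_of_inverts hti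
        apply htx
        have : t = (t * t) ^ 2 := by
          have : t ^ 3 = 1 := by rw [← h', pow_orderOf_eq_one]
          calc t = t * t ^ 3 := by rw [this, mul_one]
            _ = (t * t) ^ 2 := by simp only [pow_succ, pow_zero, one_mul, mul_assoc]
        rw [this]
        exact (h1.symm.pow_left 2)
      have ht2 : t * t = 1 := H2.inf_centralizer_singleton_eq_bot_iff.mp
        (H79.semiregular_of_no_mul (by norm_num) hno (hz2 t ht4) Q.isPGroup' x hxQ hx1) _
        (mul_mem (Subgroup.mem_zpowers t) (Subgroup.mem_zpowers t)) (H79.commute_sq_of_inverts hti).symm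
      set A := pCore 2 G with hAdef
      have hA : IsPGroup 2 A := H1.isPGroup_pCore
      have hxA : x ∉ A := fun hh => by
        have := H79.prime_dvd_orderOf_of_isPGroup hA hh hx1
        omega
      have htA : t ∉ A := fun hh => by
        apply hxA
        have h1 : t * (x * t⁻¹ * x⁻¹) ∈ A :=
          mul_mem hh ((inferInstance : A.Normal).conj_mem _ (inv_mem hh) x)
        have h2 : t * (x * t⁻¹ * x⁻¹) = x := by
          calc t * (x * t⁻¹ * x⁻¹) = t * x * t⁻¹ * x⁻¹ := by group
            _ = x⁻¹ * x⁻¹ * x ^ 3 := by rw [hti, hx3, mul_one]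
            _ = x := by group
        rwa [h2] at h1
      refine ⟨A, inferInstance, Or.inr (Or.inl ⟨?_, ?_⟩)⟩
      · have hsq : ∀ a : A, a ^ 2 = 1 := by
          refine H79.sq_eq_one_of_sym_three (MulAut.conjNormal x) (MulAut.conjNormal t) (hfp A hA).1
            (hfp A hA).2 ?_ (fun a => Subtype.ext (he2 hA a a.2)) fun a => Subtype.ext ?_
          · rw [← map_mul, ← map_mul]
            congr 1
            calc x * t * x = x * (t * x * t⁻¹) * t := by group
              _ = t := by rw [hti]; group
          · have h1 : ((a : G) * t) ^ 4 = 1 := he2 (hA.to_sup_of_normal_left (hz2 t ht4)) _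
              (Subgroup.mul_mem_sup a.2 (Subgroup.mem_zpowers t))
            rw [Subgroup.coe_pow, Subgroup.coe_mul, MulAut.conjNormal_apply,
              inv_eq_of_mul_eq_one_right ht2, Subgroup.coe_one, ← h1]
            simp only [pow_succ, pow_zero, one_mul, mul_assoc]
        have e : ∀ a : A, a⁻¹ = a := fun a =>
          inv_eq_of_mul_eq_one_right (by rw [← pow_two, hsq a])
        refine ⟨⟨⟨fun a b => ?_⟩⟩, fun a ha => congrArg Subtype.val (hsq ⟨a, ha⟩)⟩
        have := e (a * b)
        rw [mul_inv_rev, e, e] at this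
        exact this.symm
      · have hx1' : (x : G ⧸ A) ≠ 1 := fun e => hxA ((QuotientGroup.eq_one_iff x).mp e)
        refine H79.nonempty_equiv_perm_three (t := (t : G ⧸ A)) (x := (x : G ⧸ A)) ?_
          (by rw [← QuotientGroup.mk_mul, ht2]; rfl) (by rw [← QuotientGroup.mk_pow, hx3]; rfl) hx1'
          (by simp only [← QuotientGroup.mk_mul, ← QuotientGroup.mk_inv, hti])
        have hdv : Nat.card (G ⧸ A) ∣ Nat.card G := Subgroup.card_quotient_dvd_card A
        have hF : fittingSubgroup (G ⧸ A) ≤ pCore 3 (G ⧸ A) := by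
          rw [H1.fitting_eq_iSup_pCore]
          refine iSup_le fun q => ?_
          by_cases hb : pCore (q : ℕ) (G ⧸ A) = ⊥
          · rw [hb]; exact bot_le
          haveI := Fact.mk q.2
          have h1 : (q : ℕ) ∣ Nat.card (pCore (q : ℕ) (G ⧸ A)) :=
            H1.isPGroup_pCore.card_eq_or_dvd.resolve_left (fun e => hb (Subgroup.card_eq_one.mp e))
          rcases hpr q q.2 (h1.trans ((Subgroup.card_subgroup_dvd_card _).trans hdv)) with e | e
          · rw [e] at hb; exact absurd H1.pCore_quotient_pCore hb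
          · rw [e]
        set F := fittingSubgroup (G ⧸ A) with hFdef
        have hFp : IsPGroup 3 F := H1.isPGroup_pCore.to_le hF
        have hFc : Nat.card F ∣ 3 := by
          obtain ⟨k, hk⟩ := IsPGroup.iff_card.mp hFp
          have h1 : 3 ^ k ∣ Nat.card G := hk ▸ (Subgroup.card_subgroup_dvd_card F).trans hdv
          rw [hk]
          conv_rhs => rw [← hQc, Q.card_eq_multiplicity]
          exact pow_dvd_pow 3 ((Nat.prime_three.pow_dvd_iff_le_factorization Nat.card_pos.ne').mp h1)
        have hC : Subgroup.centralizer (F : Set (G ⧸ A)) ≤ F := H1.centralizer_fitting_le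
        haveI : IsCyclic F := isCyclic_of_card_dvd_prime hFc
        have h1 : (MulAut.conjNormal : (G ⧸ A) →* MulAut F).ker ≤ F := by
          refine le_trans (fun g hg => ?_) hC
          intro f hf
          have := congrArg Subtype.val (congrArg (fun φ : MulAut F => φ ⟨f, hf⟩) (MonoidHom.mem_ker.mp hg))
          simp only [MulAut.conjNormal_apply, MulAut.one_apply] at this
          exact (mul_inv_eq_iff_eq_mul.mp this).symm
        have h2 : F.index ∣ Nat.card (MulAut F) := (Subgroup.index_dvd_of_le h1).trans (by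
          rw [Subgroup.index_ker]; exact Subgroup.card_subgroup_dvd_card _)
        rw [IsCyclic.card_mulAut] at h2
        rw [← F.card_mul_index]
        rcases (Nat.dvd_prime Nat.prime_three).mp hFc with e | e <;> rw [e] at h2 ⊢
        · have := Nat.le_of_dvd (by decide) h2
          simp at this; omega
        · have := Nat.le_of_dvd (by decide) h2
          have e2 : Nat.totient 3 = 2 := by decide
          omega
  · set A := pCore 3 G with hAdef
    have hA : IsPGroup 3 A := H1.isPGroup_pCore
    have hsr : ∀ {B : Subgroup G}, IsPGroup 3 B → ∀ s : G, s ^ 4 = 1 → s ≠ 1 →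
        B ⊓ Subgroup.centralizer {s} = ⊥ := fun hB s hs h1 =>
      H79.semiregular_of_no_mul (by norm_num) hno' hB (hz2 s hs) s (Subgroup.mem_zpowers s) h1
    have hCV : Subgroup.centralizer (V : Set G) ≤ A := by
      refine H1.le_pCore fun g => ⟨1, Subtype.ext ?_⟩
      rcases h43 g with h' | h'
      · by_contra h1
        have h2 : (g : G) ≠ 1 := fun e => h1 (by simp [e])
        apply hV
        rw [← hsr hVp g h' h2, left_eq_inf]
        intro v hv
        exact Subgroup.mem_centralizer_singleton_iff.mpr (g.2 v hv)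
      · simp only [pow_one, Subgroup.coe_pow, Subgroup.coe_one]
        rw [← h', pow_orderOf_eq_one]
    have hinv : ∀ s : G, orderOf s = 2 → ∀ v ∈ V, s * v * s⁻¹ = v⁻¹ := by
      intro s hs
      have h2 : s * s = 1 := by rw [← pow_two, ← hs, pow_orderOf_eq_one]
      exact (inverts V h2 (hsr hVp s (by rw [← orderOf_dvd_iff_pow_eq_one, hs]; norm_num)
        (by rintro rfl; simp at hs))).1
    have heq : ∀ s t : G, orderOf s = 2 → orderOf t = 2 → (s : G ⧸ A) = t := by
      intro s t hs ht
      refine QuotientGroup.eq.mpr (hCV fun v hv => ?_)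
      have := (hinv s hs v hv).trans (hinv t ht v hv).symm
      calc v * (s⁻¹ * t) = s⁻¹ * (s * v * s⁻¹) * t := by group
        _ = s⁻¹ * t * v := by rw [this]; group
    have hs : orderOf (y ^ 2) = 2 := by rw [orderOf_pow_of_dvd (by norm_num) (by rw [hy]; norm_num), hy]
    have hdv : ∀ g : G, orderOf (g : G ⧸ A) ∣ orderOf g := fun g =>
      orderOf_map_dvd (QuotientGroup.mk' A) g
    have hodd : ∀ g : G, g ^ 4 = 1 → g ∈ A → g = 1 := by
      intro g hg hgA
      by_contra h1
      have := (H79.prime_dvd_orderOf_of_isPGroup hA hgA h1).trans (orderOf_dvd_of_pow_eq_one hg)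
      norm_num at this
    have hs' : orderOf ((y ^ 2 : G) : G ⧸ A) = 2 := by
      have h1 := hdv (y ^ 2)
      rw [hs] at h1
      refine ((Nat.dvd_prime Nat.prime_two).mp h1).resolve_left fun e => ?_
      have := hodd _ (by rw [← orderOf_dvd_iff_pow_eq_one, hs]; norm_num)
        ((QuotientGroup.eq_one_iff _).mp (orderOf_eq_one_iff.mp e))
      rw [this] at hs; simp at hs
    have h3A : ∀ g : G, orderOf g = 3 → g ∈ A := by
      intro g hg
      by_contra hgA
      have h1 := hdv g
      rw [hg] at h1
      have h2 : orderOf (g : G ⧸ A) = 3 := ((Nat.dvd_prime Nat.prime_three).mp h1).resolve_left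
        fun e => hgA ((QuotientGroup.eq_one_iff _).mp (orderOf_eq_one_iff.mp e))
      have h3 := heq (g * y ^ 2 * g⁻¹) (y ^ 2) (((MulAut.conj g).orderOf_eq _).trans hs) hs
      rw [QuotientGroup.mk_mul, QuotientGroup.mk_mul, QuotientGroup.mk_inv] at h3
      have h4 : Commute (g : G ⧸ A) ((y ^ 2 : G) : G ⧸ A) := mul_inv_eq_iff_eq_mul.mp h3
      have h5 := h4.orderOf_mul_eq_mul_orderOf_of_coprime (by rw [h2, hs']; norm_num)
      rw [h2, hs', ← QuotientGroup.mk_mul] at h5
      have h6 := hdv (g * y ^ 2)
      rw [h5] at h6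
      have := Nat.le_of_dvd (orderOf_pos _) h6
      have := hmem (g * y ^ 2)
      omega
    have hq4 : ∀ g : G ⧸ A, g ^ 4 = 1 := by
      intro g
      obtain ⟨g, rfl⟩ := QuotientGroup.mk_surjective g
      rcases h43 g with h' | h'
      · rw [← QuotientGroup.mk_pow, h']; rfl
      · rw [(QuotientGroup.eq_one_iff g).mpr (h3A g h'), one_pow]
    refine ⟨A, inferInstance, Or.inr (Or.inr ⟨⟨?_, he3 hA⟩, ?_⟩)⟩
    · exact (inverts A (s := y ^ 2) (by rw [← pow_add, ← orderOf_dvd_iff_pow_eq_one, hy]) (hsr hA _
        (by rw [← orderOf_dvd_iff_pow_eq_one, hs]; norm_num) (by intro e; rw [e] at hs; simp at hs))).2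
    · refine H79.cyclic_four_or_quaternion (fun g => ⟨2, hq4 g⟩) (fun a b ha hb => ?_) ⟨y, ?_⟩
        fun g hg => ?_
      · have lift : ∀ a : G, orderOf (a : G ⧸ A) = 2 → orderOf a = 2 := by
          intro a ha
          have h1 := hdv a
          rw [ha] at h1
          have h4 : a ^ 4 = 1 := (h43 a).resolve_right (by omega)
          have h2 : a ^ 2 = 1 := hodd _ (by rw [← pow_mul, mul_comm, pow_mul, h4, one_pow])
            ((QuotientGroup.eq_one_iff _).mp (by rw [QuotientGroup.mk_pow, ← ha, pow_orderOf_eq_one]))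
          exact Nat.dvd_antisymm (orderOf_dvd_of_pow_eq_one h2) h1
        obtain ⟨a, rfl⟩ := QuotientGroup.mk_surjective a
        obtain ⟨b, rfl⟩ := QuotientGroup.mk_surjective b
        exact heq a b (lift a ha) (lift b hb)
      · have h1 := hdv y
        rw [hy] at h1
        have h2 : ¬ orderOf (y : G ⧸ A) ∣ 2 := fun e => by
          rw [orderOf_dvd_iff_pow_eq_one, ← QuotientGroup.mk_pow] at e
          rw [e] at hs'; simp at hs'
        have := Nat.le_of_dvd (by norm_num) h1
        interval_cases orderOf (y : G ⧸ A) <;> simp_all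
      · have := Nat.le_of_dvd (by norm_num) (hg.trans (orderOf_dvd_of_pow_eq_one (hq4 g)))
        omega

end Cfsg.Agent.S4006
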