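import Mathlib
import Cfsg.Statements.S4008
import Cfsg.Agent.Base
import Cfsg.Agent.Lib.Odd42.KL
import Cfsg.Agent.Lib.Comp.LayerStruct
import Cfsg.Agent.Lib.FGS.PrimeOrd
import Cfsg.Agent.Lib.FGS.CyclicAux
import Cfsg.Agent.S0016

set_option autoImplicit false
set_option linter.style.haveILetI false
open Cfsg

namespace Cfsg.Agent.S4008

open Subgroup H69

theorem not_comm {X : Type*} [Group X] [Finite X] {r : ℕ} (hr : r.Prime) (h2 : r ≠ 2)
    (h : ∀ g : X, orderOf g ≠ 2 * r) {a b : X} (ha : 2 ∣ orderOf a) (hb : r ∣ orderOf b) :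
    ¬ Commute a b := fun e => by
  have h3 := orderOf_pow_orderOf_div (orderOf_pos a).ne' ha
  have h4 := orderOf_pow_orderOf_div (orderOf_pos b).ne' hb
  refine h _ (((e.pow_pow _ _).orderOf_mul_eq_mul_orderOf_of_coprime ?_).trans (by rw [h3, h4]))
  rw [h3, h4]
  exact (Nat.coprime_primes Nat.prime_two hr).2 h2.symm

theorem dvd_orderOf {X : Type*} [Group X] [Finite X] {p : ℕ} [Fact p.Prime] (h : IsPGroup p X)
    {x : X} (hx : x ≠ 1) : p ∣ orderOf x := by
  obtain ⟨k, hk⟩ := IsPGroup.iff_orderOf.1 h x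
  exact hk ▸ dvd_pow_self p fun e => hx (orderOf_eq_one_iff.1 (by rw [hk, e, pow_zero]))

theorem index_two {T P : Type*} [Group T] [Finite T] [Group P] [Finite P] [Nontrivial P]
    (hT : IsPGroup 2 T) (ρ : T →* MulAut P) (h : ∀ x ≠ 1, ∀ p, ρ x p = p → p = 1) :
    ∃ c b : T, ∀ x, x ∈ zpowers c ∨ b⁻¹ * x ∈ zpowers c := by
  have h1 : ∀ x : T, orderOf x = 2 → ∀ p, ρ x p = p⁻¹ := fun x hx => congrFun
    (MonoidHom.FixedPointFree.coe_eq_inv_of_involutive (φ := ρ x)
      (h x fun e => by simp [e] at hx) fun p => by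
      rw [← MulAut.mul_apply, ← map_mul, ← sq, ← hx, pow_orderOf_eq_one, map_one, MulAut.one_apply])
  have h2 : ∀ H : Subgroup T, Nat.card H = 2 → ∃ x, orderOf x = 2 ∧ zpowers x = H := fun H hH => by
    obtain ⟨x, hx⟩ := (Subgroup.isCyclic_iff_exists_zpowers_eq_top H).1 (isCyclic_of_prime_card hH)
    exact ⟨x, by rw [← Nat.card_zpowers, hx, hH], hx⟩
  rcases Cfsg.Agent.S0016.result 2 hT fun H K hH hK => by
    obtain ⟨x, x1, rfl⟩ := h2 H hH
    obtain ⟨y, y1, rfl⟩ := h2 K hK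
    obtain ⟨p, hp⟩ := exists_ne (1 : P)
    by_contra e
    refine hp (h (x * y⁻¹) (fun e1 => e (by rw [mul_inv_eq_one.1 e1])) p ?_)
    rw [map_mul, MulAut.mul_apply, h1 _ ((orderOf_inv y).trans y1), h1 x x1, inv_inv]
    with ⟨c, hc⟩ | ⟨-, n, ⟨e⟩⟩
  · exact ⟨c, 1, fun x => .inl (hc x)⟩
  · haveI : NeZero (2 ^ n) := ⟨by positivity⟩
    have h3 : ∀ i, e.symm (.a i) ∈ zpowers (e.symm (.a 1)) := fun i =>
      mem_powers_iff_mem_zpowers.1 ⟨i.val, by
        simp only [← map_pow, QuaternionGroup.a_one_pow, ZMod.natCast_zmod_val]⟩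
    refine ⟨e.symm (.a 1), e.symm (.xa 0), fun x => ?_⟩
    obtain ⟨y, rfl⟩ := e.symm.surjective x
    rcases y with i | i
    · exact .inl (h3 i)
    · exact .inr (by rw [← map_inv, ← map_mul]; exact h3 _)

theorem inf_ne_bot {X : Type*} [Group X] [Finite X] (h : ∀ Y : Subgroup X, IsPGroup 2 Y →
    ∃ c b : X, ∀ x ∈ Y, x ∈ zpowers c ∨ b⁻¹ * x ∈ zpowers c) {A B : Subgroup X}
    (hA : ¬ Group.IsSolvable A) (hB : ¬ Group.IsSolvable B) (hc : A ≤ 𝐂(B)) : A ⊓ B ≠ ⊥ := by
  obtain ⟨P, hP⟩ := exists_isSylowIn 2 A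
  obtain ⟨Q, hQ⟩ := exists_isSylowIn 2 B
  obtain ⟨c, b, h1⟩ := h _ (isPGroup_sup_of_le_normalizer_right hP.isP hQ.isP
    (le_normalizer_of_le_centralizer (hP.le.trans (hc.trans (centralizer_anti hQ.le)))))
  have key : ∀ A R : Subgroup X, ¬ Group.IsSolvable A → IsSylowIn 2 R A → R ≤ P ⊔ Q →
      ∃ x ∈ R ⊓ zpowers c, orderOf x = 2 := fun A R hA hR e => by
    refine exists_orderOf_eq_prime (hR.isP.to_le inf_le_left) fun e1 => hA ?_
    have h2 : ∀ x ∈ R, x ∈ zpowers c → x = 1 := fun x h1 h2 => mem_bot.1 (e1 ▸ mem_inf.2 ⟨h1, h2⟩)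
    have h3 : IsCyclic R := by
      rcases subsingleton_or_nontrivial R with h3 | h3
      · infer_instance
      obtain ⟨g, hg⟩ := exists_ne (1 : R)
      refine ⟨g, fun x => ?_⟩
      rcases h1 x (e x.2) with h4 | h4
      · exact ⟨0, (zpow_zero g).trans (Subtype.ext (h2 x x.2 h4).symm)⟩
      · have := mul_mem (inv_mem ((h1 g (e g.2)).resolve_left fun e => hg
          (Subtype.ext (h2 g g.2 e)))) h4
        exact ⟨1, (zpow_one g).trans (Subtype.ext (inv_mul_eq_one.1
          (h2 _ (mul_mem (inv_mem g.2) x.2) (by simpa [mul_assoc] using this))))⟩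
    obtain ⟨S, rfl⟩ := hR.exists_sylow
    exact H78.PrimeOrd.isSolvable_of_cyclic_sylow S
      ((equivMapOfInjective _ _ A.subtype_injective).isCyclic.2 h3)
  obtain ⟨x, x1, x2⟩ := key A P hA hP le_sup_left
  obtain ⟨y, y1, y2⟩ := key B Q hB hQ le_sup_right
  have e := H80.eq_of_card_eq_of_le_isCyclic inferInstance (zpowers_le.2 x1.2) (zpowers_le.2 y1.2)
    (by rw [Nat.card_zpowers, Nat.card_zpowers, x2, y2])
  intro e1
  have := mem_bot.1 (e1 ▸ mem_inf.2 ⟨hP.le x1.1, zpowers_le.2 (hQ.le y1.1) (e ▸ mem_zpowers x)⟩)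
  simp [this] at x2

/-- Let G be a finite non-solvable group of even order having an odd prime divisor r of its order such that G has no element of order 2r. Let R be the largest solvable normal subgroup of G. Then G/R has a non-abelian simple normal subgroup S with trivial centralizer (so G/R embeds in the automorphism group of S and contains its inner automorphisms). -/
theorem result {G : Type*} [Group G] [Finite G] (hns : ¬ Group.IsSolvable G) (heven : Even (Nat.card G))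
    (r : ℕ) (hr : r.Prime) (hodd : r ≠ 2) (hrG : r ∣ Nat.card G) (hno : ∀ g : G, orderOf g ≠ 2 * r)
    (R : Subgroup G) [R.Normal] (hRs : Group.IsSolvable ↥R) (hRmax : ∀ N : Subgroup G, N.Normal → Group.IsSolvable ↥N → N ≤ R) :
    ∃ S : Subgroup (G ⧸ R), S.Normal ∧ IsSimpleGroup ↥S ∧ ¬ IsMulCommutative ↥S ∧
      Subgroup.centralizer (S : Set (G ⧸ R)) = ⊥ := by
  haveI := Fact.mk hr
  let f := QuotientGroup.mk' R
  have hf : Function.Surjective f := QuotientGroup.mk'_surjective R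
  have hk : f.ker = R := QuotientGroup.ker_mk' R
  have h0 : solvableRadical (G ⧸ R) = ⊥ := comap_injective hf (by
    rw [H1.comap_solvableRadical_of_ker hf (hk.symm ▸ hRs), MonoidHom.comap_bot, hk]
    exact le_antisymm (hRmax _ inferInstance inferInstance) (H1.le_solvableRadical hRs))
  have h1 : ∀ g : G ⧸ R, orderOf g ≠ 2 * r := fun g e => by
    obtain ⟨g, rfl⟩ := hf g
    exact hno _ (orderOf_pow_orderOf_div (orderOf_pos g).ne' (e ▸ orderOf_map_dvd f g))
  have ex : ∀ N : Subgroup (G ⧸ R), N.Normal → N ≠ ⊥ →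
      ∃ S ≤ N, IsComponent S ∧ IsSimpleGroup S := fun N hN h => by
    rcases H23.exists_component_or_prime_le hN.isSubnormal h with h2 | ⟨S, -, b, c, d⟩
    · exact h2
    have := H1.le_solvableRadical_of_isSubnormal b (H2.isSolvable_of_isMulCommutative c)
    rw [h0, le_bot_iff] at this
    simp [this, Nat.not_prime_one] at d
  obtain ⟨S, -, s1, s2⟩ := ex ⊤ inferInstance fun e => hns (H1.isSolvable_of_normal_of_quotient R hRs
    (by haveI := (Subgroup.subsingleton_iff.1 (subsingleton_of_top_eq_bot e)); infer_instance))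
  have ns : ∀ S : Subgroup (G ⧸ R), IsComponent S → ¬ Group.IsSolvable S := fun S h e =>
    H23.IsComponent.not_le_of_isSolvable h e le_rfl
  by_contra hc
  obtain ⟨B, b1, b2⟩ : ∃ B, IsComponent B ∧ S ≤ 𝐂(B) := by
    by_cases hn : S.Normal
    · obtain ⟨B, b1, b2, -⟩ := ex 𝐂(S) inferInstance fun e =>
        hc ⟨S, hn, s2, H23.IsQuasisimple.not_isMulCommutative s1.2, e⟩
      exact ⟨B, b2, le_centralizer_comm.1 b1⟩
    · obtain ⟨g, -, hg⟩ := SetLike.not_le_iff_exists.1 (mt normal_iff_top_le_normalizer.2 hn)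
      exact ⟨_, H23.IsComponent.map_conj s1 g, le_centralizer_of_commutator_eq_bot
        (H23.IsComponent.commutator_eq_bot_of_ne s1 (H23.IsComponent.map_conj s1 g)
          fun e => hg (cj_eq_self_iff.1 e.symm))⟩
  by_cases hq : r ∣ Nat.card (G ⧸ R)
  · obtain ⟨x, hx⟩ := exists_prime_orderOf_dvd_card' r hq
    obtain ⟨t, ht⟩ := exists_prime_orderOf_dvd_card' (G := B) 2 (by
      by_contra e
      exact ns B b1 (Cfsg.Agent.S0205.result (Nat.odd_iff.2 (by omega))))
    have h2 : S ≤ pPrimeCore r (G ⧸ R) := H1.le_pPrimeCore_of_isSubnormal s1.1 (by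
      rw [Nat.coprime_comm, hr.coprime_iff_not_dvd]
      intro e
      obtain ⟨y, hy⟩ := exists_prime_orderOf_dvd_card' r e
      exact not_comm hr hodd h1 (a := t) (b := y) (by rw [orderOf_coe, ht])
        (by rw [orderOf_coe, hy]) (b2 y.2 t t.2))
    have h3 : Nat.card (zpowers x) = r := by rw [Nat.card_zpowers, hx]
    haveI := H42.OF.solvable (φ := (MulAut.conjNormal (H := pPrimeCore r (G ⧸ R))).comp
      (zpowers x).subtype) (h3 ▸ hr) (h3 ▸ hr.odd_of_ne_two hodd)
      (h3 ▸ H1.coprime_card_pPrimeCore.symm) fun y hy => by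
      rw [← Nat.not_even_iff_odd, even_iff_two_dvd, ← orderOf_coe]
      exact fun e => not_comm hr hodd h1 e hx.symm.dvd (mul_inv_eq_iff_eq_mul.1
        (congrArg Subtype.val (hy ⟨x, mem_zpowers x⟩))).symm
    exact ns S s1 (Group.isSolvable_of_isSolvable_injective (inclusion_injective h2))
  obtain ⟨P, hP⟩ := exists_isSylowIn r R
  haveI : Nontrivial P := (nontrivial_iff_ne_bot P).2 (hP.dvd_card_iff.1
    ((hr.dvd_mul.1 (R.card_eq_card_quotient_mul_card_subgroup ▸ hrG)).resolve_left hq))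
  refine inf_ne_bot (fun Y hY => ?_) (ns S s1) (ns B b1) b2 ?_
  · obtain ⟨T, hT⟩ := exists_isSylowIn 2 (𝐍(P) ⊓ Y.comap f)
    obtain ⟨c, b, h2⟩ := index_two hT.isP (P.normalizerMonoidHom.comp
      (inclusion (hT.le.trans inf_le_left))) fun x hx p hp => by
      by_contra e
      exact not_comm hr hodd hno (a := x) (b := p) (orderOf_coe x ▸ dvd_orderOf hT.isP hx)
        (orderOf_coe p ▸ dvd_orderOf hP.isP e)
        (mul_inv_eq_iff_eq_mul.1 (congrArg Subtype.val hp))
    refine ⟨f c, f b, fun y hy => ?_⟩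
    obtain ⟨x, hx, rfl⟩ : y ∈ T.map f := by
      refine (hT.map f).max Y (map_le_iff_le_comap.2 (hT.le.trans inf_le_right)) (fun y hy => ?_)
        hY ▸ hy
      obtain ⟨g, rfl⟩ := hf y
      obtain ⟨n, hn, a, ha, rfl⟩ := hP.frattini (normal_iff_top_le_normalizer.1 ‹_› (mem_top g))
      rw [map_mul, show f n = 1 from (QuotientGroup.eq_one_iff n).2 hn, one_mul] at hy ⊢
      exact ⟨a, ⟨ha, hy⟩, rfl⟩
    refine (h2 ⟨x, hx⟩).imp (fun ⟨k, e⟩ => ⟨k, ?_⟩) fun ⟨k, e⟩ => ⟨k, ?_⟩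
    · simpa using congrArg (f.comp T.subtype) e
    · simpa using congrArg (f.comp T.subtype) e
  · rcases (inferInstance : (center S).Normal).eq_bot_or_eq_top with e | e
    · exact eq_bot_iff.2 fun x hx => congrArg Subtype.val (mem_bot.1 (e ▸ mem_center_iff.2
        fun y => Subtype.ext (b2 y.2 x hx.2).symm : (⟨x, hx.1⟩ : S) ∈ ⊥))
    · exact (H23.IsQuasisimple.not_isMulCommutative s1.2
        ⟨⟨fun x y => mem_center_iff.1 (e ▸ mem_top y) x⟩⟩).elim

end Cfsg.Agent.S4008
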