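import Mathlib
import Cfsg.Statements.S4010
import Cfsg.Agent.Lib.Jordan.DerLen2
-- import your own Cfsg.Agent.* helpers here

set_option autoImplicit false
set_option linter.style.haveILetI false
set_option linter.unusedVariables false
open Cfsg

namespace Cfsg.Agent.S4010

/-- Let F be a field, n ≥ 1, and P a finite p-group (p a prime) admitting an injective homomorphism into the general linear group of degree n over F. Then the derived length of P is at most ⌊log₂ n⌋ + 1: that term of the derived series of P is trivial. -/
theorem result {P : Type*} [Group P] [Finite P] (p : ℕ) [Fact p.Prime] (hP : IsPGroup p P) (F : Type*) [Field F] (n : ℕ) (hn : 1 ≤ n) (ρ : P →* Matrix.GeneralLinearGroup (Fin n) F) (hρ : Function.Injective ρ) : derivedSeries P (Nat.log 2 n + 1) = ⊥ := by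
  have hj := Nat.lt_pow_succ_log_self (b := 2) one_lt_two n
  have h1 := H31.DL.bc_injective (algebraMap F (AlgebraicClosure F)) hρ
  rw [eq_bot_iff, ← (MonoidHom.ker_eq_bot_iff _).2 h1]
  by_cases h : (p : AlgebraicClosure F) = 0
  · have := (CharP.charP_iff_prime_eq_zero (Fact.out : p.Prime)).2 h
    exact H31.DL.der_le_ker_charP _ hP (by simpa using hj.le)
  · exact H31.DL.der_le_ker_cross h n P _ _ hP (by simp) _
      (hj.trans_le (Nat.pow_le_pow_left (Fact.out : p.Prime).two_le _))

end Cfsg.Agent.S4010
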