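import Mathlib
import Cfsg.Statements.S4014
import Cfsg.Agent.Lib.Jordan.DerLen2
-- import your own Cfsg.Agent.* helpers here

set_option autoImplicit false
set_option linter.style.haveILetI false
set_option linter.unusedVariables false
open Cfsg

namespace Cfsg.Agent.S4014

/-- Let p be a prime, n ≥ 1, and P a Sylow p-subgroup of the symmetric group on n letters. Then the derived length of P is exactly k = ⌊log_p n⌋ (the largest k with p^k ≤ n): the k-th derived subgroup of P is trivial and, when k ≥ 1, the (k−1)-st is not. -/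
theorem result (p : ℕ) [Fact p.Prime] (n : ℕ) (hn : 1 ≤ n) (P : Sylow p (Equiv.Perm (Fin n))) : derivedSeries ↥(P : Subgroup (Equiv.Perm (Fin n))) (Nat.log p n) = ⊥ ∧ (1 ≤ Nat.log p n → derivedSeries ↥(P : Subgroup (Equiv.Perm (Fin n))) (Nat.log p n - 1) ≠ ⊥) := by
  have hp : p.Prime := Fact.out
  refine ⟨eq_bot_iff.2 fun g hg => Subtype.ext (Equiv.ext fun x => ?_), fun h => ?_⟩
  · refine H31.DL.der_le_of_index _ _ P.isPGroup' (MulAction.stabilizer _ x) ?_ hg
    rw [MulAction.index_stabilizer]
    exact ((Set.ncard_le_card _).trans (by simp)).trans_lt (Nat.lt_pow_succ_log_self hp.one_lt n)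
  obtain ⟨k, hk⟩ := Nat.exists_eq_add_of_le' h
  have key : ∀ j, IsPGroup p (IteratedWreathProduct (Multiplicative (ZMod p)) (j + 1)) ∧
      derivedSeries (IteratedWreathProduct (Multiplicative (ZMod p)) (j + 1)) j ≠ ⊥ := by
    intro j
    refine ⟨.of_card (by rw [IteratedWreathProduct.card]; simp; rfl), ?_⟩
    induction j with
    | zero =>
      have : Nontrivial (IteratedWreathProduct (Multiplicative (ZMod p)) (0 + 1)) :=
        Finite.one_lt_card_iff_nontrivial.1 (by rw [IteratedWreathProduct.card]; simp [hp.one_lt])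
      exact top_ne_bot
    | succ j ih => exact H31.DL.der_wreath ih
  obtain ⟨e⟩ : Nonempty ((Fin (k + 1) → Multiplicative (ZMod p)) ↪ Fin n) :=
    Function.Embedding.nonempty_of_card_le (by
      simpa [← hk] using Nat.pow_log_le_self p (Nat.pos_iff_ne_zero.1 hn))
  rw [hk]
  exact H31.DL.der_ne_bot_sylow (key k).1 ((Equiv.Perm.viaEmbeddingHom e).comp
    (iteratedWreathToPermHom _ _)) ((Equiv.Perm.viaEmbeddingHom_injective e).comp
      (iteratedWreathToPermHomInj _ _)) (key k).2 P

end Cfsg.Agent.S4014
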