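import Mathlib
import Cfsg.Statements.S4015
import Cfsg.Agent.Lib.Jordan.DerLen2
-- import your own Cfsg.Agent.* helpers here

set_option autoImplicit false
set_option linter.style.haveILetI false
set_option linter.unusedVariables false
open Cfsg

namespace Cfsg.Agent.S4015

/-- Let p be an odd prime, F a finite field with q elements where p does not divide q, and e the multiplicative order of q modulo p. Let n ≥ e and write w = ⌊n/e⌋ and k = ⌊log_p w⌋. Then a Sylow p-subgroup of GL(n, F) has derived length exactly k + 1: its (k+1)-st derived subgroup is trivial and its k-th is not. -/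
theorem result (p : ℕ) [Fact p.Prime] (hp : p ≠ 2) (F : Type*) [Field F] [Fintype F] (q : ℕ) (hq : Fintype.card F = q) (hpq : ¬ p ∣ q) (n : ℕ) (hn : orderOf (q : ZMod p) ≤ n) (P : Sylow p (Matrix.GeneralLinearGroup (Fin n) F)) : derivedSeries ↥(P : Subgroup (Matrix.GeneralLinearGroup (Fin n) F)) (Nat.log p (n / orderOf (q : ZMod p)) + 1) = ⊥ ∧ derivedSeries ↥(P : Subgroup (Matrix.GeneralLinearGroup (Fin n) F)) (Nat.log p (n / orderOf (q : ZMod p))) ≠ ⊥ := by
  subst hq
  refine ⟨H31.DL.der_GL_finite hpq P.isPGroup' (Subgroup.subtype _) (Subgroup.subtype_injective _)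
    (Nat.lt_pow_succ_log_self (Fact.out : p.Prime).one_lt _), ?_⟩
  have he := H31.DL.orderOf_card_pos hpq
  obtain ⟨W, V, _, _, _, _, _, ρ, h1, h2, h3, h4⟩ := H31.DL.exists_rep_der hpq
    (Nat.log p (n / orderOf (Fintype.card F : ZMod p)))
  obtain ⟨f, hf⟩ := H31.DL.exists_GL_of_rep ρ h1 (n := n) (by
    rw [h4, ← Nat.le_div_iff_mul_le he]
    exact Nat.pow_log_le_self _ (Nat.div_pos hn he).ne')
  exact H31.DL.der_ne_bot_sylow h2 f hf h3 P

end Cfsg.Agent.S4015
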