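import Cfsg.Statements.S4017
import Cfsg.Agent.Lib.Misc92.Mixed4
-- import your own Cfsg.Agent.* helpers here

set_option autoImplicit false
open Cfsg

namespace Cfsg.Agent.S4017

/-- Let G be a finite group and let p and q be distinct primes dividing the order of G, with p odd. Suppose that p divides the order of every proper subgroup of G that is neither a q-group nor of order prime to q. Let q^a be the q-part of the order of G. If p > q^a − 1, or if p = q^a − 1 and the Sylow p-subgroups of G are abelian, then p and q are the only primes dividing the order of G. -/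
theorem result {G : Type*} [Group G] [Finite G]
    {p q : ℕ} (hp : p.Prime) (hq : q.Prime) (hpq : p ≠ q) (hp2 : p ≠ 2)
    (hpG : p ∣ Nat.card G) (hqG : q ∣ Nat.card G)
    (hmix : ∀ H : Subgroup G, H ≠ ⊤ → ¬ IsPGroup q H → q ∣ Nat.card H → p ∣ Nat.card H)
    (hlarge : q ^ (Nat.card G).factorization q - 1 < p ∨
      (p = q ^ (Nat.card G).factorization q - 1 ∧ ∀ P : Sylow p G, IsMulCommutative P)) :
    ∀ r : ℕ, r.Prime → r ∣ Nat.card G → r = p ∨ r = q := by
  open Subgroup H69 H92 in
  have := Fact.mk hp
  have := Fact.mk hq
  have hc : ∀ U : Subgroup G, IsPGroup q U → Nat.card U ≤ q ^ (Nat.card G).factorization q := by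
    intro U hU
    obtain ⟨T, hT, h⟩ := exists_isSylowIn_le hU (le_top : U ≤ ⊤)
    have := hT.card_eq_pow_factorization
    rw [card_top] at this
    exact (card_le_of_le h).trans this.le
  refine mixed_main p q hpq hp2 _ G rfl hqG (fun H h1 h2 => ?_) (fun U hU => ?_)
    (fun U hU e X hX => ?_)
  · by_contra h3
    refine h1 (hmix H ?_ h3 h2)
    rintro rfl
    exact h1 (by rwa [card_top])
  · have := hc U hU
    rcases hlarge with h | ⟨h, -⟩ <;> omega
  · have h1 := hc U hU
    rcases hlarge with h | ⟨-, h⟩
    · omega
    obtain ⟨P, hP⟩ := hX.exists_le_sylow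
    exact hP.trans ((le_centralizer_iff_isMulCommutative.2 (h P)).trans (centralizer_anti hP))

end Cfsg.Agent.S4017
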