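import Mathlib
import Cfsg.Agent.Base
import Cfsg.Agent.Lib.FGS.CycCount
import Cfsg.Statements.S4157

set_option autoImplicit false
open Cfsg

namespace Cfsg.Agent.S4157

/-- Let G be a finite p-group of order p^m that is not cyclic and, when p = 2, not of maximal class (nilpotency class m − 1). Then for every 1 ≤ k < m the number of subgroups of G of order p^k is congruent to 1 + p modulo p². -/
theorem result {G : Type*} [Group G] [Finite G] {p : ℕ} [Fact p.Prime] (m : ℕ)
    (hG : Nat.card G = p ^ m) (hnc : ¬ IsCyclic G) (h2 : p = 2 → Group.nilpotencyClass G ≠ m - 1)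
    (k : ℕ) (hk1 : 1 ≤ k) (hk2 : k < m) :
    Nat.card {H : Subgroup G // Nat.card H = p ^ k} ≡ 1 + p [MOD p ^ 2] := by
  have hp : p.Prime := Fact.out
  obtain ⟨j, rfl⟩ : ∃ j, k = j + 1 := ⟨k - 1, by omega⟩
  have h1 := H79.ncard_subgroups_add_cyclic_modEq (G := G) hp hk1 (hG ▸ pow_dvd_pow p hk2)
  obtain ⟨c, hc⟩ := H79.dvd_ncard_cyclic_of_dvd hp
    (H79.dvd_ncard_orderOf_of_not_isCyclic hG hnc h2 j)
  rw [hc, ← mul_assoc, ← pow_two] at h1
  refine Nat.ModEq.trans ?_ h1
  exact (Nat.modEq_iff_dvd' (Nat.le_add_right _ _)).2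
    (by change p ^ 2 ∣ _ + p ^ 2 * c - _; rw [Nat.add_sub_cancel_left]; exact dvd_mul_right _ _)

end Cfsg.Agent.S4157
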