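import Mathlib
import Cfsg.Agent.Base
import Cfsg.Agent.Lib.FGS.PLength
import Cfsg.Agent.S4157
import Cfsg.Statements.S4024

set_option autoImplicit false
open Cfsg

namespace Cfsg.Agent.S4024

open scoped commutatorElement

theorem le_or_cyclic {G : Type*} [Group G] [Finite G] {p : ℕ} [Fact p.Prime] (hp : p ≠ 2)
    (hC : ∀ H K : Subgroup G, IsPGroup p H → IsPGroup p K → Nat.card H = Nat.card K →
      ∃ g : G, K = H.map (MulAut.conj g).toMonoidHom) (P : Sylow p G)
    (N : Subgroup G) [hN : N.Normal] (hdiv : p ∣ Nat.card N) : (P : Subgroup G) ≤ N ∨ IsCyclic P := by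
  have hpp : p.Prime := Fact.out
  by_contra hh
  push Not at hh
  obtain ⟨h1, h2⟩ := hh
  set Q : Subgroup G := (P : Subgroup G) ⊓ N with hQ
  have hQp : IsPGroup p Q := P.isPGroup'.to_le inf_le_left
  obtain ⟨m, hm⟩ := IsPGroup.iff_card.1 P.isPGroup'
  obtain ⟨k, hk⟩ := IsPGroup.iff_card.1 hQp
  have hlt : Q < P := lt_of_le_of_ne inf_le_left fun e => h1 (e ▸ inf_le_right)
  have hkm : k < m := by
    have := H1.card_lt_of_lt hlt
    rw [hk, hm] at this
    exact (Nat.pow_lt_pow_iff_right hpp.one_lt).1 this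
  have hk1 : 1 ≤ k := by
    obtain ⟨x, hxN, hx⟩ := H1.exists_mem_orderOf_eq_prime hpp hdiv
    have hxp : IsPGroup p (Subgroup.zpowers x) := IsPGroup.of_card (n := 1) (by rw [Nat.card_zpowers, hx, pow_one])
    obtain ⟨R, hR⟩ := hxp.exists_le_sylow
    obtain ⟨g, hg⟩ := MulAction.exists_smul_eq G R P
    have hgx : g * x * g⁻¹ ∈ (P : Subgroup G) := by
      rw [← hg, Sylow.coe_subgroup_smul]
      exact H1.conj_mem_conj_smul (hR (Subgroup.mem_zpowers x))
    have hgQ : g * x * g⁻¹ ∈ Q := ⟨hgx, hN.conj_mem x hxN g⟩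
    by_contra h0
    have h0' : k = 0 := by omega
    rw [h0', pow_zero, Subgroup.card_eq_one] at hk
    rw [hk, Subgroup.mem_bot, mul_inv_eq_one, mul_eq_left] at hgQ
    rw [hgQ, orderOf_one] at hx
    exact hpp.one_lt.ne hx
  have hcount := Cfsg.Agent.S4157.result (G := (P : Subgroup G)) m hm h2 (fun h => absurd h hp) k hk1 hkm
  have hone : Nat.card {H : Subgroup (P : Subgroup G) // Nat.card H = p ^ k} = 1 := by
    rw [Nat.card_eq_one_iff_exists]
    refine ⟨⟨Q.subgroupOf P, by rw [H1.card_subgroupOf_of_le hlt.le, hk]⟩, fun ⟨R, hR⟩ => Subtype.ext ?_⟩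
    have hR' : Nat.card (R.map (P : Subgroup G).subtype) = p ^ k := by
      rw [Subgroup.card_map_of_injective (P : Subgroup G).subtype_injective, hR]
    obtain ⟨g, hg⟩ := hC Q _ hQp (IsPGroup.of_card hR') (hk.trans hR'.symm)
    have hle : R ≤ Q.subgroupOf P := by
      intro x hx
      have : (x : G) ∈ R.map (P : Subgroup G).subtype := ⟨x, hx, rfl⟩
      rw [hg] at this
      obtain ⟨y, hy, e⟩ := this
      refine ⟨x.2, ?_⟩
      change (x : G) ∈ N
      rw [← e]
      exact hN.conj_mem y hy.2 g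
    exact Subgroup.eq_of_le_of_card_ge hle (by rw [H1.card_subgroupOf_of_le hlt.le, hk, hR])
  rw [hone] at hcount
  have := (Nat.modEq_iff_dvd' (by omega : 1 ≤ 1 + p)).1 hcount
  rw [Nat.add_sub_cancel_left] at this
  have h3 := Nat.le_of_dvd hpp.pos this
  have := hpp.one_lt
  nlinarith

/-- Let p be an odd prime and G a finite group in which any two p-subgroups of the same order are conjugate, with Sylow p-subgroup P. If H is a normal p-solvable subgroup of G whose order is divisible by p, then P is abelian, and either P ≤ H or P is cyclic. -/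
theorem result {G : Type*} [Group G] [Finite G]
    {p : ℕ} [Fact p.Prime] (hp : p ≠ 2) (hC : ∀ H K : Subgroup G, IsPGroup p H → IsPGroup p K → Nat.card H = Nat.card K →
      ∃ g : G, K = H.map (MulAut.conj g).toMonoidHom) (P : Sylow p G)
    (H : Subgroup G) [H.Normal] (hsolv : Cfsg.IsPSolvable p H) (hdiv : p ∣ Nat.card H) :
    IsMulCommutative P ∧ ((P : Subgroup G) ≤ H ∨ IsCyclic P) := by
  have hpp : p.Prime := Fact.out
  set O := pPrimeCore p H with hO
  have hs := H76.isPSolvable_quotient hsolv O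
  have hcen := H23.centralizer_pCore_le_of_isPSolvable hs H1.pPrimeCore_quotient_pPrimeCore
  have hnt : pCore p (H ⧸ O) ≠ ⊥ := by
    intro h
    rw [h] at hcen
    have htop : O = ⊤ := by
      rw [eq_top_iff]
      intro x _
      have : (x : H ⧸ O) ∈ (⊥ : Subgroup (H ⧸ O)) := hcen (by simp [Subgroup.mem_centralizer_iff])
      exact (QuotientGroup.eq_one_iff x).1 (Subgroup.mem_bot.1 this)
    have := H1.pPrimeCore_eq_top_iff.1 htop
    exact hpp.one_lt.ne' (Nat.Coprime.eq_one_of_dvd this.symm hdiv)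
  set Z : Subgroup (H ⧸ O) := (Subgroup.center (pCore p (H ⧸ O))).map (pCore p (H ⧸ O)).subtype with hZ
  have hZc : Z.Characteristic := inferInstance
  have hZp : p ∣ Nat.card Z := by
    have : Nontrivial (pCore p (H ⧸ O)) := (Subgroup.nontrivial_iff_ne_bot _).2 hnt
    have h1 := (H1.isPGroup_pCore (p := p) (G := H ⧸ O)).center_nontrivial
    rw [hZ, Subgroup.card_map_of_injective (pCore p (H ⧸ O)).subtype_injective]
    obtain ⟨n, hn0, hn⟩ := ((H1.isPGroup_pCore (p := p) (G := H ⧸ O)).to_subgroup _).nontrivial_iff_card.1 h1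
    rw [hn]; exact dvd_pow_self p hn0.ne'
  have hN0 : (Z.comap (QuotientGroup.mk' O)).Characteristic := Subgroup.Characteristic.comap_quotient_mk hZc
  set N : Subgroup G := (Z.comap (QuotientGroup.mk' O)).map H.subtype with hN
  have hNn : N.Normal := inferInstance
  have hNp : p ∣ Nat.card N := by
    rw [hN, Subgroup.card_map_of_injective H.subtype_injective, H1.card_comap_mk']
    exact hZp.mul_right _
  rcases le_or_cyclic hp hC P N hNp with h | h
  · refine ⟨⟨⟨fun x y => ?_⟩⟩, Or.inl (h.trans (Subgroup.map_subtype_le _))⟩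
    obtain ⟨a, ha, ea⟩ := h x.2
    obtain ⟨b, hb, eb⟩ := h y.2
    obtain ⟨a', ha', ea'⟩ := Subgroup.mem_comap.1 ha
    obtain ⟨b', -, eb'⟩ := Subgroup.mem_comap.1 hb
    have hc : (QuotientGroup.mk' O) b * (QuotientGroup.mk' O) a = (QuotientGroup.mk' O) a * (QuotientGroup.mk' O) b := by
      rw [← ea', ← eb', ← map_mul, ← map_mul, Subgroup.mem_center_iff.1 ha' b']
    have hm : ⁅a, b⁆ ∈ O := by
      rw [← QuotientGroup.eq_one_iff]
      change (QuotientGroup.mk' O) ⁅a, b⁆ = 1
      rw [map_commutatorElement, commutatorElement_eq_one_iff_mul_comm, hc]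
    have h1 := H1.coprime_orderOf_of_mem_pPrimeCore hm
    have h2 : orderOf ⁅a, b⁆ = orderOf ⁅x, y⁆ := by
      rw [← orderOf_injective H.subtype H.subtype_injective,
        ← orderOf_injective (P : Subgroup G).subtype (P : Subgroup G).subtype_injective,
        map_commutatorElement, map_commutatorElement, ea, eb]
      rfl
    obtain ⟨k, hk⟩ := (IsPGroup.iff_orderOf.1 P.isPGroup') ⁅x, y⁆
    rw [h2, hk] at h1
    have h3 : k = 0 := by
      by_contra h0
      exact hpp.one_lt.ne' (Nat.Coprime.eq_one_of_dvd h1.symm (dvd_pow_self p h0))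
    rw [h3, pow_zero, orderOf_eq_one_iff, commutatorElement_eq_one_iff_mul_comm] at hk
    exact hk
  · exact ⟨h.isMulCommutative, Or.inr h⟩

end Cfsg.Agent.S4024
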