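import Cfsg.Statements.S4038
import Mathlib
import Cfsg.Agent.Lib.H4.ClassTwo2
import Cfsg.Agent.Lib.FGS83.FH3
import Cfsg.Agent.Lib.FGS83.Syl
import Cfsg.Agent.Lib.Thompson.Basic
import Cfsg.Agent.Lib.Transfer.OutSolv
import Cfsg.Agent.S0117
import Cfsg.Agent.S0205

set_option autoImplicit false
open Cfsg

namespace Cfsg.Agent.S4038

open Subgroup H4
open scoped commutatorElement

universe u

theorem solv_or {X Y : Type*} [Group X] [Finite X] [Group Y] [Finite Y]
    (h : (Nat.card X).Coprime (Nat.card Y)) : Group.IsSolvable X ∨ Group.IsSolvable Y := by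
  rcases Nat.even_or_odd (Nat.card X) with h1 | h1
  · exact Or.inr (Cfsg.Agent.S0205.result (Nat.coprime_two_left.1
      (Nat.Coprime.coprime_dvd_left (even_iff_two_dvd.1 h1) h)))
  · exact Or.inl (Cfsg.Agent.S0205.result h1)

theorem solv_of_normal {G : Type*} [Group G] (N : Subgroup G) [N.Normal]
    (h1 : Group.IsSolvable N) (h2 : Group.IsSolvable (G ⧸ N)) : Group.IsSolvable G :=
  solvable_of_ker_le_range N.subtype (QuotientGroup.mk' N) (by simp)

theorem solv_of_isPGroup {G : Type*} [Group G] [Finite G] {p : ℕ} [Fact p.Prime]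
    (h : IsPGroup p G) : Group.IsSolvable G := by
  haveI := h.isNilpotent
  infer_instance

theorem main (n : ℕ) : ∀ (G : Type u) [Group G] [Finite G], Nat.card G = n →
    ∀ (A : Type u) [Group A] [Finite A] (φ : A →* MulAut G), (Nat.card A).Coprime (Nat.card G) →
    ∀ M : Subgroup G, M ≠ ⊤ → (∀ a : A, ∀ m ∈ M, φ a m ∈ M) →
    (∀ H : Subgroup G, M ≤ H → H ≠ ⊤ → (∀ a : A, ∀ h ∈ H, φ a h ∈ H) → H = M) →
    Group.IsNilpotent M →
    (∀ x ∈ M, ∀ y ∈ M, ∀ z ∈ M, (∃ k : ℕ, orderOf x = 2 ^ k) → (∃ k : ℕ, orderOf y = 2 ^ k) →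
      (∃ k : ℕ, orderOf z = 2 ^ k) → ⁅x, y⁆ * z = z * ⁅x, y⁆) → Group.IsSolvable G := by
  induction n using Nat.strong_induction_on with
  | _ n ih =>
  intro G _ _ hn A _ _ φ hcop M hMtop hMinv hMmax hnil h2
  by_cases hex : ∃ N : Subgroup G, N ≠ ⊥ ∧ N.Normal ∧ N ≤ M ∧ ∀ a, ∀ x ∈ N, φ a x ∈ N
  · obtain ⟨N, hN1, hNn, hNM, hNinv⟩ := hex
    have hsurj := QuotientGroup.mk'_surjective N
    have hcm : (M.map (QuotientGroup.mk' N)).comap (QuotientGroup.mk' N) = M := by
      rw [comap_map_eq, QuotientGroup.ker_mk', sup_eq_left.2 hNM]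
    have hlift : ∀ x ∈ M.map (QuotientGroup.mk' N), (∃ k : ℕ, orderOf x = 2 ^ k) →
        ∃ y ∈ M, QuotientGroup.mk' N y = x ∧ ∃ k : ℕ, orderOf y = 2 ^ k := by
      intro x hx ho
      obtain ⟨y, hy, hy'⟩ := H83.exists_lift_pElement hsurj ho
      exact ⟨y, by rw [← hcm, mem_comap, hy]; exact hx, hy, hy'⟩
    refine solv_of_normal N ?_ (ih _ (hn ▸ H1.card_quotient_lt hN1) (G ⧸ N) rfl A
      (H2.quotAut φ N hNinv) (hcop.coprime_dvd_right (card_quotient_dvd_card N))
      (M.map (QuotientGroup.mk' N)) (fun h => hMtop (by rw [← hcm, h, comap_top]))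
      (H83.inv_map_mk φ N hNinv hMinv) (fun H hH hHt hHi => ?_) ?_ ?_)
    · haveI : Group.IsSolvable M := @IsNilpotent.to_isSolvable _ _ hnil
      exact solvable_of_solvable_injective (inclusion_injective hNM)
    · rw [← hMmax (H.comap (QuotientGroup.mk' N)) (map_le_iff_le_comap.1 hH)
        (fun h => hHt (by rw [← map_comap_eq_self_of_surjective hsurj H, h,
          map_top_of_surjective _ hsurj])) (H83.inv_comap_mk φ N hNinv hHi),
        map_comap_eq_self_of_surjective hsurj]
    · exact Group.nilpotent_of_surjective _ ((QuotientGroup.mk' N).subgroupMap_surjective M)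
    · intro x hx y hy z hz ox oy oz
      obtain ⟨x', hx', rfl, ox'⟩ := hlift x hx ox
      obtain ⟨y', hy', rfl, oy'⟩ := hlift y hy oy
      obtain ⟨z', hz', rfl, oz'⟩ := hlift z hz oz
      rw [← map_commutatorElement, ← map_mul, ← map_mul, h2 x' hx' y' hy' z' hz' ox' oy' oz']
  have hN : ∀ X : Subgroup G, X ≠ ⊥ → X ≤ M → M ≤ normalizer (X : Set G) →
      (∀ a, ∀ x ∈ X, φ a x ∈ X) → normalizer (X : Set G) = M := by
    intro X h1 hXM hMX hXi
    exact hMmax _ hMX (fun h => hex ⟨X, h1, normalizer_eq_top_iff.1 h, hXM, hXi⟩)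
      (H83.inv_normalizer φ hXi)
  have hsyl : ∀ (p : ℕ) [Fact p.Prime], p ∣ Nat.card M →
      ∃ P : Sylow p G, (P : Subgroup G) = pCoreOf p M := by
    intro p _ hp
    obtain ⟨P, hP⟩ := (H1.isPGroup_pCoreOf (p := p) M).exists_le_sylow
    refine ⟨P, (eq_of_le_of_not_lt hP fun hlt => ?_).symm⟩
    obtain ⟨x, hx, hx'⟩ := SetLike.exists_of_lt (lt_inf_normalizer_of_lt P.isPGroup' hlt)
    have hxM : x ∈ M := by
      rw [← hN _ (H83.pCoreOf_ne_bot_of_isNilpotent hnil hp) (H1.pCoreOf_le M)
        (H1.le_normalizer_pCoreOf M) (H83.inv_pCoreOf φ hMinv p)]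
      exact hx.2
    obtain ⟨k, hk⟩ := P.isPGroup' ⟨x, hx.1⟩
    exact hx' (H83.mem_pCoreOf_of_isNilpotent hnil hxM (n := k)
      (by simpa using congrArg Subtype.val hk))
  by_cases hodd : ∃ p : ℕ, p.Prime ∧ p ≠ 2 ∧ p ∣ Nat.card M
  · obtain ⟨p, hp, hp2, hpM⟩ := hodd
    haveI := Fact.mk hp
    obtain ⟨P, hP⟩ := hsyl p hpM
    have hP1 : (P : Subgroup G) ≠ ⊥ := hP ▸ H83.pCoreOf_ne_bot_of_isNilpotent hnil hpM
    have hPM : (P : Subgroup G) ≤ M := hP ▸ H1.pCoreOf_le M
    have hPi : ∀ a, ∀ x ∈ (P : Subgroup G), φ a x ∈ (P : Subgroup G) :=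
      hP ▸ H83.inv_pCoreOf φ hMinv p
    have hMP : M ≤ normalizer ((P : Subgroup G) : Set G) := hP ▸ H1.le_normalizer_pCoreOf M
    have hnpc : HasNormalPComplement p G := by
      rw [Cfsg.Agent.S0117.result hp2 P, hN _ (H24.centerThompsonOf_ne_bot P.isPGroup' hP1)
        ((inf_le_left.trans (H24.thompsonSubgroupOf_le _)).trans hPM)
        (hMP.trans ((H24.normalizer_le_normalizer_thompsonSubgroupOf _).trans
          (H24.normalizer_thompson_le_normalizer_centerThompsonOf _))) ?_]
      · exact hasNormalPComplement_of_isNilpotent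
      · intro a
        apply H83.inv_of_map_eq
        rw [H24.map_centerThompsonOf (φ a).injective,
          H83.map_eq_of_inv φ (B := ⊤) (fun a _ => hPi a) (mem_top a)]
    have hcomp := isComplement'_pResidual hnpc P
    set K := pResidual p G with hK
    haveI : K.Characteristic := pResidual_characteristic p G
    have hKtop : K ≠ ⊤ := fun h => hP1 (by
      have := hcomp.disjoint
      rwa [h, top_disjoint] at this)
    have hKP : ∀ H : Subgroup G, (P : Subgroup G) ≤ H → K ≤ H → H = ⊤ := fun H h1 h2 => by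
      rw [eq_top_iff, ← hcomp.sup_eq_top]; exact sup_le h2 h1
    let B : Subgroup (MulAut G) := φ.range ⊔ (P : Subgroup G).map MulAut.conj
    have hB : ∀ H : Subgroup G, (∀ a, ∀ x ∈ H, φ a x ∈ H) →
        (P : Subgroup G) ≤ normalizer (H : Set G) → ∀ b ∈ B, ∀ x ∈ H, b x ∈ H := by
      intro H h1 h2 b hb x hx
      have : B ≤ autStab H := by
        refine sup_le ?_ ?_
        · rintro _ ⟨a, rfl⟩ y
          exact ⟨h1 a y, fun h => by simpa only [aut_inv_apply] using h1 a⁻¹ _ h⟩
        · rintro _ ⟨g, hg, rfl⟩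
          exact conj_mem_autStab (h2 hg)
      exact (this hb x).1 hx
    have hBK : ∀ b : B, ∀ x ∈ K, B.subtype b x ∈ K := H83.inv_of_characteristic B.subtype K
    have hBcard : Nat.card B ∣ Nat.card A * Nat.card P := by
      refine (H1.card_sup_dvd_of_le_normalizer ?_).trans
        (mul_dvd_mul (card_range_dvd φ) (card_map_dvd _ _))
      rintro _ ⟨a, rfl⟩
      refine mem_normalizer_of_forall ?_
      rintro _ ⟨g, hg, rfl⟩
      refine ⟨φ a g, hPi a g hg, ?_⟩
      ext x
      simp
    have hcopK : (Nat.card B).Coprime (Nat.card K) := by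
      refine Nat.Coprime.coprime_dvd_left hBcard (Nat.Coprime.mul_left
        (hcop.coprime_dvd_right (card_subgroup_dvd_card K)) ?_)
      obtain ⟨k, hk⟩ := P.isPGroup'.exists_card_eq
      rw [hk]
      exact Nat.Coprime.pow_left _ ((Nat.Prime.coprime_iff_not_dvd hp).2
        (hasNormalPComplement_iff_not_dvd.1 hnpc))
    refine solv_of_normal K (ih _ (hn ▸ H1.card_lt_of_ne_top hKtop) K rfl B
      (H2.subAut B.subtype K hBK) hcopK (M.subgroupOf K)
      (fun h => hMtop (hKP M hPM (subgroupOf_eq_top.1 h)))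
      (fun b m hm => hB M hMinv (hPM.trans le_normalizer) b b.2 m hm) (fun H hH hHt hHi => ?_) ?_ ?_)
      (solv_of_isPGroup (isPGroup_quotient_pResidual (n := p)))
    · have hHi' : ∀ b ∈ B, ∀ x ∈ H.map K.subtype, b x ∈ H.map K.subtype := by
        rintro b hb _ ⟨x, hx, rfl⟩
        exact ⟨_, hHi ⟨b, hb⟩ x hx, rfl⟩
      have hPH : (P : Subgroup G) ≤ normalizer ((H.map K.subtype : Subgroup G) : Set G) :=
        fun g hg => mem_normalizer_of_forall fun x hx =>
          hHi' _ (mem_sup_right (mem_map_of_mem MulAut.conj hg)) x hx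
      have hmem : ∀ x ∈ H.map K.subtype ⊔ (P : Subgroup G), x ∈ K → x ∈ H.map K.subtype := by
        intro x hx hxK
        have h1 : x ∈ ((H.map K.subtype ⊔ (P : Subgroup G) : Subgroup G) : Set G) := hx
        rw [coe_mul_of_right_le_normalizer_left _ _ hPH] at h1
        obtain ⟨h, hh, g, hg, rfl⟩ := h1
        have h3 : g ∈ K := by
          have := mul_mem (inv_mem (map_subtype_le H hh)) hxK
          simpa using this
        have h4 : g = 1 := disjoint_def.1 hcomp.disjoint h3 hg
        simpa [h4] using hh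
      have hM : H.map K.subtype ⊔ (P : Subgroup G) = M := by
        refine hMmax _ (fun m hm => ?_) (fun h => hHt ?_) fun a x hx => ?_
        · obtain ⟨⟨k, g⟩, hkg⟩ := (hcomp.existsUnique m).exists
          have h1 : (k : G) ∈ M := by
            have := mul_mem hm (inv_mem (hPM g.2))
            rw [← hkg] at this
            simpa using this
          rw [← hkg]
          exact mul_mem (mem_sup_left (mem_map_of_mem K.subtype (hH h1))) (mem_sup_right g.2)
        · rw [eq_top_iff]
          intro x _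
          obtain ⟨y, hy, hyx⟩ := hmem x (h ▸ mem_top _) x.2
          rwa [← Subtype.ext hyx]
        · refine (show H.map K.subtype ⊔ (P : Subgroup G) ≤ comap (φ a).toMonoidHom
            (H.map K.subtype ⊔ (P : Subgroup G)) from sup_le (fun y hy => ?_) fun y hy => ?_) hx
          · exact mem_sup_left (hHi' _ (mem_sup_left ⟨a, rfl⟩) y hy)
          · exact mem_sup_right (hPi a y hy)
      refine le_antisymm (fun x hx => ?_) hH
      rw [mem_subgroupOf, ← hM]
      exact mem_sup_left (mem_map_of_mem K.subtype hx)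
    · exact Group.nilpotent_of_mulEquiv (subgroupOfEquivOfLe (inf_le_right : M ⊓ K ≤ K)).symm
        (_h := Group.nilpotent_of_mulEquiv (subgroupOfEquivOfLe (inf_le_left : M ⊓ K ≤ M)))
        |> fun h => by rwa [inf_subgroupOf_right] at h
    · intro x hx y hy z hz ox oy oz
      apply Subtype.ext
      simpa [commutatorElement_def] using h2 x hx y hy z hz (by simpa using ox) (by simpa using oy) (by simpa using oz)
  push Not at hodd
  by_cases h2M : 2 ∣ Nat.card M
  · obtain ⟨S, hS⟩ := hsyl 2 h2M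
    have hM2 : IsPGroup 2 M := by
      refine IsPGroup.iff_card.2 ⟨_, Nat.eq_prime_pow_of_unique_prime_dvd Nat.card_pos.ne' ?_⟩
      intro q hq hqM
      by_contra h
      exact hodd q hq h hqM
    have hSM : (S : Subgroup G) = M := (S.is_maximal' hM2 (hS ▸ H1.pCoreOf_le M)).symm
    have hAodd : Odd (Nat.card A) := Nat.coprime_two_right.1
      (hcop.coprime_dvd_right (h2M.trans (card_subgroup_dvd_card M)))
    have hord : ∀ x ∈ M, ∃ k : ℕ, orderOf x = 2 ^ k := fun x hx => by
      obtain ⟨k, hk⟩ := IsPGroup.iff_orderOf.1 hM2 ⟨x, hx⟩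
      exact ⟨k, by simpa using hk⟩
    have hnpc : HasNormalPComplement 2 G := by
      refine hasNormalPComplement_of_classTwo_operators S (fun x hx y hy z hz => ?_) φ hAodd
        (fun a x hx => ?_) fun X h1 hX hSX hXi => ?_
      · rw [← mem_coe_sylow, hSM] at hx hy hz
        exact h2 x hx y hy z hz (hord x hx) (hord y hy) (hord z hz)
      · rw [← mem_coe_sylow, hSM] at hx ⊢
        exact hMinv a x hx
      · rw [hSM] at hX hSX ⊢
        exact (hN X h1 hX hSX hXi).le
    haveI := pResidual_normal 2 G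
    refine solv_of_normal (pResidual 2 G) (Cfsg.Agent.S0205.result ?_)
      (solv_of_isPGroup (isPGroup_quotient_pResidual (n := 2)))
    exact Nat.odd_iff.2 (Nat.two_dvd_ne_zero.1 (hasNormalPComplement_iff_not_dvd.1 hnpc))
  · have hM1 : M = ⊥ := by
      rw [← card_eq_one]
      by_contra h
      obtain ⟨q, hq, hqM⟩ := Nat.exists_prime_and_dvd h
      by_cases hq2 : q = 2
      · exact h2M (hq2 ▸ hqM)
      · exact hodd q hq hq2 hqM
    have hG1 : Nat.card G ≠ 1 := fun h => hMtop (by
      haveI := (Nat.card_eq_one_iff_unique.1 h).1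
      exact Subsingleton.elim _ _)
    obtain ⟨q, hq, hqG⟩ := Nat.exists_prime_and_dvd hG1
    haveI := Fact.mk hq
    obtain ⟨Q, hQ⟩ := H2.ext_exists_invariant_sylow (φ := φ) hcop (solv_or hcop) q
    have hQt : (Q : Subgroup G) = ⊤ := by
      by_contra h
      exact Q.ne_bot_of_dvd_card hqG ((hMmax Q (hM1 ▸ bot_le) h hQ).trans hM1)
    have := Q.isPGroup'
    rw [hQt] at this
    exact solv_of_isPGroup (this.of_equiv topEquiv)

/-- Let A and G be finite groups of coprime orders with A acting on G by automorphisms. Suppose G has a proper A-invariant subgroup M, maximal among proper A-invariant subgroups, which is nilpotent and whose Sylow 2-subgroups have nilpotency class at most 2. Then G is solvable. -/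
theorem result {G A : Type*} [Group G] [Finite G]
    [Group A] [Finite A] (φ : A →* MulAut G) (hcop : (Nat.card A).Coprime (Nat.card G))
    (M : Subgroup G) (hMtop : M ≠ ⊤) (hMinv : ∀ a : A, ∀ m : G, m ∈ M → φ a m ∈ M)
    (hMmax : ∀ H : Subgroup G, M ≤ H → H ≠ ⊤ → (∀ a : A, ∀ h : G, h ∈ H → φ a h ∈ H) → H = M)
    (hnil : Group.IsNilpotent M) (h2 : ∀ S : Sylow 2 ↥M, Group.nilpotencyClass ↥(S : Subgroup ↥M) ≤ 2) :
    Group.IsSolvable G := by
  classical
  refine main _ G rfl φ.range φ.range.subtype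
    (Nat.Coprime.coprime_dvd_left (Subgroup.card_range_dvd φ) hcop) M hMtop ?_ ?_ hnil ?_
  · rintro ⟨_, a, rfl⟩ m hm
    exact hMinv a m hm
  · intro H h1 h2 h3
    exact hMmax H h1 h2 fun a h hh => h3 ⟨_, a, rfl⟩ h hh
  · intro x hx y hy z hz ox oy oz
    obtain ⟨S⟩ : Nonempty (Sylow 2 M) := inferInstance
    haveI : (S : Subgroup M).Normal := inferInstance
    have hmem : ∀ (x : G) (hx : x ∈ M), (∃ k : ℕ, orderOf x = 2 ^ k) →
        (⟨x, hx⟩ : M) ∈ (S : Subgroup M) := by
      rintro x hx ⟨k, hk⟩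
      have h1 : IsPGroup 2 (zpowers (⟨x, hx⟩ : M)) :=
        H9.isPGroup_zpowers_of_pow (a := k) (Subtype.ext (by simp [← hk]))
      obtain ⟨T, hT⟩ := h1.exists_le_sylow
      haveI := Sylow.unique_of_normal S inferInstance
      rw [Subsingleton.elim S T]
      exact hT (mem_zpowers _)
    haveI := S.isPGroup'.isNilpotent
    have h3 := Subgroup.upperCentralSeries_eq_top_iff_nilpotencyClass_le.2 (h2 S)
    have h4 : (⟨⟨x, hx⟩, hmem x hx ox⟩ : (S : Subgroup M)) ∈ Subgroup.upperCentralSeries (S : Subgroup M) 2 := by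
      rw [h3]; trivial
    have h5 := Subgroup.mem_upperCentralSeries_succ_iff.1 h4 ⟨⟨y, hy⟩, hmem y hy oy⟩
    rw [Subgroup.upperCentralSeries_one, mem_center_iff] at h5
    have h6 := congrArg (fun t => ((t : (S : Subgroup M)) : M).1) (h5 ⟨⟨z, hz⟩, hmem z hz oz⟩)
    simpa [commutatorElement_def] using h6.symm

end Cfsg.Agent.S4038
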