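import Mathlib
import Cfsg.Statements.S4068
import Cfsg.Agent.Lib.FGS.PrimeOrd
import Cfsg.Agent.Lib.FGS.SameOrd

set_option autoImplicit false
open Cfsg

namespace Cfsg.Agent.S4068


/-- A finite non-solvable group on which its automorphism group has exactly four orbits is isomorphic to the alternating group of degree 5. -/
theorem result {G : Type*} [Group G] [Finite G] (hns : ¬ Group.IsSolvable G)
    (h4 : Nat.card (MulAction.orbitRel.Quotient (MulAut G) G) = 4) : Nonempty (G ≃* alternatingGroup (Fin 5)) := by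
  classical
  have h3 : ∀ p q : ℕ, p.Prime → q.Prime → ∃ r : ℕ, r.Prime ∧ r ≠ p ∧ r ≠ q ∧ ∃ x : G, orderOf x = r := by
    intro p q hp hq
    by_contra hc
    refine hns (H79.isSolvable_of_primes hp hq fun r hr hd => ?_)
    haveI := Fact.mk hr
    by_contra h
    exact hc ⟨r, hr, fun e => h (Or.inl e), fun e => h (Or.inr e),
      exists_prime_orderOf_dvd_card' r hd⟩
  obtain ⟨p, hp, -, -, x, hx⟩ := h3 2 2 Nat.prime_two Nat.prime_two
  obtain ⟨q, hq, hqp, -, y, hy⟩ := h3 p p hp hp
  obtain ⟨r, hr, hrp, hrq, z, hz⟩ := h3 p q hp hq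
  refine H78.PrimeOrd.equiv_A5 hns fun g hg => ?_
  by_contra hc
  have hg1 : orderOf g ≠ 1 := fun e => hg (orderOf_eq_one_iff.mp e)
  have hgp : orderOf g ≠ p := fun e => hc (e ▸ hp)
  have hgq : orderOf g ≠ q := fun e => hc (e ▸ hq)
  have hgr : orderOf g ≠ r := fun e => hc (e ▸ hr)
  let f : MulAction.orbitRel.Quotient (MulAut G) G → ℕ :=
    Quotient.lift orderOf fun a b ⟨α, h⟩ => h ▸ α.orderOf_eq b
  have hs : ({1, p, q, r, orderOf g} : Set ℕ) ⊆ Set.range f := by
    intro m hm
    simp only [Set.mem_insert_iff, Set.mem_singleton_iff] at hm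
    rcases hm with rfl | rfl | rfl | rfl | rfl
    exacts [⟨Quotient.mk _ 1, orderOf_one⟩, ⟨Quotient.mk _ x, hx⟩, ⟨Quotient.mk _ y, hy⟩,
      ⟨Quotient.mk _ z, hz⟩, ⟨Quotient.mk _ g, rfl⟩]
  have h1 := Set.ncard_le_ncard hs (Set.finite_range f)
  have h2 : (Set.range f).ncard ≤ 4 := by
    rw [← h4, ← Set.image_univ, ← Set.ncard_univ]
    exact Set.ncard_image_le
  have := hp.one_lt
  have := hq.one_lt
  have := hr.one_lt
  rw [Set.ncard_insert_of_notMem (by simp; omega), Set.ncard_insert_of_notMem (by simp; omega),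
    Set.ncard_insert_of_notMem (by simp; omega), Set.ncard_pair (by omega)] at h1
  omega

end Cfsg.Agent.S4068
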