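import Cfsg.Statements.S4070
import Cfsg.Agent.Lib.VSt.Main

set_option autoImplicit false
open Cfsg

namespace Cfsg.Agent.S4070

/-- Let G be a finite solvable group acting faithfully by additive automorphisms on a finite vector space V over the field with p elements, completely reducibly (every G-invariant subspace has a G-invariant complement). Then some vector v ∈ V has stabilizer C_G(v) of derived length at most 9; and if both #G and p are odd, some vector has abelian stabilizer. -/
theorem result {G V : Type*} [Group G] [Finite G] [Group.IsSolvable G]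
    {p : ℕ} [Fact p.Prime] [AddCommGroup V] [Module (ZMod p) V] [Finite V] [DistribMulAction G V] [FaithfulSMul G V]
    (hcr : ∀ W : Submodule (ZMod p) V, (∀ (g : G) (w : V), w ∈ W → g • w ∈ W) →
      ∃ W' : Submodule (ZMod p) V, (∀ (g : G) (w : V), w ∈ W' → g • w ∈ W') ∧ IsCompl W W') :
    (∃ v : V, derivedSeries ↥(MulAction.stabilizer G v) 9 = ⊥) ∧
    (Odd (Nat.card G) → p ≠ 2 → ∃ v : V, IsMulCommutative ↥(MulAction.stabilizer G v)) := by
  have key := H90.VS.cr_one (G := G) (V := V) inferInstance fun U hU => by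
    obtain ⟨W', h1, h2⟩ := hcr (AddSubgroup.toZModSubmodule p U) fun g w hw => hU g w hw
    refine ⟨W'.toAddSubgroup, fun g v hv => h1 g v hv, ?_, ?_⟩
    · refine eq_bot_iff.2 fun v hv => ?_
      have h3 : v ∈ AddSubgroup.toZModSubmodule p U ⊓ W' := ⟨hv.1, hv.2⟩
      rwa [h2.inf_eq_bot] at h3
    · refine eq_top_iff.2 fun v _ => ?_
      obtain ⟨a, ha, b, hb, rfl⟩ := Submodule.mem_sup.1
        (h2.sup_eq_top ▸ Submodule.mem_top : v ∈ AddSubgroup.toZModSubmodule p U ⊔ W')
      exact AddSubgroup.add_mem_sup ha hb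
  refine ⟨?_, fun ho hp => ?_⟩
  · obtain ⟨u, -, h⟩ := key.1
    exact ⟨u 0, (h 0).eq_bot⟩
  · have hV : Odd (Nat.card V) := by
      rw [Module.natCard_eq_pow_finrank (K := ZMod p), Nat.card_zmod]
      exact ((Fact.out : p.Prime).odd_of_ne_two hp).pow
    obtain ⟨u, -, h⟩ := key.2 ho hV
    refine ⟨u 0, ⟨⟨fun a b => ?_⟩⟩⟩
    have h1 := (h 0).eq_bot
    rw [derivedSeries_one] at h1
    exact commutatorElement_eq_one_iff_mul_comm.1 (Subgroup.mem_bot.1 (h1 ▸
      Subgroup.commutator_mem_commutator (Subgroup.mem_top a) (Subgroup.mem_top b)))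

end Cfsg.Agent.S4070
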