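import Mathlib
import Cfsg.Statements.S4087
import Cfsg.Agent.Lib.CIT.EPPO

set_option autoImplicit false
open Cfsg

namespace Cfsg.Agent.S4087


/-- Let G be a finite group in which every non-identity element has prime-power order (its prime graph has no edges). Then the order of G has at most four distinct prime divisors; and if it has exactly four, then either G is isomorphic to PSL(3,4), or G has a normal 2-subgroup N with G/N isomorphic to the Suzuki group over the field with 8 or with 32 elements. -/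
theorem result {G : Type*} [Group G] [Finite G] (h : ∀ g : G, g ≠ 1 → IsPrimePow (orderOf g)) :
    (Nat.card G).primeFactors.card ≤ 4 ∧
    ((Nat.card G).primeFactors.card = 4 →
      (∃ (F : Type) (_ : Field F) (_ : Fintype F), Fintype.card F = 4 ∧
        Nonempty (G ≃* Matrix.ProjectiveSpecialLinearGroup (Fin 3) F)) ∨
      (∃ (N : Subgroup G) (_ : N.Normal), IsPGroup 2 ↥N ∧
        ∃ (F : Type) (_ : Field F) (_ : Fintype F),
          (Fintype.card F = 8 ∧ Nonempty (G ⧸ N ≃* ↥(Cfsg.Lie.Sz F 4))) ∨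
          (Fintype.card F = 32 ∧ Nonempty (G ⧸ N ≃* ↥(Cfsg.Lie.Sz F 8))))) := by
  by_cases hs : Group.IsSolvable G
  · have := Cfsg.Agent.S1475.result (G := G) fun g => (em (g = 1)).symm.imp_left (h g)
    exact ⟨by omega, fun e => by omega⟩
  have hE : H32.EPPO G := h
  rcases hE.cit.gen hs with ⟨_, hna⟩ | ⟨hc, -⟩
  swap
  · rw [hc]; simp [Nat.primeFactors]
  rw [H32.primeFactors_quot H1.isPGroup_pCore hs]
  rcases (hE.map _ (QuotientGroup.mk'_surjective _)).classify hna with ⟨⟨e⟩⟩ | ⟨F, _, _, hF, ⟨e⟩⟩ |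
    ⟨F, _, _, hF, ⟨e⟩⟩ | ⟨F, _, _, hF⟩
  · rw [Nat.card_congr e.toEquiv, H32.card_A6]; simp [Nat.primeFactors]
  · rw [Nat.card_congr e.toEquiv]
    rcases H32.card_psl2_of_mem hF with ⟨-, hc⟩ | ⟨-, hc⟩ | ⟨-, hc⟩ | ⟨-, hc⟩ <;> rw [hc] <;>
      simp [Nat.primeFactors]
  · have hc := (Nat.card_congr e.toEquiv).trans (H32.card_psl3_four hF)
    refine ⟨by rw [hc]; simp [Nat.primeFactors], fun _ => Or.inl ⟨F, inferInstance, inferInstance, hF, ?_⟩⟩
    by_cases hO : pCore 2 G = ⊥
    · exact ⟨(H32.quotEquiv hO).trans e⟩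
    rcases hE.gen2 hO hs with h1 | h1 | h1
    · omega
    · omega
    · exact absurd (hc ▸ by norm_num) (H32.not_three_dvd_of_sz h1)
  · refine ⟨?_, fun _ => Or.inr ⟨_, inferInstance, H1.isPGroup_pCore, F, _, _, hF⟩⟩
    rcases hF with ⟨hF, ⟨e⟩⟩ | ⟨hF, ⟨e⟩⟩
    · rw [(Nat.card_congr e.toEquiv).trans (H32.card_sz (m := 1) le_rfl hF), hF]; simp [Nat.primeFactors]
    · rw [(Nat.card_congr e.toEquiv).trans (H32.card_sz (m := 2) one_le_two hF), hF]; simp [Nat.primeFactors]

end Cfsg.Agent.S4087
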