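import Cfsg.Statements.S4097
import Cfsg.Agent.S0035
import Cfsg.Agent.S0042
import Cfsg.Agent.Lib.Core.Fitting

set_option autoImplicit false
open Cfsg
open scoped Pointwise

namespace Cfsg.Agent.S4097

universe u

theorem solv_map {G G' : Type*} [Group G] [Group G'] (f : G →* G') (S : Subgroup G)
    [h : Group.IsSolvable S] : Group.IsSolvable (S.map f) :=
  Group.isSolvable_of_surjective (f := f.subgroupMap S) (f.subgroupMap_surjective S)

theorem step {G : Type*} [Group G] [Finite G] (A : Subgroup G) (hA : Group.IsSolvable A)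
    (hc : ∀ S : Subgroup G, A ≤ S → Group.IsSolvable S → ∀ a ∈ A, ∀ s ∈ S, a * s = s * a)
    (hH : ∀ H : Subgroup G, H ≠ ⊤ → A ≤ H → H ≤ Subgroup.centralizer (A : Set G)) :
    A ≤ Subgroup.center G := by
  classical
  by_contra hne
  set M := Subgroup.centralizer (A : Set G) with hM
  have memM : ∀ x : G, x ∈ M ↔ ∀ a ∈ A, a * x = x * a := fun x => Subgroup.mem_centralizer_iff
  have hAM : A ≤ M := fun x hx => (memM x).2 fun a ha => hc A le_rfl hA a ha x hx
  have hMt : M ≠ ⊤ := by
    intro h
    apply hne
    intro a ha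
    rw [Subgroup.mem_center_iff]
    intro g
    exact ((memM g).1 (h ▸ Subgroup.mem_top g) a ha).symm
  -- `M` is self-normalizing
  have hN : Subgroup.normalizer (M : Set G) ≤ M := by
    by_cases ht : Subgroup.normalizer (M : Set G) = ⊤
    · exfalso
      haveI hMn : M.Normal := Subgroup.normalizer_eq_top_iff.1 ht
      obtain ⟨g, hg⟩ : ∃ g : G, g ∉ M := by
        by_contra h
        push_neg at h
        exact hMt (eq_top_iff.2 fun x _ => h x)
      set B : Subgroup G := M ⊓ Subgroup.centralizer (M : Set G) with hB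
      haveI : B.Normal := inferInstance
      haveI hBs : Group.IsSolvable B := Group.isSolvable_of_comm fun a b =>
        Subtype.ext (Subgroup.mem_centralizer_iff.1 b.2.2 a a.2.1)
      haveI hZs : Group.IsSolvable (Subgroup.zpowers g) := inferInstance
      have hAB : A ≤ B := fun a ha => ⟨hAM ha, Subgroup.mem_centralizer_iff.2 fun m hm =>
        ((memM m).1 hm a ha).symm⟩
      have hs : Group.IsSolvable ↥(B ⊔ Subgroup.zpowers g) := by
        rw [sup_comm]; exact H1.isSolvable_sup_of_normal hZs hBs
      exact hg ((memM g).2 fun a ha => hc _ (hAB.trans le_sup_left) hs a ha g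
        (Subgroup.mem_sup_right (Subgroup.mem_zpowers g)))
    · exact hH _ ht (hAM.trans Subgroup.le_normalizer)
  -- TI modulo the centre
  have hTI : ∀ g : G, g ∉ M → ∀ d ∈ M, g⁻¹ * d * g ∈ M → d ∈ Subgroup.center G := by
    intro g hg d hd hd'
    by_contra hdz
    have hC : Subgroup.centralizer ({d} : Set G) ≤ M := by
      refine hH _ (fun h => hdz ?_) fun a ha => ?_
      · rw [Subgroup.mem_center_iff]
        intro x
        exact Subgroup.mem_centralizer_singleton_iff.1 (h ▸ Subgroup.mem_top x)
      · exact Subgroup.mem_centralizer_singleton_iff.2 ((memM d).1 hd a ha)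
    have h1 : ∀ a ∈ A, g * a * g⁻¹ ∈ M := by
      intro a ha
      apply hC
      rw [Subgroup.mem_centralizer_singleton_iff]
      have := (memM _).1 hd' a ha
      calc g * a * g⁻¹ * d = g * (a * (g⁻¹ * d * g)) * g⁻¹ := by group
        _ = g * ((g⁻¹ * d * g) * a) * g⁻¹ := by rw [this]
        _ = d * (g * a * g⁻¹) := by group
    set Mg : Subgroup G := M.comap (MulAut.conj g⁻¹).toMonoidHom with hMg
    have memMg : ∀ x : G, x ∈ Mg ↔ g⁻¹ * x * g ∈ M := by
      intro x
      simp [hMg, Subgroup.mem_comap]
    have hAMg : A ≤ Mg := by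
      intro a' ha'
      rw [memMg, memM]
      intro a ha
      have := (memM _).1 (h1 a ha) a' ha'
      calc a * (g⁻¹ * a' * g) = g⁻¹ * ((g * a * g⁻¹) * a') * g := by group
        _ = g⁻¹ * (a' * (g * a * g⁻¹)) * g := by rw [this]
        _ = g⁻¹ * a' * g * a := by group
    have hMgt : Mg ≠ ⊤ := by
      intro h
      apply hMt
      rw [eq_top_iff]
      intro x _
      have : g * x * g⁻¹ ∈ Mg := h ▸ Subgroup.mem_top _
      rw [memMg] at this
      simpa [mul_assoc] using this
    have hle : Mg ≤ M := hH _ hMgt hAMg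
    apply hg
    apply hN
    apply Subgroup.mem_normalizer_fintype
    intro m hm
    apply hle
    change _ ∈ Mg
    rw [memMg]
    simpa [mul_assoc] using hm
  set Z := Subgroup.center G with hZ
  have hZM : Z ≤ M := fun z hz => (memM z).2 fun a _ => Subgroup.mem_center_iff.1 hz a
  set π := QuotientGroup.mk' Z with hπ
  have hker : π.ker = Z := QuotientGroup.ker_mk' Z
  have memb : ∀ x : G, π x ∈ M.map π ↔ x ∈ M := by
    intro x
    have : (M.map π).comap π = M := Subgroup.comap_map_eq_self (by rw [hker]; exact hZM)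
    rw [← Subgroup.mem_comap, this]
  have hF : IsFrobeniusComplement (M.map π) := by
    refine ⟨fun h => hne fun a ha => ?_, fun h => hMt (eq_top_iff.2 fun x _ => ?_), ?_⟩
    · have : π a ∈ M.map π := Subgroup.mem_map_of_mem π (hAM ha)
      rw [h, Subgroup.mem_bot, ← MonoidHom.mem_ker, hker] at this
      exact this
    · exact (memb x).1 (h ▸ Subgroup.mem_top _)
    · intro gb hgb
      obtain ⟨g, rfl⟩ := QuotientGroup.mk'_surjective Z gb
      rw [eq_bot_iff]
      intro xb hx
      obtain ⟨d, rfl⟩ := QuotientGroup.mk'_surjective Z xb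
      obtain ⟨h1, h2⟩ := Subgroup.mem_inf.1 hx
      rw [Subgroup.mem_pointwise_smul_iff_inv_smul_mem] at h2
      have h3 : π (g⁻¹ * d * g) ∈ M.map π := by
        simpa [hπ, MulAut.smul_def] using h2
      have hd := hTI g (fun h => hgb ((memb g).2 h)) d ((memb d).1 h1) ((memb _).1 h3)
      rw [Subgroup.mem_bot, ← MonoidHom.mem_ker, hker]
      exact hd
  obtain ⟨N, hN1, hNn, hNc⟩ := Cfsg.Agent.S0035.result _ hF
  obtain ⟨N', hN1', _, hnil⟩ := Cfsg.Agent.S0042.result _ hF
  have hNN : N' = N := SetLike.coe_injective (hN1'.trans hN1.symm)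
  subst hNN
  have hNs : Group.IsSolvable N' := inferInstance
  have hks : Group.IsSolvable π.ker := by
    rw [hker]
    exact Group.isSolvable_of_comm fun a b => Subtype.ext (Subgroup.mem_center_iff.1 b.2 a)
  have hKs : Group.IsSolvable (N'.comap π) := H1.isSolvable_comap hNs hks
  haveI : (N'.comap π).Normal := inferInstance
  have hs : Group.IsSolvable ↥(N'.comap π ⊔ A) := by
    rw [sup_comm]; exact H1.isSolvable_sup_of_normal hA hKs
  have hKM : N'.comap π ≤ M := fun k hk => (memM k).2 fun a ha =>
    hc _ le_sup_right hs a ha k (Subgroup.mem_sup_left hk)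
  have hNM : N' ≤ M.map π := by
    intro xb hx
    obtain ⟨x, rfl⟩ := QuotientGroup.mk'_surjective Z xb
    exact (memb x).2 (hKM hx)
  apply hF.2.1
  rw [← hNc.sup_eq_top, sup_eq_right.2 hNM]

theorem main (n : ℕ) : ∀ (G : Type u) [Group G] [Finite G], Nat.card G = n →
    ∀ (A : Subgroup G), Group.IsSolvable A →
    (∀ S : Subgroup G, A ≤ S → Group.IsSolvable S → ∀ a ∈ A, ∀ s ∈ S, a * s = s * a) →
    A ≤ Subgroup.center G := by
  induction n using Nat.strong_induction_on with
  | _ n ih =>
    intro G _ _ hn A hA hc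
    refine step A hA hc fun H hH hAH => ?_
    have hlt : Nat.card H < n := by
      rw [← hn]
      have h1 := H.card_mul_index
      have h2 : 1 < H.index := Subgroup.one_lt_index_of_ne_top hH
      have h3 : 0 < Nat.card H := Nat.card_pos
      nlinarith
    haveI := hA
    have hA' : Group.IsSolvable (A.subgroupOf H) :=
      Group.isSolvable_of_surjective (f := (Subgroup.subgroupOfEquivOfLe hAH).symm.toMonoidHom)
        (Subgroup.subgroupOfEquivOfLe hAH).symm.surjective
    have := ih _ hlt H rfl (A.subgroupOf H) hA' (by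
      intro S hS hSs a ha s hs
      apply Subtype.ext
      refine hc (S.map H.subtype) (fun x hx => ⟨⟨x, hAH hx⟩, hS hx, rfl⟩) (solv_map _ _) a ha s
        ⟨s, hs, rfl⟩)
    intro h hh
    rw [Subgroup.mem_centralizer_iff]
    intro a ha
    have h2 := Subgroup.mem_center_iff.1 (this (x := ⟨a, hAH ha⟩) ha) ⟨h, hh⟩
    exact (congrArg Subtype.val h2).symm

/-- Let A be a solvable subgroup of a finite group G such that A lies in the centre of every solvable subgroup of G containing A. Then A lies in the centre of G. -/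
theorem result {G : Type*} [Group G] [Finite G]
    (A : Subgroup G) (hA : Group.IsSolvable A)
    (hc : ∀ S : Subgroup G, A ≤ S → Group.IsSolvable S → ∀ a ∈ A, ∀ s ∈ S, a * s = s * a) : A ≤ Subgroup.center G :=
  main _ G rfl A hA hc

end Cfsg.Agent.S4097
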