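import Mathlib
import Cfsg.Statements.S4113
import Cfsg.Agent.Lib.Core.Frobenius
import Cfsg.Agent.Lib.Core.HallSZ
import Cfsg.Agent.Lib.LocEven.Basic
-- import your own Cfsg.Agent.* helpers here

set_option autoImplicit false
open Cfsg

namespace Cfsg.Agent.S4113

open Subgroup H68

/-- Let G be a finite group, M ≤ N non-trivial proper normal subgroups, and H a subgroup with HM = G and H ∩ M = 1. Then every element of G outside N acts fixed-point-freely on M (C_G(x) ≤ N for every x ∈ M, x ≠ 1) if and only if H ∩ gHg⁻¹ ≤ H ∩ N for every g outside H, with H proper and non-trivial and H ∩ N proper in H. -/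
theorem result {G : Type*} [Group G] [Finite G] (N M : Subgroup G) [N.Normal] [M.Normal] (hMN : M ≤ N) (hM1 : M ≠ ⊥) (hN2 : N ≠ ⊤)
    (H : Subgroup G) (hHM : H ⊔ M = ⊤) (hHM' : H ⊓ M = ⊥) :
    (∀ x ∈ M, x ≠ 1 → Subgroup.centralizer ({x} : Set G) ≤ N) ↔
      (H ≠ ⊥ ∧ H ≠ ⊤ ∧ H ⊓ N < H ∧ ∀ g : G, g ∉ H → H ⊓ H.map (MulAut.conj g).toMonoidHom ≤ N) := by
  constructor
  · intro h
    refine ⟨?_, ?_, lt_of_le_of_ne inf_le_left fun h1 => ?_, fun g hg y hy => ?_⟩
    · rintro rfl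
      rw [bot_sup_eq] at hHM
      exact hN2 (top_le_iff.1 (hHM ▸ hMN))
    · rintro rfl
      exact hM1 (by simpa using hHM')
    · exact hN2 (top_le_iff.1 (hHM ▸ sup_le (inf_eq_left.1 h1) hMN))
    · obtain ⟨m, hm, k, hk, rfl⟩ := H3.mem_sup_iff_of_normal.1
        (by rw [sup_comm, hHM]; exact mem_top g : g ∈ M ⊔ H)
      have h1 : y ∈ cj m H := by
        have := hy.2
        change y ∈ cj (m * k) H at this
        rwa [cj_mul, cj_eq_of_mem hk] at this
      refine h m hm (by rintro rfl; exact hg (by simpa using hk)) ?_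
      have h2 : y⁻¹ * (m⁻¹ * y * m) ∈ H ⊓ M := mem_inf.2 ⟨mul_mem (inv_mem hy.1) (mem_cj.1 h1), by
        have := M.mul_mem (Normal.conj_mem inferInstance _ (M.inv_mem hm) y⁻¹) hm
        simpa [mul_assoc] using this⟩
      rw [hHM', mem_bot, inv_mul_eq_one, mul_assoc, eq_inv_mul_iff_mul_eq] at h2
      rw [mem_centralizer_singleton_iff, h2]
  · rintro ⟨-, -, -, h⟩ x hx hx1 y hy
    by_contra hyN
    obtain ⟨m, hm, k, hk, rfl⟩ := H3.mem_sup_iff_of_normal.1
      (by rw [sup_comm, hHM]; exact mem_top y : y ∈ M ⊔ H)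
    have hkN : k ∉ N := fun h1 => hyN (mul_mem (hMN hm) h1)
    have hf : M ⊓ centralizer {k} = ⊥ := by
      rw [eq_bot_iff]
      rintro a ⟨ha, ha'⟩
      by_contra ha1
      refine hkN (h a (fun h1 => ha1 (hHM' ▸ mem_inf.2 ⟨h1, ha⟩)) (mem_inf.2 ⟨hk, k, hk, ?_⟩))
      simp [mem_centralizer_singleton_iff.1 ha']
    obtain ⟨a, ha, e⟩ := H2.exists_conj_eq_mul_of_fpf (by rw [normalizer_eq_top]; exact mem_top k)
      hf hm
    have h1 : a⁻¹ * x * a ∈ M ⊓ centralizer {k} := mem_inf.2 ⟨by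
      simpa using Normal.conj_mem inferInstance x hx a⁻¹, by
      rw [mem_centralizer_singleton_iff, ← e] at hy
      rw [mem_centralizer_singleton_iff]
      calc a⁻¹ * x * a * k = a⁻¹ * (x * (a * k * a⁻¹)) * a := by group
        _ = k * (a⁻¹ * x * a) := by rw [← hy]; group⟩
    rw [hf, mem_bot, H2.inv_conj_eq_one_iff] at h1
    exact hx1 h1

end Cfsg.Agent.S4113
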