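import Cfsg.Statements.S4115
import Cfsg.Agent.Lib.FrobC.TI
import Cfsg.Agent.S0205
import Cfsg.Agent.S0877
import Cfsg.Agent.S4116
import Cfsg.Agent.Lib.Core.CoprimeSylow

set_option autoImplicit false
universe u
open Cfsg

namespace Cfsg.Agent.S4115

open Subgroup H82

/-- Let G be a finite group and H a subgroup that meets each of its conjugates by elements outside N_G(H) trivially and whose order is coprime to its index in N_G(H). Then H has a normal complement in N_G(H) if and only if H has a normal complement in G. Moreover, if H is not normal in G and has a normal complement in N_G(H), then H is isomorphic to a Frobenius complement of some finite Frobenius group. -/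
theorem result {G : Type u} [Group G] [Finite G] (H : Subgroup G)
    (hTI : Cfsg.IsTISubset (H : Set G)) (hHall : (Nat.card H).Coprime (H.subgroupOf (Subgroup.normalizer (H : Set G))).index) :
    ((∃ K : Subgroup (Subgroup.normalizer (H : Set G)), K.Normal ∧ K.IsComplement' (H.subgroupOf (Subgroup.normalizer (H : Set G)))) ↔
      (∃ N : Subgroup G, N.Normal ∧ N.IsComplement' H)) ∧
    (¬ H.Normal → (∃ K : Subgroup (Subgroup.normalizer (H : Set G)), K.Normal ∧ K.IsComplement' (H.subgroupOf (Subgroup.normalizer (H : Set G)))) →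
      ∃ (F : Type u) (_ : Group F) (_ : Finite F) (C : Subgroup F), Cfsg.IsFrobeniusComplement C ∧ Nonempty (H ≃* C)) := by
  have hHall' : (Nat.card H).Coprime (H.relIndex (normalizer (H : Set G))) := hHall
  have hidx := H80.ti_coprime_index hTI hHall'
  have key : (∃ K : Subgroup (normalizer (H : Set G)), K.Normal ∧
      K.IsComplement' (H.subgroupOf (normalizer (H : Set G)))) →
      ∃ N : Subgroup G, N.Normal ∧ N.IsComplement' H := by
    rintro ⟨K, hK, hc⟩
    obtain ⟨N, h1, h2, h3⟩ := Cfsg.Agent.S0877.result H hidx (fun x hx y hy hxy => by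
      by_cases h1 : x = 1
      · subst h1
        exact ⟨1, H.one_mem, by simpa using (isConj_one_right.1 hxy).symm⟩
      obtain ⟨g, rfl⟩ := isConj_iff.1 hxy
      have hg := H80.ti_mem_normalizer hTI hx h1 hy
      obtain ⟨⟨h, k⟩, hhk⟩ := hc.symm.2 ⟨g, hg⟩
      have hcomm := commute_of_normal_of_disjoint K _ hK inferInstance hc.disjoint k.1
        ⟨x, le_normalizer hx⟩ k.2 hx
      have h4 : ((k.1 : G)) * x = x * k.1 := congrArg Subtype.val hcomm.eq
      have h5 : (h.1 : G) * k.1 = g := congrArg Subtype.val hhk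
      refine ⟨h.1, h.2, ?_⟩
      rw [← h5, mul_assoc _ _ x, h4]
      group) (fun E p _ _ hE => by
      obtain ⟨g, hg⟩ := Cfsg.Agent.S4116.result H hidx hTI E fun q _ hq => hq.trans hE
      refine ⟨g⁻¹, ?_⟩
      rintro _ ⟨e, he, rfl⟩
      obtain ⟨h, hh, rfl⟩ := hg he
      simpa [mul_assoc] using hh)
    exact ⟨N, h1, isComplement'_of_disjoint_and_mul_eq_univ (disjoint_iff.2 h3)
      (by rw [← Subgroup.normal_mul, h2, Subgroup.coe_top])⟩
  refine ⟨⟨key, fun ⟨N, hN, hc⟩ => ⟨N.subgroupOf _, inferInstance, ?_⟩⟩, fun hnn hK => ?_⟩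
  · refine isComplement'_of_disjoint_and_mul_eq_univ ?_ ?_
    · exact disjoint_def.2 fun hx hy => Subtype.ext (disjoint_def.1 hc.disjoint hx hy)
    · rw [Set.eq_univ_iff_forall]
      intro g
      obtain ⟨⟨n, h⟩, hnh⟩ := hc.2 g
      have h1 : (n : G) ∈ normalizer (H : Set G) := by
        have : (n : G) = g * (h : G)⁻¹ := by rw [← hnh]; simp
        rw [this]
        exact mul_mem g.2 (inv_mem (le_normalizer h.2))
      exact ⟨⟨n, h1⟩, n.2, ⟨h, le_normalizer h.2⟩, h.2, Subtype.ext hnh⟩
  · obtain ⟨N, hN, hc⟩ := key hK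
    have hne : H ≠ ⊥ := by rintro rfl; exact hnn inferInstance
    have := (nontrivial_iff_ne_bot H).2 hne
    have hcop : (Nat.card H).Coprime (Nat.card N) := hc.index_eq_card ▸ hidx
    have hsolv : Group.IsSolvable H ∨ Group.IsSolvable N := by
      by_cases h2 : 2 ∣ Nat.card H
      · refine Or.inr (Cfsg.Agent.S0205.result ?_)
        rw [← Nat.not_even_iff_odd, even_iff_two_dvd]
        exact fun h => absurd (Nat.eq_one_of_dvd_coprimes hcop h2 h) (by norm_num)
      · exact Or.inl (Cfsg.Agent.S0205.result (by
          rwa [← Nat.not_even_iff_odd, even_iff_two_dvd]))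
    have hF : IntFPF H := by
      by_contra hF
      have h1 : N ≤ centralizer (H : Set G) :=
        H2.le_of_forall_invariant_sylowIn_le le_normalizer_of_normal hcop hsolv
          fun p _ P hP hHP => by
            by_contra h
            exact hF (intFPF_of_isTI hTI (H1.isSolvable_of_isPGroup hP.isPGroup) hHP
              (H2.coprime_of_le_right hcop hP.le) h)
      apply hnn
      rw [← normalizer_eq_top_iff, eq_top_iff, ← hc.sup_eq_top]
      exact sup_le (h1.trans (centralizer_le_normalizer _)) le_normalizer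
    obtain ⟨F, _, _, C, h⟩ := hF.exists_frob
    exact ⟨F, _, inferInstance, C, h⟩

end Cfsg.Agent.S4115
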