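import Cfsg.Statements.S4118
import Cfsg.Agent.Lib.FrobC.TI
import Cfsg.Agent.S0205

set_option autoImplicit false
open Cfsg

namespace Cfsg.Agent.S4118

open Subgroup H82

/-- Let G be a finite group and H a non-normal subgroup meeting each of its conjugates by elements outside N_G(H) trivially, with the order of H coprime to its index in N_G(H); let π be the set of primes dividing the order of H and suppose G is π-separable (it has a chain of normal subgroups from 1 to G each of whose factors has order divisible only by primes in π or coprime to the order of H). Let O be the largest normal subgroup of G of order coprime to the order of H. Then G = O·N_G(H), O·H is normal in G, and G is solvable if and only if O is solvable and H has no subgroup isomorphic to SL₂(5). -/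
theorem result {G : Type*} [Group G] [Finite G] (H : Subgroup G)
    (hTI : Cfsg.IsTISubset (H : Set G)) (hnn : ¬ H.Normal)
    (hHall : (Nat.card H).Coprime (H.subgroupOf (Subgroup.normalizer (H : Set G))).index)
    (hsep : ∃ (n : ℕ) (M : Fin (n + 1) → Subgroup G), M 0 = ⊥ ∧ M (Fin.last n) = ⊤ ∧ Monotone M ∧ (∀ i, (M i).Normal) ∧
      ∀ i : Fin n, (∀ q : ℕ, q.Prime → q ∣ (M i.castSucc).relIndex (M i.succ) → q ∣ Nat.card H) ∨
        ((M i.castSucc).relIndex (M i.succ)).Coprime (Nat.card H))
    (O : Subgroup G) (hO : O = sSup {K : Subgroup G | K.Normal ∧ (Nat.card K).Coprime (Nat.card H)}) :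
    O ⊔ Subgroup.normalizer (H : Set G) = ⊤ ∧ (O ⊔ H).Normal ∧
    (Group.IsSolvable G ↔ Group.IsSolvable O ∧
      ∀ K : Subgroup G, K ≤ H → ¬ Nonempty (K ≃* Matrix.SpecialLinearGroup (Fin 2) (ZMod 5))) := by
  have hne : H ≠ ⊥ := by rintro rfl; exact hnn inferInstance
  obtain ⟨n, M, h0, hl, -, hn, hi⟩ := hsep
  have hsep' : H3.IsPiSeparable {p | p ∣ Nat.card H} G :=
    H3.isPiSeparable_of_chain M h0 hl hn fun i => (hi i).imp (fun h => H3.piNum_iff.2 h)
      (fun h => H3.piNum_compl_dvd_iff.2 h)
  have hHall' : (Nat.card H).Coprime (H.relIndex (normalizer (H : Set G))) := hHall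
  obtain ⟨O', hO', hOc', hON'⟩ := H80.ti_exists_normal_coprime hTI hne hHall' hsep'
  have hmem : O ∈ {K : Subgroup G | K.Normal ∧ (Nat.card K).Coprime (Nat.card H)} := by
    rw [hO]
    refine H1.sSup_mem_of_sup_closed ⟨inferInstance, by simp⟩ ?_
    rintro A ⟨hA, hA'⟩ B ⟨hB, hB'⟩
    exact ⟨inferInstance, Nat.Coprime.coprime_dvd_left (H1.card_sup_dvd_of_normal A B)
      (Nat.Coprime.mul_left hA' hB')⟩
  obtain ⟨hOn, hOc⟩ := hmem
  have hle : ∀ K : Subgroup G, K.Normal → (Nat.card K).Coprime (Nat.card H) → K ≤ O :=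
    fun K h1 h2 => hO ▸ le_sSup (s := {K : Subgroup G | K.Normal ∧
      (Nat.card K).Coprime (Nat.card H)}) ⟨h1, h2⟩
  have hON : O ⊔ normalizer (H : Set G) = ⊤ :=
    eq_top_iff.2 (hON' ▸ sup_le_sup_right (hle O' hO' hOc') _)
  have hnorm : ∀ X : Subgroup G, normalizer (H : Set G) ≤ normalizer (X : Set G) →
      (O ⊔ X).Normal := by
    intro X hX
    rw [← normalizer_eq_top_iff, eq_top_iff, ← hON]
    exact sup_le (le_sup_left.trans le_normalizer) (H2.le_normalizer_sup le_normalizer_of_normal hX)
  refine ⟨hON, hnorm H le_rfl, ⟨fun hs => ⟨inferInstance, fun K _ ⟨e⟩ =>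
    not_isSolvable_SL25 (H1.isSolvable_of_mulEquiv e inferInstance)⟩, fun ⟨hOs, hK⟩ => ?_⟩⟩
  have hF : IntFPF H := intFPF_of_isTI hTI hOs le_normalizer_of_normal hOc.symm fun h => hnn (by
    rw [← normalizer_eq_top_iff, ← hON]
    exact (sup_eq_right.2 (h.trans (centralizer_le_normalizer _))).symm)
  have hHs : Group.IsSolvable H := by
    by_contra hns
    obtain ⟨θ, hθ⟩ := hF.exists_SL25 hns
    exact hK (H.subtype.comp θ).range (by rintro _ ⟨x, rfl⟩; exact (θ x).2)
      ⟨(MonoidHom.ofInjective (f := H.subtype.comp θ) (H.subtype_injective.comp hθ)).symm⟩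
  have hNs : Group.IsSolvable (normalizer (H : Set G)) := by
    by_cases h2 : 2 ∣ Nat.card H
    · refine H1.isSolvable_of_normal_of_quotient (H.subgroupOf _) (H1.isSolvable_subgroupOf hHs _)
        (Cfsg.Agent.S0205.result ?_)
      rw [← Nat.not_even_iff_odd, even_iff_two_dvd]
      exact fun h => absurd (Nat.eq_one_of_dvd_coprimes hHall h2 h) (by norm_num)
    · have hZ := hF.isZGroup_of_odd ((Nat.prime_two.coprime_iff_not_dvd.2 h2).symm)
      refine isSolvable_of_commutator (isSolvable_of_commutator (H2.isSolvable_of_le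
        (commutator_commutator_le_centralizer hZ le_rfl) (isSolvable_of_commutator
          (H2.isSolvable_of_le (le_sup_right.trans (hle (O ⊔ _) (hnorm _ ?_) ?_)) hOs))))
      · exact H2.le_normalizer_commutator (H2.le_normalizer_centralizer le_rfl)
          (H2.le_normalizer_centralizer le_rfl)
      · exact Nat.Coprime.coprime_dvd_left (H3.card_sup_dvd le_normalizer_of_normal)
          (Nat.Coprime.mul_left hOc (coprime_commutator_centralizer hHall'))
  have := H1.isSolvable_sup_of_normal hNs hOs
  rw [sup_comm, hON] at this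
  exact H1.isSolvable_of_mulEquiv topEquiv this

end Cfsg.Agent.S4118
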