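import Mathlib
import Cfsg.Statements.S4122
import Cfsg.Agent.S4123
import Cfsg.Agent.S4120
import Cfsg.Agent.Lib.BG.Api.Hall

set_option autoImplicit false
open Cfsg

namespace Cfsg.Agent.S4122

open Subgroup H2 H83
universe u

theorem pcase {A : Type*} [Group A] [Finite A] (F : Subgroup A) [F.Normal] {H : Subgroup A}
    (hF : Group.IsNilpotent F) (hsr : ∀ h ∈ H, h ≠ 1 → F ⊓ centralizer {h} = ⊥) (p : ℕ)
    [hp : Fact p.Prime] (n : ℕ) :
    ∀ (G : Type u) [Group G] [Finite G] (φ : A →* MulAut G), Nat.card G = n → IsPGroup p G →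
      fixSub φ F = ⊥ → closure {x : G | ∃ f ∈ F, ∃ c ∈ fixSub φ H, x = φ f c} = ⊤ := by
  have hHF : H ≤ normalizer (F : Set A) := le_normalizer_of_normal
  induction n using Nat.strong_induction_on with
  | _ n ih =>
  intro G _ _ φ hn hG hfix
  set D := closure {x : G | ∃ f ∈ F, ∃ c ∈ fixSub φ H, x = φ f c} with hD
  by_cases h0 : (⊤ : Subgroup G) = ⊥
  · exact top_le_iff.1 (h0.le.trans bot_le)
  obtain ⟨V, -, hVn, hVi, hVne, hVc, hVp, -⟩ := exists_inv_elemAb φ (N := ⊤)
    (fun _ _ _ => mem_top _) (hG.to_subgroup ⊤) h0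
  obtain ⟨h1, h2⟩ := Cfsg.Agent.S4120.quot_hyp φ hF hHF hsr hfix hVi hVc (hG.to_subgroup V)
  have h3 := ih _ (hn ▸ H1.card_quotient_lt hVne) (G ⧸ V) (quotAut φ V hVi) rfl
    (hG.to_quotient V) h1
  have h4 : (⊤ : Subgroup (G ⧸ V)) ≤ D.map (QuotientGroup.mk' V) := by
    rw [← h3, closure_le]
    rintro _ ⟨f, hf, c, hc, rfl⟩
    rw [h2] at hc
    obtain ⟨c, hc, rfl⟩ := hc
    exact ⟨φ f c, subset_closure ⟨f, hf, c, hc, rfl⟩, rfl⟩
  have h5 : V ≤ D := by
    obtain ⟨K, hKF, hnK, hcop, hK⟩ := exists_pPrime_part F hF p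
    have h6 := fpf_of_pPrime_part φ (le_normalizer.trans hnK) hK (M := ⊤) (hG.to_subgroup ⊤)
      (fun _ _ _ _ => mem_top _) (by rw [hfix, inf_bot_eq])
    rw [top_inf_eq] at h6
    let _ : CommGroup V := { (inferInstance : Group V) with mul_comm := hVc.is_comm.comm }
    have := Fintype.ofFinite K
    have := Fintype.ofFinite H
    intro x hx
    have h7 := prod_conj_norm (Q := V) (subAut φ V hVi) (hHF.trans hnK)
      (semiregular_mono hsr hKF le_rfl) (fixSub_subAut_eq_bot φ h6 V hVi) ⟨x, hx⟩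
    have h8 : (⟨x, hx⟩ : V) ^ Nat.card K ∈ D.subgroupOf V := by
      rw [← h7]
      refine prod_mem (fun f _ => subset_closure ⟨f, hKF f.2, _, fun b hb => congrArg Subtype.val
        (prod_mem_fixSub (Q := V) (subAut φ V hVi) H _ b hb), rfl⟩)
    have h9 : x ^ Nat.card K ∈ D := h8
    have e3 := mul_mem (zpow_mem h9 (Nat.gcdA (Nat.card K) p))
      (zpow_mem (show x ^ p ∈ D from hVp x hx ▸ one_mem D) (Nat.gcdB (Nat.card K) p))
    rwa [← zpow_natCast, ← zpow_natCast, ← zpow_mul, ← zpow_mul, ← zpow_add,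
      ← Nat.gcd_eq_gcd_ab, hcop.gcd_eq_one, Nat.cast_one, zpow_one] at e3
  have h6 := comap_mono (f := QuotientGroup.mk' V) h4
  rw [comap_top, comap_map_eq, QuotientGroup.ker_mk', sup_eq_left.2 h5] at h6
  exact top_le_iff.1 h6

/-- Let the finite group A act faithfully on the finite group G by automorphisms, A a Frobenius group with kernel F and complement H such that F fixes only the identity of G. Then G is generated by the images under elements of F of the fixed-point subgroup C_G(H). -/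
theorem result {G A : Type*} [Group G] [Finite G] [Group A] [Finite A] [MulDistribMulAction A G] [FaithfulSMul A G]
    (Fk Hc : Subgroup A) [Fk.Normal] (hHc : Cfsg.IsFrobeniusComplement Hc) (hker : Cfsg.frobeniusKernel Hc = (Fk : Set A))
    (hCF : ∀ g : G, (∀ f ∈ Fk, f • g = g) → g = 1) : Subgroup.closure {x : G | ∃ f ∈ Fk, ∃ c : G, (∀ h ∈ Hc, h • c = c) ∧ x = f • c} = ⊤ := by
  obtain ⟨N, hN, -, hNn⟩ := Cfsg.Agent.S0042.result Hc hHc
  obtain ⟨N', hN', -, hc⟩ := Cfsg.Agent.S0035.result Hc hHc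
  obtain rfl : N = Fk := SetLike.coe_injective (hN.trans hker)
  obtain rfl : N' = N := SetLike.coe_injective (hN'.trans hker)
  have hsr := (isFrobeniusComplement_iff_semiregular hc (by
    rintro rfl
    exact hHc.2.1 (isComplement'_bot_left.1 hc)) hHc.1).1 hHc
  refine top_le_iff.1 (H45.le_of_forall_syl (fun p hp => ?_))
  have := Fact.mk (H45.mem_primesOf.1 hp).1
  obtain ⟨P, hP, -⟩ := Cfsg.Agent.S4123.result (G := G) N' Hc hHc hker hCF p
  refine ⟨P, H69.isSylowIn_top P, ?_⟩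
  have h := pcase N' hNn hsr p _ P (subAut (MulDistribMulAction.toMulAut A G) P hP) rfl P.2
    (fixSub_subAut_eq_bot (MulDistribMulAction.toMulAut A G) (F := N')
      (eq_bot_iff.2 fun g hg => hCF g hg) _ hP)
  rw [← H69.map_subtype_top (P : Subgroup G), ← h, MonoidHom.map_closure]
  refine closure_mono ?_
  rintro _ ⟨_, ⟨f, hf, c, hc, rfl⟩, rfl⟩
  exact ⟨f, hf, c, fun b hb => congrArg Subtype.val (hc b hb), rfl⟩

end Cfsg.Agent.S4122
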