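import Mathlib
import Cfsg.Statements.S4125
import Cfsg.Agent.Lib.FGS.QBaer
import Cfsg.Agent.S0205

set_option autoImplicit false
open Cfsg

namespace Cfsg.Agent.S4125


open Subgroup H80 H78.QBaer

section

variable {G : Type*} [Group G] [Finite G] {q : ℕ} [hq : Fact q.Prime]

theorem centralizes (Q : Sylow q G) [(Q : Subgroup G).Normal] (D : Subgroup (Q : Subgroup G))
    (hD : D ≠ ⊤) (hA : ∀ x : (Q : Subgroup G), x ∉ D → ∃ a, cs⟦(x : G)⟧ = q ^ a) {g : G}
    (hg : ¬ q ∣ orderOf g) : g ∈ centralizer ((Q : Subgroup G) : Set G) := by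
  let a : MulAut (Q : Subgroup G) := MulAut.conjNormal g
  let π := QuotientGroup.mk' (frattini (Q : Subgroup G))
  have h1 : ∀ x : (Q : Subgroup G), x ∉ D → x ∈ π.eqLocus (π.comp a.toMonoidHom) := by
    intro x hx
    obtain ⟨k, hk⟩ := hA x hx
    obtain ⟨u, hu, e⟩ := exists_sylow_conj_eq Q hk g
    refine QuotientGroup.eq.mpr ?_
    have : x⁻¹ * a x = x⁻¹ * ⟨u, hu⟩ * x⁻¹⁻¹ * (⟨u, hu⟩ : (Q : Subgroup G))⁻¹ := by
      refine Subtype.ext ?_
      simp only [a, coe_mul, coe_inv, MulAut.conjNormal_apply, e, inv_inv, mul_assoc]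
    rw [MulEquiv.coe_toMonoidHom, this]
    exact H5.commutatorElement_mem_frattini Q.isPGroup' _ _
  obtain ⟨x₀, -, hx₀⟩ := SetLike.exists_of_lt (lt_top_iff_ne_top.mpr hD)
  have h2 : ∀ x : (Q : Subgroup G), x ∈ π.eqLocus (π.comp a.toMonoidHom) := by
    intro x
    by_cases hx : x ∈ D
    · have := Subgroup.mul_mem _ (Subgroup.inv_mem _ (h1 x₀ hx₀))
        (h1 (x₀ * x) (fun h => hx₀ ((D.mul_mem_cancel_right hx).mp h)))
      rwa [inv_mul_cancel_left] at this
    · exact h1 x hx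
  have h3 : a = 1 := H5.aut_eq_one_of_frattini Q.isPGroup' a
    (Nat.Coprime.coprime_dvd_left (orderOf_map_dvd MulAut.conjNormal g)
      ((Nat.Prime.coprime_iff_not_dvd hq.out).mpr hg).symm)
    (fun x => QuotientGroup.eq.mp (h2 x))
  rw [mem_centralizer_iff]
  intro y hy
  have := congrArg (fun b : MulAut (Q : Subgroup G) => ((b ⟨y, hy⟩ : (Q : Subgroup G)) : G)) h3
  simp only [a, MulAut.conjNormal_apply, MulAut.one_apply] at this
  exact (mul_inv_eq_iff_eq_mul.mp this).symm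

theorem claim1 (Q : Sylow q G) {x y : G} (hy : y ∈ (Q : Subgroup G)) {r s a b : ℕ} (hr : r.Prime)
    (hs : s.Prime) (hrs : r ≠ s) (hx' : cs⟦x⟧ = r ^ a) (hy' : cs⟦y⟧ = s ^ b) (hb : b ≠ 0)
    (hle : cs⟦x * y⟧ ≤ cs⟦x⟧) : r = q ∧ y ∈ pCore q G := by
  haveI : Fact r.Prime := ⟨hr⟩
  have hcop : (cs⟦x⟧).Coprime cs⟦y⟧ := by
    rw [hx', hy']
    exact Nat.Coprime.pow _ _ ((Nat.coprime_primes hr hs).mpr hrs)
  obtain ⟨N, hN, hd, hmem⟩ := exists_normal_of_coprime hcop hle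
  have hNy : N ≤ Cx⟦y⟧ := le_Cx_of_normal_of_coprime (hcop.coprime_dvd_left hd)
  obtain ⟨c, hc⟩ := eq_pow_of_dvd_pow hr (hx' ▸ hd)
  have hNr : IsPGroup r N := IsPGroup.of_card hc
  have hyq : H35.IsPElt q y := H35.isPElt_of_mem Q.isPGroup' hy
  have hrq : r = q := by
    by_contra hne
    have hcen : y ∈ center G := by
      rw [mem_center_iff]
      intro g
      have h1 : Commute (g * y * g⁻¹) y⁻¹ := by
        have h2 : Commute (g * y * g⁻¹ * y⁻¹) y := mem_Cx_iff_commute'.mp (hNy (hmem g))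
        have h3 := h2.mul_left (Commute.refl y)
        rw [inv_mul_cancel_right] at h3
        exact h3.inv_right
      have h4 : H35.IsPElt q (g * y * g⁻¹ * y⁻¹) := (hyq.conj g).mul hyq.inv h1
      have h5 := h4.eq_one_of_not_dvd (H79.not_dvd_orderOf_of_isPElt_ne hq.out hr hne
        (H35.isPElt_of_mem hNr (hmem g)))
      exact mul_inv_eq_iff_eq_mul.mp (mul_inv_eq_one.mp h5)
    rw [← cs_eq_one_iff, hy'] at hcen
    exact hs.one_lt.ne' ((Nat.pow_eq_one.mp hcen).resolve_right hb)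
  subst hrq
  refine ⟨rfl, ?_⟩
  rw [H1.pCore_eq_normalCore Q]
  intro g
  have := (Q : Subgroup G).mul_mem ((H1.le_pCore hNr).trans (H1.pCore_le_sylow Q) (hmem g)) hy
  rwa [inv_mul_cancel_right] at this

theorem claim2 {x y : G} {r s t a b c : ℕ} (hr : r.Prime) (hs : s.Prime) (ht : t.Prime)
    (hrs : r ≠ s) (hx' : cs⟦x⟧ = r ^ a) (hy' : cs⟦y⟧ = s ^ b) (hxy : cs⟦x * y⟧ = t ^ c) :
    cs⟦x * y⟧ ≤ cs⟦x⟧ ∨ cs⟦y * x⟧ ≤ cs⟦y⟧ := by
  have hcop : (cs⟦x⟧).Coprime cs⟦y⟧ := by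
    rw [hx', hy']
    exact Nat.Coprime.pow _ _ ((Nat.coprime_primes hr hs).mpr hrs)
  have hd : cs⟦x * y⟧ ∣ cs⟦x⟧ * cs⟦y⟧ := by
    rw [← index_inf_of_coprime hcop]
    exact index_dvd_of_le (inf_le_Cx_mul x y)
  by_cases htr : t = r
  · left
    refine Nat.le_of_dvd (cs_pos x) (Nat.Coprime.dvd_of_dvd_mul_right ?_ hd)
    rw [hxy, hy', htr]
    exact Nat.Coprime.pow _ _ ((Nat.coprime_primes hr hs).mpr hrs)
  · right
    have : cs⟦y * x⟧ = cs⟦x * y⟧ := by
      rw [← cs_conj x (y * x)]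
      congr 3
      group
    rw [this]
    refine Nat.le_of_dvd (cs_pos y) (Nat.Coprime.dvd_of_dvd_mul_left ?_ hd)
    rw [hxy, hx']
    exact Nat.Coprime.pow _ _ ((Nat.coprime_primes ht hr).mpr htr)

theorem one_prime (Q : Sylow q G)
    (hB : ∀ x ∈ (Q : Subgroup G), ∃ (r : ℕ) (a : ℕ), r.Prime ∧ cs⟦x⟧ = r ^ a)
    {y : G} (hy : y ∈ (Q : Subgroup G)) {s b : ℕ} (hs : s.Prime) (hsq : s ≠ q)
    (hy' : cs⟦y⟧ = s ^ b) (hb : b ≠ 0) {x : G} (hx : x ∈ (Q : Subgroup G)) :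
    ∃ a, cs⟦x⟧ = s ^ a := by
  obtain ⟨r, a, hr, hx'⟩ := hB x hx
  by_cases ha : a = 0
  · exact ⟨0, by rw [hx', ha, pow_zero, pow_zero]⟩
  by_cases hrs : r = s
  · exact ⟨a, hrs ▸ hx'⟩
  exfalso
  have key : ∀ w ∈ (Q : Subgroup G), ∀ t c : ℕ, t.Prime → t ≠ q → r ≠ t → c ≠ 0 →
      cs⟦w⟧ = t ^ c → r = q ∧ w ∈ pCore q G := by
    intro w hw t c ht htq hrt hc hw'
    obtain ⟨u, d, hu, hxw⟩ := hB _ ((Q : Subgroup G).mul_mem hx hw)
    rcases claim2 hr ht hu hrt hx' hw' hxw with h | h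
    · exact claim1 Q hw hr ht hrt hx' hw' hc h
    · exact absurd (claim1 Q hx ht hr hrt.symm hw' hx' ha h).1 htq
  obtain rfl := (key y hy s b hs hsq hrs hb hy').1
  have hQ : (Q : Subgroup G) = pCore r G := by
    refine le_antisymm (fun w hw => ?_) (H1.pCore_le_sylow Q)
    obtain ⟨t, c, ht, hw'⟩ := hB w hw
    by_cases hc : c = 0
    · exact mem_pCore_of_cs_eq_pow (H35.isPElt_of_mem Q.isPGroup' hw) (a := 0)
        (by rw [hw', hc, pow_zero, pow_zero])
    by_cases htr : t = r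
    · exact mem_pCore_of_cs_eq_pow (H35.isPElt_of_mem Q.isPGroup' hw) (htr ▸ hw')
    · exact (key w hw t c ht htr (Ne.symm htr) hc hw').2
  haveI : (Q : Subgroup G).Normal := hQ ▸ inferInstance
  obtain ⟨n, hn⟩ := Q.isPGroup'.exists_card_eq
  have hle : ∀ (w : G) (t c : ℕ), t.Prime → t ≠ r → cs⟦w⟧ = t ^ c → (Q : Subgroup G) ≤ Cx⟦w⟧ := by
    intro w t c ht htr hw'
    refine le_Cx_of_normal_of_coprime ?_
    rw [hn, hw']
    exact Nat.Coprime.pow _ _ ((Nat.coprime_primes hr ht).mpr htr.symm)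
  have hcent : ∀ g : G, ¬ r ∣ orderOf g → g ∈ centralizer ((Q : Subgroup G) : Set G) := by
    intro g hg
    refine centralizes Q (center _) ?_ ?_ hg
    · intro htop
      have : (Q : Subgroup G) ≤ Cx⟦x⟧ := fun w hw => mem_Cx.mpr (congrArg Subtype.val
        (mem_center_iff.mp (htop ▸ mem_top (⟨x, hx⟩ : (Q : Subgroup G))) ⟨w, hw⟩))
      exact not_dvd_index_of_sylow_le Q this (hx' ▸ dvd_pow_self r ha)
    · intro w hw
      obtain ⟨t, c, ht, hw'⟩ := hB w w.2
      by_cases htr : t = r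
      · exact ⟨c, htr ▸ hw'⟩
      · exact absurd (mem_center_iff.mpr fun u =>
          Subtype.ext (mem_Cx.mp (hle w t c ht htr hw' u.2))) hw
  have htop : Cx⟦y⟧ = ⊤ := by
    refine eq_top_of_forall_isPElt fun t w ht hw => ?_
    by_cases htr : t = r
    · subst htr
      exact hle y s b hs hsq hy' (hw.mem_of_index Q.not_dvd_index)
    · exact mem_Cx'.mpr (mem_centralizer_iff.mp
        (hcent w (H79.not_dvd_orderOf_of_isPElt_ne hr ht htr hw)) y hy)
  rw [htop, index_top] at hy'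
  exact hs.one_lt.ne' ((Nat.pow_eq_one.mp hy'.symm).resolve_right hb)

open scoped IsMulCommutative in
theorem solvable_aux (Q : Sylow q G) [(Q : Subgroup G).Normal] [IsMulCommutative (Q : Subgroup G)]
    (hO : pPrimeCore q G = ⊥) {p : ℕ} (hp : p.Prime)
    (h : ∀ x ∈ (Q : Subgroup G), ∃ a : ℕ, cs⟦x⟧ = p ^ a) : Group.IsSolvable G := by
  have hC : centralizer ((Q : Subgroup G) : Set G) ≤ Q :=
    H71.centralizer_le_of_sylow_inf_le Q hO _ inf_le_left
  by_cases hq2 : q = 2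
  · subst hq2
    haveI := Cfsg.Agent.S0205.result (G := G ⧸ (Q : Subgroup G)) (by
      rw [← Nat.not_even_iff_odd, even_iff_two_dvd]
      exact Q.not_dvd_index)
    exact solvable_of_ker_le_range (Q : Subgroup G).subtype (QuotientGroup.mk' (Q : Subgroup G))
      (by simp)
  by_cases hp2 : p = 2
  · subst hp2
    exact isSolvable_of_two_pow hq2 Q hC h
  refine Cfsg.Agent.S0205.result ?_
  rw [← Nat.not_even_iff_odd, even_iff_two_dvd]
  intro h2
  haveI : Fact (Nat.Prime 2) := ⟨Nat.prime_two⟩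
  obtain ⟨t, ht⟩ := exists_prime_orderOf_dvd_card' 2 h2
  have htt : t * t = 1 := by rw [← sq, ← ht, pow_orderOf_eq_one]
  have hti : t⁻¹ = t := inv_eq_of_mul_eq_one_right htt
  have hodd : ∀ v ∈ (Q : Subgroup G), v * v = 1 → v = 1 := by
    intro v hv hvv
    refine (H35.isPElt_of_mem Q.isPGroup' hv).eq_one_of_not_dvd fun hd => hq2 ?_
    exact (Nat.prime_dvd_prime_iff_eq hq.out Nat.prime_two).mp
      (hd.trans (orderOf_dvd_of_pow_eq_one (by rw [sq, hvv])))
  have htC : t ∉ centralizer ((Q : Subgroup G) : Set G) := fun hc => by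
    rw [hodd t (hC hc) htt, orderOf_one] at ht
    omega
  rw [mem_centralizer_iff] at htC
  push Not at htC
  obtain ⟨v, hv, hvt⟩ := htC
  have hv' : t * v * t⁻¹ ∈ (Q : Subgroup G) := Normal.conj_mem inferInstance v hv t
  set w := v⁻¹ * (t * v * t⁻¹) with hw
  have hwQ : w ∈ (Q : Subgroup G) := mul_mem (inv_mem hv) hv'
  have hw1 : w ≠ 1 := fun e => hvt (mul_inv_eq_iff_eq_mul.mp (inv_mul_eq_one.mp e).symm).symm
  have hinv : t * w * t⁻¹ = w⁻¹ := by
    rw [hw]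
    calc t * (v⁻¹ * (t * v * t⁻¹)) * t⁻¹ = t * v⁻¹ * t⁻¹ * ((t * t) * v * (t * t)⁻¹) := by group
      _ = _ := by rw [htt]; group
  obtain ⟨a, ha⟩ := h w hwQ
  have hpodd : Odd (cs⟦w⟧) := ha ▸ (hp.odd_of_ne_two hp2).pow
  obtain ⟨S, hS⟩ := not_dvd_cs_iff.mp (show ¬ 2 ∣ cs⟦w⟧ by
    rw [← even_iff_two_dvd, Nat.not_even_iff_odd]; exact hpodd)
  let E : Subgroup G := normalizer ((zpowers w : Subgroup G) : Set G)
  have htE : t ∈ E := H3.mem_normalizer_of_conj_mem (by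
    rintro _ ⟨k, rfl⟩
    rw [← conj_zpow, hinv]
    exact zpow_mem (inv_mem (mem_zpowers w)) k)
  have hCE : Cx⟦w⟧ ≤ E := by
    rw [← centralizer_zpowers]
    exact centralizer_le_normalizer _
  haveI : ((Cx⟦w⟧).subgroupOf E).Normal := by
    rw [← centralizer_zpowers]
    infer_instance
  have h3 : ¬ 2 ∣ ((Cx⟦w⟧).subgroupOf E).index := fun hd =>
    not_dvd_index_of_sylow_le S hS (hd.trans (relIndex_dvd_index_of_le hCE))
  have h4 : H35.IsPElt 2 (⟨t, htE⟩ : E) := ⟨1, by rw [orderOf_mk, ht, pow_one]⟩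
  have h5 : t ∈ Cx⟦w⟧ := h4.mem_of_index h3
  rw [mem_Cx_iff_conj, hinv] at h5
  exact hw1 (hodd w hwQ (by nth_rewrite 1 [← h5]; exact inv_mul_cancel w))

end

/-- Let G be a finite group and q a prime dividing its order such that every element of q-power order has a conjugacy class of prime-power size. Then G is q-solvable of q-length 1: there are normal subgroups K ≤ L of G with K of order prime to q, L/K a q-group and L of index prime to q. Moreover there is a prime p such that every element of q-power order has a class of p-power size (one prime serving for all of them), and for a Sylow q-subgroup Q: if p = q then Q is normal with a normal complement (a direct factor), while if p ≠ q then Q is abelian, the product of Q with the largest normal p-subgroup O_p(G) is normal in G, and G/O_{q'}(G) is solvable, where O_{q'}(G) is the largest normal subgroup of order prime to q. -/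
theorem result {G : Type*} [Group G] [Finite G] (q : ℕ) [Fact q.Prime] (hq : q ∣ Nat.card G)
    (hBaer : ∀ x : G, (∃ k : ℕ, orderOf x = q ^ k) → ∃ (r : ℕ) (a : ℕ), r.Prime ∧ (Subgroup.centralizer ({x} : Set G)).index = r ^ a) (Q : Sylow q G) :
    (∃ K L : Subgroup G, K.Normal ∧ L.Normal ∧ K ≤ L ∧ (Nat.card K).Coprime q ∧ (∃ m : ℕ, K.relIndex L = q ^ m) ∧ L.index.Coprime q) ∧
    ∃ p : ℕ, p.Prime ∧ (∀ x : G, (∃ k : ℕ, orderOf x = q ^ k) → ∃ a : ℕ, (Subgroup.centralizer ({x} : Set G)).index = p ^ a) ∧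
      (p = q → (Q : Subgroup G).Normal ∧ ∃ N : Subgroup G, N.Normal ∧ N.IsComplement' (Q : Subgroup G)) ∧
      (p ≠ q → IsMulCommutative (Q : Subgroup G) ∧ (Cfsg.pCore p G ⊔ (Q : Subgroup G)).Normal ∧
        ∀ _h : (Cfsg.pPrimeCore q G).Normal, Group.IsSolvable (G ⧸ Cfsg.pPrimeCore q G)) := by
  have hconj : ∀ p : ℕ, (∀ x ∈ (Q : Subgroup G), ∃ a, cs⟦x⟧ = p ^ a) →
      ∀ x : G, (∃ k : ℕ, orderOf x = q ^ k) → ∃ a : ℕ, cs⟦x⟧ = p ^ a := by
    intro p h x hx
    obtain ⟨g, hg⟩ := H35.IsPElt.exists_conj_mem hx Q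
    obtain ⟨a, ha⟩ := h _ hg
    exact ⟨a, by rw [← ha, cs_conj]⟩
  have hB : ∀ x ∈ (Q : Subgroup G), ∃ (r : ℕ) (a : ℕ), r.Prime ∧ cs⟦x⟧ = r ^ a :=
    fun x hx => hBaer x (H35.isPElt_of_mem Q.isPGroup' hx)
  by_cases hA : ∀ x ∈ (Q : Subgroup G), ∃ a, cs⟦x⟧ = q ^ a
  · have hQ : (Q : Subgroup G) = pCore q G := by
      refine le_antisymm (fun w hw => ?_) (H1.pCore_le_sylow Q)
      obtain ⟨a, ha⟩ := hA w hw
      exact mem_pCore_of_cs_eq_pow (H35.isPElt_of_mem Q.isPGroup' hw) ha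
    haveI hQn : (Q : Subgroup G).Normal := hQ ▸ inferInstance
    obtain ⟨K, hK, hKq, h1, h2⟩ := H79.exists_normal_compl_of_centralizes Q
      (fun r y hr hrq hy => centralizes Q ⊥ (by
          haveI := (nontrivial_iff_ne_bot _).mpr (Q.ne_bot_of_dvd_card hq)
          exact bot_ne_top) (fun x _ => hA x x.2)
        (H79.not_dvd_orderOf_of_isPElt_ne Fact.out hr hrq hy))
    refine ⟨⟨K, ⊤, hK, inferInstance, le_top,
      ((Nat.Prime.coprime_iff_not_dvd Fact.out).mpr hKq).symm, ?_, by simp⟩,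
      q, Fact.out, hconj q hA, fun _ => ⟨hQn, K, hK, ?_⟩, fun h => absurd rfl h⟩
    · rw [relIndex_top_right]
      exact (H79.direct_factor_facts Q K h1 h2).2.2.2
    · refine isComplement'_of_disjoint_and_mul_eq_univ (disjoint_iff.mpr (by rwa [inf_comm])) ?_
      rw [← normal_mul, sup_comm, h2, coe_top]
  push Not at hA
  obtain ⟨y, hy, hy1⟩ := hA
  obtain ⟨p, b, hp, hy'⟩ := hB y hy
  have hpq : p ≠ q := fun e => hy1 b (e ▸ hy')
  have hb : b ≠ 0 := fun e => hy1 0 (by rw [hy', e, pow_zero, pow_zero])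
  have hall : ∀ x ∈ (Q : Subgroup G), ∃ a, cs⟦x⟧ = p ^ a :=
    fun x hx => one_prime Q hB hy hp hpq hy' hb hx
  haveI : Fact p.Prime := ⟨hp⟩
  have hcomm : ∀ x y : G, H35.IsPElt q x → H35.IsPElt q y → x * y * x⁻¹ * y⁻¹ ∈ pCore p G := by
    intro x y hx hy
    obtain ⟨a, ha⟩ := hconj p hall x hx
    obtain ⟨b, hb⟩ := hconj p hall y hy
    exact commutator_mem_pCore_of_cs_eq_pow ha hb
  haveI hQc : IsMulCommutative (Q : Subgroup G) := ⟨⟨fun x y => Subtype.ext (by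
    have h1 := hcomm x y (H35.isPElt_of_mem Q.isPGroup' x.2) (H35.isPElt_of_mem Q.isPGroup' y.2)
    have h2 : (x : G) * y * (x : G)⁻¹ * (y : G)⁻¹ ∈ (Q : Subgroup G) :=
      mul_mem (mul_mem (mul_mem x.2 y.2) (inv_mem x.2)) (inv_mem y.2)
    have h3 := (H35.isPElt_of_mem Q.isPGroup' h2).eq_one_of_not_dvd
      (H79.not_dvd_orderOf_of_isPElt_ne Fact.out hp hpq (H35.isPElt_of_mem H1.isPGroup_pCore h1))
    exact mul_inv_eq_iff_eq_mul.mp (mul_inv_eq_one.mp h3))⟩⟩
  have hLn : (pCore p G ⊔ (Q : Subgroup G)).Normal := by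
    let Qb := Q.mapSurjective (QuotientGroup.mk'_surjective (pCore p G))
    have hQb : (Qb : Subgroup (G ⧸ pCore p G)).Normal := by
      constructor
      rintro _ ⟨x, hx, rfl⟩ g
      obtain ⟨g, rfl⟩ := QuotientGroup.mk'_surjective (pCore p G) g
      rw [← map_mul, ← map_inv, ← map_mul]
      have hxq := (H35.isPElt_of_mem Q.isPGroup' hx).conj g
      have h1 := (H35.isPElt_iff_zpowers.mp
        (hxq.map (QuotientGroup.mk' (pCore p G)))).inf_normalizer_sylow Qb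
      have h2 : QuotientGroup.mk' (pCore p G) (g * x * g⁻¹) ∈
          normalizer ((Qb : Subgroup (G ⧸ pCore p G)) : Set (G ⧸ pCore p G)) := by
        refine centralizer_le_normalizer _ (mem_centralizer_iff.mpr ?_)
        rintro _ ⟨w, hw, rfl⟩
        have h3 := (QuotientGroup.eq_one_iff _).mpr
          (hcomm w _ (H35.isPElt_of_mem Q.isPGroup' hw) hxq)
        rw [QuotientGroup.mk_mul, QuotientGroup.mk_mul, QuotientGroup.mk_mul, QuotientGroup.mk_inv,
          QuotientGroup.mk_inv] at h3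
        exact mul_inv_eq_iff_eq_mul.mp (mul_inv_eq_one.mp h3)
      exact (h1.le (mem_inf.mpr ⟨mem_zpowers _, h2⟩)).2
    have := hQb.comap (QuotientGroup.mk' (pCore p G))
    rwa [Sylow.coe_mapSurjective, comap_map_eq, QuotientGroup.ker_mk', sup_comm] at this
  have hcop : p.Coprime q := (Nat.coprime_primes hp Fact.out).mpr hpq
  refine ⟨⟨pCore p G, pCore p G ⊔ Q, inferInstance, hLn, le_sup_left, ?_, ?_, ?_⟩,
    p, hp, hconj p hall, fun h => absurd h hpq, fun _ => ⟨hQc, hLn, fun _ => ?_⟩⟩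
  · obtain ⟨k, hk⟩ := (H1.isPGroup_pCore (p := p) (G := G)).exists_card_eq
    rw [hk]
    exact hcop.pow_left k
  · rw [relIndex_sup_left]
    exact Q.isPGroup'.index _
  · exact H4.coprime_index_of_sylow_le Q le_sup_right
  · let Qb := Q.mapSurjective (QuotientGroup.mk'_surjective (pPrimeCore q G))
    haveI : (Qb : Subgroup (G ⧸ pPrimeCore q G)).Normal := by
      have := hLn.map _ (QuotientGroup.mk'_surjective (pPrimeCore q G))
      rwa [Subgroup.map_sup, (Subgroup.map_eq_bot_iff (pCore p G)).mpr (by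
        rw [QuotientGroup.ker_mk']; exact H1.pCore_le_pPrimeCore hcop), bot_sup_eq] at this
    haveI : IsMulCommutative (Qb : Subgroup (G ⧸ pPrimeCore q G)) := by
      rw [Sylow.coe_mapSurjective]
      infer_instance
    refine solvable_aux Qb H1.pPrimeCore_quotient_pPrimeCore hp ?_
    rintro _ ⟨x, hx, rfl⟩
    obtain ⟨a, ha⟩ := hall x hx
    exact eq_pow_of_dvd_pow hp (ha ▸ cs_mk_dvd _ x)

end Cfsg.Agent.S4125
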