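import Mathlib
import Cfsg.Statements.S4167
import Cfsg.Agent.Lib.FGS.ClassSize
import Cfsg.Agent.Lib.Core.MinNormal
import Cfsg.Agent.S3225
import Cfsg.Agent.S0205

set_option autoImplicit false
open Cfsg

namespace Cfsg.Agent.S4167


theorem exists_conj_commute {G : Type*} [Group G] [Finite G] (hG : ∀ H : Subgroup G, H.index ≠ 2)
    {t : G} (ht : orderOf t = 2) {C : Subgroup G} (hC : ¬ 4 ∣ C.index) :
    ∃ g : G, g * t * g⁻¹ ∈ C := by
  haveI : Fact (Nat.Prime 2) := ⟨Nat.prime_two⟩
  obtain ⟨R⟩ : Nonempty (Sylow 2 C) := inferInstance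
  have hS : IsPGroup 2 ((R : Subgroup C).map C.subtype) := R.isPGroup'.map _
  obtain ⟨P, hP⟩ := hS.exists_le_sylow
  have htp : IsPGroup 2 (Subgroup.zpowers t) :=
    IsPGroup.of_card (n := 1) (by rw [Nat.card_zpowers, ht, pow_one])
  obtain ⟨Q, hQ⟩ := htp.exists_le_sylow
  obtain ⟨g, rfl⟩ := MulAction.exists_smul_eq G Q P
  have htP : g * t * g⁻¹ ∈ ((g • Q : Sylow 2 G) : Subgroup G) := by
    rw [Sylow.coe_subgroup_smul]
    exact Subgroup.smul_mem_pointwise_smul _ (MulAut.conj g) _ (hQ (Subgroup.mem_zpowers _))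
  set P := g • Q
  have hmul := Subgroup.relIndex_mul_index hP
  rw [Subgroup.index_map_subtype] at hmul
  obtain ⟨k, hk⟩ : ∃ k, ((R : Subgroup C).map C.subtype).relIndex P = 2 ^ k :=
    P.isPGroup'.index _
  have hk2 : k ≤ 1 := by
    by_contra hlt
    have h4 : 4 ∣ ((R : Subgroup C).map C.subtype).relIndex P := by
      rw [hk]
      exact pow_dvd_pow 2 (show 2 ≤ k by omega)
    have h5 : 4 ∣ (R : Subgroup C).index * C.index := hmul ▸ h4.mul_right _
    have hcop : Nat.Coprime 4 (R : Subgroup C).index :=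
      Nat.Coprime.pow_left 2 ((Nat.Prime.coprime_iff_not_dvd Nat.prime_two).mpr R.not_dvd_index)
    exact hC (hcop.dvd_of_dvd_mul_left h5)
  interval_cases k
  · rw [pow_zero, Subgroup.relIndex_eq_one] at hk
    exact ⟨g, Subgroup.map_subtype_le _ (hk htP)⟩
  · have hev : Even (Nat.card G) := even_iff_two_dvd.mpr (ht ▸ orderOf_dvd_natCard t)
    obtain ⟨a, ha⟩ := Cfsg.Agent.S3225.result hev hG P _ hP (by rw [hk, pow_one]) 1 le_rfl
      (fun y _ hy => by
        have h1 : y ≠ 1 := fun h => hy (h ▸ Subgroup.one_mem _)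
        have h2 := orderOf_pos y
        have h3 : orderOf y ≠ 1 := fun h => h1 (orderOf_eq_one_iff.mp h)
        simp only [Nat.sub_self, pow_zero]
        omega) _ htP (by
          rw [pow_one, ← ht]
          exact (MulAut.conj g).orderOf_eq t)
    exact ⟨a * g, by
      have := Subgroup.map_subtype_le _ ha
      rwa [show a * g * t * (a * g)⁻¹ = a * (g * t * g⁻¹) * a⁻¹ by group]⟩

universe u

theorem aux (n : ℕ) : ∀ (G : Type u) [Group G] [Finite G], Nat.card G = n →
    (∀ x : G, ¬ 4 ∣ (Subgroup.centralizer ({x} : Set G)).index) → Group.IsSolvable G := by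
  induction n using Nat.strong_induction_on with
  | _ n ih =>
  intro G _ _ hn h
  by_cases hN : ∃ N : Subgroup G, N.Normal ∧ N ≠ ⊥ ∧ N ≠ ⊤
  · obtain ⟨N, hNn, hN1, hN2⟩ := hN
    haveI := ih _ (hn ▸ H3.card_lt_of_ne_top N hN2) N rfl
      (fun x hx => h x (hx.trans (H80.cs_subtype_dvd N x)))
    haveI := ih _ (hn ▸ H3.card_quotient_lt N hN1) (G ⧸ N) rfl (fun x hx => by
      obtain ⟨y, rfl⟩ := QuotientGroup.mk_surjective x
      exact h y (hx.trans (H80.cs_mk_dvd N y)))
    exact solvable_of_ker_le_range N.subtype (QuotientGroup.mk' N) (by simp)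
  push Not at hN
  by_cases hodd : Odd (Nat.card G)
  · exact Cfsg.Agent.S0205.result hodd
  haveI : Fact (Nat.Prime 2) := ⟨Nat.prime_two⟩
  rw [Nat.not_odd_iff_even, even_iff_two_dvd] at hodd
  by_cases h2 : ∃ H : Subgroup G, H.index = 2
  · obtain ⟨H, hH⟩ := h2
    have hHn : H.Normal := Subgroup.normal_of_index_eq_two hH
    have hb : H = ⊥ := by
      by_contra hb
      rw [hN H hHn hb, Subgroup.index_top] at hH
      omega
    rw [hb, Subgroup.index_bot] at hH
    haveI := isCyclic_of_prime_card hH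
    exact Group.isSolvable_of_comm (fun a b => IsCyclic.commGroup.mul_comm a b)
  push Not at h2
  obtain ⟨t, ht⟩ := exists_prime_orderOf_dvd_card' 2 hodd
  have hC : Subgroup.centralizer ({t} : Set G) = ⊤ := by
    refine H80.eq_top_of_forall_exists_conj_mem fun x => ?_
    obtain ⟨g, hg⟩ := exists_conj_commute h2 ht (h x)
    refine ⟨g⁻¹, ?_⟩
    rw [H80.mem_Cx] at hg ⊢
    calc g⁻¹ * x * g⁻¹⁻¹ * t = g⁻¹ * (x * (g * t * g⁻¹)) * g := by group
      _ = g⁻¹ * (g * t * g⁻¹ * x) * g := by rw [hg]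
      _ = _ := by group
  have hZ : Subgroup.center G = ⊤ := by
    refine hN _ inferInstance fun hb => ?_
    have := H80.Cx_eq_top_iff.mp hC
    rw [hb, Subgroup.mem_bot] at this
    rw [this, orderOf_one] at ht
    omega
  exact Group.isSolvable_of_comm fun a b =>
    Subgroup.mem_center_iff.mp (hZ ▸ Subgroup.mem_top b) a

/-- Let G be a finite group in which no conjugacy class has size divisible by 4. Then G is solvable. -/
theorem result {G : Type*} [Group G] [Finite G]
    (h : ∀ x : G, ¬ 4 ∣ (Subgroup.centralizer ({x} : Set G)).index) : Group.IsSolvable G := by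
  exact aux _ G rfl h

end Cfsg.Agent.S4167
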