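import Mathlib
import Cfsg.Statements.S4130
import Cfsg.Agent.Lib.FGS.SqFree
import Cfsg.Agent.S4167

set_option autoImplicit false
open Cfsg

namespace Cfsg.Agent.S4130


open Subgroup H80
open scoped commutatorElement IsMulCommutative

/-- Let G be a finite group all of whose conjugacy class sizes are square-free. Then G is supersolvable, G/F(G) and the derived subgroup G′ are cyclic of square-free order (F(G) the Fitting subgroup, which is normal), F(G) has nilpotency class at most 2, and G is metabelian. -/
theorem result {G : Type*} [Group G] [Finite G]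
    (h : ∀ x : G, Squarefree (Subgroup.centralizer ({x} : Set G)).index) :
    Cfsg.IsSupersolvable G ∧ (Cfsg.fittingSubgroup G).Normal ∧
    (∀ _h : (Cfsg.fittingSubgroup G).Normal, IsCyclic (G ⧸ Cfsg.fittingSubgroup G) ∧ Squarefree (Cfsg.fittingSubgroup G).index) ∧
    IsCyclic (commutator G) ∧ Squarefree (Nat.card (commutator G)) ∧
    Subgroup.upperCentralSeries ↥(Cfsg.fittingSubgroup G) 2 = ⊤ ∧ commutator ↥(commutator G) = ⊥ := by
  haveI : Group.IsSolvable G := Cfsg.Agent.S4167.result fun x h4 =>
    H78.SqFree.not_sq_dvd Nat.prime_two (h x) h4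
  obtain ⟨hc, hsq⟩ := H78.SqFree.commutator_cyclic_squarefree _ G rfl h
  set D := _root_.commutator G with hDdef
  set F := fittingSubgroup G with hF
  haveI hFn : F.Normal := inferInstance
  have hmem : ∀ y z : G, ⁅y, z⁆ ∈ D := fun y z => commutator_mem_commutator (mem_top _) (mem_top _)
  have hDF : D ≤ F := H1.le_fitting_of_isMulCommutative
  haveI : Group.IsNilpotent F := H1.isNilpotent_fitting
  have h1 : D ≤ centralizer (F : Set G) := by
    intro d hd
    refine mem_of_forall_isPElt_zpowers fun q x hq _ hx hxd => ?_
    haveI : Fact q.Prime := ⟨hq⟩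
    have hxD : zpowers x ≤ D := zpowers_le.mpr ((zpowers_le.mpr hd) hxd)
    haveI := H5.normal_of_le_cyclic hc hxD
    obtain ⟨k, hk⟩ := hx
    rcases H78.SqFree.eq_one_or_prime hq hk.dvd
      (hsq.squarefree_of_dvd (Nat.card_zpowers x ▸ card_dvd_of_le hxD)) with e | e
    · rw [orderOf_eq_one_iff.mp e]; exact one_mem _
    · have hcard : Nat.card ((zpowers x).subgroupOf F) = q := by
        rw [← e, ← Nat.card_zpowers]
        exact Nat.card_congr (subgroupOfEquivOfLe (hxD.trans hDF)).toEquiv
      have h2 : (zpowers x).subgroupOf F ≤ center F := by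
        by_contra hn
        refine H5.inf_center_ne_bot_of_nilpotent ((zpowers x).subgroupOf F) ?_
          (H78.SqFree.inf_eq_bot_of_card_prime hq hcard hn)
        intro e'
        rw [e', card_bot] at hcard
        exact hq.one_lt.ne hcard
      have h3 := h2 (x := ⟨x, hDF (hxD (mem_zpowers x))⟩) (mem_zpowers x)
      exact mem_centralizer_iff.mpr fun y hy => congrArg Subtype.val (mem_center_iff.mp h3 ⟨y, hy⟩)
  have h2 : centralizer (D : Set G) ≤ F := by
    refine H1.le_fitting (H1.isNilpotent_of_commutator_le_centralizer ?_)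
    exact (commutator_mono le_top le_top).trans (le_centralizer_iff.mp le_rfl)
  have h3 : F = centralizer (D : Set G) := le_antisymm (le_centralizer_iff.mp h1) h2
  have h4 : Squarefree F.index := by
    obtain ⟨g, hg⟩ := (Subgroup.isCyclic_iff_exists_zpowers_eq_top D).mp hc
    rw [h3, ← hg, H80.centralizer_zpowers]
    exact h g
  refine ⟨?_, hFn, fun _ => ⟨?_, h4⟩, hc, hsq, ?_, ?_⟩
  · haveI : IsMulCommutative (G ⧸ D) := Normal.quotient_commutative_iff_commutator_le.mpr le_rfl
    exact H21.isSupersolvable_of_isCyclic_normal D (H21.isSupersolvable_of_isNilpotent _)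
  · haveI := IsZGroup.of_squarefree (G := G ⧸ F) h4
    haveI : IsMulCommutative (G ⧸ F) := Normal.quotient_commutative_iff_commutator_le.mpr hDF
    haveI : Group.IsNilpotent (G ⧸ F) := inferInstance
    infer_instance
  · rw [eq_top_iff]
    intro x _
    rw [Subgroup.mem_upperCentralSeries_succ_iff]
    intro y
    rw [Subgroup.upperCentralSeries_one, mem_center_iff]
    intro z
    exact Subtype.ext (mem_centralizer_iff.mp (h1 (hmem x y)) z z.2)
  · exact commutator_eq_bot_iff_le_centralizer.mpr fun x _ =>
      mem_centralizer_iff.mpr fun y _ => mul_comm y x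

end Cfsg.Agent.S4130
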