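import Cfsg.Statements.S4147
import Mathlib
import Cfsg.Agent.Lib.NCor.TwoB
import Cfsg.Agent.Lib.GW.PslAut
import Cfsg.Agent.S0252

set_option autoImplicit false
open Cfsg

namespace Cfsg.Agent.S4147

open Subgroup H80 H35 H32 H50.TP H64.SL2 H67 Matrix
open scoped MatrixGroups Pointwise

universe u

theorem pow3_succ {i j : ℕ} (h : 3 ^ j + 1 = 2 ^ i) : i ≤ 2 := by
  by_contra hc
  obtain ⟨k, rfl⟩ : ∃ k, i = k + 3 := ⟨i - 3, by omega⟩
  have : 3 ^ j % 8 = 1 ∨ 3 ^ j % 8 = 3 := by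
    clear h
    induction j with
    | zero => simp
    | succ j ih => omega
  rw [pow_add] at h
  omega

theorem pow2_succ {i j : ℕ} (h : 2 ^ i + 1 = 3 ^ j) : i ≤ 3 := by
  by_contra hc
  obtain ⟨k, rfl⟩ : ∃ k, i = k + 4 := ⟨i - 4, by omega⟩
  have key : ∀ j, (j % 4 = 0 ∧ 3 ^ j % 80 = 1) ∨ (j % 4 = 1 ∧ 3 ^ j % 80 = 3) ∨ (j % 4 = 2 ∧ 3 ^ j % 80 = 9) ∨
      (j % 4 = 3 ∧ 3 ^ j % 80 = 27) := fun j => by
    induction j with
    | zero => simp
    | succ j ih => omega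
  have h5 : 5 ∣ 2 ^ (k + 4) := by
    have := key j
    rw [pow_add] at h ⊢
    omega
  exact absurd (Nat.prime_five.dvd_of_dvd_pow h5) (by norm_num)

theorem arith {n q r : ℕ} (hn : 2 ≤ n) (h : ∀ p : ℕ, p.Prime → p ∣ (2 ^ n - 1) * (2 ^ n + 1) → p = 2 ∨ p = q ∨ p = r) :
    n ≤ 3 := by
  obtain ⟨m, hm⟩ : ∃ m, 2 ^ n = 2 * m + 4 := by
    obtain ⟨k, rfl⟩ := Nat.exists_eq_add_of_le hn
    exact ⟨2 * (2 ^ k - 1), by have := Nat.one_le_two_pow (n := k); rw [pow_add]; omega⟩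
  have n3 : ¬ 3 ∣ 2 ^ n := fun e => absurd (Nat.prime_three.dvd_of_dvd_pow e) (by norm_num)
  have key : ∀ {a b : ℕ}, a * b = (2 ^ n - 1) * (2 ^ n + 1) → ¬ 2 ∣ a → ¬ 2 ∣ b → b ≠ 1 → 3 ∣ a →
      (∀ p, p ∣ a → p ∣ b → p ∣ 2) → ∃ j, a = 3 ^ j := fun {a b} e a2 b2 b1 a3 c => by
    refine ⟨_, Nat.eq_prime_pow_of_unique_prime_dvd (fun e => a2 (e ▸ dvd_zero 2)) fun {p} hp d => ?_⟩
    obtain ⟨s, s1, s2⟩ := Nat.exists_prime_and_dvd b1
    have := h p hp (e ▸ d.mul_right b)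
    have := h s s1 (e ▸ s2.mul_left a)
    have := h 3 Nat.prime_three (e ▸ a3.mul_right b)
    have : p ≠ 2 := fun e => a2 (e ▸ d)
    have s3 : s ≠ 2 := fun e => b2 (e ▸ s2)
    have k : ¬ s ∣ a := fun e => s3 ((Nat.prime_dvd_prime_iff_eq s1 Nat.prime_two).1 (c s e s2))
    have : p ≠ s := fun e => k (e ▸ d)
    have : 3 ≠ s := fun e => k (e ▸ a3)
    omega
  have c : ∀ p, p ∣ 2 ^ n - 1 → p ∣ 2 ^ n + 1 → p ∣ 2 := fun p d1 d2 => by
    simpa [show 2 ^ n + 1 - (2 ^ n - 1) = 2 by omega] using Nat.dvd_sub d2 d1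
  by_cases e : 3 ∣ 2 ^ n - 1
  · obtain ⟨j, hj⟩ := key rfl (by omega) (by omega) (by omega) e c
    exact (pow3_succ (j := j) (by omega)).trans (by norm_num)
  · obtain ⟨j, hj⟩ := key (mul_comm _ _) (by omega) (by omega) (by omega)
      (by rcases (by omega : m % 3 = 0 ∨ m % 3 = 1 ∨ m % 3 = 2) with e | e | e <;> omega) fun p a b => c p b a
    exact pow2_succ hj

variable {G : Type u} [Group G] [Finite G]

theorem simple [IsSimpleGroup G] (hZ : center G = ⊥) (h : T2 G) : ∃ (F : Type) (_ : Field F) (_ : Fintype F),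
    (Fintype.card F = 2 ^ 2 ∨ Fintype.card F = 2 ^ 3) ∧ Nonempty (G ≃* PSL(2, F)) := by
  obtain ⟨F, _, _, n, hn, hF, ⟨e⟩⟩ := (h.ac hZ).psl2' hZ fun _ => bot_ne_top (hZ.symm.trans (eq_top_iff.2 fun x _ =>
    mem_center_iff.2 fun g => IsSimpleGroup.comm_iff_isSolvable.2 ‹_› g x))
  obtain ⟨q, r, -, -, -, -, -, -, -, -, hπ⟩ := h.three hZ
  have h1 := H10.card_PSL_two (F := F)
  rw [← Nat.card_congr e.toEquiv, Nat.card_eq_fintype_card (α := F), hF, mul_assoc, (Nat.coprime_two_left.2 (Nat.Even.sub_odd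
    Nat.one_le_two_pow (Nat.even_pow.2 ⟨even_two, by omega⟩) odd_one)).gcd_eq_one, one_mul] at h1
  have := arith hn fun p hp d => hπ p hp (h1 ▸ d.mul_left _)
  refine ⟨F, inferInstance, inferInstance, ?_, ⟨e⟩⟩
  interval_cases n
  exacts [.inl hF, .inr hF]

theorem two_pr [IsSimpleGroup G] (hZ : center G = ⊥) {x : G} (hx : x ≠ 1) {s : ℕ} (hs : s.Prime) (e : ¬ s ∣ cs⟦x⟧) :
    ∃ a b : ℕ, a.Prime ∧ b.Prime ∧ a ∣ cs⟦x⟧ ∧ b ∣ cs⟦x⟧ ∧ ¬ (a = b ∨ a = s ∨ b = s) := by
  obtain ⟨a, a1, a2, a3⟩ := exists_pr hZ hx hs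
  obtain ⟨b, b1, b2, b3⟩ := exists_pr hZ hx a1
  exact ⟨a, b, a1, b1, a3, b3, by rintro (rfl | rfl | rfl) <;> contradiction⟩

theorem exists_elt [Nontrivial G] {s : ℕ} (hs : s.Prime) : ∃ x : G, x ≠ 1 ∧ ¬ s ∣ cs⟦x⟧ := by
  have := Fact.mk hs
  by_cases d : s ∣ Nat.card G
  · obtain ⟨z, -, z2, z3⟩ := exists_central (default : Sylow s G) d
    exact ⟨z, ne_one_of_prime (z2 ▸ hs), not_dvd_cs_iff.2 ⟨_, z3⟩⟩
  · obtain ⟨x, hx⟩ := exists_ne (1 : G)
    exact ⟨x, hx, fun e => d (e.trans (cs_dvd_card x))⟩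

theorem cent_le (h : T2 G) (S : Subgroup G) [S.Normal] [IsSimpleGroup S] (hZ : center S = ⊥) :
    centralizer (S : Set G) ≤ center G := fun c hc => by
  by_contra e
  obtain ⟨s, hs, d⟩ := Nat.exists_prime_and_dvd (mt cs_eq_one_iff.1 e)
  obtain ⟨x, x1, x2⟩ := exists_elt (G := S) hs
  obtain ⟨a, b, a1, b1, a2, b2, n⟩ := two_pr hZ x1 hs x2
  have l : Cx⟦(x : G) * c⟧ ≤ Cx⟦(x : G)⟧ := fun g hg => by
    have e1 : (x : G)⁻¹ * (g * x * g⁻¹) = c * (g * c * g⁻¹)⁻¹ := by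
      rw [inv_mul_eq_iff_eq_mul, ← mul_assoc, ← mem_Cx_iff_conj.1 hg]; group
    have m : (x : G)⁻¹ * (g * x * g⁻¹) ∈ S := mul_mem (inv_mem x.2) (Normal.conj_mem ‹_› _ x.2 g)
    have m2 : (x : G)⁻¹ * (g * x * g⁻¹) ∈ centralizer (S : Set G) := by
      rw [e1]; exact mul_mem hc (inv_mem (Normal.conj_mem inferInstance _ hc g))
    have : (⟨_, m⟩ : S) ∈ center S := mem_center_iff.2 fun y => Subtype.ext (m2 y y.2)
    rw [hZ, mem_bot, Subtype.ext_iff, coe_one, inv_mul_eq_one] at this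
    exact mem_Cx_iff_conj.2 this.symm
  have l2 : Cx⟦(x : G) * c⟧ ≤ Cx⟦c⟧ := fun g hg => by
    have := mem_Cx.1 hg
    rw [← mul_assoc, mem_Cx.1 (l hg), mul_assoc, mul_assoc, mul_left_cancel_iff] at this
    exact mem_Cx.2 this
  have k := (cs_subtype_dvd S x).trans (index_dvd_of_le l)
  exact n (h _ a b s a1 b1 hs (a2.trans k) (b2.trans k) (d.trans (index_dvd_of_le l2)))

theorem fin (h : T2 G) (S : Subgroup G) [S.Normal] [IsSimpleGroup S] (hZ : center S = ⊥) {t u : S} {y : G}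
    (ht : orderOf t = 2) (h1 : Cx⟦y⟧ ≤ Cx⟦(t : G)⟧) (h2 : u ∈ Cx⟦t⟧) : (u : G) ∈ Cx⟦y⟧ := by
  by_contra h3
  obtain ⟨m1, m2⟩ := (h.sub S).main hZ
  obtain ⟨a, b, a1, b1, a2, b2, n⟩ := two_pr hZ (ne_one_of_prime (ht ▸ Nat.prime_two)) Nat.prime_two
    (not_dvd_cs (m1 2 default) (pElt_of_prime ht))
  have k := (cs_subtype_dvd S t).trans (index_dvd_of_le h1)
  refine n (h _ a b 2 a1 b1 Nat.prime_two (a2.trans k) (b2.trans k) (Dvd.dvd.trans ?_ (relIndex_Cx_dvd_cs S y)))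
  have l : (Cx⟦y⟧).subgroupOf S ≤ Cx⟦t⟧ := Cx_subtype S t ▸ subgroupOf_mono _ h1
  obtain ⟨j, hj⟩ := (m2 t ht).index (((Cx⟦y⟧).subgroupOf S).subgroupOf Cx⟦t⟧)
  refine Dvd.dvd.trans ?_ (relIndex_dvd_index_of_le l)
  rw [relIndex, hj]
  exact dvd_pow_self 2 fun e => h3 ((relIndex_eq_one (H := (Cx⟦y⟧).subgroupOf S)).1 (by rwa [e] at hj) h2)

section
variable {F : Type} [Field F]

/-- upper unitriangular matrices. -/
def un (b : F) : PSL(2, F) := proj (mk 1 b 0 1 (by simp))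

theorem un_mul (a b : F) : un a * un b = un (a + b) := by
  rw [un, un, un, ← map_mul]
  congr 1
  simp only [ext_iff', H64.SL2.mul_apply', mk_00, mk_01, mk_10, mk_11]
  simp [add_comm]

theorem un_inj (h2 : (2 : F) = 0) {a b : F} (h : un a = un b) : a = b :=
  (ext_iff'.1 (proj_injective_of_two_eq_zero h2 h)).2.1

theorem un_zero : un (0 : F) = 1 := left_eq_mul.1 ((un_mul 0 0).trans (by rw [add_zero])).symm

theorem field_un (σ : RingAut F) (b : F) : pslField (Fin 2) F σ (un b) = un (σ b) := by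
  obtain ⟨s, h1, h2⟩ := H29.exists_semilin 1 σ (mk 1 b 0 1 (by simp))
  rw [map_one, one_mul] at h2
  rw [un, h2, un]
  congr 1
  simp only [Units.val_one, mul_one, one_mul] at h1
  ext i j
  rw [h1]
  fin_cases i <;> fin_cases j <;> simp [H64.SL2.coe_mk]

end

theorem sup_eq (h : T2 G) (S : Subgroup G) [S.Normal] [IsSimpleGroup S] (hZ : center S = ⊥) : center G ⊔ S = ⊤ := by
  obtain ⟨F, _, _, hF, ⟨e⟩⟩ := simple hZ (h.sub S)
  have h2 : (2 : F) = 0 := two_eq_zero_of_even (by rcases hF with e | e <;> simp [e])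
  let f : G →* MulAut PSL(2, F) := (MulAut.congr e).toMonoidHom.comp MulAut.conjNormal
  have hf : ∀ (g : G) (x : PSL(2, F)), (e.symm (f g x) : G) = g * e.symm x * g⁻¹ := fun g x => by simp [f]
  have hk : ∀ g, f g = 1 → g ∈ center G := fun g hg => cent_le h S hZ fun y hy => by
    have := hf g (e ⟨y, hy⟩)
    rw [hg, MulAut.one_apply, e.symm_apply_apply] at this
    exact eq_mul_inv_iff_mul_eq.1 this
  refine eq_top_iff.2 fun g _ => by_contra fun hg => ?_
  obtain ⟨M, σ, hσ⟩ := H29.exists_eq_inn_mul_field (f g)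
  obtain ⟨c, hc⟩ := exists_sq_eq_of_two_eq_zero h2 (GeneralLinearGroup.det M : Fˣ)
  obtain ⟨s, hs⟩ := H29.pslInn_mem_inn (M := M) (c := Units.mk0 c fun e => (GeneralLinearGroup.det M).ne_zero
    (by rw [← hc, e]; simp)) (Units.ext hc.symm)
  have h1 : f ((e.symm s : G)⁻¹ * g) = pslField (Fin 2) F σ := by
    rw [map_mul, map_inv, hσ, ← hs, inv_mul_eq_iff_eq_mul, mul_left_inj]
    ext x
    simp [f, MulAut.conjNormal_val]
  have h3 : pslField (Fin 2) F σ ≠ 1 := fun e' => hg (by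
    simpa using mul_mem (mem_sup_right (e.symm s).2) (mem_sup_left (hk _ (h1.trans e'))))
  obtain ⟨_, ⟨j, rfl⟩, hj⟩ := exists_prime_zpowers h3
  simp only [← map_zpow] at hj
  have h4 : f (((e.symm s : G)⁻¹ * g) ^ j) = pslField (Fin 2) F (σ ^ j) := by rw [map_zpow, map_zpow, h1]
  generalize ((e.symm s : G)⁻¹ * g) ^ j = a at h4
  generalize σ ^ j = τ at h4 hj
  obtain ⟨b, hb⟩ : ∃ b, τ b ≠ b := not_forall.1 fun e => ne_one_of_prime hj (by rw [RingEquiv.ext (g := 1) e, map_one])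
  have ha : ∀ b, a * e.symm (un b) * a⁻¹ = e.symm (un (τ b)) := fun b => by rw [← hf, h4, field_un]
  have hz : a ^ orderOf (pslField (Fin 2) F τ) ∈ center G := hk _ (by rw [map_pow, h4, pow_orderOf_eq_one])
  have o : ∀ b, b ≠ 0 → orderOf (e.symm (un b)) = 2 := fun b b0 => by
    rw [MulEquiv.orderOf_eq]
    exact orderOf_eq_prime (by rw [pow_two, un_mul, ← two_mul, h2, zero_mul, un_zero])
      fun e => b0 (un_inj h2 (e.trans un_zero.symm))
  have cm : ∀ b c, e.symm (un b) ∈ Cx⟦e.symm (un c)⟧ := fun b c =>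
    mem_Cx.2 (by rw [← map_mul, ← map_mul, un_mul, un_mul, add_comm])
  have key : ∀ c d : F, d ≠ 0 → ¬ Cx⟦e.symm (un c) * a⟧ ≤ Cx⟦(e.symm (un d) : G)⟧ := fun c d d0 l => by
    have := mem_Cx'.1 (fin h S hZ (o d d0) l (cm b d))
    rw [← mul_assoc, show (e.symm (un b) : G) * e.symm (un c) = e.symm (un c) * e.symm (un b) from
      congrArg Subtype.val (mem_Cx.1 (cm b c)), mul_assoc, mul_assoc, mul_left_cancel_iff, ← mul_inv_eq_iff_eq_mul, ha] at this
    exact hb (un_inj h2 (e.symm.injective (Subtype.ext this)))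
  rcases hj.eq_two_or_odd' with k | ⟨k, hk⟩
  · refine key b (b + τ b) (fun e => hb (by linear_combination e - b * h2)) ((Cx_le_pow _ 2).trans_eq ?_)
    rw [k] at hz
    rw [← Cx_mul_of_mem_center hz (x := (e.symm (un (b + τ b)) : G)), ← un_mul, map_mul, coe_mul, ← ha, pow_two, pow_two]
    congr 2
    group
  · refine key 1 1 one_ne_zero ((Cx_le_pow _ (2 * k + 1)).trans_eq ?_)
    have c : Commute (e.symm (un 1) : G) a := by
      have := ha 1
      rw [map_one, mul_inv_eq_iff_eq_mul] at this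
      exact this.symm
    rw [c.mul_pow, ← hk, Cx_mul_of_mem_center hz, hk, pow_succ, pow_mul, orderOf_dvd_iff_pow_eq_one.1
      ((orderOf_coe _).trans (o 1 one_ne_zero)).dvd, one_pow, one_mul]

theorem center_bot {H K : Type*} [Group H] [Group K] (e : H ≃* K) (h : center H = ⊥) : center K = ⊥ :=
  eq_bot_iff.2 fun x hx => by
    have : e.symm x ∈ center H := mem_center_iff.2 fun g => e.injective (by simpa using mem_center_iff.1 hx (e g))
    simpa [h] using this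

theorem center_eq_bot' [IsSimpleGroup G] (hs : ¬ Group.IsSolvable G) : center G = ⊥ :=
  (inferInstance : (center G).Normal).eq_bot_or_eq_top.resolve_right fun e =>
    hs (IsSimpleGroup.comm_iff_isSolvable.1 fun a b => mem_center_iff.1 (e ▸ mem_top b) a)

theorem main (n : ℕ) : ∀ (G : Type u) [Group G] [Finite G], Nat.card G = n → T2 G → ¬ Group.IsSolvable G →
    ∃ S : Subgroup G, S.Normal ∧ IsSimpleGroup S ∧ center S = ⊥ := by
  induction n using Nat.strong_induction_on with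
  | _ n ih =>
  rintro G _ _ rfl h hs
  by_cases c1 : ∃ N : Subgroup G, N.Normal ∧ N ≠ ⊤ ∧ ¬ Group.IsSolvable N
  · obtain ⟨N, _, h1, h2⟩ := c1
    obtain ⟨S, _, _, hZ⟩ := ih _ (H3.card_lt_of_ne_top N h1) N rfl (h.sub N) h2
    have e := S.equivMapOfInjective N.subtype N.subtype_injective
    have h3 : S = commutator N := by
      refine le_antisymm ?_ (commutator_le.2 fun a _ b _ => ?_)
      · rcases (inferInstance : (commutator S).Normal).eq_bot_or_eq_top with e | e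
        · exact absurd (hZ.symm.trans ((commutator_eq_bot_iff_center_eq_top S).1 e)) bot_ne_top
        · rw [← S.range_subtype, MonoidHom.range_eq_map, ← e, _root_.commutator_def, map_commutator]
          exact commutator_mono le_top le_top
      · have := sup_eq (h.sub N) S hZ
        obtain ⟨z, hz, a, ha, rfl⟩ := mem_sup_of_normal_right.1 (this ▸ mem_top a)
        obtain ⟨w, hw, b, hb, rfl⟩ := mem_sup_of_normal_right.1 (this ▸ mem_top b)
        rw [commutatorElement_def, ← mem_center_iff.1 hz a, ← mem_center_iff.1 hw b,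
          show a * z * (b * w) * (a * z)⁻¹ * (b * w)⁻¹ = a * (z * (b * w) * z⁻¹) * (w * a * w⁻¹ * w)⁻¹ * b⁻¹ by group,
          ← mem_center_iff.1 hz, ← mem_center_iff.1 hw a, mul_inv_cancel_right, mul_inv_cancel_right,
          show a * (b * w) * (a * w)⁻¹ * b⁻¹ = a * b * a⁻¹ * b⁻¹ by group]
        exact mul_mem (mul_mem (mul_mem ha hb) (inv_mem ha)) (inv_mem hb)
    exact ⟨S.map N.subtype, by subst h3; infer_instance, e.symm.isSimpleGroup, center_bot e hZ⟩
  push Not at c1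
  have : Nontrivial G := not_subsingleton_iff_nontrivial.1 fun _ => hs inferInstance
  obtain ⟨V, hV⟩ := H3.exists_isMinNormal G
  have := hV.normal
  by_cases c2 : V = ⊤
  · have : IsSimpleGroup G := ⟨fun K hK => c2 ▸ hV.eq_bot_or_eq K hK (c2 ▸ le_top)⟩
    exact ⟨⊤, inferInstance, topEquiv.isSimpleGroup, center_bot topEquiv.symm (center_eq_bot' hs)⟩
  exfalso
  have sV := c1 V ‹_› c2
  obtain ⟨cV, s, hs', -, -, pV⟩ := hV.elementary sV
  have := Fact.mk hs'
  have sj := QuotientGroup.mk'_surjective V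
  have h' := h.surj sj
  have ns : ¬ Group.IsSolvable (G ⧸ V) := fun _ => hs (Group.isSolvable_of_ker_le_range V.subtype (QuotientGroup.mk' V) (by simp))
  obtain ⟨S, _, _, hZ⟩ := ih _ (H3.card_quotient_lt V hV.ne_bot) (G ⧸ V) rfl h' ns
  obtain rfl : S = ⊤ := by
    rw [← map_comap_eq_self_of_surjective sj S, ← map_top_of_surjective _ sj]
    refine congrArg _ (by_contra fun e => bot_ne_top (hZ.symm.trans (eq_top_iff.2 fun x _ => mem_center_iff.2 fun g => ?_)))
    have := c1 _ inferInstance e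
    exact IsSimpleGroup.comm_iff_isSolvable.2 (Group.isSolvable_of_surjective ((QuotientGroup.mk' V).subgroupComap_surjective_of_surjective S sj)) g x
  have : IsSimpleGroup (G ⧸ V) := topEquiv.symm.isSimpleGroup
  replace hZ := center_bot topEquiv hZ
  have key : ∀ x : G, x ∉ V → ¬ s ∣ cs⟦(x : G ⧸ V)⟧ → ¬ s ∣ cs⟦x⟧ := fun x hx e d => by
    obtain ⟨a, b, a1, b1, a2, b2, n⟩ := two_pr hZ (mt (QuotientGroup.eq_one_iff x).1 hx) hs' e
    exact n (h x a b s a1 b1 hs' (a2.trans (cs_mk_dvd V x)) (b2.trans (cs_mk_dvd V x)) d)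
  rcases (Normal.map inferInstance _ sj : ((centralizer (V : Set G)).map _).Normal).eq_bot_or_eq_top with e | e
  · obtain ⟨x, x1, x2⟩ := exists_elt (G := G ⧸ V) hs'
    obtain ⟨x, rfl⟩ := sj x
    have hx := mt (QuotientGroup.eq_one_iff x).2 x1
    refine key x hx x2 (Dvd.dvd.trans ?_ (relIndex_Cx_dvd_cs V x))
    obtain ⟨j, hj⟩ := pV.index ((Cx⟦x⟧).subgroupOf V)
    rw [relIndex, hj]
    refine dvd_pow_self s fun e' => hx ?_
    rw [Subgroup.map_eq_bot_iff, QuotientGroup.ker_mk'] at e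
    exact e (le_Cx_iff.1 (relIndex_eq_one.1 (by rwa [e'] at hj)))
  have zV : V ≤ center G := by
    have := congrArg (comap (QuotientGroup.mk' V)) e
    rw [comap_map_eq, QuotientGroup.ker_mk', sup_eq_left.2 V.le_centralizer, comap_top] at this
    exact fun v hv => mem_center_iff.2 fun g => ((this ▸ mem_top g :) v hv).symm
  let P : Sylow s G := default
  by_cases aP : (P : Subgroup G) ≤ centralizer (P : Subgroup G)
  · have pf : commutator G = ⊤ := by_contra fun e => by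
      have := c1 _ inferInstance e
      exact hs (Group.isSolvable_of_ker_le_range (commutator G).subtype (Abelianization.of) (by simp [Abelianization.ker_of]))
    have := H4.inf_commutator_inf_center_eq_bot (le_centralizer_iff_isMulCommutative.1 aP) P.card_coprime_index
    exact hV.ne_bot (eq_bot_iff.2 (this ▸ le_inf (le_inf (pV.le_sylow_of_normal P) (pf ▸ le_top)) zV))
  obtain ⟨x, hx, x1⟩ := SetLike.not_le_iff_exists.1 aP
  have hx' : x ∉ V := fun e => x1 (center_le_centralizer _ (zV e))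
  have ab := (h'.main hZ).1 s (P.mapSurjective sj)
  have m : (x : G ⧸ V) ∈ (P.mapSurjective sj : Subgroup (G ⧸ V)) := mem_map_of_mem _ hx
  obtain ⟨P', hP'⟩ := not_dvd_cs_iff.1 (key x hx' (not_dvd_cs_iff.2 ⟨_, le_Cx_iff.2 (ab m)⟩))
  obtain ⟨k, hk, e⟩ := H4.exists_smul_sylow_eq_of_le (P.mapSurjective sj) (P'.mapSurjective sj) ab
    (h'.cent hZ ab m (mt (QuotientGroup.eq_one_iff x).1 hx') ▸ (map_mono hP').trans (map_Cx_le _ x))
  rw [Sylow.smul_eq_iff_mem_normalizer.2 (centralizer_le_normalizer _ hk)] at e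
  have := congrArg (fun T : Sylow s (G ⧸ V) => comap (QuotientGroup.mk' V) T) e
  simp only [Sylow.coe_mapSurjective, comap_map_eq, QuotientGroup.ker_mk', sup_eq_left.2 (pV.le_sylow_of_normal _)] at this
  exact x1 (le_Cx_iff.1 (this ▸ hP'))

/-- Let G be a finite group in which every conjugacy class size is divisible by at most two distinct primes. Then G is solvable, or G is the direct product of its centre and a subgroup isomorphic to the alternating group A₅ or to PSL₂(8). -/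
theorem result {G : Type*} [Group G] [Finite G]
    (h : ∀ x : G, ((Subgroup.centralizer ({x} : Set G)).index).primeFactors.card ≤ 2) :
    Group.IsSolvable G ∨ ∃ S : Subgroup G, S.Normal ∧ Subgroup.center G ⊓ S = ⊥ ∧ Subgroup.center G ⊔ S = ⊤ ∧
      (Nonempty (S ≃* alternatingGroup (Fin 5)) ∨ Nonempty (S ≃* Matrix.ProjectiveSpecialLinearGroup (Fin 2) (GaloisField 2 3))) := by
  have h2 : T2 G := fun x p q r hp hq hr a b c => by_contra fun e => by
    push Not at e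
    have := (Finset.card_le_card (show {p, q, r} ⊆ cs⟦x⟧.primeFactors by
      simp [Finset.insert_subset_iff, hp, hq, hr, a, b, c, cs_ne_zero x])).trans (h x)
    rw [Finset.card_eq_three.2 ⟨p, q, r, e.1, e.2.1, e.2.2, rfl⟩] at this
    omega
  refine or_iff_not_imp_left.2 fun hs => ?_
  obtain ⟨S, _, _, hZ⟩ := main _ G rfl h2 hs
  refine ⟨S, ‹_›, eq_bot_iff.2 fun x hx => ?_, sup_eq h2 S hZ, ?_⟩
  · have : (⟨x, hx.2⟩ : S) ∈ center S := mem_center_iff.2 fun y => Subtype.ext (mem_center_iff.1 hx.1 y)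
    rw [hZ, mem_bot] at this
    exact congrArg Subtype.val this
  · obtain ⟨F, _, _, hF | hF, ⟨e⟩⟩ := simple hZ (h2.sub S)
    · exact .inl ((Cfsg.Agent.S0252.result hF).map e.trans)
    · obtain ⟨f⟩ := H10.nonempty_ringEquiv_of_card_eq (F := F) (K := GaloisField 2 3)
        (by rw [GaloisField.card 2 3 (by norm_num), Nat.card_eq_fintype_card, hF])
      exact .inr ⟨e.trans (H10.pslCongr f)⟩

end Cfsg.Agent.S4147
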