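import Mathlib
import Cfsg.Statements.S4159
import Cfsg.Agent.Lib.Core.PCore
import Cfsg.Agent.S0200
import Cfsg.Agent.S0205

set_option autoImplicit false
open Cfsg

namespace Cfsg.Agent.S4159


/-- lifting an inverted element of odd prime order over a normal 2-subgroup -/
theorem lift_inverted {G : Type*} [Group G] [Finite G] (N : Subgroup G) [N.Normal]
    (hN : IsPGroup 2 N) {r : ℕ} (hr : r.Prime) (hr2 : r ≠ 2) (xb tb : G ⧸ N) (hx : orderOf xb = r)
    (ht : tb * xb * tb⁻¹ = xb⁻¹) :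
    ∃ x t : G, x ≠ 1 ∧ Odd (orderOf x) ∧ t * x * t⁻¹ = x⁻¹ := by
  haveI : Fact r.Prime := ⟨hr⟩
  haveI : Fact (Nat.Prime 2) := ⟨Nat.prime_two⟩
  obtain ⟨x₀, rfl⟩ := QuotientGroup.mk_surjective xb
  obtain ⟨t, rfl⟩ := QuotientGroup.mk_surjective tb
  have h1 : x₀ ^ r ∈ N := by
    rw [← QuotientGroup.eq_one_iff, QuotientGroup.mk_pow, ← hx, pow_orderOf_eq_one]
  obtain ⟨k, hk⟩ := hN ⟨_, h1⟩
  have hk' : (x₀ ^ r) ^ 2 ^ k = 1 := congrArg Subtype.val hk
  set x := x₀ ^ 2 ^ k with hxdef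
  have hxr : x ^ r = 1 := by rw [hxdef, ← pow_mul, mul_comm, pow_mul, hk']
  have hxN : (x : G ⧸ N) ≠ 1 := by
    rw [hxdef, QuotientGroup.mk_pow]
    intro h
    have := orderOf_dvd_of_pow_eq_one h
    rw [hx] at this
    exact hr2 ((Nat.prime_dvd_prime_iff_eq hr Nat.prime_two).mp (hr.dvd_of_dvd_pow this))
  have hx1 : x ≠ 1 := by
    intro h
    exact hxN (by rw [h]; rfl)
  have hox : orderOf x = r := orderOf_eq_prime hxr hx1
  have htx : (t : G ⧸ N) * (x : G ⧸ N) * (t : G ⧸ N)⁻¹ = (x : G ⧸ N)⁻¹ := by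
    rw [hxdef, QuotientGroup.mk_pow, ← conj_pow, ht, inv_pow]
  let M : Subgroup G := (Subgroup.centralizer ({(x : G ⧸ N)} : Set (G ⧸ N))).comap (QuotientGroup.mk' N)
  have hxM : x ∈ M := by
    simp [M, Subgroup.mem_centralizer_iff]
  have hyM : t * x * t⁻¹ ∈ M := by
    simp only [M, Subgroup.mem_comap, QuotientGroup.mk'_apply, QuotientGroup.mk_mul,
      QuotientGroup.mk_inv, htx]
    simp [Subgroup.mem_centralizer_iff]
  have hpg : ∀ y : M, y ^ r = 1 → IsPGroup r (Subgroup.zpowers y) := by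
    intro y hy
    have := orderOf_dvd_of_pow_eq_one hy
    rcases (Nat.dvd_prime hr).mp this with h | h
    · exact IsPGroup.of_card (n := 0) (by rw [Nat.card_zpowers, h, pow_zero])
    · exact IsPGroup.of_card (n := 1) (by rw [Nat.card_zpowers, h, pow_one])
  obtain ⟨P₁, hP₁⟩ := (hpg ⟨x, hxM⟩ (Subtype.ext hxr)).exists_le_sylow
  obtain ⟨P₂, hP₂⟩ := (hpg ⟨t * x * t⁻¹, hyM⟩ (Subtype.ext (by
    show (t * x * t⁻¹) ^ r = 1
    rw [conj_pow, hxr]; simp))).exists_le_sylow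
  obtain ⟨m, hm⟩ := MulAction.exists_smul_eq M P₂ P₁
  have h2 : m * ⟨t * x * t⁻¹, hyM⟩ * m⁻¹ ∈ (P₁ : Subgroup M) := by
    rw [← hm, Sylow.coe_subgroup_smul]
    exact Subgroup.smul_mem_pointwise_smul _ (MulAut.conj m) _ (hP₂ (Subgroup.mem_zpowers _))
  have h3 := (P₁ : Subgroup M).mul_mem h2 (hP₁ (Subgroup.mem_zpowers _))
  obtain ⟨a, ha⟩ := P₁.isPGroup' ⟨_, h3⟩
  have ha' : ((m : G) * (t * x * t⁻¹) * (m : G)⁻¹ * x) ^ r ^ a = 1 :=
    congrArg Subtype.val (congrArg Subtype.val ha)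
  have h4 : (m : G) * (t * x * t⁻¹) * (m : G)⁻¹ * x ∈ N := by
    rw [← QuotientGroup.eq_one_iff]
    have hm2 : (x : G ⧸ N) * ((m : G) : G ⧸ N) = ((m : G) : G ⧸ N) * (x : G ⧸ N) :=
      Subgroup.mem_centralizer_iff.mp m.2 _ rfl
    simp only [QuotientGroup.mk_mul, QuotientGroup.mk_inv, htx]
    calc ((m : G) : G ⧸ N) * (x : G ⧸ N)⁻¹ * ((m : G) : G ⧸ N)⁻¹ * (x : G ⧸ N)
        = ((m : G) : G ⧸ N) * ((((m : G) : G ⧸ N) * (x : G ⧸ N))⁻¹) * (x : G ⧸ N) := by group
      _ = 1 := by rw [← hm2]; group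
  obtain ⟨b, hb⟩ := hN ⟨_, h4⟩
  have hb' : ((m : G) * (t * x * t⁻¹) * (m : G)⁻¹ * x) ^ 2 ^ b = 1 := congrArg Subtype.val hb
  have hcop : Nat.Coprime (r ^ a) (2 ^ b) :=
    Nat.Coprime.pow _ _ ((Nat.coprime_primes hr Nat.prime_two).mpr hr2)
  have h5 : (m : G) * (t * x * t⁻¹) * (m : G)⁻¹ * x = 1 := by
    rw [← orderOf_eq_one_iff]
    exact Nat.eq_one_of_dvd_coprimes hcop (orderOf_dvd_of_pow_eq_one ha')
      (orderOf_dvd_of_pow_eq_one hb')
  refine ⟨x, m * t, hx1, hox ▸ hr.odd_of_ne_two hr2, ?_⟩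
  rw [eq_inv_iff_mul_eq_one, ← h5]
  group

theorem index_dvd_card_of_sup {H : Type*} [Group H] [Finite H] (R C : Subgroup H) [R.Normal]
    (h : C ⊔ R = ⊤) : C.index ∣ Nat.card R := by
  have h1 : R.relIndex C = R.index := by
    rw [← Subgroup.relIndex_sup_right, h, Subgroup.relIndex_top_right]
  have h2 := C.index_mul_card
  have h3 := R.index_mul_card
  have h4 : R.relIndex C ∣ Nat.card C := Subgroup.relIndex_dvd_card _ _
  obtain ⟨d, hd⟩ := h4
  rw [hd, h1, ← h3] at h2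
  have hpos : 0 < R.index := Nat.pos_of_ne_zero Subgroup.index_ne_zero_of_finite
  refine ⟨d, Nat.eq_of_mul_eq_mul_left hpos ?_⟩
  rw [← h2]
  ring

theorem contra {G : Type*} [Group G] [Finite G]
    (h : ∀ (H : Subgroup G) (x y : H), 1 < (Subgroup.centralizer ({x} : Set H)).index → 1 < (Subgroup.centralizer ({y} : Set H)).index →
      ¬ ((Subgroup.centralizer ({x} : Set H)).index).Coprime (Subgroup.centralizer ({y} : Set H)).index)
    (x t : G) (hx1 : x ≠ 1) (hodd : Odd (orderOf x)) (ht : t * x * t⁻¹ = x⁻¹) : False := by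
  have hne : x ≠ x⁻¹ := by
    intro he
    have h2 : x ^ 2 = 1 := by rw [sq]; nth_rewrite 2 [he]; simp
    have := Nat.eq_one_of_dvd_coprimes (Nat.coprime_two_right.mpr hodd) dvd_rfl
      (orderOf_dvd_of_pow_eq_one h2)
    exact hx1 (orderOf_eq_one_iff.mp this)
  let H : Subgroup G := Subgroup.closure {x, t}
  have hxH : x ∈ H := Subgroup.subset_closure (by simp)
  have htH : t ∈ H := Subgroup.subset_closure (by simp)
  have hact : ∀ g ∈ H, g * x * g⁻¹ = x ∨ g * x * g⁻¹ = x⁻¹ := by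
    intro g hg
    induction hg using Subgroup.closure_induction with
    | mem y hy =>
      rcases hy with rfl | rfl
      · left; group
      · right; exact ht
    | one => left; group
    | mul a b _ _ ha hb =>
      have e : a * b * x * (a * b)⁻¹ = a * (b * x * b⁻¹) * a⁻¹ := by group
      have e2 : a * x⁻¹ * a⁻¹ = (a * x * a⁻¹)⁻¹ := by group
      rw [e]
      rcases hb with hb | hb <;> rw [hb]
      · exact ha
      · rw [e2]
        rcases ha with ha | ha <;> rw [ha]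
        · right; rfl
        · left; simp
    | inv a _ ha =>
      rcases ha with ha | ha
      · left
        nth_rewrite 1 [← ha]
        group
      · right
        have : x = a * x⁻¹ * a⁻¹ := by
          rw [show a * x⁻¹ * a⁻¹ = (a * x * a⁻¹)⁻¹ by group, ha, inv_inv]
        nth_rewrite 1 [this]
        group
  have hmemC : ∀ (y g : H), g ∈ Subgroup.centralizer ({y} : Set H) ↔
      (g : G) * y * (g : G)⁻¹ = y := by
    intro y g
    rw [Subgroup.mem_centralizer_iff]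
    simp only [Set.mem_singleton_iff, forall_eq]
    rw [Subtype.ext_iff, mul_inv_eq_iff_eq_mul, eq_comm]
    rfl
  have hi2 : (Subgroup.centralizer ({(⟨x, hxH⟩ : H)} : Set H)).index = 2 := by
    rw [Subgroup.index_eq_two_iff]
    refine ⟨⟨t, htH⟩, fun b => ?_⟩
    rw [hmemC, hmemC]
    have e : ((b * ⟨t, htH⟩ : H) : G) * x * ((b * ⟨t, htH⟩ : H) : G)⁻¹ =
        ((b : G) * x * (b : G)⁻¹)⁻¹ := by
      rw [Subgroup.coe_mul]
      calc (b : G) * t * x * ((b : G) * t)⁻¹ = b * (t * x * t⁻¹) * (b : G)⁻¹ := by group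
        _ = _ := by rw [ht]; group
    show Xor (_ = x) (_ = x)
    rw [e]
    rcases hact b b.2 with hb | hb <;> rw [hb]
    · right; exact ⟨rfl, hne.symm⟩
    · left; exact ⟨inv_inv x, hne.symm⟩
  haveI hRn : (Subgroup.zpowers (⟨x, hxH⟩ : H)).Normal := by
    constructor
    rintro _ ⟨k, rfl⟩ g
    rw [← conj_zpow]
    refine Subgroup.zpow_mem _ ?_ k
    rcases hact g g.2 with hg | hg
    · have : g * ⟨x, hxH⟩ * g⁻¹ = ⟨x, hxH⟩ := Subtype.ext hg
      rw [this]; exact Subgroup.mem_zpowers _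
    · have : g * ⟨x, hxH⟩ * g⁻¹ = (⟨x, hxH⟩ : H)⁻¹ := Subtype.ext hg
      rw [this]; exact Subgroup.inv_mem _ (Subgroup.mem_zpowers _)
  have hsup : Subgroup.centralizer ({(⟨t, htH⟩ : H)} : Set H) ⊔
      Subgroup.zpowers (⟨x, hxH⟩ : H) = ⊤ := by
    rw [eq_top_iff]
    rintro ⟨g, hg⟩ -
    induction hg using Subgroup.closure_induction with
    | mem y hy =>
      rcases hy with rfl | rfl
      · exact Subgroup.mem_sup_right (Subgroup.mem_zpowers _)
      · exact Subgroup.mem_sup_left (by rw [hmemC]; simp)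
    | one => exact Subgroup.one_mem _
    | mul a b ha' hb' ha hb => exact Subgroup.mul_mem _ ha hb
    | inv a ha' ha => exact Subgroup.inv_mem _ ha
  have hdvd := index_dvd_card_of_sup _ _ hsup
  rw [Nat.card_zpowers, Subgroup.orderOf_mk] at hdvd
  have hgt : 1 < (Subgroup.centralizer ({(⟨t, htH⟩ : H)} : Set H)).index := by
    apply Subgroup.one_lt_index_of_ne_top
    intro htop
    have : (⟨x, hxH⟩ : H) ∈ Subgroup.centralizer ({(⟨t, htH⟩ : H)} : Set H) := by
      rw [htop]; trivial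
    rw [hmemC] at this
    apply hne
    rw [← ht]
    have this' : x * t * x⁻¹ = t := this
    calc x = (x * t * x⁻¹) * x * t⁻¹ := by group
      _ = _ := by rw [this']
  refine h H ⟨x, hxH⟩ ⟨t, htH⟩ (by rw [hi2]; norm_num) hgt ?_
  rw [hi2]
  exact Nat.coprime_two_left.mpr (hodd.of_dvd_nat hdvd)

/-- Let G be a finite group such that in every subgroup H of G, any two conjugacy classes of H of size greater than 1 have non-coprime sizes. Then G is solvable. -/
theorem result {G : Type*} [Group G] [Finite G]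
    (h : ∀ (H : Subgroup G) (x y : H), 1 < (Subgroup.centralizer ({x} : Set H)).index → 1 < (Subgroup.centralizer ({y} : Set H)).index →
      ¬ ((Subgroup.centralizer ({x} : Set H)).index).Coprime (Subgroup.centralizer ({y} : Set H)).index) : Group.IsSolvable G := by
  haveI : Fact (Nat.Prime 2) := ⟨Nat.prime_two⟩
  have hN : IsPGroup 2 (Cfsg.pCore 2 G) := H1.isPGroup_pCore
  by_cases hodd : Odd (Nat.card (G ⧸ Cfsg.pCore 2 G))
  · haveI := Cfsg.Agent.S0205.result hodd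
    haveI : Group.IsNilpotent (Cfsg.pCore 2 G) := hN.isNilpotent
    exact solvable_of_ker_le_range (Cfsg.pCore 2 G).subtype (QuotientGroup.mk' (Cfsg.pCore 2 G)) (by simp)
  exfalso
  rw [Nat.not_odd_iff_even, even_iff_two_dvd] at hodd
  obtain ⟨tb, htb⟩ := exists_prime_orderOf_dvd_card' 2 hodd
  obtain ⟨w, hw1, hwodd, hw⟩ := Cfsg.Agent.S0200.result tb htb (by
    intro M hM hM2 hmem
    have := (H1.pCore_eq_bot_iff.mp (H1.pCore_quotient_pCore (p := 2) (G := G))) M hM hM2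
    rw [this, Subgroup.mem_bot] at hmem
    rw [hmem, orderOf_one] at htb
    omega)
  have how : orderOf w ≠ 1 := fun h => hw1 (orderOf_eq_one_iff.mp h)
  obtain ⟨r, hr, hrd⟩ := Nat.exists_prime_and_dvd how
  have hr2 : r ≠ 2 := by
    rintro rfl
    exact (Nat.not_even_iff_odd.mpr hwodd) (even_iff_two_dvd.mpr hrd)
  obtain ⟨x, t, hx1, hxodd, hxt⟩ := lift_inverted _ hN hr hr2 (w ^ (orderOf w / r)) tb
    (orderOf_pow_orderOf_div (orderOf_pos w).ne' hrd) (by rw [← conj_pow, hw, inv_pow])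
  exact contra h x t hx1 hxodd hxt

end Cfsg.Agent.S4159
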