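import Cfsg.Statements.S4187
import Cfsg.Agent.Lib.Misc92.RealMain
-- import your own Cfsg.Agent.* helpers here

set_option autoImplicit false
open Cfsg

namespace Cfsg.Agent.S4187

/-- Let G be a finite group. Call an element real when it is conjugate to its inverse, and consider the graph whose vertices are the primes dividing the size of some conjugacy class of real elements, two distinct primes being adjacent when their product divides such a class size. If this graph is disconnected — its vertex set splits into two non-empty parts such that no real class size is divisible by a prime from each part — then G is solvable. -/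
theorem result {G : Type*} [Group G] [Finite G] (π₁ π₂ : Set ℕ) (h₁ : π₁.Nonempty) (h₂ : π₂.Nonempty) (hcover : ∀ q : ℕ, q.Prime → (∃ n ∈ {n : ℕ | ∃ x : G, IsConj x x⁻¹ ∧ (Subgroup.centralizer ({x} : Set G)).index = n}, q ∣ n) → q ∈ π₁ ∨ q ∈ π₂) (hsub : ∀ q ∈ π₁ ∪ π₂, q.Prime ∧ ∃ n ∈ {n : ℕ | ∃ x : G, IsConj x x⁻¹ ∧ (Subgroup.centralizer ({x} : Set G)).index = n}, q ∣ n) (hdisj : Disjoint π₁ π₂) (hnoedge : ∀ a ∈ π₁, ∀ b ∈ π₂, ∀ n ∈ {n : ℕ | ∃ x : G, IsConj x x⁻¹ ∧ (Subgroup.centralizer ({x} : Set G)).index = n}, ¬ (a ∣ n ∧ b ∣ n)) : Group.IsSolvable G := by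
  have hs := H92.RC.split_of_noedge hcover hnoedge
  obtain ⟨a, ha⟩ := h₁
  obtain ⟨b, hb⟩ := h₂
  by_cases h2 : 2 ∈ π₂
  · have hs' := fun x hx => (hs x hx).symm
    obtain ⟨y, h1, h3, h4⟩ := H92.RC.exists_type hs' hdisj.symm ha (hsub a (Or.inl ha))
    exact H92.RC.solvable_main hs' hdisj.symm (Set.disjoint_right.mp hdisj h2) h1 h3 h4
  · obtain ⟨y, h1, h3, h4⟩ := H92.RC.exists_type hs hdisj hb (hsub b (Or.inr hb))
    exact H92.RC.solvable_main hs hdisj h2 h1 h3 h4

end Cfsg.Agent.S4187
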