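import Mathlib
import Cfsg.Statements.S4266
import Cfsg.Agent.Lib.KCl.MOD
import Cfsg.Agent.Lib.KCl.LAN
import Cfsg.Agent.Lib.KCl.RED

set_option autoImplicit false
open Cfsg

namespace Cfsg.Agent.S4266

open H90.KC H83.Base
open scoped commutatorElement

theorem aux (p : ℕ) [hp : Fact p.Prime] (n : ℕ) : ∀ (G : Type*) [Group G] [Finite G],
    Nat.card G = n → Group.IsSolvable G → p ^ 2 ∣ Nat.card G →
      49 * p ≤ 60 * Nat.card (ConjClasses G) := by
  induction n using Nat.strong_induction_on with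
  | _ n ih =>
  intro G _ _ hn hs h2
  by_cases hmin : ∀ N : Subgroup G, N.Normal → N ≠ ⊥ → ¬ p ^ 2 ∣ N.index
  swap
  · push Not at hmin
    obtain ⟨N, hN, hN0, hd⟩ := hmin
    have hlt : Nat.card (G ⧸ N) < n := by
      rw [← hn, ← N.index_mul_card]
      have h1 : 1 < Nat.card N := (Subgroup.one_lt_card_iff_ne_bot N).2 hN0
      have h3 : 0 < N.index := Nat.pos_of_ne_zero Subgroup.index_ne_zero_of_finite
      change N.index < _
      nlinarith
    have := ih _ hlt (G ⧸ N) rfl inferInstance hd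
    have := k_quot_le N
    omega
  obtain ⟨V, hV, hc, hab, h⟩ := red hs hp.out h2 hmin
  obtain ⟨o, ho1, ho2⟩ := classes_split V hab
  refine le_trans ?_ (Nat.mul_le_mul_left 60 ho1)
  rcases h with ⟨h1, h3⟩ | ⟨h1, ⟨m, hm, h3⟩, h4⟩
  · refine fin_num (n := 2) hp.out le_rfl (by rw [← h1]; exact ho2) fun _ => Good.of_comm ?_
    intro x y
    obtain ⟨x, rfl⟩ := QuotientGroup.mk_surjective x
    obtain ⟨y, rfl⟩ := QuotientGroup.mk_surjective y
    rw [← commutatorElement_eq_one_iff_mul_comm]
    exact (QuotientGroup.eq_one_iff (⁅x, y⁆ : G)).2 (h3 x y)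
  · refine fin_num hp.out hm (by rw [← h3]; exact ho2) fun h11 => ?_
    have hne : V ≠ ⊥ := by
      rintro rfl
      rw [Subgroup.card_bot] at h3
      have := Nat.one_lt_pow (by omega : m ≠ 0) hp.out.one_lt
      omega
    obtain ⟨W, _, _, _, hf, hi, hW, he⟩ := quot_mod V hne hab hc h4
    letI : Module (ZMod p) W := AddCommGroup.zmodModule (he p h1)
    haveI : SMulCommClass (G ⧸ V) (ZMod p) W := ⟨fun g c w =>
      ZMod.map_smul (DistribSMul.toAddMonoidHom W g) c w⟩
    have := good (K₀ := ZMod p) (G := G ⧸ V) (V := W) (n := m) (by rw [Nat.card_zmod]; exact h11)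
      inferInstance hi (by rw [Nat.card_zmod, hW, h3])
    rwa [Nat.card_zmod] at this

/-- Let p be a prime and G a finite solvable group whose order is divisible by p². Then G has at least 49p/60 conjugacy classes. -/
theorem result {G : Type*} [Group G] [Finite G] (hsolv : Group.IsSolvable G) (p : ℕ) [Fact p.Prime] (hp : p ^ 2 ∣ Nat.card G) : 49 * p ≤ 60 * Nat.card (ConjClasses G) := by
  exact aux p _ G rfl hsolv hp

end Cfsg.Agent.S4266
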