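import Mathlib
import Cfsg.Statements.S4190
import Cfsg.Agent.S4266
import Cfsg.Agent.Lib.KCl.MB
import Cfsg.Agent.Lib.KCl.R2
import Cfsg.Agent.Lib.KCl.LG

set_option autoImplicit false
open Cfsg

namespace Cfsg.Agent.S4190

open H90.KC H83.Base

theorem aux (p : ℕ) [hp : Fact p.Prime] (h11 : 11 ≤ p) (n : ℕ) : ∀ (G : Type*) [Group G] [Finite G],
    Nat.card G = n → Group.IsSolvable G → p ∣ (Cfsg.fittingSubgroup G).index →
      (p : ℝ) / (3 * Real.logb 2 p) ≤ Nat.card (ConjClasses G) := by
  induction n using Nat.strong_induction_on with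
  | _ n ih =>
  intro G _ _ hn hs h1
  by_cases h2 : p ^ 2 ∣ Nat.card G
  · exact log_le hp.out.two_le (Cfsg.Agent.S4266.result hs p h2)
  by_cases hmin : ∀ (N : Subgroup G) [N.Normal], N ≠ ⊥ →
      ¬ p ∣ (Cfsg.fittingSubgroup (G ⧸ N)).index
  swap
  · push Not at hmin
    obtain ⟨N, hN, hN0, hd⟩ := hmin
    have hlt : Nat.card (G ⧸ N) < n := by
      rw [← hn, ← N.index_mul_card]
      have h1 : 1 < Nat.card N := (Subgroup.one_lt_card_iff_ne_bot N).2 hN0
      have h3 : 0 < N.index := Nat.pos_of_ne_zero Subgroup.index_ne_zero_of_finite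
      change N.index < _
      nlinarith
    exact (ih _ hlt (G ⧸ N) rfl inferInstance hd).trans (by exact_mod_cast k_quot_le N)
  obtain ⟨V, hV, hne, hc, hab, h4, x, hx, hxn⟩ := red2 hs hp.out h1 h2 hmin
  obtain ⟨o, ho1, ho2⟩ := classes_split V hab
  obtain ⟨W, _, _, _, hf, hi, hW, -⟩ := quot_mod V hne hab hc h4
  have h5 := two_pow_le (H := G ⧸ V) (W := W) inferInstance hi hp.out h11 hx hxn
  have h6 : 2 ≤ Nat.card W := by
    haveI := hi.1
    exact Finite.one_lt_card
  exact (fin_log hp.out.two_le h6 (by rw [hW]; exact ho2) hx h5).trans (by exact_mod_cast ho1)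

/-- Let G be a finite solvable group and p a prime dividing the index of the Fitting subgroup of G. Then the number of conjugacy classes of G is at least p/(3·log₂ p). -/
theorem result {G : Type*} [Group G] [Finite G] (hG : Group.IsSolvable G) (p : ℕ) [Fact p.Prime] (hp : p ∣ (Cfsg.fittingSubgroup G).index) : (p : ℝ) / (3 * Real.logb 2 p) ≤ Nat.card (ConjClasses G) := by
  rcases lt_or_ge p 11 with h | h
  · exact (small_log Fact.out h).trans (by exact_mod_cast H81.card_conjClasses_pos)
  · exact aux p h _ G rfl hG hp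

end Cfsg.Agent.S4190
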