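import Cfsg.Statements.S4192
import Cfsg.Agent.Lib.Misc92.RealMain
-- import your own Cfsg.Agent.* helpers here

set_option autoImplicit false
open Cfsg

namespace Cfsg.Agent.S4192

/-- Let G be a finite group; call an element real when it is conjugate to its inverse, and say that the real-class-size graph of a group is disconnected when the primes dividing its real class sizes split into two non-empty disjoint parts with no real class size divisible by a prime from each part. If the real-class-size graph of G is disconnected, then some real class size of G is even, and either the Sylow 2-subgroups of G are normal, or the subgroup K generated by the 2-elements of G (the smallest normal subgroup of odd index) again has a disconnected real-class-size graph and every real class size of K is odd or a power of 2. -/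
theorem result {G : Type*} [Group G] [Finite G] (h : (∃ π₁ π₂ : Set ℕ, π₁.Nonempty ∧ π₂.Nonempty ∧ Disjoint π₁ π₂ ∧ (∀ q ∈ π₁ ∪ π₂, q.Prime ∧ ∃ n ∈ {n : ℕ | ∃ x : G, IsConj x x⁻¹ ∧ (Subgroup.centralizer ({x} : Set G)).index = n}, q ∣ n) ∧ (∀ q : ℕ, q.Prime → (∃ n ∈ {n : ℕ | ∃ x : G, IsConj x x⁻¹ ∧ (Subgroup.centralizer ({x} : Set G)).index = n}, q ∣ n) → q ∈ π₁ ∨ q ∈ π₂) ∧ ∀ a ∈ π₁, ∀ b ∈ π₂, ∀ n ∈ {n : ℕ | ∃ x : G, IsConj x x⁻¹ ∧ (Subgroup.centralizer ({x} : Set G)).index = n}, ¬ (a ∣ n ∧ b ∣ n))) : (∃ n ∈ {n : ℕ | ∃ x : G, IsConj x x⁻¹ ∧ (Subgroup.centralizer ({x} : Set G)).index = n}, 2 ∣ n) ∧ ((∀ P : Sylow 2 G, (P : Subgroup G).Normal) ∨ ((∃ π₁ π₂ : Set ℕ, π₁.Nonempty ∧ π₂.Nonempty ∧ Disjoint π₁ π₂ ∧ (∀ q ∈ π₁ ∪ π₂, q.Prime ∧ ∃ n ∈ {n : ℕ | ∃ x : ↥(Subgroup.closure {g : G | ∃ k : ℕ, orderOf g = 2 ^ k}), IsConj x x⁻¹ ∧ (Subgroup.centralizer ({x}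 : Set ↥(Subgroup.closure {g : G | ∃ k : ℕ, orderOf g = 2 ^ k}))).index = n}, q ∣ n) ∧ (∀ q : ℕ, q.Prime → (∃ n ∈ {n : ℕ | ∃ x : ↥(Subgroup.closure {g : G | ∃ k : ℕ, orderOf g = 2 ^ k}), IsConj x x⁻¹ ∧ (Subgroup.centralizer ({x} : Set ↥(Subgroup.closure {g : G | ∃ k : ℕ, orderOf g = 2 ^ k}))).index = n}, q ∣ n) → q ∈ π₁ ∨ q ∈ π₂) ∧ ∀ a ∈ π₁, ∀ b ∈ π₂, ∀ n ∈ {n : ℕ | ∃ x : ↥(Subgroup.closure {g : G | ∃ k : ℕ, orderOf g = 2 ^ k}), IsConj x x⁻¹ ∧ (Subgroup.centralizer ({x} : Set ↥(Subgroup.closure {g : G | ∃ k : ℕ, orderOf g = 2 ^ k}))).index = n}, ¬ (a ∣ n ∧ b ∣ n)) ∧ ∀ n ∈ {n : ℕ | ∃ x : ↥(Subgroup.closure {g : G | ∃ k : ℕ, orderOf g = 2 ^ k}), IsConj x x⁻¹ ∧ (Subgroup.centralizer ({x} : Set ↥(Subgroup.closure {g : G | ∃ k : ℕ, orderOf g = 2 ^ k}))).index = n}, Odd n ∨ ∃ j : ℕ, n = 2 ^ j)) := by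
  obtain ⟨π₁, π₂, ⟨a, ha⟩, ⟨b, hb⟩, hd, hsub, hcover, hnoedge⟩ := h
  have hs := H92.RC.split_of_noedge hcover hnoedge
  have hs' := fun x hx => (hs x hx).symm
  obtain ⟨y₁, r₁, t₁, n₁⟩ := H92.RC.exists_type hs' hd.symm ha (hsub a (Or.inl ha))
  obtain ⟨y₂, r₂, t₂, n₂⟩ := H92.RC.exists_type hs hd hb (hsub b (Or.inr hb))
  refine ⟨?_, ?_⟩
  · by_contra e
    have h1 : 2 ∉ π₁ := fun h => e (hsub 2 (Or.inl h)).2
    have h2 : 2 ∉ π₂ := fun h => e (hsub 2 (Or.inr h)).2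
    have hc := t₁.coprime_of_disjoint t₂ hd
    rcases hs _ (H92.RC.real_mul hc r₁ r₂) with e | e
    · exact n₂ (H92.RC.central_of_dich hc (e.coprime_of_disjoint t₂ hd) (H92.RC.odd_of_piNum h1 t₁)
        (H92.RC.y_sq h2 r₂ t₂))
    · rw [H80.cs_eq_of_isConj (isConj_iff.mpr ⟨y₂, by group⟩ : IsConj (y₁ * y₂) (y₂ * y₁))] at e
      exact n₁ (H92.RC.central_of_dich hc.symm (e.coprime_of_disjoint t₁ hd.symm)
        (H92.RC.odd_of_piNum h2 t₂) (H92.RC.y_sq h1 r₁ t₁))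
  refine or_iff_not_imp_left.mpr fun hP => ?_
  obtain ⟨⟨x, hx, hx2⟩, ⟨y, hy, hy1, hy2⟩, hall⟩ : _ ∧ _ ∧ _ := by
    by_cases h2 : 2 ∈ π₂
    · exact H92.RC.structure_main hs' hd.symm (Set.disjoint_right.mp hd h2) r₁ t₁ n₁ hP rfl
    · exact H92.RC.structure_main hs hd h2 r₂ t₂ n₂ hP rfl
  obtain ⟨q, hq, hqy⟩ := Nat.exists_prime_and_dvd hy2
  refine ⟨⟨{2}, {q | q.Prime ∧ q ≠ 2 ∧ ∃ n ∈ {n : ℕ | ∃ x : ↥(Subgroup.closure {g : G | ∃ k : ℕ, orderOf g = 2 ^ k}), IsConj x x⁻¹ ∧ (Subgroup.centralizer ({x} : Set ↥(Subgroup.closure {g : G | ∃ k : ℕ, orderOf g = 2 ^ k}))).index = n}, q ∣ n}, ⟨2, rfl⟩,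
    ⟨q, hq, ?_, _, ⟨y, hy, rfl⟩, hqy⟩, ?_, ?_, ?_, ?_⟩, ?_⟩
  · rintro rfl
    exact (Nat.not_even_iff_odd.mpr hy1) (even_iff_two_dvd.mpr hqy)
  · exact Set.disjoint_singleton_left.mpr fun h => h.2.1 rfl
  · rintro r (rfl | hr)
    · exact ⟨Nat.prime_two, _, ⟨x, hx, rfl⟩, hx2⟩
    · exact ⟨hr.1, hr.2.2⟩
  · intro r hr h
    by_cases e : r = 2
    · exact Or.inl e
    · exact Or.inr ⟨hr, e, h⟩
  · rintro _ rfl r hr _ ⟨z, hz, rfl⟩ ⟨h1, h2⟩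
    rcases hall z hz with e | ⟨j, e⟩
    · exact (Nat.not_even_iff_odd.mpr e) (even_iff_two_dvd.mpr h1)
    · rw [e] at h2
      exact hr.2.1 ((Nat.prime_dvd_prime_iff_eq hr.1 Nat.prime_two).mp (hr.1.dvd_of_dvd_pow h2))
  · rintro _ ⟨z, hz, rfl⟩
    exact hall z hz

end Cfsg.Agent.S4192
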