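import Cfsg.Statements.S4195
import Mathlib
import Cfsg.Agent.Base
import Cfsg.Agent.Lib.FGS.ClassSize
import Cfsg.Agent.Lib.PGroup.Basic

set_option autoImplicit false
open Cfsg

namespace Cfsg.Agent.S4195

open H80 Subgroup


/-- Let x be a non-identity element of a finite group G whose centralizer contains a Sylow 2-subgroup of G. If x is conjugate to its inverse, then x has order 2. -/
theorem result {G : Type*} [Group G] [Finite G] (x : G) (hx : x ≠ 1) (P : Sylow 2 G) (hP : (P : Subgroup G) ≤ Subgroup.centralizer ({x} : Set G)) (hreal : IsConj x x⁻¹) : orderOf x = 2 := by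
  have := Fact.mk Nat.prime_two
  obtain ⟨c, hc⟩ := isConj_iff.1 hreal
  -- the 2-part of c inverts x as well
  have hc2 : c * c ∈ Cx⟦x⟧ := by
    rw [mem_Cx_iff_conj]
    have : c * x⁻¹ * c⁻¹ = x := by
      have := congrArg (·⁻¹) hc
      simpa [mul_assoc] using this
    calc c * c * x * (c * c)⁻¹ = c * (c * x * c⁻¹) * c⁻¹ := by group
      _ = x := by rw [hc, this]
  have hx2 : x ^ 2 = 1 := by
    by_contra hne
    have hcx : c ∉ Cx⟦x⟧ := by
      intro h
      rw [mem_Cx_iff_conj, hc] at h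
      apply hne
      rw [sq]; nth_rewrite 1 [← h]; simp
    have hn : c ∈ normalizer (Cx⟦x⟧ : Set G) := by
      rw [H1.mem_normalizer_iff_conj_smul_eq, ← Cx_conj, hc, Cx_inv]
    have h1 := H5.relIndex_sup_zpowers Nat.prime_two hn hcx (by rwa [sq])
    have h2 : 2 ∣ cs⟦x⟧ := by
      rw [← relIndex_mul_index (le_sup_left : Cx⟦x⟧ ≤ Cx⟦x⟧ ⊔ zpowers c), h1]
      exact dvd_mul_right _ _
    exact not_dvd_cs_iff.2 ⟨P, hP⟩ h2
  exact orderOf_eq_prime hx2 hx

end Cfsg.Agent.S4195
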