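import Cfsg.Statements.S4193
import Mathlib
import Cfsg.Agent.Base
import Cfsg.Agent.S4195
import Cfsg.Agent.S0205
import Cfsg.Agent.Lib.Core.Fitting

set_option autoImplicit false
open Cfsg

namespace Cfsg.Agent.S4193

open H80 Subgroup
open scoped Pointwise

theorem npc {L : Type*} [Group L] [Finite L] (hI : ∀ t : L, t ^ 2 = 1 → t ∈ center L)
    (hR : ∀ Q : Subgroup L, IsPGroup 2 Q → ∀ w ∈ Q, ∀ y ∈ Q, y * w * y⁻¹ = w⁻¹ → w ^ 2 = 1) :
    HasNormalPComplement 2 L := by
  refine H4.hasNormalPComplement_of_forall_normalizer fun X hX g hg hco => ?_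
  have key : ∀ k : ℕ, ∀ x ∈ X, x ^ 2 ^ k = 1 → g * x * g⁻¹ = x := by
    intro k
    induction k with
    | zero => intro x _ h; rw [pow_zero, pow_one] at h; simp [h]
    | succ k ih =>
      intro x hx h
      have h2 : g * x ^ 2 * g⁻¹ = x ^ 2 := ih _ (pow_mem hx 2) (by rw [← pow_mul, ← pow_succ', h])
      have hu : g * x * g⁻¹ ∈ X := (mem_normalizer_iff.1 hg x).1 hx
      set u := g * x * g⁻¹ with hudef
      have hu2 : u * u = x * x := by rw [← sq, ← sq, hudef, conj_pow, h2]
      have hw : (x⁻¹ * u) ^ 2 = 1 := by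
        refine hR X hX _ (mul_mem (inv_mem hx) hu) x hx ?_
        calc x * (x⁻¹ * u) * x⁻¹ = u⁻¹ * (u * u) * x⁻¹ := by group
          _ = (x⁻¹ * u)⁻¹ := by rw [hu2]; group
      have hwz := hI _ hw
      set w := x⁻¹ * u with hwdef
      have h3 : ∀ n : ℕ, g ^ n * x * (g ^ n)⁻¹ = x * w ^ n := by
        intro n
        induction n with
        | zero => simp
        | succ n ihn =>
          have hc : g * w ^ n = w ^ n * g := mem_center_iff.1 (pow_mem hwz n) g
          calc g ^ (n + 1) * x * (g ^ (n + 1))⁻¹ = g * (g ^ n * x * (g ^ n)⁻¹) * g⁻¹ := by group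
            _ = g * x * g⁻¹ * (g * w ^ n * g⁻¹) := by rw [ihn]; group
            _ = x * w ^ (n + 1) := by
              rw [hc, ← hudef, pow_succ', mul_inv_cancel_right, ← mul_assoc, hwdef, mul_inv_cancel_left]
      have h4 := h3 (orderOf g)
      rw [pow_orderOf_eq_one] at h4
      have h5 : w ^ orderOf g = 1 := by simpa using h4
      have h6 : orderOf w = 1 :=
        Nat.eq_one_of_dvd_coprimes hco (orderOf_dvd_of_pow_eq_one h5) (orderOf_dvd_of_pow_eq_one hw)
      rw [orderOf_eq_one_iff, hwdef, inv_mul_eq_one] at h6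
      exact h6.symm
  rw [mem_centralizer_iff]
  intro x hx
  obtain ⟨k, hk⟩ := hX ⟨x, hx⟩
  have := key k x hx (by simpa using congrArg Subtype.val hk)
  rw [mul_inv_eq_iff_eq_mul] at this
  exact this.symm


/-- Let G be a finite group in which the conjugacy classes of all non-central real elements (elements conjugate to their inverses) have sizes with the same 2-part, and suppose G has a Sylow 2-subgroup S such that every element of S that is conjugate in S to its inverse lies in the centre of S. Then G is solvable and the subgroup generated by the 2-elements of G (the smallest normal subgroup of odd index) has a normal 2-complement. -/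
theorem result {G : Type*} [Group G] [Finite G] (a : ℕ) (h : ∀ x : G, IsConj x x⁻¹ → x ∉ Subgroup.center G → ((Subgroup.centralizer ({x} : Set G)).index).factorization 2 = a) (S : Sylow 2 G) (hS : ∀ s : ↥(S : Subgroup G), IsConj s s⁻¹ → s ∈ Subgroup.center ↥(S : Subgroup G)) : Group.IsSolvable G ∧ Cfsg.HasNormalPComplement 2 ↥(Subgroup.closure {g : G | ∃ k : ℕ, orderOf g = 2 ^ k}) := by
  have := Fact.mk Nat.prime_two
  set K := Subgroup.closure {g : G | ∃ k : ℕ, orderOf g = 2 ^ k} with hK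
  have e : ∀ y : G, y ^ 2 = 1 ↔ y⁻¹ = y := fun y => by rw [inv_eq_iff_mul_eq_one, ← sq]
  -- real elements of Sylow subgroups are central there
  have hS' : ∀ Q : Sylow 2 G, ∀ w ∈ (Q : Subgroup G), ∀ y ∈ (Q : Subgroup G), y * w * y⁻¹ = w⁻¹ →
      (Q : Subgroup G) ≤ Cx⟦w⟧ := by
    intro Q w hw y hy hyw
    obtain ⟨g, rfl⟩ := MulAction.exists_smul_eq G S Q
    have hw' := H4.mem_smul_sylow_iff.1 hw
    have hy' := H4.mem_smul_sylow_iff.1 hy
    have h1 := hS ⟨_, hw'⟩ (isConj_iff.2 ⟨⟨_, hy'⟩, Subtype.ext (by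
      show g⁻¹ * y * g * (g⁻¹ * w * g) * (g⁻¹ * y * g)⁻¹ = (g⁻¹ * w * g)⁻¹
      calc g⁻¹ * y * g * (g⁻¹ * w * g) * (g⁻¹ * y * g)⁻¹ = g⁻¹ * (y * w * y⁻¹) * g := by group
        _ = (g⁻¹ * w * g)⁻¹ := by rw [hyw]; group)⟩)
    intro z hz
    have h2 := mem_center_iff.1 h1 ⟨_, H4.mem_smul_sylow_iff.1 hz⟩
    have h4 : g⁻¹ * z * g * (g⁻¹ * w * g) = g⁻¹ * w * g * (g⁻¹ * z * g) := congrArg Subtype.val h2
    rw [mem_Cx]
    have h5 : g⁻¹ * (z * w) * g = g⁻¹ * (w * z) * g := by
      calc g⁻¹ * (z * w) * g = g⁻¹ * z * g * (g⁻¹ * w * g) := by group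
        _ = g⁻¹ * (w * z) * g := by rw [h4]; group
    simpa using h5
  have hR : ∀ Q : Subgroup G, IsPGroup 2 Q → ∀ w ∈ Q, ∀ y ∈ Q, y * w * y⁻¹ = w⁻¹ → w ^ 2 = 1 := by
    intro Q hQ w hw y hy hyw
    obtain ⟨T, hT⟩ := hQ.exists_le_sylow
    have := mem_Cx_iff_conj.1 (hS' T w (hT hw) y (hT hy) hyw (hT hy))
    rw [e, ← hyw, this]
  have hI : ∀ t : G, t ^ 2 = 1 → K ≤ Cx⟦t⟧ := by
    by_cases hc : ∀ t : G, t ^ 2 = 1 → t ∈ center G
    · intro t ht
      rw [Cx_eq_top_iff.2 (hc t ht)]; exact le_top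
    push Not at hc
    obtain ⟨t₀, ht₀, ht₀z⟩ := hc
    have ha : a = 0 := by
      rw [← h t₀ (by rw [(e _).1 ht₀]) ht₀z]
      obtain ⟨Q, hQ⟩ := (H35.isPElt_of_pow_eq_one (p := 2) (k := 1) (by simpa using ht₀)).exists_sylow
      refine Nat.factorization_eq_zero_of_not_dvd (not_dvd_cs_iff.2 ⟨Q, hS' Q t₀ hQ 1 (one_mem _) ?_⟩)
      rw [(e _).1 ht₀]; simp
    have hreal : ∀ x : G, IsConj x x⁻¹ → x ^ 2 = 1 := by
      intro x hx
      by_cases hz : x ∈ center G
      · obtain ⟨c, hc⟩ := isConj_iff.1 hx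
        rw [e, ← hc, mem_center_iff.1 hz c]; simp
      have h1 : ¬ 2 ∣ cs⟦x⟧ := by
        intro hd
        have := h x hx hz
        rw [ha] at this
        exact (Nat.Prime.factorization_pos_of_dvd Nat.prime_two (cs_ne_zero x) hd).ne' this
      obtain ⟨Q, hQ⟩ := not_dvd_cs_iff.1 h1
      have hx1 : x ≠ 1 := by rintro rfl; exact hz (one_mem _)
      rw [← Cfsg.Agent.S4195.result x hx1 Q hQ hx, pow_orderOf_eq_one]
    let A : Subgroup G :=
      { carrier := {x | x ^ 2 = 1}
        one_mem' := one_pow _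
        inv_mem' := fun {x} hx => by
          show x⁻¹ ^ 2 = 1
          rw [inv_pow, show x ^ 2 = 1 from hx, inv_one]
        mul_mem' := fun {s t} hs ht => hreal _ (isConj_iff.2 ⟨s⁻¹, by
          rw [mul_inv_rev, (e t).1 ht, inv_inv, inv_mul_cancel_left, (e s).1 hs]⟩) }
    have hAn : A.Normal := ⟨fun x hx g => by
      show (g * x * g⁻¹) ^ 2 = 1
      rw [conj_pow, show x ^ 2 = 1 from hx]; simp⟩
    have hAp : IsPGroup 2 A := fun x => ⟨1, Subtype.ext (by
      rw [pow_one]; exact x.2)⟩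
    intro t ht
    rw [hK, closure_le]
    intro g hg
    obtain ⟨Q, hQ⟩ := H35.IsPElt.exists_sylow (p := 2) hg
    have htQ : t ∈ (Q : Subgroup G) := ((H1.le_pCore hAp).trans (H1.pCore_le_sylow Q)) ht
    exact hS' Q t htQ 1 (one_mem _) (by rw [(e _).1 ht]; simp) hQ
  have hnpc : HasNormalPComplement 2 K := by
    refine npc (fun t ht => ?_) (fun Q hQ w hw y hy hyw => ?_)
    · rw [mem_center_iff]
      intro g
      exact Subtype.ext (mem_Cx.1 (hI t (by simpa using congrArg Subtype.val ht) g.2))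
    · have := hR (Q.map K.subtype) (hQ.map _) w ⟨w, hw, rfl⟩ y ⟨y, hy, rfl⟩
        (by simpa using congrArg Subtype.val hyw)
      exact Subtype.ext (by simpa using this)
  refine ⟨?_, hnpc⟩
  have hKn : K.Normal := ⟨fun x hx g => by
    induction hx using closure_induction with
    | mem y hy => exact subset_closure (by
        obtain ⟨k, hk⟩ := hy
        exact ⟨k, by rw [H35.orderOf_conj, hk]⟩)
    | one => simp
    | mul a b _ _ ha hb =>
      have := mul_mem ha hb
      simpa [mul_assoc] using this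
    | inv a _ ha =>
      have := inv_mem ha
      simpa [mul_assoc] using this⟩
  have hSK : (S : Subgroup G) ≤ K := fun x hx =>
    subset_closure (H35.isPElt_of_mem S.isPGroup' hx)
  refine H1.isSolvable_of_normal_of_quotient K ?_ (Cfsg.Agent.S0205.result ?_)
  · obtain ⟨N, hN, hNd, k, hk⟩ := H4.hasNormalPComplement_iff_exists.1 hnpc
    refine H1.isSolvable_of_normal_of_quotient N (Cfsg.Agent.S0205.result ?_) ?_
    · exact Nat.not_even_iff_odd.1 fun he => hNd he.two_dvd
    · exact H1.isSolvable_of_isPGroup (p := 2) (IsPGroup.of_card hk)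
  · exact Nat.not_even_iff_odd.1 fun he => not_dvd_index_of_sylow_le S hSK he.two_dvd

end Cfsg.Agent.S4193
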