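import Cfsg.Statements.S4236
import Mathlib
import Cfsg.Agent.S1009

set_option autoImplicit false
open Cfsg

namespace Cfsg.Agent.S4236

open Subgroup MulAction

universe u

section
variable {G : Type u} [Group G] [Finite G] {p : ℕ} [hp : Fact p.Prime]

theorem sylow_eq_of_le_norm {P Q : Sylow p G} (h : (Q : Subgroup G) ≤ normalizer (P : Set G)) :
    Q = P := by
  have h1 := Q.isPGroup'.inf_normalizer_sylow P
  have h2 : (Q : Subgroup G) ≤ P := (le_inf le_rfl h).trans (h1.le.trans inf_le_right)
  exact Sylow.ext (Q.is_maximal' P.isPGroup' h2).symm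

theorem card_sylow_normal (M : Subgroup G) [M.Normal] (h : ¬ p ∣ M.index) :
    Nat.card (Sylow p M) = Nat.card (Sylow p G) := by
  have hle : ∀ P : Sylow p G, (P : Subgroup G) ≤ M := by
    intro P
    have h1 : IsPGroup p ((P : Subgroup G).map (QuotientGroup.mk' M)) := P.isPGroup'.map _
    obtain ⟨n, hn⟩ := h1.exists_card_eq
    have h2 : p ^ n ∣ M.index := hn ▸ card_subgroup_dvd_card _
    rcases n with _ | n
    · rw [pow_zero, card_eq_one, Subgroup.map_eq_bot_iff, QuotientGroup.ker_mk'] at hn
      exact hn
    · exact absurd ((dvd_pow_self p (Nat.succ_ne_zero n)).trans h2) h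
  refine (Nat.card_eq_of_bijective (fun P : Sylow p G => P.subtype (hle P)) ⟨?_, ?_⟩).symm
  · intro P Q e
    exact Sylow.subtype_injective e
  · intro P
    obtain ⟨Q, hQ⟩ := P.exists_comap_subtype_eq
    exact ⟨Q, Sylow.ext hQ⟩

theorem card_sylow_quot (K : Subgroup G) [K.Normal]
    (h : ∀ P : Sylow p G, K ≤ normalizer (P : Set G)) :
    Nat.card (Sylow p (G ⧸ K)) = Nat.card (Sylow p G) := by
  refine (Nat.card_eq_of_bijective
    (fun P : Sylow p G => P.mapSurjective (QuotientGroup.mk'_surjective K))
    ⟨?_, Sylow.mapSurjective_surjective _ p⟩).symm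
  intro P Q e
  have e1 : (P : Subgroup G).map (QuotientGroup.mk' K) = (Q : Subgroup G).map (QuotientGroup.mk' K) :=
    congrArg Sylow.toSubgroup e
  have e2 := congrArg (comap (QuotientGroup.mk' K)) e1
  rw [comap_map_eq, comap_map_eq, QuotientGroup.ker_mk'] at e2
  refine sylow_eq_of_le_norm (le_sup_left.trans (e2.le.trans (sup_le le_normalizer (h Q))))

/-- The fixed points of an element centralizing a Sylow subgroup. -/
theorem card_fix_modEq (P : Sylow p G) {c : G} (hc : c ∈ centralizer (P : Set G)) :
    Nat.card {Q : Sylow p G | c • Q = Q} ≡ 1 [MOD p] := by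
  let S : SubMulAction (P : Subgroup G) (Sylow p G) :=
    { carrier := {Q | c • Q = Q}
      smul_mem' := fun x Q hQ => by
        have h1 : (x : G) * c = c * x := hc x x.2
        have h2 : c • Q = Q := hQ
        change c • (x : G) • Q = (x : G) • Q
        rw [← mul_smul, ← h1, mul_smul, h2] }
  have h1 := P.isPGroup'.card_modEq_card_fixedPoints S
  have hP : P ∈ S := Sylow.smul_eq_iff_mem_normalizer.2 (centralizer_le_normalizer _ hc)
  have h2 : fixedPoints (P : Subgroup G) S = {⟨P, hP⟩} := by
    ext ⟨Q, hQ⟩
    rw [mem_fixedPoints, Set.mem_singleton_iff, Subtype.ext_iff]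
    constructor
    · intro h
      refine (sylow_eq_of_le_norm fun x hx => Sylow.smul_eq_iff_mem_normalizer.1 ?_).symm
      exact congrArg Subtype.val (h ⟨x, hx⟩)
    · intro h x
      have h' : Q = P := h
      subst h'
      exact Subtype.ext (Sylow.smul_eq_iff_mem_normalizer.2 (le_normalizer x.2))
  rw [h2, Nat.card_coe_set_eq, Set.ncard_singleton] at h1
  exact h1

end

theorem aux (n : ℕ) : ∀ (G : Type u) [Group G] [Finite G], Nat.card G = n →
    Nat.card (Sylow 17 G) ≠ 35 := by
  induction n using Nat.strong_induction_on with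
  | _ n ih =>
  intro G _ _ hn h35
  classical
  haveI : Fact (Nat.Prime 17) := ⟨by norm_num⟩
  have hM : ∀ (M : Subgroup G) [M.Normal], ¬ 17 ∣ M.index → M.index = 1 := by
    intro M _ h
    by_contra h1
    refine ih (Nat.card M) ?_ M rfl ((card_sylow_normal M h).trans h35)
    rw [← hn, ← M.card_mul_index]
    have := M.index_ne_zero_of_finite
    exact lt_mul_of_one_lt_right Nat.card_pos (by omega)
  set φ := toPermHom G (Sylow 17 G) with hφ
  have hker : φ.ker = ⊥ := by
    by_contra h1
    refine ih (Nat.card (G ⧸ φ.ker)) ?_ _ rfl ((card_sylow_quot φ.ker fun P x hx => ?_).trans h35)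
    · rw [← hn, card_eq_card_quotient_mul_card_subgroup φ.ker]
      exact lt_mul_of_one_lt_right Nat.card_pos ((one_lt_card_iff_ne_bot _).2 h1)
    · exact Sylow.smul_eq_iff_mem_normalizer.1 (Equiv.congr_fun (MonoidHom.mem_ker.1 hx) P)
  have hinj : Function.Injective φ := (MonoidHom.ker_eq_bot_iff φ).1 hker
  letI := Fintype.ofFinite (Sylow 17 G)
  have h35' : Fintype.card (Sylow 17 G) = 35 := by rw [← Nat.card_eq_fintype_card, h35]
  have hdvd : Nat.card G ∣ Nat.factorial 35 := by
    have := card_dvd_of_injective φ hinj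
    rwa [Nat.card_eq_fintype_card (α := Equiv.Perm _), Fintype.card_perm, h35'] at this
  have hcard : ∀ P : Sylow 17 G, Nat.card P = 17 ∨ Nat.card P = 17 ^ 2 := by
    intro P
    obtain ⟨k, hk⟩ := P.isPGroup'.exists_card_eq
    have h1 : 17 ^ k ∣ Nat.factorial 35 := hk ▸ (card_subgroup_dvd_card _).trans hdvd
    have h2 : k < 3 := by
      by_contra h
      have : 17 ^ 3 ∣ Nat.factorial 35 := (pow_dvd_pow 17 (not_lt.1 h)).trans h1
      revert this
      decide +kernel
    interval_cases k
    · exfalso
      rw [pow_zero, card_eq_one] at hk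
      haveI : (P : Subgroup G).Normal := hk ▸ inferInstance
      have := P.unique_of_normal inferInstance
      rw [Nat.card_unique] at h35
      omega
    · exact Or.inl hk
    · exact Or.inr hk
  have hab : ∀ P : Sylow 17 G, IsMulCommutative (P : Subgroup G) := by
    intro P
    rcases hcard P with h | h
    · exact (isCyclic_of_prime_card h).isMulCommutative
    · exact IsPGroup.isMulCommutative_of_card_eq_prime_sq h
  obtain ⟨P, Q, hPQ⟩ := S1009.result 17 hab
  have h0 : (P : Subgroup G) ⊓ Q = ⊥ := by
    rw [hPQ, eq_bot_iff, ← hker]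
    intro x hx
    rw [MonoidHom.mem_ker]
    ext1 R
    exact Sylow.smul_eq_iff_mem_normalizer.2 (le_normalizer (mem_iInf.1 hx R))
  have hP : Nat.card P = 17 := by
    refine (hcard P).resolve_right fun h => ?_
    have h1 : Function.Injective (fun x : (P : Subgroup G) => (x : G) • Q) := by
      intro x y e
      have e1 : ((y : G)⁻¹ * x) • Q = Q := by
        have e' : (x : G) • Q = (y : G) • Q := e
        rw [mul_smul, e', inv_smul_smul]
      have e2 : (y : G)⁻¹ * x ∈ (P : Subgroup G) ⊓ normalizer (Q : Set G) :=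
        mem_inf.2 ⟨mul_mem (inv_mem y.2) x.2, Sylow.smul_eq_iff_mem_normalizer.1 e1⟩
      have e3 := P.isPGroup'.inf_normalizer_sylow Q
      have e4 : (y : G)⁻¹ * x ∈ (P : Subgroup G) ⊓ Q := e3.le e2
      rw [h0, mem_bot, inv_mul_eq_one] at e4
      exact Subtype.ext e4.symm
    have := Nat.card_le_card_of_injective _ h1
    have h' : Nat.card (P : Subgroup G) = 17 ^ 2 := h
    omega
  have hP' : Nat.card (P : Subgroup G) = 17 := hP
  haveI hcyc : IsCyclic (P : Subgroup G) := isCyclic_of_prime_card hP'
  -- the centralizer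
  have hPC : (P : Subgroup G) ≤ centralizer (P : Set G) := by
    haveI := hab P
    exact le_centralizer (P : Subgroup G)
  have hno : ∀ c ∈ centralizer (P : Set G), ∀ l : ℕ, l.Prime → l ≠ 17 → orderOf c ≠ l := by
    intro c hc l hl hl17 ho
    haveI : Fact l.Prime := ⟨hl⟩
    have h1 := card_fix_modEq P hc
    have hc1 : c ^ l = 1 := ho ▸ pow_orderOf_eq_one c
    have h2 : Nat.card {Q : Sylow 17 G | c • Q = Q} = Fintype.card (Function.fixedPoints (φ c)) := by
      rw [← Nat.card_eq_fintype_card]; rfl
    have h3 : Fintype.card (Function.fixedPoints (φ c)) = (φ c).supportᶜ.card := by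
      rw [Fintype.card_subtype]
      congr 1
      ext R
      simp [Function.IsFixedPt]
    have h4 : (φ c).supportᶜ.card ≡ Fintype.card (Sylow 17 G) [MOD l] :=
      Equiv.Perm.card_compl_support_modEq (n := 1) (by rw [pow_one, ← map_pow, hc1, map_one])
    have h5 : (φ c).supportᶜ.card ≤ Fintype.card (Sylow 17 G) := Finset.card_le_univ _
    rw [h2, h3] at h1
    rw [h35'] at h4 h5
    have h6 : (φ c).supportᶜ.card = 1 ∨ (φ c).supportᶜ.card = 18 ∨ (φ c).supportᶜ.card = 35 := by
      unfold Nat.ModEq at h1
      omega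
    rcases h6 with h6 | h6 | h6
    · rw [h6] at h4
      have h7 : l ∣ 2 * 17 := (Nat.modEq_iff_dvd' (by norm_num)).1 h4
      have h8 : l = 2 := by
        rcases (Nat.Prime.dvd_mul hl).1 h7 with e | e
        · exact (Nat.prime_dvd_prime_iff_eq hl Nat.prime_two).1 e
        · exact absurd ((Nat.prime_dvd_prime_iff_eq hl (by norm_num)).1 e) hl17
      subst h8
      have h9 := Equiv.Perm.sign_of_pow_two_eq_one (σ := φ c) (by rw [← map_pow, hc1, map_one])
      rw [h3, h6, h35'] at h9
      have h10 := hM (Equiv.Perm.sign.comp φ).ker (by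
        intro e
        rw [index_ker] at e
        have := e.trans (card_subgroup_dvd_card (Equiv.Perm.sign.comp φ).range)
        rw [Nat.card_eq_fintype_card, Fintype.card_units_int] at this
        omega)
      rw [index_eq_one] at h10
      have h11 : c ∈ (Equiv.Perm.sign.comp φ).ker := h10 ▸ mem_top c
      rw [MonoidHom.mem_ker, MonoidHom.comp_apply, h9] at h11
      revert h11
      decide
    · rw [h6] at h4
      have h7 : l ∣ 17 := (Nat.modEq_iff_dvd' (by norm_num)).1 h4
      exact hl17 ((Nat.prime_dvd_prime_iff_eq hl (by norm_num)).1 h7)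
    · rw [← h35', Finset.card_eq_iff_eq_univ, Finset.compl_eq_univ_iff,
        Equiv.Perm.support_eq_empty_iff, ← map_one φ] at h6
      rw [hinj h6, orderOf_one] at ho
      exact hl.ne_one ho.symm
  have hC : Nat.card (centralizer (P : Set G)) = 17 := by
    have h1 := (relIndex_mul_index hPC)
    have h2 : Nat.card (P : Subgroup G) * (P : Subgroup G).relIndex (centralizer (P : Set G)) =
        Nat.card (centralizer (P : Set G)) := by
      rw [← card_mul_index ((P : Subgroup G).subgroupOf (centralizer (P : Set G))),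
        Nat.card_congr (subgroupOfEquivOfLe hPC).toEquiv]
      rfl
    by_cases h3 : (P : Subgroup G).relIndex (centralizer (P : Set G)) = 1
    · rw [← h2, h3, hP']
    exfalso
    obtain ⟨l, hl, hd⟩ := Nat.exists_prime_and_dvd h3
    haveI : Fact l.Prime := ⟨hl⟩
    obtain ⟨c, hc⟩ := exists_prime_orderOf_dvd_card' (G := centralizer (P : Set G)) l
      (h2 ▸ hd.mul_left _)
    refine hno c c.2 l hl ?_ (by rw [orderOf_coe, hc])
    rintro rfl
    exact P.not_dvd_index (h1 ▸ hd.mul_right _)
  -- the normalizer
  set N := normalizer (P : Set G) with hN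
  have hNi : N.index = 35 := (P.card_eq_index_normalizer).symm.trans h35
  have hAut : Nat.card (MulAut (P : Subgroup G)) = 16 := by
    rw [IsCyclic.card_mulAut, hP']; decide
  haveI hAc : IsCyclic (MulAut (P : Subgroup G)) := by
    refine isCyclic_of_surjective (IsCyclic.mulAutMulEquiv (P : Subgroup G)).symm
      (MulEquiv.surjective _) (hH := ?_)
    rw [hP']
    infer_instance
  set ψ := (P : Subgroup G).normalizerMonoidHom with hψ
  have hψk : Nat.card ψ.ker = 17 := by
    rw [hψ, normalizerMonoidHom_ker,
      Nat.card_congr (subgroupOfEquivOfLe (centralizer_le_normalizer _)).toEquiv]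
    exact hC
  have hNc : Nat.card N = 17 * Nat.card ψ.range := by
    have := card_mul_index ψ.ker
    rw [hψk, index_ker] at this
    exact this.symm
  have hr : Nat.card ψ.range ∣ 2 ^ 4 := by
    have := card_subgroup_dvd_card ψ.range
    rwa [hAut] at this
  obtain ⟨k, hk4, hk⟩ := (Nat.dvd_prime_pow Nat.prime_two).1 hr
  have hG : Nat.card G = 595 * 2 ^ k := by
    rw [← N.card_mul_index, hNi, hNc, hk]; ring
  rcases k with _ | k
  · -- order 595
    haveI : Fact (Nat.Prime 5) := ⟨by norm_num⟩
    obtain ⟨R⟩ : Nonempty (Sylow 5 G) := inferInstance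
    have hR : Nat.card (R : Subgroup G) = 5 := by
      have := R.card_eq_multiplicity
      rw [hG, show 595 * 2 ^ 0 = 5 * 119 by norm_num,
        Nat.factorization_mul (by norm_num) (by norm_num), Finsupp.add_apply,
        Nat.Prime.factorization_self (by norm_num),
        Nat.factorization_eq_zero_of_not_dvd (by norm_num)] at this
      exact this
    have hRi : (R : Subgroup G).index = 119 := by
      have := (R : Subgroup G).card_mul_index
      rw [hR, hG] at this
      omega
    have h1 : Nat.card (Sylow 5 G) = 1 := by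
      have e1 := R.card_dvd_index
      have e2 := card_sylow_modEq_one 5 G
      rw [hRi] at e1
      have e3 : Nat.card (Sylow 5 G) ∈ Nat.divisors 119 := Nat.mem_divisors.2 ⟨e1, by norm_num⟩
      rw [show Nat.divisors 119 = {1, 7, 17, 119} by decide +kernel] at e3
      unfold Nat.ModEq at e2
      simp only [Finset.mem_insert, Finset.mem_singleton] at e3
      omega
    haveI : Subsingleton (Sylow 5 G) := (Nat.card_eq_one_iff_unique.1 h1).1
    haveI := R.normal_of_subsingleton
    haveI : IsCyclic (R : Subgroup G) := isCyclic_of_prime_card hR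
    have h2 : Nat.card (MulAut (R : Subgroup G)) = 4 := by
      rw [IsCyclic.card_mulAut, hR]; decide
    have h3 : (R : Subgroup G) ≤ centralizer (P : Set G) := by
      intro y hy x hx
      have e1 : (MulAut.conjNormal x : MulAut (R : Subgroup G)) ^ 4 = 1 := h2 ▸ pow_card_eq_one'
      have e2 : x ^ 17 = 1 := by
        have := pow_card_eq_one' (G := (P : Subgroup G)) (x := ⟨x, hx⟩)
        rw [hP'] at this
        exact congrArg Subtype.val this
      have e3 : (MulAut.conjNormal x : MulAut (R : Subgroup G)) ^ 17 = 1 := by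
        rw [← map_pow, e2, map_one]
      have e4 : (MulAut.conjNormal x : MulAut (R : Subgroup G)) = 1 := by
        rw [show 17 = 4 * 4 + 1 by norm_num, pow_succ, pow_mul, e1, one_pow, one_mul] at e3
        exact e3
      have e5 := congrArg Subtype.val (MulEquiv.congr_fun e4 ⟨y, hy⟩)
      rw [MulAut.conjNormal_apply] at e5
      exact mul_inv_eq_iff_eq_mul.1 e5
    have := card_dvd_of_le h3
    rw [hR, hC] at this
    omega
  · -- cyclic Sylow 2-subgroup
    haveI : Fact (Nat.Prime 2) := ⟨Nat.prime_two⟩
    obtain ⟨T, hT⟩ := Sylow.exists_subgroup_card_pow_prime (G := N) 2 (n := k + 1)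
      (by rw [hNc, hk]; exact Dvd.intro_left _ rfl)
    have hTc : IsCyclic T := by
      refine isCyclic_of_injective (ψ.comp T.subtype) ((MonoidHom.ker_eq_bot_iff _).1 ?_)
      rw [← card_eq_one]
      refine Nat.eq_one_of_dvd_coprimes (a := 17) (b := 2 ^ (k + 1))
        (Nat.Coprime.pow_right _ (by norm_num)) ?_ (hT ▸ card_subgroup_dvd_card _)
      rw [← MonoidHom.comap_ker]
      exact (card_comap_dvd_of_injective _ _ T.subtype_injective).trans hψk.dvd
    have hT' : Nat.card (T.map N.subtype) = 2 ^ (k + 1) := by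
      rw [card_map_of_injective N.subtype_injective, hT]
    let T' : Sylow 2 G := Sylow.ofCard (T.map N.subtype) (by
      rw [hT', hG, Nat.factorization_mul (by norm_num) (by positivity), Finsupp.add_apply,
        Nat.factorization_eq_zero_of_not_dvd (by norm_num), Nat.Prime.factorization_pow Nat.prime_two]
      simp)
    have hT'c : IsCyclic T' := isCyclic_of_surjective _
      (T.equivMapOfInjective N.subtype N.subtype_injective).surjective
    have hmin : (Nat.card G).minFac = 2 := by
      rw [Nat.minFac_eq_two_iff, hG, pow_succ]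
      exact Dvd.intro_left (595 * 2 ^ k) (by ring)
    have h1 := (hT'c.isComplement' hmin).symm.index_eq_card
    have h2 : Nat.card (T' : Subgroup G) = 2 ^ (k + 1) := hT'
    rw [h2] at h1
    have h3 := hM _ (by
      rw [h1]
      intro e
      have := (Nat.Prime.dvd_of_dvd_pow (by norm_num) e)
      omega)
    rw [h1] at h3
    have := Nat.pow_eq_one.1 h3
    omega

/-- No finite group has exactly 35 Sylow 17-subgroups. -/
theorem result {G : Type*} [Group G] [Finite G] : Nat.card (Sylow 17 G) ≠ 35 :=
  aux _ G rfl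

end Cfsg.Agent.S4236
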