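import Mathlib
import Cfsg.Statements.S4240
import Cfsg.Agent.Lib.Core.CoprimeExt
import Cfsg.Agent.Lib.Core.Fitting
import Cfsg.Agent.Lib.Core.MinNormal
import Cfsg.Agent.Lib.KInf.Transport
import Cfsg.Agent.Lib.Tech57.CoprimeFT
import Cfsg.Agent.S1988

set_option autoImplicit false
open Cfsg

namespace Cfsg.Agent.S4240

theorem inv_of_char {A G : Type*} [Group A] [Group G] (φ : A →* MulAut G) (H : Subgroup G)
    [hH : H.Characteristic] (a : A) (x : G) (hx : x ∈ H) : φ a x ∈ H := by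
  have := Subgroup.characteristic_iff_map_le.1 hH (φ a)
  exact this ⟨x, hx, rfl⟩

theorem map_eq_of_inv {A G : Type*} [Group A] [Group G] (φ : A →* MulAut G) {H : Subgroup G}
    (hH : ∀ a, ∀ x ∈ H, φ a x ∈ H) (a : A) : H.map (φ a).toMonoidHom = H := by
  refine le_antisymm (by rintro _ ⟨x, hx, rfl⟩; exact hH a x hx) fun x hx => ⟨φ a⁻¹ x, hH _ x hx, ?_⟩
  change φ a (φ a⁻¹ x) = x
  rw [← MulAut.mul_apply, ← map_mul, mul_inv_cancel, map_one, MulAut.one_apply]

theorem solv.{u} {A : Type*} [Group A] [Finite A] (n : ℕ) : ∀ {G : Type u} [Group G] [Finite G],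
    Nat.card G = n → ∀ (φ : A →* MulAut G), (Nat.card A).Coprime (Nat.card G) →
    (∀ H : Subgroup G, H ≠ ⊤ → (∀ a, ∀ x ∈ H, φ a x ∈ H) → Group.IsNilpotent H) →
    Group.IsSolvable G := by
  induction n using Nat.strong_induction_on with
  | _ n ih =>
  intro G _ _ hn φ hcop h
  by_cases hN : ∃ N : Subgroup G, N.Normal ∧ N ≠ ⊥ ∧ N ≠ ⊤ ∧ ∀ a, ∀ x ∈ N, φ a x ∈ N
  · obtain ⟨N, hNn, h0, h1, h2⟩ := hN
    have := h N h1 h2
    refine H1.isSolvable_of_normal_of_quotient N inferInstance ?_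
    refine ih _ (hn ▸ H1.card_quotient_lt h0) rfl (H2.quotAut φ N h2)
      (hcop.coprime_dvd_right (Subgroup.card_quotient_dvd_card N)) fun H hH hinv => ?_
    have hπ := QuotientGroup.mk'_surjective N
    rw [← Subgroup.map_comap_eq_self_of_surjective hπ H]
    refine H1.isNilpotent_map (h _ (fun e => hH ?_) fun a x hx => ?_) _
    · rw [← Subgroup.map_comap_eq_self_of_surjective hπ H, e, Subgroup.map_top_of_surjective _ hπ]
    · exact hinv a _ hx
  push Not at hN
  by_cases h2 : IsPGroup 2 G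
  · exact H1.isSolvable_of_isPGroup h2
  obtain ⟨p, hp, hpd, hp2⟩ : ∃ p : ℕ, p.Prime ∧ p ∣ Nat.card G ∧ p ≠ 2 := by
    by_contra hc
    push Not at hc
    exact h2 (IsPGroup.iff_card.2 ⟨_, Nat.eq_prime_pow_of_unique_prime_dvd Nat.card_pos.ne'
      fun hq hd => hc _ hq hd⟩)
  have := Fact.mk hp
  obtain ⟨P, hP⟩ := H2.ext_exists_invariant_sylow (φ := φ) hcop (H57.solvable_or_of_coprime hcop) p
  have hW := H57.KInf.isCharPFunctor_kInfLower.{u} p
  set K := Cfsg.inducedFunctor Cfsg.kInfLower (P : Subgroup G) with hK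
  have hK0 : K ≠ ⊥ := H57.inducedFunctor_ne_bot hW P.isPGroup' (P.ne_bot_of_dvd_card hpd)
  have hKa : ∀ a, K.map (φ a).toMonoidHom = K := fun a => by
    have := H57.map_inducedFunctor hW (φ a).toMonoidHom (φ a).injective _ P.isPGroup'
    rwa [map_eq_of_inv φ hP a] at this
  suffices hG : IsPGroup p G from H1.isSolvable_of_isPGroup hG
  by_cases hNK : Subgroup.normalizer (K : Set G) = ⊤
  · have hKt : K = ⊤ := by
      by_contra hne
      obtain ⟨a, x, hx, hx'⟩ := hN K (Subgroup.normalizer_eq_top_iff.1 hNK) hK0 hne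
      exact hx' ((hKa a).le ⟨x, hx, rfl⟩)
    have h3 : IsPGroup p K := P.isPGroup'.to_le (H57.inducedFunctor_le _ _)
    rw [hKt] at h3
    exact h3.of_equiv Subgroup.topEquiv
  · have h3 := h _ hNK fun a x hx => by
      have := Subgroup.le_normalizer_map (H := K) (φ a).toMonoidHom ⟨x, hx, rfl⟩
      rwa [hKa a] at this
    have h4 := Cfsg.Agent.S1988.result hp2 P (Or.inl H4.hasNormalPComplement_of_isNilpotent)
    refine H4.isPGroup_of_pResidual_eq_bot ?_
    by_contra h0
    have := H4.pResidual_characteristic p G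
    refine absurd (inv_of_char φ (Cfsg.pResidual p G)) ?_
    push Not
    refine hN _ inferInstance h0 fun e => H4.hasNormalPComplement_iff_not_dvd.1 h4 ?_
    rwa [e, Subgroup.card_top]

/-- Let a finite group A act by automorphisms on a finite group G of order coprime to that of A. Suppose every maximal A-invariant proper subgroup of G is nilpotent while G is not. Then G is solvable, the order of G has the form p^a·q^b for two distinct primes p and q, and G has a normal A-invariant Sylow subgroup for some prime dividing its order. -/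
theorem result {A G : Type*} [Group A] [Group G] [Finite A] [Finite G] [MulDistribMulAction A G]
    (hcop : (Nat.card A).Coprime (Nat.card G))
    (hmax : ∀ H : Subgroup G, H ≠ ⊤ → (∀ a : A, ∀ x ∈ H, a • x ∈ H) →
      (∀ K : Subgroup G, H < K → (∀ a : A, ∀ x ∈ K, a • x ∈ K) → K = ⊤) → Group.IsNilpotent H)
    (hG : ¬ Group.IsNilpotent G) :
    Group.IsSolvable G ∧
      (∃ p q a b : ℕ, p.Prime ∧ q.Prime ∧ p ≠ q ∧ Nat.card G = p ^ a * q ^ b) ∧
      ∃ (p : ℕ) (P : Sylow p G), p.Prime ∧ p ∣ Nat.card G ∧ (P : Subgroup G).Normal ∧ (∀ a : A, ∀ x ∈ (P : Subgroup G), a • x ∈ (P : Subgroup G)) := by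
  let φ : A →* MulAut G := MulDistribMulAction.toMulAut A G
  have h : ∀ H : Subgroup G, H ≠ ⊤ → (∀ a, ∀ x ∈ H, φ a x ∈ H) → Group.IsNilpotent H := by
    intro H hH hinv
    obtain ⟨M, hHM, hM⟩ := Finite.exists_le_maximal
      (p := fun M : Subgroup G => M ≠ ⊤ ∧ ∀ a : A, ∀ x ∈ M, a • x ∈ M) (a := H) ⟨hH, hinv⟩
    refine H1.isNilpotent_of_le (hmax M hM.1.1 hM.1.2 fun K hK hK' => ?_) hHM
    by_contra hne
    exact hK.not_ge (hM.2 ⟨hne, hK'⟩ hK.le)
  have hs := solv _ rfl φ hcop h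
  have hnt : Nontrivial G := by
    by_contra hc
    rw [not_nontrivial_iff_subsingleton] at hc
    exact hG inferInstance
  obtain ⟨M, hMn, hq⟩ := H3.exists_normal_prime_index G
  set q := M.index with hqdef
  have := Fact.mk hq
  have hRM : Cfsg.pResidual q G ≤ M := H4.pResidual_le_of_index_dvd_pow (k := 1) (by rw [pow_one])
  have hRc := H4.pResidual_characteristic q G
  have hR := h (Cfsg.pResidual q G) (fun e => hq.one_lt.ne' (by
    rw [e, top_le_iff] at hRM
    rw [hqdef, hRM, Subgroup.index_top])) (inv_of_char φ _)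
  have hnorm : ∀ (p : ℕ) [Fact p.Prime], p ≠ q → ∀ P : Sylow p G, (P : Subgroup G).Normal := by
    intro p hp hpq P
    have h1 : (P : Subgroup G) ≤ Cfsg.pResidual q G := fun x hx => by
      obtain ⟨k, hk⟩ := P.isPGroup' ⟨x, hx⟩
      exact H4.mem_pResidual_of_coprime (Nat.Coprime.coprime_dvd_left
        (orderOf_dvd_of_pow_eq_one (congrArg Subtype.val hk))
        (((Nat.coprime_primes hp.out hq).2 hpq).pow_left k))
    have h2 : (P : Subgroup G) ≤ Cfsg.pCore p G :=
      H1.le_pCore_of_le_fitting P.isPGroup' (h1.trans (H1.le_fitting hR))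
    rw [le_antisymm h2 (H1.pCore_le_sylow P)]
    infer_instance
  have hinvP : ∀ (p : ℕ) [Fact p.Prime], p ≠ q → ∀ P : Sylow p G, ∀ a, ∀ x ∈ (P : Subgroup G),
      φ a x ∈ (P : Subgroup G) := fun p _ hpq P => by
    have := Sylow.characteristic_of_normal P (hnorm p hpq P)
    exact inv_of_char φ _
  obtain ⟨Q, hQ⟩ := H2.ext_exists_invariant_sylow (φ := φ) hcop (Or.inr hs) q
  obtain ⟨p, hp, hpq, P, hPQ⟩ : ∃ (p : ℕ) (_ : p.Prime), p ≠ q ∧ ∃ P : Sylow p G,
      (Q : Subgroup G) ⊔ P = ⊤ := by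
    by_contra hc
    push Not at hc
    apply hG
    refine H1.isNilpotent_of_exists_sylow_normal fun p hp => ?_
    by_cases hpq : p = q
    · subst hpq
      refine ⟨Q, Subgroup.normalizer_eq_top_iff.1 (H1.eq_top_of_forall_sylow_le fun r hr => ?_)⟩
      by_cases hrq : r = M.index
      · subst hrq
        exact ⟨Q, Subgroup.le_normalizer⟩
      have := Fact.mk hr
      obtain ⟨R⟩ : Nonempty (Sylow r G) := inferInstance
      refine ⟨R, ?_⟩
      have hRn := hnorm r hrq R
      have h1 := h _ (hc r hr hrq R) fun a x hx => by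
        rw [← map_eq_of_inv φ hQ a, ← map_eq_of_inv φ (hinvP r hrq R) a, ← Subgroup.map_sup]
        exact ⟨x, hx, rfl⟩
      have h2 : ((Q.subtype (le_sup_left : (Q : Subgroup G) ≤ (Q : Subgroup G) ⊔ (R : Subgroup G)) : Sylow _ _) :
          Subgroup ((Q : Subgroup G) ⊔ R : Subgroup G)).Normal :=
        Sylow.normal_of_normalizerCondition Group.normalizerCondition_of_isNilpotent _
      exact le_sup_right.trans ((Subgroup.normal_subgroupOf_iff_le_normalizer le_sup_left).1 h2)
    · exact ⟨default, hnorm p hpq _⟩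
  have := Fact.mk hp
  have hPn := hnorm p hpq P
  obtain ⟨a, ha⟩ := IsPGroup.iff_card.1 P.isPGroup'
  obtain ⟨b, hb⟩ := IsPGroup.iff_card.1 Q.isPGroup'
  have h1 := H1.card_sup_mul_card_inf_of_normal (Q : Subgroup G) P
  rw [hPQ, Subgroup.card_top, H2.inf_eq_bot_of_coprime_card (by
    rw [ha, hb]; exact Nat.Coprime.pow _ _ ((Nat.coprime_primes hq hp).2 hpq.symm)),
    Subgroup.card_bot, mul_one, ha, hb, mul_comm] at h1
  refine ⟨hs, ⟨p, q, a, b, hp, hq, hpq, h1⟩, p, P, hp, ?_, hPn, hinvP p hpq P⟩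
  by_contra hc
  have h2 : (P : Subgroup G) = ⊥ := by
    rw [← Subgroup.card_eq_one, ha]
    rcases a with _ | a
    · rfl
    · exact absurd (h1 ▸ Dvd.dvd.mul_right (dvd_pow_self p a.succ_ne_zero) _) hc
  rw [h2, sup_bot_eq] at hPQ
  have h3 := Q.isPGroup'
  rw [hPQ] at h3
  exact hG (h3.of_equiv Subgroup.topEquiv).isNilpotent

end Cfsg.Agent.S4240
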