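import Mathlib
import Cfsg.Statements.S4245
import Cfsg.Agent.Base
import Cfsg.Agent.S0205
import Cfsg.Agent.Lib.FGS.Kazarin
-- import your own Cfsg.Agent.* helpers here

set_option autoImplicit false
open Cfsg

namespace Cfsg.Agent.S4245

open Subgroup H80

theorem solv_of_cyclic_sylow {G : Type*} [Group G] [Finite G] (T : Sylow 2 G) (hT : IsCyclic T) :
    Group.IsSolvable G := by
  haveI : Fact (Nat.Prime 2) := ⟨Nat.prime_two⟩
  rcases Nat.even_or_odd (Nat.card G) with he | ho
  swap
  · exact Cfsg.Agent.S0205.result ho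
  have hm : (Nat.card G).minFac = 2 := (Nat.minFac_eq_two_iff _).mpr he.two_dvd
  set f := MonoidHom.transferSylow T (hT.normalizer_le_centralizer hm)
  haveI : Group.IsSolvable f.ker := Cfsg.Agent.S0205.result
    (Nat.odd_iff.mpr (Nat.two_dvd_ne_zero.mp (MonoidHom.not_dvd_card_ker_transferSylow T _)))
  haveI : Group.IsNilpotent T := T.isPGroup'.isNilpotent
  exact Group.isSolvable_of_ker_le_range f.ker.subtype f (by simp)

theorem core {G : Type*} [Group G] [Finite G] (hR : solvableRadical G = ⊥) (A : Subgroup G)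
    {p s : ℕ} (hp : p.Prime) (hA : A.index ∣ p ^ s) (B : Subgroup A) [B.Normal] (hB : IsCyclic B)
    (hAB : IsCyclic (A ⧸ B)) {r : ℕ} (hr : Nat.card (A ⧸ B) ∣ 2 ^ r) : Group.IsSolvable G := by
  haveI : Fact (Nat.Prime 2) := ⟨Nat.prime_two⟩
  have kz : ∀ {q a : ℕ} {x : G}, q.Prime → cs⟦x⟧ ∣ q ^ a → x = 1 := fun hq h => by
    obtain ⟨b, hb⟩ := eq_pow_of_dvd_pow hq h
    have := kazarin hq hb
    rwa [hR, mem_bot] at this
  have hcomm : ∀ x y : B, x * y = y * x := fun x y => by
    letI := hB.commGroup
    exact mul_comm x y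
  by_cases hp2 : p = 2
  · subst hp2
    have hi : (B.map A.subtype).index ∣ 2 ^ (r + s) := by
      rw [index_map_subtype, pow_add]
      exact Nat.mul_dvd_mul hr hA
    have hb : B.map A.subtype = ⊥ := by
      rw [eq_bot_iff]
      rintro _ ⟨x, hx, rfl⟩
      refine mem_bot.2 (kz Nat.prime_two ((index_dvd_of_le ?_).trans hi))
      rintro _ ⟨y, hy, rfl⟩
      exact mem_Cx.2 (congrArg (fun z : B => ((z : A) : G)) (hcomm ⟨y, hy⟩ ⟨x, hx⟩))
    rw [hb, index_bot] at hi
    obtain ⟨n, -, hn⟩ := (Nat.dvd_prime_pow Nat.prime_two).1 hi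
    haveI := (IsPGroup.of_card hn).isNilpotent
    infer_instance
  have hodd : ¬ 2 ∣ Nat.card B := by
    intro h2
    obtain ⟨z, hz⟩ := exists_prime_orderOf_dvd_card' 2 h2
    have hz1 : z ≠ 1 := by rintro rfl; simp at hz
    have hz2 : z ^ 2 = 1 := hz ▸ pow_orderOf_eq_one z
    have huniq : ∀ w : B, w ≠ 1 → w ^ 2 = 1 → w = z := fun w hw1 hw2 => by
      classical
      haveI := Fintype.ofFinite B
      have hle := IsCyclic.card_pow_eq_one_le (α := B) (n := 2) (by norm_num)
      by_contra hne
      have hsub : ({1, w, z} : Finset B) ⊆ Finset.univ.filter (fun a : B => a ^ 2 = 1) := by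
        intro a ha
        simp only [Finset.mem_insert, Finset.mem_singleton] at ha
        rcases ha with rfl | rfl | rfl <;> simp [*]
      have h3 := Finset.card_le_card hsub
      rw [Finset.card_eq_three.2 ⟨1, w, z, hw1.symm, hz1.symm, hne, rfl⟩] at h3
      omega
    apply hz1
    have : ((z : A) : G) = 1 := by
      refine kz hp ((index_dvd_of_le ?_).trans hA)
      intro a ha
      have hm : (⟨a, ha⟩ : A) * z * (⟨a, ha⟩ : A)⁻¹ ∈ B := Normal.conj_mem inferInstance _ z.2 _
      have e := huniq ⟨_, hm⟩ (by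
        intro h
        apply hz1
        have h' : (⟨a, ha⟩ : A) * z * (⟨a, ha⟩ : A)⁻¹ = 1 := congrArg Subtype.val h
        rw [mul_inv_eq_one, mul_eq_left] at h'
        exact Subtype.ext h') (by
        apply Subtype.ext
        change ((⟨a, ha⟩ : A) * z * (⟨a, ha⟩ : A)⁻¹) ^ 2 = 1
        rw [conj_pow]
        have : (z : A) ^ 2 = 1 := congrArg Subtype.val hz2
        rw [this, mul_one, mul_inv_cancel])
      exact mem_Cx_iff_conj.2 (congrArg (fun w : B => ((w : A) : G)) e)
    exact Subtype.ext (Subtype.ext this)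
  obtain ⟨T⟩ : Nonempty (Sylow 2 A) := inferInstance
  have hinj : Function.Injective ((QuotientGroup.mk' B).comp (T : Subgroup A).subtype) := by
    rw [injective_iff_map_eq_one]
    intro t ht
    have htB : (t : A) ∈ B := (QuotientGroup.eq_one_iff _).1 ht
    obtain ⟨k, hk⟩ := IsPGroup.iff_orderOf.1 T.isPGroup' t
    have h1 : orderOf t ∣ Nat.card B := by
      rw [← orderOf_coe]
      exact orderOf_dvd_natCard B htB
    rcases k with _ | k
    · exact orderOf_eq_one_iff.1 (by simpa using hk)
    · exact absurd ((hk ▸ dvd_pow_self 2 k.succ_ne_zero : 2 ∣ orderOf t).trans h1) hodd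
  have hTc : IsCyclic T := isCyclic_of_injective _ hinj
  have hP : IsPGroup 2 ((T : Subgroup A).map A.subtype) := T.isPGroup'.map _
  have hi : ¬ 2 ∣ ((T : Subgroup A).map A.subtype).index := by
    rw [index_map_subtype, Nat.Prime.dvd_mul Nat.prime_two]
    rintro (h | h)
    · exact T.not_dvd_index h
    · exact hp2 ((Nat.prime_dvd_prime_iff_eq Nat.prime_two hp).1
        (Nat.prime_two.dvd_of_dvd_pow (h.trans hA))).symm
  refine solv_of_cyclic_sylow (hP.toSylow hi) ?_
  exact isCyclic_of_surjective _ ((T : Subgroup A).equivMapOfInjective A.subtype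
    A.subtype_injective).surjective

/-- Let G be a finite group with a subgroup A of prime-power index. Suppose A has a normal cyclic subgroup B such that A/B is cyclic of order a power of 2. Then G is solvable. -/
theorem result {G : Type*} [Group G] [Finite G] (A : Subgroup G) (p s : ℕ) (hp : p.Prime) (hA : A.index = p ^ s)
    (B : Subgroup A) [B.Normal] (hB : IsCyclic B) (hAB : IsCyclic (A ⧸ B)) (r : ℕ) (hr : Nat.card (A ⧸ B) = 2 ^ r) :
    Group.IsSolvable G := by
  set R := solvableRadical G
  let f := QuotientGroup.mk' R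
  have hf : Function.Surjective f := QuotientGroup.mk'_surjective R
  let g := f.subgroupMap A
  have hg : Function.Surjective g := f.subgroupMap_surjective A
  haveI : (B.map g).Normal := Normal.map inferInstance g hg
  let q : A ⧸ B →* (A.map f) ⧸ B.map g := QuotientGroup.map B (B.map g) g (le_comap_map _ _)
  have hq : Function.Surjective q := by
    intro y
    obtain ⟨y, rfl⟩ := QuotientGroup.mk_surjective y
    obtain ⟨x, rfl⟩ := hg y
    exact ⟨x, rfl⟩
  haveI : Group.IsSolvable (G ⧸ R) := core H1.solvableRadical_quotient (A.map f) hp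
    (s := s) (hA ▸ index_map_dvd A hf) (B.map g)
    (isCyclic_of_surjective (g.subgroupMap B) (g.subgroupMap_surjective B))
    (isCyclic_of_surjective q hq) (r := r) (hr ▸ card_dvd_of_surjective q hq)
  exact Group.isSolvable_of_ker_le_range R.subtype f (by simp [f])

end Cfsg.Agent.S4245
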