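import Mathlib
import Cfsg.Statements.S4248
import Cfsg.Agent.Lib.CIT.Part2

set_option autoImplicit false
open Cfsg

namespace Cfsg.Agent.S4248


/-- Let G be a finite group admitting a nontrivial partition: a family of at least two nontrivial subgroups such that every non-identity element of G lies in exactly one member. Then G is isomorphic to the symmetric group of degree 4; or, for some prime p, the Hughes subgroup generated by the elements g with g^p ≠ 1 is proper (G a p-group or a group of Hughes–Thompson type); or G is a Frobenius group; or G is isomorphic to PSL(2, q) with q ≥ 4, to PGL(2, q) with q ≥ 5 odd, or to a Suzuki group. -/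
theorem result {G : Type*} [Group G] [Finite G] (S : Set (Subgroup G)) (hS2 : ∃ H ∈ S, ∃ K ∈ S, H ≠ K)
    (hS1 : ∀ H ∈ S, H ≠ ⊥) (hpart : ∀ g : G, g ≠ 1 → ∃! H : Subgroup G, H ∈ S ∧ g ∈ H) :
    Nonempty (G ≃* Equiv.Perm (Fin 4)) ∨
    (∃ p : ℕ, p.Prime ∧ Subgroup.closure {g : G | g ^ p ≠ 1} ≠ ⊤) ∨
    (∃ H : Subgroup G, Cfsg.IsFrobeniusComplement H) ∨
    (∃ (F : Type) (_ : Field F) (_ : Fintype F), 4 ≤ Fintype.card F ∧
        Nonempty (G ≃* Matrix.ProjectiveSpecialLinearGroup (Fin 2) F)) ∨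
    (∃ (F : Type) (_ : Field F) (_ : Fintype F), 5 ≤ Fintype.card F ∧ Odd (Fintype.card F) ∧
        Nonempty (G ≃* (GL (Fin 2) F ⧸ Subgroup.center (GL (Fin 2) F)))) ∨
    Cfsg.Lie.IsoSuzuki G := by
  obtain ⟨_, P, h⟩ := H32.exists_part S hS2 hS1 hpart
  rcases h.classify with e | ⟨p, N, hp, hN, e⟩ | ⟨x, -, e⟩ | ⟨K, e⟩ | e
  · exact .inl e
  · exact .inr (.inl ⟨p, hp, fun e1 => hN (eq_top_iff.2 (e1 ▸ (Subgroup.closure_le _).2
      fun g hg => by_contra fun e2 => hg (e g e2)))⟩)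
  · exact .inr (.inr (.inl ⟨_, e⟩))
  · obtain ⟨H, -, e⟩ := e.frob
    exact .inr (.inr (.inl ⟨_, e⟩))
  · exact .inr (.inr (.inr e))

end Cfsg.Agent.S4248
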