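import Cfsg.Statements.S4259
import Mathlib
import Cfsg.Agent.Base
import Cfsg.Agent.Lib.Lin35.TwoLenD
import Cfsg.Agent.S0205

set_option autoImplicit false
open Cfsg

namespace Cfsg.Agent.S4259

universe u

theorem solv (k : ℕ) : ∀ (G : Type u) [Group G] [Finite G], PLengthLE 2 k G → Group.IsSolvable G := by
  induction k with
  | zero =>
    intro G _ _ h
    exact Cfsg.Agent.S0205.result (Nat.coprime_two_right.1 (H76.pLengthLE_zero_iff.1 h))
  | succ k ih =>
    intro G _ _ h
    refine (Group.isSolvable_iff_subgroup_quotient (pPrimeCore 2 G)).2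
      ⟨Cfsg.Agent.S0205.result (Nat.coprime_two_right.1 H1.coprime_card_pPrimeCore), ?_⟩
    refine (Group.isSolvable_iff_subgroup_quotient (pCore 2 _)).2 ⟨?_, ih _ ?_⟩
    · have := (H1.isPGroup_pCore (p := 2) (G := G ⧸ pPrimeCore 2 G)).isNilpotent
      infer_instance
    refine H76.pLengthLE_of_le_ker (f := (QuotientGroup.mk' _).comp (QuotientGroup.mk' _))
      ((QuotientGroup.mk'_surjective _).comp (QuotientGroup.mk'_surjective _)) (j := 1) ?_ h
    rw [mul_one, H76.ups_two, ← MonoidHom.comap_ker, QuotientGroup.ker_mk', H23.pPrimePCore_def]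

/-- Let G be a finite 2-soluble group whose Sylow 2-subgroups have derived length at most d. Then the 2-length of G is at most d. -/
theorem result {G : Type*} [Group G] [Finite G] (hG : Cfsg.IsPSolvable 2 G) (d : ℕ)
    (hd : ∀ P : Sylow 2 G, derivedSeries (P : Subgroup G) d = ⊥) : Cfsg.PLengthLE 2 d G := by
  obtain ⟨k, hk⟩ := H76.exists_pLengthLE hG
  have := solv k G hk
  obtain ⟨P⟩ : Nonempty (Sylow 2 G) := inferInstance
  exact H35L.TL.pLengthLE_of_derived P d (hd P)

end Cfsg.Agent.S4259
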