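import Mathlib
import Cfsg.Statements.S4262
import Cfsg.Agent.Lib.Core.Fitting
import Cfsg.Agent.Lib.Core.MaxSolv
import Cfsg.Agent.Lib.Transfer.Control
import Cfsg.Agent.S0556
import Cfsg.Agent.S4040

set_option autoImplicit false
open Cfsg

namespace Cfsg.Agent.S4262

theorem cent_le {G : Type*} [Group G] [Finite G] {x y : G} (hc : Commute x y)
    (hcop : (orderOf x).Coprime (orderOf y)) :
    Subgroup.centralizer ({x * y} : Set G) ≤ Subgroup.centralizer ({x} : Set G) := by
  intro g hg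
  rw [Subgroup.mem_centralizer_singleton_iff] at hg ⊢
  have h1 : Commute g ((x * y) ^ orderOf y) := Commute.pow_right hg _
  rw [hc.mul_pow, pow_orderOf_eq_one, mul_one] at h1
  obtain ⟨k, hk⟩ := Subgroup.mem_zpowers_iff.1 ((mem_zpowers_pow_iff (g := x)).2 hcop.symm)
  have := h1.zpow_right k
  rwa [hk] at this

theorem ne_top {G : Type*} [Group G] {x : G} (hx : x ∉ Subgroup.center G) :
    Subgroup.centralizer ({x} : Set G) ≠ ⊤ := fun e => hx (Subgroup.mem_center_iff.2 fun g =>
  Subgroup.mem_centralizer_singleton_iff.1 (e ▸ Subgroup.mem_top g))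

theorem cent_eq {G : Type*} [Group G] [Finite G]
    (h : ∀ g : G, g ∉ Subgroup.center G → IsCoatom (Subgroup.centralizer ({g} : Set G)))
    {x y : G} (hx : x ∉ Subgroup.center G) (hy : y ∉ Subgroup.center G) (hc : Commute x y)
    (hcop : (orderOf x).Coprime (orderOf y)) :
    Subgroup.centralizer ({x} : Set G) = Subgroup.centralizer ({y} : Set G) := by
  have h1 := cent_le hc hcop
  have h2 := cent_le hc.symm hcop.symm
  rw [← hc.eq] at h2
  have h3 : x * y ∉ Subgroup.center G := fun e => ne_top hx (top_le_iff.1 (le_trans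
    (fun g _ => Subgroup.mem_centralizer_singleton_iff.2 (Subgroup.mem_center_iff.1 e g)) h1))
  rw [← (h _ h3).le_iff.1 h1 |>.resolve_left (ne_top hx) |>.symm,
    ← (h _ h3).le_iff.1 h2 |>.resolve_left (ne_top hy) |>.symm]

theorem coprime_of_pow {G : Type*} [Group G] {x y : G} {p q k l : ℕ} (hp : p.Prime) (hq : q.Prime)
    (hne : p ≠ q) (hx : x ^ p ^ k = 1) (hy : y ^ q ^ l = 1) : (orderOf x).Coprime (orderOf y) :=
  Nat.Coprime.coprime_dvd_left (orderOf_dvd_of_pow_eq_one hx)
    (Nat.Coprime.coprime_dvd_right (orderOf_dvd_of_pow_eq_one hy)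
      (Nat.Coprime.pow k l ((Nat.coprime_primes hp hq).2 hne)))

/-- If all `q`-elements of `M` for `q ≠ p` lie in the normal subgroup `Z` then `M Z / Z` is a `p`-group. -/
theorem isPGroup_map {G : Type*} [Group G] [Finite G] {p : ℕ} (M Z : Subgroup G)
    [Z.Normal] (h : ∀ q : ℕ, q.Prime → q ≠ p → ∀ y ∈ M, (∃ k : ℕ, y ^ q ^ k = 1) → y ∈ Z) :
    IsPGroup p (M.map (QuotientGroup.mk' Z)) := by
  rintro ⟨_, g, hg, rfl⟩
  obtain ⟨k, hk⟩ := H4.exists_pow_coprime_orderOf (isOfFinOrder_of_finite g) p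
  refine ⟨k, Subtype.ext ?_⟩
  change (QuotientGroup.mk' Z g) ^ p ^ k = 1
  rw [← map_pow]
  refine (QuotientGroup.eq_one_iff _).2 (H4.mem_of_forall_prime_pow (isOfFinOrder_of_finite _)
    fun q hq hd y hy hy' => h q hq ?_ y ?_ hy')
  · rintro rfl
    exact hq.one_lt.ne' (Nat.eq_one_of_dvd_coprimes hk hd dvd_rfl)
  · exact (Subgroup.zpowers_le.2 (M.pow_mem hg _)) hy

/-- Let G be a finite group in which the centralizer of every non-central element is a maximal subgroup of G. Then G is solvable. -/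
theorem result {G : Type*} [Group G] [Finite G]
    (h : ∀ g : G, g ∉ Subgroup.center G → IsCoatom (Subgroup.centralizer ({g} : Set G))) :
    Group.IsSolvable G := by
  have hZs : Group.IsSolvable (Subgroup.center G) :=
    H1.isSolvable_of_le inferInstance (H1.center_le_fitting.trans H1.fitting_le_solvableRadical)
  by_cases h0 : ∀ q : ℕ, q.Prime → q ≠ 2 → ∀ y ∈ (⊤ : Subgroup G), (∃ k : ℕ, y ^ q ^ k = 1) →
      y ∈ Subgroup.center G
  · have h1 := isPGroup_map ⊤ _ h0
    rw [Subgroup.map_top_of_surjective _ (QuotientGroup.mk'_surjective _)] at h1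
    exact H1.isSolvable_of_normal_of_quotient _ hZs
      (H1.isSolvable_of_isPGroup (h1.of_equiv Subgroup.topEquiv))
  push Not at h0
  obtain ⟨p, hp, hp2, x, -, ⟨k, hk⟩, hx⟩ := h0
  have := Fact.mk hp
  set M := Subgroup.centralizer ({x} : Set G) with hM
  by_cases h1 : ∀ q : ℕ, q.Prime → q ≠ p → ∀ y ∈ M, (∃ k : ℕ, y ^ q ^ k = 1) →
      y ∈ Subgroup.center G
  · have h2 := isPGroup_map M _ h1
    refine H1.isSolvable_of_normal_of_quotient _ hZs (Cfsg.Agent.S4040.result _
      (H3.isCoatom_map_of_ker_le (QuotientGroup.mk'_surjective _) (h x hx) ?_) h2.isNilpotent ?_)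
    · rw [QuotientGroup.ker_mk']
      exact Subgroup.center_le_centralizer _
    · obtain ⟨n, hn⟩ := IsPGroup.iff_card.1 h2
      rw [hn]
      exact (hp.odd_of_ne_two hp2).pow
  push Not at h1
  obtain ⟨q, hq, hqp, y, hyM, ⟨l, hl⟩, hy⟩ := h1
  have hxy : M = Subgroup.centralizer ({y} : Set G) :=
    cent_eq h hx hy (Commute.symm (Subgroup.mem_centralizer_singleton_iff.1 hyM))
      (coprime_of_pow hp hq hqp.symm hk hl)
  have hab : M ≤ Subgroup.centralizer (M : Set G) := by
    refine H4.le_of_forall_prime_pow fun r hr _ z hz ⟨m, hm⟩ => ?_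
    by_cases hzc : z ∈ Subgroup.center G
    · exact Subgroup.center_le_centralizer _ hzc
    have h3 : Subgroup.centralizer ({z} : Set G) = M := by
      by_cases hrp : r = p
      · subst hrp
        rw [hxy] at hz ⊢
        exact cent_eq h hzc hy (Subgroup.mem_centralizer_singleton_iff.1 hz)
          (coprime_of_pow hr hq hqp.symm hm hl)
      · exact cent_eq h hzc hx (Subgroup.mem_centralizer_singleton_iff.1 hz)
          (coprime_of_pow hr hp hrp hm hk)
    intro g hg
    rw [← h3] at hg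
    exact Subgroup.mem_centralizer_singleton_iff.1 hg
  have : IsMulCommutative M := ⟨⟨fun a b => Subtype.ext (hab b.2 a a.2)⟩⟩
  exact ⟨⟨3, Cfsg.Agent.S0556.result M (h x hx)⟩⟩

end Cfsg.Agent.S4262
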