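import Mathlib
import Cfsg.Statements.S4274
import Cfsg.Agent.Lib.J1Rec.Ord3

set_option autoImplicit false
open Cfsg

namespace Cfsg.Agent.S4274

/-- A finite group of order 175560 = 2³·3·5·7·11·19 is either simple or has a normal Sylow 19-subgroup. -/
theorem result {G : Type*} [Group G] [Finite G] (hG : Nat.card G = 175560) : IsSimpleGroup G ∨ ∀ P : Sylow 19 G, (P : Subgroup G).Normal := by
  haveI : Fact (Nat.Prime 19) := ⟨by norm_num⟩
  refine (H49.Ord.normal_or _ G hG dvd_rfl).imp (·.1) fun h P => ?_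
  obtain ⟨a, ha⟩ := exists_prime_orderOf_dvd_card' (G := G) 19 (by rw [hG]; norm_num)
  obtain ⟨Q, hQ⟩ := H49.J1.exists_sylow_eq_zpowers ha (by rw [hG]; norm_num)
  haveI : (Q : Subgroup G).Normal := by
    rw [hQ]
    refine ⟨?_⟩
    rintro _ ⟨k, rfl⟩ g
    have := zpow_mem (h a ha g) k
    rwa [conj_zpow] at this
  haveI := Sylow.unique_of_normal Q this
  rwa [Subsingleton.elim P Q]

end Cfsg.Agent.S4274
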