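import Cfsg.Statements.S4280
import Mathlib
import Cfsg.Agent.Base
import Cfsg.Agent.Lib.Lang.Inv

set_option autoImplicit false
open Cfsg

namespace Cfsg.Agent.S4280

open H37 H37.P H38 Cfsg.Lie

/-- certificate -/
def c0 : CenC 4 :=
  ⟨[[1], [0], [0], [0]], 262662063652864, [24, 25, 30, 33],
  [(0, 0), (0, 0), (0, 0), (0, 0), (0, 0), (0, 0), (0, 0), (0, 0), (0, 0), (0, 0), (0, 0), (0, 0), (0, 0), (0, 0), (0, 0), (0, 0), (0, 0), (0, 0), (0, 0), (0, 0), (0, 0), (0, 0), (0, 0), (0, 0), (0, 0), (0, 0), (24, 25), (0, 0), (0, 0), (0, 0), (0, 0), (24, 30), (25, 31), (0, 0), (0, 0), (0, 0), (0, 0), (30, 33), (24, 37), (25, 38), (0, 0), (33, 37), (24, 41), (25, 42), (0, 0), (30, 42), (25, 45), (24, 46)],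
  [[2, -1, -1, 0], [-1, 2, 0, 0], [-1, 0, 2, -1], [0, 0, -2, 2]], [2, 0, 2, 2],
  [-12, -10, -8, -16, -8, -6, -4, -14, -14, -10, -6, -10, -6, -2, -2, -6, -4, -2, -8, -4, 0, -4, -2, -2, 2, 2, 4, 0, 4, 8, 2, 4, 6, 2, 2, 6, 10, 6, 10, 14, 14, 4, 6, 8, 16, 8, 10, 12],
  [34, 33, 27, 25, 24],
  [⟨[3], [0, 0, 0, 1], [([0, 0, 0, 1], 0), ([0, 0, 2, -1], 1)]⟩, ⟨[2, 3], [0, 0, 1, 0], [([0, 0, 1, 0], 0), ([1, 0, -1, 1], 1), ([1, 0, 1, -1], 2), ([2, 0, -1, 0], 3)]⟩, ⟨[0, 2, 3], [1, 0, 0, 0], [([1, 0, 0, 0], 0), ([-1, 1, 1, 0], 1), ([0, 1, -1, 1], 2), ([0, 1, 1, -1], 3), ([1, 1, -1, 0], 4), ([-1, 2, 0, 0], 5)]⟩, ⟨[0, 1, 2, 3], [0, 1, 0, 0], [([0, 1, 0, 0], 0), ([1, -1, 0, 0], 1), ([-1, 0, 1, 0], 2), ([0, 0, -1, 1], 3), ([0, 0, 1, -1], 4), ([1, 0, -1, 0], 5), ([-1, 1, 0, 0], 6), ([0, -1, 0, 0], 7)]⟩]⟩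

lemma chk0 : c0.chk chevF4 2 16 [2, 4, 6, 8] = true := by decide +kernel

/-- certificate -/
def c1 : CenC 4 :=
  ⟨[[0], [0], [1], [0]], 161844601815040, [25, 29, 30, 33],
  [(0, 0), (0, 0), (0, 0), (0, 0), (0, 0), (0, 0), (0, 0), (0, 0), (0, 0), (0, 0), (0, 0), (0, 0), (0, 0), (0, 0), (0, 0), (0, 0), (0, 0), (0, 0), (0, 0), (0, 0), (0, 0), (0, 0), (0, 0), (0, 0), (0, 0), (0, 0), (0, 0), (0, 0), (0, 0), (0, 0), (0, 0), (0, 0), (0, 0), (0, 0), (0, 0), (0, 0), (29, 33), (30, 33), (0, 0), (0, 0), (29, 37), (33, 37), (0, 0), (0, 0), (29, 41), (0, 0), (0, 0), (29, 44)],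
  [[2, 0, 0, 0], [0, 2, 0, -1], [0, 0, 2, -1], [0, -1, -2, 2]], [2, 0, 2, -1],
  [-6, -7, -5, -10, -5, -3, -4, -8, -8, -4, -6, -4, -6, -2, -2, -3, -1, -2, -2, -4, 0, -1, -2, 1, -1, 2, 1, 0, 4, 2, 2, 1, 3, 2, 2, 6, 4, 6, 4, 8, 8, 4, 3, 5, 10, 5, 7, 6],
  [34, 33, 27, 25, 24],
  [⟨[3], [0, 0, 0, 1], [([0, 0, 0, 1], 0), ([0, 1, 2, -1], 1)]⟩, ⟨[2, 3], [0, 0, 1, 0], [([0, 0, 1, 0], 0), ([0, 0, -1, 1], 1), ([0, 1, 1, -1], 2), ([0, 1, -1, 0], 3)]⟩, ⟨[1, 2, 3], [0, 1, 0, 0], [([0, 1, 0, 0], 0), ([0, -1, 0, 1], 1), ([0, 0, 2, -1], 2), ([0, 0, -2, 1], 3), ([0, 1, 0, -1], 4), ([0, -1, 0, 0], 5)]⟩, ⟨[0, 1, 2, 3], [1, 0, 0, 0], [([1, 0, 0, 0], 0), ([-1, 0, 0, 0], 1)]⟩]⟩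

lemma chk1 : c1.chk chevF4 2 10 [2, 2, 4, 6] = true := by decide +kernel

/-- words -/
def wds : List (List ℕ) := [[], [], [34], [27], [], [38], [27], [34], [26], [46], [31], [42], [24], [45], [32], [43]]

lemma chkW : orbChk chevF4 2 ([c0, c1].map CenC.a) wds = true := by decide +kernel


/-- In the Chevalley group of type F₄ over a finite field of odd order q there are exactly two conjugacy classes of involutions; the centralizer of an involution in one class has order q¹⁶(q² − 1)(q⁴ − 1)(q⁶ − 1)(q⁸ − 1), and in the other class q¹⁰(q² − 1)²(q⁴ − 1)(q⁶ − 1). -/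
theorem result {F : Type*} [Field F] [Fintype F] (hF : Odd (Fintype.card F)) : ∃ s t : ↥(Cfsg.Lie.chevF4.group F), orderOf s = 2 ∧ orderOf t = 2 ∧ ¬ IsConj s t ∧ (∀ u : ↥(Cfsg.Lie.chevF4.group F), orderOf u = 2 → IsConj u s ∨ IsConj u t) ∧ Nat.card (Subgroup.centralizer ({s} : Set ↥(Cfsg.Lie.chevF4.group F))) = Fintype.card F ^ 16 * (Fintype.card F ^ 2 - 1) * (Fintype.card F ^ 4 - 1) * (Fintype.card F ^ 6 - 1) * (Fintype.card F ^ 8 - 1) ∧ Nat.card (Subgroup.centralizer ({t} : Set ↥(Cfsg.Lie.chevF4.group F))) = Fintype.card F ^ 10 * (Fintype.card F ^ 2 - 1) ^ 2 * (Fintype.card F ^ 4 - 1) * (Fintype.card F ^ 6 - 1) := by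
  have hx := orderOf_neg_one_units hF
  have hD : chevF4 ∈ Tabs := by simp
  refine ⟨Elts.tor (EG_R3 hD rsF4 F) (pv 0 c0.a (-1)), Elts.tor (EG_R3 hD rsF4 F) (pv 0 c1.a (-1)),
    (orderOf_tor_pv _ smithF4 ⟨0, by decide⟩ rfl _).trans hx,
    (orderOf_tor_pv _ smithF4 ⟨2, by decide⟩ rfl _).trans hx, not_isConj _ smithF4 chk1 chk0 hx (by norm_num) (by decide), fun u hu => ?_, ?_, ?_⟩
  · obtain ⟨c, hc, h⟩ := exists_isConj (hD := hD) rsF4 smithF4 (cs := [c0, c1]) (by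
      simp only [List.forall_mem_cons, List.not_mem_nil, false_imp_iff, implies_true, and_true]
      exact ⟨⟨_, _, chk0⟩, _, _, chk1⟩) chkW Nat.prime_two hx hu
    simp only [List.mem_cons, List.not_mem_nil, or_false] at hc
    rcases hc with rfl | rfl
    exacts [Or.inl h, Or.inr h]
  all_goals
    have h0 : ∀ k, 1 ≤ Fintype.card F ^ k := fun k => Nat.one_le_pow _ _ Fintype.card_pos
    apply Nat.cast_injective (R := ℤ)
  · rw [card_centralizer _ chk0 hx smithF4]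
    simp [Finset.prod_Icc_succ_top, Nat.cast_sub (h0 _)]; ring
  · rw [card_centralizer _ chk1 hx smithF4]
    simp [Nat.cast_sub (h0 _)]; ring

end Cfsg.Agent.S4280
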