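import Cfsg.Statements.S4281
import Mathlib
import Cfsg.Agent.Base
import Cfsg.Agent.Lib.Lang.Inv

set_option autoImplicit false
open scoped BigOperators
open Cfsg

namespace Cfsg.Agent.S4281

open H37 H37.P H38 Cfsg.Lie

/-- certificate -/
def c0 : CenC 8 :=
  ⟨[[1], [0], [0], [0], [0], [0], [0], [0]], 1746142668236345962158564008828298421963876043032256150524311384811896832, [120, 121, 123, 126, 130, 141, 162, 184],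
  [(0, 0), (0, 0), (0, 0), (0, 0), (0, 0), (0, 0), (0, 0), (0, 0), (0, 0), (0, 0), (0, 0), (0, 0), (0, 0), (0, 0), (0, 0), (0, 0), (0, 0), (0, 0), (0, 0), (0, 0), (0, 0), (0, 0), (0, 0), (0, 0), (0, 0), (0, 0), (0, 0), (0, 0), (0, 0), (0, 0), (0, 0), (0, 0), (0, 0), (0, 0), (0, 0), (0, 0), (0, 0), (0, 0), (0, 0), (0, 0), (0, 0), (0, 0), (0, 0), (0, 0), (0, 0), (0, 0), (0, 0), (0, 0), (0, 0), (0, 0), (0, 0), (0, 0), (0, 0), (0, 0), (0, 0), (0, 0), (0, 0), (0, 0), (0, 0), (0, 0), (0, 0), (0, 0), (0, 0), (0, 0), (0, 0), (0, 0), (0, 0), (0, 0), (0, 0), (0, 0), (0, 0), (0, 0), (0, 0), (0, 0), (0, 0), (0, 0), (0, 0), (0, 0), (0, 0), (0, 0), (0, 0), (0, 0), (0, 0), (0, 0), (0, 0), (0, 0), (0, 0), (0, 0), (0, 0), (0, 0), (0, 0), (0, 0), (0, 0), (0, 0), (0, 0), (0, 0), (0, 0), (0, 0), (0, 0), (0, 0), (0, 0), (0, 0), (0, 0),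 (0, 0), (0, 0), (0, 0), (0, 0), (0, 0), (0, 0), (0, 0), (0, 0), (0, 0), (0, 0), (0, 0), (0, 0), (0, 0), (0, 0), (0, 0), (0, 0), (0, 0), (0, 0), (0, 0), (120, 121), (0, 0), (121, 123), (120, 124), (0, 0), (123, 126), (121, 127), (120, 128), (0, 0), (126, 130), (123, 131), (121, 132), (120, 133), (0, 0), (0, 0), (0, 0), (0, 0), (0, 0), (0, 0), (0, 0), (130, 141), (126, 142), (123, 143), (121, 144), (120, 145), (0, 0), (0, 0), (0, 0), (0, 0), (0, 0), (0, 0), (0, 0), (0, 0), (0, 0), (0, 0), (0, 0), (0, 0), (0, 0), (0, 0), (0, 0), (0, 0), (0, 0), (0, 0), (0, 0), (0, 0), (0, 0), (0, 0), (0, 0), (0, 0), (0, 0), (0, 0), (0, 0), (0, 0), (0, 0), (0, 0), (0, 0), (0, 0), (0, 0), (0, 0), (0, 0), (0, 0), (0, 0), (0, 0), (123, 184), (121, 185), (120, 186), (126, 185), (121, 188), (120, 189), (123, 189), (120, 191), (121, 192), (130,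 188), (121, 194), (120, 195), (123, 195), (120, 197), (121, 198), (126, 197), (120, 200), (121, 201), (123, 202), (141, 194), (121, 204), (120, 205), (123, 205), (120, 207), (121, 208), (126, 207), (120, 210), (121, 211), (123, 212), (130, 210), (120, 214), (121, 215), (123, 216), (126, 217), (0, 0), (0, 0), (0, 0), (0, 0), (0, 0), (0, 0), (0, 0), (0, 0), (0, 0), (0, 0), (0, 0), (0, 0), (0, 0), (184, 203), (0, 0), (141, 232), (130, 234), (126, 235), (123, 236), (121, 237), (120, 238)],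
  [[2, -1, 0, 0, 0, 0, 0, 0], [-1, 2, -1, 0, 0, 0, 0, 0], [0, -1, 2, -1, 0, 0, 0, -1], [0, 0, -1, 2, -1, 0, 0, 0], [0, 0, 0, -1, 2, -1, 0, 0], [0, 0, 0, 0, -1, 2, 0, 0], [0, 0, 0, 0, 0, 0, 2, 0], [0, 0, -1, 0, 0, 0, 0, 2]], [2, 2, -4, 2, 2, 2, 2, 2],
  [-34, -32, -30, -28, -26, -24, -28, -22, -26, -24, -22, -20, -18, -16, -26, -24, -22, -20, -18, -16, -14, -26, -24, -22, -20, -18, -22, -20, -18, -16, -18, -16, -14, -14, -12, -10, -20, -18, -16, -14, -16, -14, -12, -12, -10, -8, -14, -12, -10, -10, -8, -6, -8, -6, -4, -2, -18, -16, -14, -14, -12, -10, -12, -10, -8, -6, -10, -8, -6, -4, -2, -8, -6, -4, -2, 0, 2, -2, -16, -14, -12, -12, -10, -8, -10, -8, -6, -4, -8, -6, -4, -2, 0, -12, -10, -8, -6, -4, -2, -6, -4, -2, 0, 2, 4, -10, -8, -6, -4, -2, -8, -6, -4, -2, -6, -4, -2, -4, -2, -2, 2, 2, 4, 2, 4, 6, 2, 4, 6, 8, 2,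 4, 6, 8, 10, -4, -2, 0, 2, 4, 6, 2, 4, 6, 8, 10, 12, 0, 2, 4, 6, 8, 4, 6, 8, 10, 8, 10, 12, 12, 14, 16, 2, -2, 0, 2, 4, 6, 8, 2, 4, 6, 8, 10, 6, 8, 10, 12, 10, 12, 14, 14, 16, 18, 2, 4, 6, 8, 6, 8, 10, 10, 12, 14, 8, 10, 12, 12, 14, 16, 14, 16, 18, 20, 10, 12, 14, 14, 16, 18, 16, 18, 20, 22, 18, 20, 22, 24, 26, 14, 16, 18, 20, 22, 24, 26, 16, 18, 20, 22, 24, 26, 22, 28, 24, 26, 28, 30, 32, 34],
  [233, 144, 162, 141, 135, 130, 126, 123, 121, 120],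
  [⟨[7], [0, 0, 0, 0, 0, 0, 0, 1], [([0, 0, 0, 0, 0, 0, 0, 1], 0), ([0, 0, 1, 0, 0, 0, 0, -1], 1)]⟩, ⟨[2, 7], [0, 0, 1, 0, 0, 0, 0, 0], [([0, 0, 1, 0, 0, 0, 0, 0], 0), ([0, 1, -1, 1, 0, 0, 0, 1], 1), ([0, 1, 0, 1, 0, 0, 0, -1], 2)]⟩, ⟨[2, 3, 7], [0, 0, 0, 1, 0, 0, 0, 0], [([0, 0, 0, 1, 0, 0, 0, 0], 0), ([0, 0, 1, -1, 1, 0, 0, 0], 1), ([0, 1, -1, 0, 1, 0, 0, 1], 2), ([0, 1, 0, 0, 1, 0, 0, -1], 3)]⟩, ⟨[1, 2, 3, 7], [0, 1, 0, 0, 0, 0, 0, 0], [([0, 1, 0, 0, 0, 0, 0, 0], 0), ([1, -1, 1, 0, 0, 0, 0, 0], 1), ([1, 0, -1, 1, 0, 0, 0, 1], 2), ([1, 0, 0, -1, 1, 0, 0, 1], 3), ([1, 0, 0, 1, 0, 0, 0, -1], 3), ([1, 0, 1, -1, 1, 0, 0, -1], 4), ([1, 1, -1, 0, 1, 0, 0, 0], 5), ([2, -1, 0, 0, 1, 0, 0, 0], 6)]⟩, ⟨[1, 2, 3, 4, 7], [0, 0, 0, 0, 1, 0, 0, 0], [([0, 0, 0, 0, 1, 0, 0, 0], 0), ([0, 0, 0, 1, -1, 1, 0, 0], 1), ([0, 0, 1, -1, 0,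 1, 0, 0], 2), ([0, 1, -1, 0, 0, 1, 0, 1], 3), ([1, -1, 0, 0, 0, 1, 0, 1], 4), ([0, 1, 0, 0, 0, 1, 0, -1], 4), ([1, -1, 1, 0, 0, 1, 0, -1], 5), ([1, 0, -1, 1, 0, 1, 0, 0], 6), ([1, 0, 0, -1, 1, 1, 0, 0], 7), ([1, 0, 0, 0, -1, 2, 0, 0], 8)]⟩, ⟨[0, 1, 2, 3, 4, 7], [1, 0, 0, 0, 0, 0, 0, 0], [([1, 0, 0, 0, 0, 0, 0, 0], 0), ([-1, 1, 0, 0, 0, 0, 0, 0], 1), ([0, -1, 1, 0, 0, 0, 0, 0], 2), ([0, 0, -1, 1, 0, 0, 0, 1], 3), ([0, 0, 0, -1, 1, 0, 0, 1], 4), ([0, 0, 0, 1, 0, 0, 0, -1], 4), ([0, 0, 0, 0, -1, 1, 0, 1], 5), ([0, 0, 1, -1, 1, 0, 0, -1], 5), ([0, 0, 1, 0, -1, 1, 0, -1], 6), ([0, 1, -1, 0, 1, 0, 0, 0], 6), ([0, 1, -1, 1, -1, 1, 0, 0], 7), ([1, -1, 0, 0, 1, 0, 0, 0], 7), ([1, -1, 0, 1, -1, 1, 0, 0], 8), ([0, 1, 0, -1, 0, 1, 0, 0], 8), ([-1, 0, 0, 0, 1, 0, 0, 0], 8), ([-1, 0, 0, 1, -1, 1, 0, 0], 9), ([1, -1, 1, -1, 0, 1,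 0, 0], 9), ([-1, 0, 1, -1, 0, 1, 0, 0], 10), ([1, 0, -1, 0, 0, 1, 0, 1], 10), ([-1, 1, -1, 0, 0, 1, 0, 1], 11), ([1, 0, 0, 0, 0, 1, 0, -1], 11), ([0, -1, 0, 0, 0, 1, 0, 1], 12), ([-1, 1, 0, 0, 0, 1, 0, -1], 12), ([0, -1, 1, 0, 0, 1, 0, -1], 13), ([0, 0, -1, 1, 0, 1, 0, 0], 14), ([0, 0, 0, -1, 1, 1, 0, 0], 15), ([0, 0, 0, 0, -1, 2, 0, 0], 16)]⟩, ⟨[0, 1, 2, 3, 4, 5, 7], [0, 0, 0, 0, 0, 1, 0, 0], [([0, 0, 0, 0, 0, 1, 0, 0], 0), ([0, 0, 0, 0, 1, -1, 0, 0], 1), ([0, 0, 0, 1, -1, 0, 0, 0], 2), ([0, 0, 1, -1, 0, 0, 0, 0], 3), ([0, 1, -1, 0, 0, 0, 0, 1], 4), ([1, -1, 0, 0, 0, 0, 0, 1], 5), ([0, 1, 0, 0, 0, 0, 0, -1], 5), ([-1, 0, 0, 0, 0, 0, 0, 1], 6), ([1, -1, 1, 0, 0, 0, 0, -1], 6), ([-1, 0, 1, 0, 0, 0, 0, -1], 7), ([1, 0, -1, 1, 0, 0, 0, 0], 7), ([-1, 1, -1, 1, 0, 0, 0, 0], 8), ([1, 0, 0, -1, 1, 0, 0, 0], 8), ([0, -1, 0,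 1, 0, 0, 0, 0], 9), ([-1, 1, 0, -1, 1, 0, 0, 0], 9), ([1, 0, 0, 0, -1, 1, 0, 0], 9), ([0, -1, 1, -1, 1, 0, 0, 0], 10), ([-1, 1, 0, 0, -1, 1, 0, 0], 10), ([1, 0, 0, 0, 0, -1, 0, 0], 10), ([0, 0, -1, 0, 1, 0, 0, 1], 11), ([0, -1, 1, 0, -1, 1, 0, 0], 11), ([-1, 1, 0, 0, 0, -1, 0, 0], 11), ([0, 0, -1, 1, -1, 1, 0, 1], 12), ([0, 0, 0, 0, 1, 0, 0, -1], 12), ([0, -1, 1, 0, 0, -1, 0, 0], 12), ([0, 0, 0, -1, 0, 1, 0, 1], 13), ([0, 0, -1, 1, 0, -1, 0, 1], 13), ([0, 0, 0, 1, -1, 1, 0, -1], 13), ([0, 0, 0, -1, 1, -1, 0, 1], 14), ([0, 0, 1, -1, 0, 1, 0, -1], 14), ([0, 0, 0, 1, 0, -1, 0, -1], 14), ([0, 0, 0, 0, -1, 0, 0, 1], 15), ([0, 0, 1, -1, 1, -1, 0, -1], 15), ([0, 1, -1, 0, 0, 1, 0, 0], 15), ([0, 0, 1, 0, -1, 0, 0, -1], 16), ([0, 1, -1, 0, 1, -1, 0, 0], 16), ([1, -1, 0, 0, 0, 1, 0, 0], 16), ([0, 1, -1, 1, -1, 0, 0, 0], 17),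 ([1, -1, 0, 0, 1, -1, 0, 0], 17), ([-1, 0, 0, 0, 0, 1, 0, 0], 17), ([1, -1, 0, 1, -1, 0, 0, 0], 18), ([0, 1, 0, -1, 0, 0, 0, 0], 18), ([-1, 0, 0, 0, 1, -1, 0, 0], 18), ([-1, 0, 0, 1, -1, 0, 0, 0], 19), ([1, -1, 1, -1, 0, 0, 0, 0], 19), ([-1, 0, 1, -1, 0, 0, 0, 0], 20), ([1, 0, -1, 0, 0, 0, 0, 1], 20), ([-1, 1, -1, 0, 0, 0, 0, 1], 21), ([1, 0, 0, 0, 0, 0, 0, -1], 21), ([0, -1, 0, 0, 0, 0, 0, 1], 22), ([-1, 1, 0, 0, 0, 0, 0, -1], 22), ([0, -1, 1, 0, 0, 0, 0, -1], 23), ([0, 0, -1, 1, 0, 0, 0, 0], 24), ([0, 0, 0, -1, 1, 0, 0, 0], 25), ([0, 0, 0, 0, -1, 1, 0, 0], 26), ([0, 0, 0, 0, 0, -1, 0, 0], 27)]⟩, ⟨[0, 1, 2, 3, 4, 5, 6, 7], [0, 0, 0, 0, 0, 0, 1, 0], [([0, 0, 0, 0, 0, 0, 1, 0], 0), ([0, 0, 0, 0, 0, 0, -1, 0], 1)]⟩]⟩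

lemma chk0 : c0.chk chevE8 2 64 [2, 2, 6, 8, 10, 12, 14, 18] = true := by decide +kernel

/-- certificate -/
def c1 : CenC 8 :=
  ⟨[[1], [1], [0], [0], [0], [0], [0], [0]], 1728969155881323195900927856621659878227380427349420683041102556586573824, [120, 121, 123, 126, 136, 141, 162, 214],
  [(0, 0), (0, 0), (0, 0), (0, 0), (0, 0), (0, 0), (0, 0), (0, 0), (0, 0), (0, 0), (0, 0), (0, 0), (0, 0), (0, 0), (0, 0), (0, 0), (0, 0), (0, 0), (0, 0), (0, 0), (0, 0), (0, 0), (0, 0), (0, 0), (0, 0), (0, 0), (0, 0), (0, 0), (0, 0), (0, 0), (0, 0), (0, 0), (0, 0), (0, 0), (0, 0), (0, 0), (0, 0), (0, 0), (0, 0), (0, 0), (0, 0), (0, 0), (0, 0), (0, 0), (0, 0), (0, 0), (0, 0), (0, 0), (0, 0), (0, 0), (0, 0), (0, 0), (0, 0), (0, 0), (0, 0), (0, 0), (0, 0), (0, 0), (0, 0), (0, 0), (0, 0), (0, 0), (0, 0), (0, 0), (0, 0), (0, 0), (0, 0),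 (0, 0), (0, 0), (0, 0), (0, 0), (0, 0), (0, 0), (0, 0), (0, 0), (0, 0), (0, 0), (0, 0), (0, 0), (0, 0), (0, 0), (0, 0), (0, 0), (0, 0), (0, 0), (0, 0), (0, 0), (0, 0), (0, 0), (0, 0), (0, 0), (0, 0), (0, 0), (0, 0), (0, 0), (0, 0), (0, 0), (0, 0), (0, 0), (0, 0), (0, 0), (0, 0), (0, 0), (0, 0), (0, 0), (0, 0), (0, 0), (0, 0), (0, 0), (0, 0), (0, 0), (0, 0), (0, 0), (0, 0), (0, 0), (0, 0), (0, 0), (0, 0), (0, 0), (0, 0), (0, 0), (0, 0), (120, 121), (0, 0), (121, 123), (120, 124), (0, 0), (123, 126), (121, 127), (120, 128), (0, 0), (0, 0), (0, 0), (0, 0), (0, 0), (0, 0), (0, 0), (126, 136), (123, 137), (121, 138), (120, 139), (0, 0), (0, 0), (0, 0), (0, 0), (0, 0), (0, 0), (136, 141), (126, 147), (123, 148), (121, 149), (120, 150), (0, 0), (0, 0), (0, 0), (0, 0), (0, 0), (0, 0), (0, 0), (0, 0), (0, 0), (0, 0), (0, 0),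 (0, 0), (136, 162), (126, 164), (123, 165), (121, 166), (120, 167), (141, 164), (126, 169), (123, 170), (121, 171), (120, 172), (0, 0), (0, 0), (0, 0), (0, 0), (0, 0), (0, 0), (0, 0), (0, 0), (0, 0), (0, 0), (136, 170), (123, 184), (121, 185), (120, 186), (126, 185), (121, 188), (120, 189), (123, 189), (120, 191), (121, 192), (0, 0), (0, 0), (0, 0), (0, 0), (0, 0), (0, 0), (0, 0), (0, 0), (0, 0), (0, 0), (0, 0), (0, 0), (0, 0), (0, 0), (0, 0), (0, 0), (0, 0), (0, 0), (0, 0), (0, 0), (0, 0), (120, 214), (121, 215), (123, 216), (126, 217), (0, 0), (0, 0), (0, 0), (0, 0), (0, 0), (136, 218), (141, 224), (0, 0), (0, 0), (0, 0), (0, 0), (0, 0), (162, 224), (0, 0), (141, 231), (0, 0), (136, 233), (126, 235), (123, 236), (121, 237), (120, 238)],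
  [[2, -1, 0, 0, 0, 0, 0, -1], [-1, 2, -1, 0, 0, 0, 0, 0], [0, -1, 2, -1, 0, 0, 0, 0], [0, 0, -1, 2, -1, 0, 0, 0], [0, 0, 0, -1, 2, -1, -1, 0], [0, 0, 0, 0, -1, 2, 0, 0], [0, 0, 0, 0, -1, 0, 2, 0], [-1, 0, 0, 0, 0, 0, 0, 2]], [2, 2, 12, -10, 2, 2, 2, 2],
  [-26, -24, -22, -20, -18, -28, -16, -26, -14, -24, -22, -20, -18, -16, -14, -12, -22, -20, -18, -16, -14, -10, -8, -6, -4, -2, -18, -16, -14, -12, -14, -12, -10, -10, -8, -6, -16, -14, -12, -10, -12, -10, -8, -8, -6, -4, -22, -20, -18, -18, -16, -14, -16, -14, -12, -10, -10, -8, -6, -6, -4, -2, -4, -2, 0, 2, -14, -12, -10, -8, -6, -12, -10, -8, -6, -4, -14, -2, -8, -6, -4, -4, -2, 0, -2, 0, 2, 4, -12, -10, -8, -6, -4, 0, 2, 4, 6, 8, -2, -10, -8, -6, -4, -2, -12, 2, 4, 6, 8, 10, -8, -6, -4, -2, -6, -4, -2, -4, -2, -2, 2, 2, 4, 2, 4, 6, 2, 4, 6, 8, -10, -8, -6, -4,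 -2, 12, 2, 4, 6, 8, 10, 2, -8, -6, -4, -2, 0, 4, 6, 8, 10, 12, -4, -2, 0, 2, 0, 2, 4, 4, 6, 8, 2, 14, 4, 6, 8, 10, 12, 6, 8, 10, 12, 14, -2, 0, 2, 4, 2, 4, 6, 6, 8, 10, 10, 12, 14, 16, 14, 16, 18, 18, 20, 22, 4, 6, 8, 8, 10, 12, 10, 12, 14, 16, 6, 8, 10, 10, 12, 14, 12, 14, 16, 18, 2, 4, 6, 8, 10, 14, 16, 18, 20, 22, 12, 14, 16, 18, 20, 22, 24, 14, 26, 16, 28, 18, 20, 22, 24, 26],
  [230, 127, 162, 135, 130, 141, 126, 123, 121, 120],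
  [⟨[6], [0, 0, 0, 0, 0, 0, 1, 0], [([0, 0, 0, 0, 0, 0, 1, 0], 0), ([0, 0, 0, 0, 1, 0, -1, 0], 1)]⟩, ⟨[4, 6], [0, 0, 0, 0, 1, 0, 0, 0], [([0, 0, 0, 0, 1, 0, 0, 0], 0), ([0, 0, 0, 1, -1, 1, 1, 0], 1), ([0, 0, 0, 1, 0, 1, -1, 0], 2)]⟩, ⟨[4, 5, 6], [0, 0, 0, 0, 0, 1, 0, 0], [([0, 0, 0, 0, 0, 1, 0, 0], 0), ([0, 0, 0, 0, 1, -1, 0, 0], 1), ([0, 0, 0, 1, -1, 0, 1, 0], 2), ([0, 0, 0, 1, 0, 0, -1, 0], 3)]⟩, ⟨[3, 4, 5, 6], [0, 0, 0, 1, 0, 0, 0, 0], [([0, 0, 0, 1, 0, 0, 0, 0], 0), ([0, 0, 1, -1, 1, 0, 0, 0], 1), ([0, 0, 1, 0, -1, 1, 1, 0], 2), ([0, 0, 1, 0, 0, -1, 1, 0], 3), ([0, 0, 1, 0, 0, 1, -1, 0], 3), ([0, 0, 1, 0, 1, -1, -1, 0], 4), ([0, 0, 1, 1, -1, 0, 0, 0], 5), ([0, 0, 2, -1, 0, 0, 0, 0], 6)]⟩, ⟨[2, 3, 4, 5, 6], [0, 0, 1, 0, 0, 0, 0, 0], [([0, 0, 1, 0, 0, 0, 0, 0], 0), ([0, 1, -1, 1, 0, 0, 0, 0], 1), ([0, 1, 0, -1, 1,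 0, 0, 0], 2), ([0, 1, 0, 0, -1, 1, 1, 0], 3), ([0, 1, 0, 0, 0, -1, 1, 0], 4), ([0, 1, 0, 0, 0, 1, -1, 0], 4), ([0, 1, 0, 0, 1, -1, -1, 0], 5), ([0, 1, 0, 1, -1, 0, 0, 0], 6), ([0, 1, 1, -1, 0, 0, 0, 0], 7), ([0, 2, -1, 0, 0, 0, 0, 0], 8)]⟩, ⟨[1, 2, 3, 4, 5, 6], [0, 1, 0, 0, 0, 0, 0, 0], [([0, 1, 0, 0, 0, 0, 0, 0], 0), ([1, -1, 1, 0, 0, 0, 0, 0], 1), ([1, 0, -1, 1, 0, 0, 0, 0], 2), ([1, 0, 0, -1, 1, 0, 0, 0], 3), ([1, 0, 0, 0, -1, 1, 1, 0], 4), ([1, 0, 0, 0, 0, -1, 1, 0], 5), ([1, 0, 0, 0, 0, 1, -1, 0], 5), ([1, 0, 0, 0, 1, -1, -1, 0], 6), ([1, 0, 0, 1, -1, 0, 0, 0], 7), ([1, 0, 1, -1, 0, 0, 0, 0], 8), ([1, 1, -1, 0, 0, 0, 0, 0], 9), ([2, -1, 0, 0, 0, 0, 0, 0], 10)]⟩, ⟨[0, 1, 2, 3, 4, 5, 6], [1, 0, 0, 0, 0, 0, 0, 0], [([1, 0, 0, 0, 0, 0, 0, 0], 0), ([-1, 1, 0, 0, 0, 0, 0, 1], 1), ([0, -1, 1, 0, 0, 0, 0, 1], 2), ([0,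 0, -1, 1, 0, 0, 0, 1], 3), ([0, 0, 0, -1, 1, 0, 0, 1], 4), ([0, 0, 0, 0, -1, 1, 1, 1], 5), ([0, 0, 0, 0, 0, -1, 1, 1], 6), ([0, 0, 0, 0, 0, 1, -1, 1], 6), ([0, 0, 0, 0, 1, -1, -1, 1], 7), ([0, 0, 0, 1, -1, 0, 0, 1], 8), ([0, 0, 1, -1, 0, 0, 0, 1], 9), ([0, 1, -1, 0, 0, 0, 0, 1], 10), ([1, -1, 0, 0, 0, 0, 0, 1], 11), ([-1, 0, 0, 0, 0, 0, 0, 2], 12)]⟩, ⟨[0, 1, 2, 3, 4, 5, 6, 7], [0, 0, 0, 0, 0, 0, 0, 1], [([0, 0, 0, 0, 0, 0, 0, 1], 0), ([1, 0, 0, 0, 0, 0, 0, -1], 1), ([-1, 1, 0, 0, 0, 0, 0, 0], 2), ([0, -1, 1, 0, 0, 0, 0, 0], 3), ([0, 0, -1, 1, 0, 0, 0, 0], 4), ([0, 0, 0, -1, 1, 0, 0, 0], 5), ([0, 0, 0, 0, -1, 1, 1, 0], 6), ([0, 0, 0, 0, 0, -1, 1, 0], 7), ([0, 0, 0, 0, 0, 1, -1, 0], 7), ([0, 0, 0, 0, 1, -1, -1, 0], 8), ([0, 0, 0, 1, -1, 0, 0, 0], 9), ([0, 0, 1, -1, 0, 0, 0, 0], 10), ([0, 1, -1, 0, 0, 0, 0, 0], 11), ([1,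 -1, 0, 0, 0, 0, 0, 0], 12), ([-1, 0, 0, 0, 0, 0, 0, 1], 13), ([0, 0, 0, 0, 0, 0, 0, -1], 14)]⟩]⟩

lemma chk1 : c1.chk chevE8 2 56 [8, 2, 4, 6, 8, 10, 12, 14] = true := by decide +kernel

/-- words -/
def wds : List (List ℕ) := [[], [], [136, 169], [], [163], [135], [163], [135], [135, 164], [142], [135, 169], [130], [164], [136], [169], [147], [136, 165], [130, 143], [132, 204], [135, 152], [174], [152], [174], [152], [135, 165], [143], [135, 170], [131], [165], [137], [170], [148], [137, 166], [131, 144], [130, 204], [135, 156], [178], [156], [178], [156], [194], [139, 226], [204], [136, 156], [130, 178], [130, 156], [133, 219], [133, 226], [136, 166], [130, 144], [131, 204], [135, 153], [175], [153], [175], [153], [135, 166], [144], [135, 171], [132], [166], [138], [171], [149], [138, 167], [132, 145], [130, 207],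 [135, 159], [181], [159], [181], [159], [197], [137, 226], [207], [136, 159], [130, 181], [130, 159], [131, 219], [131, 226], [130, 200], [135, 226], [140, 225], [134, 232], [219], [226], [219], [226], [200], [136, 226], [210], [137, 159], [131, 181], [131, 159], [130, 219], [130, 226], [137, 167], [131, 145], [130, 205], [135, 157], [179], [157], [179], [157], [195], [138, 226], [205], [136, 157], [130, 179], [130, 157], [132, 219], [132, 226], [136, 167], [130, 145], [131, 205], [135, 154], [176], [154], [176], [154], [135, 167], [145], [135, 172], [133], [167], [139], [172], [150], [139, 168], [133, 146], [130, 209], [135, 161], [183], [161], [183], [161], [199], [137, 228], [209], [136, 161], [130, 183], [130, 161], [131, 221], [131, 228], [130, 202], [135, 228], [138, 225], [132, 232], [221], [228], [221], [228],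 [202], [136, 228], [212], [137, 161], [131, 183], [131, 161], [130, 221], [130, 228], [131, 203], [135, 230], [136, 225], [130, 232], [223], [230], [223], [230], [135, 224], [234], [135, 225], [232], [224], [231], [225], [233], [130, 203], [135, 229], [137, 225], [131, 232], [222], [229], [222], [229], [203], [136, 229], [213], [138, 161], [132, 183], [132, 161], [130, 222], [130, 229], [138, 168], [132, 146], [130, 208], [135, 160], [182], [160], [182], [160], [198], [137, 227], [208], [136, 160], [130, 182], [130, 160], [131, 220], [131, 227], [130, 201], [135, 227], [139, 225], [133, 232], [220], [227], [220], [227], [201], [136, 227], [211], [137, 160], [131, 182], [131, 160], [130, 220], [130, 227], [137, 168], [131, 146], [130, 206], [135, 158], [180], [158], [180], [158], [196], [138, 227], [206], [136, 158],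 [130, 180], [130, 158], [132, 220], [132, 227], [136, 168], [130, 146], [131, 206], [135, 155], [177], [155], [177], [155], [135, 168], [146], [135, 173], [134], [168], [140], [173], [151]]

lemma chkW : orbChk chevE8 2 ([c0, c1].map CenC.a) wds = true := by decide +kernel


/-- In the Chevalley group of type E₈ over a finite field of odd order q there are exactly two conjugacy classes of involutions; the centralizer of an involution in one class has order q⁵⁶(q⁸ − 1)·∏_{i=1}^{7}(q^{2i} − 1), and in the other class q⁶⁴(q² − 1)²(q⁶ − 1)(q⁸ − 1)(q¹⁰ − 1)(q¹² − 1)(q¹⁴ − 1)(q¹⁸ − 1). -/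
theorem result {F : Type*} [Field F] [Fintype F] (hF : Odd (Fintype.card F)) : ∃ s t : ↥(Cfsg.Lie.chevE8.group F), orderOf s = 2 ∧ orderOf t = 2 ∧ ¬ IsConj s t ∧ (∀ u : ↥(Cfsg.Lie.chevE8.group F), orderOf u = 2 → IsConj u s ∨ IsConj u t) ∧ Nat.card (Subgroup.centralizer ({s} : Set ↥(Cfsg.Lie.chevE8.group F))) = Fintype.card F ^ 56 * (Fintype.card F ^ 8 - 1) * ∏ i ∈ Finset.Icc 1 7, (Fintype.card F ^ (2 * i) - 1) ∧ Nat.card (Subgroup.centralizer ({t} : Set ↥(Cfsg.Lie.chevE8.group F))) = Fintype.card F ^ 64 * (Fintype.card F ^ 2 - 1) ^ 2 * (Fintype.card F ^ 6 - 1) * (Fintype.card F ^ 8 - 1) * (Fintype.card F ^ 10 - 1) * (Fintype.card F ^ 12 - 1) * (Fintype.card F ^ 14 - 1) * (Fintype.card F ^ 18 - 1) := by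
  have hx := orderOf_neg_one_units hF
  have hD : chevE8 ∈ Tabs := by simp
  refine ⟨Elts.tor (EG_R3 hD rsE8 F) (pv 0 c1.a (-1)), Elts.tor (EG_R3 hD rsE8 F) (pv 0 c0.a (-1)),
    (orderOf_tor_pv _ smithE8 ⟨0, by decide⟩ rfl _).trans hx,
    (orderOf_tor_pv _ smithE8 ⟨0, by decide⟩ rfl _).trans hx, fun h => not_isConj _ smithE8 chk1 chk0 hx (by norm_num) (by decide) h.symm, fun u hu => ?_, ?_, ?_⟩
  · obtain ⟨c, hc, h⟩ := exists_isConj (hD := hD) rsE8 smithE8 (cs := [c0, c1]) (by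
      simp only [List.forall_mem_cons, List.not_mem_nil, false_imp_iff, implies_true, and_true]
      exact ⟨⟨_, _, chk0⟩, _, _, chk1⟩) chkW Nat.prime_two hx hu
    simp only [List.mem_cons, List.not_mem_nil, or_false] at hc
    rcases hc with rfl | rfl
    exacts [Or.inr h, Or.inl h]
  all_goals
    have h0 : ∀ k, 1 ≤ Fintype.card F ^ k := fun k => Nat.one_le_pow _ _ Fintype.card_pos
    apply Nat.cast_injective (R := ℤ)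
  · rw [card_centralizer _ chk1 hx smithE8]
    simp [Finset.prod_Icc_succ_top, Nat.cast_sub (h0 _)]; ring
  · rw [card_centralizer _ chk0 hx smithE8]
    simp [Nat.cast_sub (h0 _)]; ring

end Cfsg.Agent.S4281
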