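import Mathlib
import Cfsg.Statements.S4305
import Cfsg.Agent.Lib.FGS83.PQ5

set_option autoImplicit false
open Cfsg

namespace Cfsg.Agent.S4305


/-- Let the symmetric group of degree 3 act by automorphisms on a finite solvable group `G` of order prime to 6, so that only the identity of `G` is fixed by all of it. Then the derived subgroup of `G` is nilpotent. -/
theorem result {G : Type*} [Group G] [Finite G] [Group.IsSolvable G]
    [MulDistribMulAction (Equiv.Perm (Fin 3)) G] (hcop : (Nat.card G).Coprime 6)
    (hfpf : ∀ g : G, (∀ a : Equiv.Perm (Fin 3), a • g = g) → g = 1) :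
    Group.IsNilpotent ↥(commutator G) := by
  have hA : Nat.card (Equiv.Perm (Fin 3)) = 2 * 3 := by simp [Nat.card_eq_fintype_card, Fintype.card_perm]; rfl
  obtain ⟨F, h, hF⟩ := H83.exists_pq_of_lt Nat.prime_two Nat.prime_three (by norm_num) hA
    (fun h => absurd (h.is_comm.comm (Equiv.swap (0 : Fin 3) 1) (Equiv.swap 1 2)) (by decide))
  refine h.isNilpotent_ext (MulDistribMulAction.toMulAut _ G) inferInstance (hA ▸ hcop.symm)
    hfpf _ fun K _ _ h1 => ?_
  have := H2.isMulCommutative_iff_commutator_eq_bot.1 (h1 hF)
  rwa [← Subgroup.map_commutator, Subgroup.map_eq_bot_iff, QuotientGroup.ker_mk',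
    ← Subgroup.map_commutator] at this

end Cfsg.Agent.S4305
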