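import Cfsg.Statements.S4310
import Mathlib
import Cfsg.Agent.Base
import Cfsg.Agent.Lib.Core.Hall
import Cfsg.Agent.S0205

set_option autoImplicit false
open Cfsg

namespace Cfsg.Agent.S4310

open Subgroup H3
open scoped Pointwise

theorem conj_of_sep {M : Type*} [Group M] [Finite M] {π : Set ℕ} (h : IsPiSeparable π M)
    {H K : Subgroup M} (hH : IsPiHall π H) (hK : IsPiHall π K) :
    ∃ g : M, MulAut.conj g • H = K := by
  refine h.exists_conj_eq hH hK ?_
  by_cases h2 : 2 ∈ π
  · refine Or.inr fun A L _ _ hL => Cfsg.Agent.S0205.result ?_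
    rw [card_map_mk'_eq_relIndex, ← Nat.not_even_iff_odd, even_iff_two_dvd]
    exact piNum_compl_iff.mp hL 2 Nat.prime_two h2
  · refine Or.inl (Cfsg.Agent.S0205.result ?_)
    rw [← Nat.not_even_iff_odd, even_iff_two_dvd]
    exact fun hd => h2 (piNum_iff.mp (isPiHall_iff.mp hH).1 2 Nat.prime_two hd)

/-- Let `π` be a set of primes and `A` a normal subgroup of the finite group `G`. Suppose `A` has a Hall `π`-subgroup and all Hall `π`-subgroups of `A` are conjugate in `A`, and likewise for `G/A`. Then `G` has a Hall `π`-subgroup and all Hall `π`-subgroups of `G` are conjugate. (The conjugacy of complements of coprime order that the usual proof uses rests, in general, on the odd order Theorem.) -/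
theorem result {G : Type*} [Group G] [Finite G] (π : Set ℕ) (A : Subgroup G) [A.Normal]
    (hA : Cfsg.IsCPiGroup π ↥A) (hQ : Cfsg.IsCPiGroup π (G ⧸ A)) : Cfsg.IsCPiGroup π G := by
  obtain ⟨⟨U₀, hU₀⟩, hAc⟩ := hA
  obtain ⟨⟨B₀, hB₀⟩, hQc⟩ := hQ
  let U : Subgroup G := U₀.map A.subtype
  have hU : IsPiHallOf π U A := isPiHallOf_map_subtype_iff.mpr hU₀
  have hAc' : ∀ V : Subgroup G, IsPiHallOf π V A → ∃ a ∈ A, MulAut.conj a • V = U := by
    intro V hV
    have hVA := (isPiHallOf_iff.mp hV).1
    obtain ⟨a, ha⟩ := hAc _ _ ((isPiHallOf_iff_subgroupOf hVA).mp hV) hU₀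
    refine ⟨a, a.2, ?_⟩
    change _ = U₀.map A.subtype
    rw [ha, ← conj_smul_eq_map, map_conj_smul, map_subgroupOf_eq_of_le hVA]
    rfl
  let B : Subgroup G := B₀.comap (QuotientGroup.mk' A)
  have hAB : A ≤ B := fun a ha => by
    change QuotientGroup.mk' A a ∈ B₀
    rw [QuotientGroup.mk'_apply, (QuotientGroup.eq_one_iff a).mpr ha]
    exact one_mem _
  have hBi : PiNum πᶜ B.index := by
    rw [index_comap_of_surjective _ (QuotientGroup.mk'_surjective A)]
    exact (isPiHall_iff.mp hB₀).2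
  have hABi : PiNum π (A.relIndex B) := by
    rw [relIndex_comap_mk']
    exact (isPiHall_iff.mp hB₀).1
  let M : Subgroup G := B ⊓ normalizer (U : Set G)
  have hUA : U ≤ A := map_subtype_le _
  have hUM : U ≤ M := le_inf (hUA.trans hAB) le_normalizer
  have hsup : A ⊔ M = B := by
    refine le_antisymm (sup_le hAB inf_le_left) fun b hb => ?_
    obtain ⟨a, ha, h⟩ := hAc' _ (isPiHallOf_conj_smul_of_mem_normalizer hU
      (g := b) (by rw [normalizer_eq_top]; exact mem_top _))
    rw [conj_smul_conj_smul, conj_smul_eq_self_iff] at h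
    exact mem_sup_iff_of_normal.mpr ⟨a⁻¹, inv_mem ha, a * b, ⟨mul_mem (hAB ha) hb, h⟩, by group⟩
  have hUi := (isPiHallOf_iff.mp hU).2
  have hMi : PiNum πᶜ M.index := by
    rw [← relIndex_mul_index (inf_le_left : M ≤ B)]
    refine PiNum.mul ?_ hBi
    have : M.relIndex B = M.relIndex A := by
      rw [← hsup]
      exact relIndex_sup_right_of_le_normalizer (by rw [normalizer_eq_top]; exact le_top)
    rw [this]
    exact hUi.2.of_dvd (relIndex_dvd_of_le_left _ hUM)
  have hsep : IsPiSeparable π M := by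
    haveI : (U.subgroupOf M).Normal := normal_subgroupOf_of_le_normalizer inf_le_right
    refine isPiSeparable_of_chain (n := 3) ![⊥, U.subgroupOf M, A.subgroupOf M, ⊤] rfl rfl
      (fun i => by fin_cases i <;> simp <;> infer_instance) (fun i => ?_)
    fin_cases i
    · left
      change PiNum π ((⊥ : Subgroup M).relIndex (U.subgroupOf M))
      rw [relIndex_bot_left, card_subgroupOf_of_le hUM]
      exact hUi.1
    · right
      change PiNum πᶜ ((U.subgroupOf M).relIndex (A.subgroupOf M))
      rw [← inf_subgroupOf_right A M, relIndex_subgroupOf inf_le_right]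
      exact hUi.2.of_dvd (Dvd.intro _ (relIndex_mul_relIndex U (A ⊓ M) A (le_inf hUA hUM)
        inf_le_left))
    · left
      change PiNum π ((A.subgroupOf M).relIndex ⊤)
      rw [relIndex_top_right]
      change PiNum π (A.relIndex M)
      rw [← relIndex_sup_left_of_le_normalizer (by rw [normalizer_eq_top]; exact le_top), hsup]
      exact hABi
  have hred : ∀ H : Subgroup G, IsPiHall π H → ∃ g : G, MulAut.conj g • H ≤ M := by
    intro H hH
    obtain ⟨q, hq⟩ := hQc _ _ (isPiHall_map hH (QuotientGroup.mk'_surjective A)) hB₀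
    obtain ⟨g, rfl⟩ := QuotientGroup.mk'_surjective A q
    rw [← conj_smul_eq_map, ← map_conj_smul] at hq
    have h1 : MulAut.conj g • H ≤ B := map_le_iff_le_comap.mp hq.ge
    obtain ⟨a, ha, h⟩ := hAc' _ (isPiHallOf_inf_normal (isPiHall_conj_smul hH g) A)
    refine ⟨a * g, ?_⟩
    rw [← conj_smul_conj_smul]
    refine le_inf (conj_smul_le_iff.mpr fun x hx =>
      mul_mem (mul_mem (hAB ha) (h1 hx)) (inv_mem (hAB ha))) ?_
    rw [← h, smul_inf, conj_smul_eq_self_iff.mpr (by rw [normalizer_eq_top]; exact mem_top a :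
      a ∈ normalizer (A : Set G))]
    intro x hx
    exact mem_normalizer_of_conj_mem fun y hy =>
      ⟨Subgroup.mul_mem _ (Subgroup.mul_mem _ hx hy.1) (Subgroup.inv_mem _ hx), Normal.conj_mem inferInstance _ hy.2 x⟩
  obtain ⟨H₀, hH₀⟩ := hsep.exists_isPiHall
  refine ⟨⟨H₀.map M.subtype, isPiHallOf_top_iff.mp (isPiHallOf_trans
    (isPiHallOf_map_subtype_iff.mpr hH₀) le_top (by rwa [relIndex_top_right]))⟩, fun H K hH hK => ?_⟩
  obtain ⟨g, hg⟩ := hred H hH
  obtain ⟨k, hk⟩ := hred K hK
  obtain ⟨m, hm⟩ := conj_of_sep hsep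
    ((isPiHallOf_iff_subgroupOf hg).mp (isPiHallOf_of_isPiHall (isPiHall_conj_smul hH g) hg))
    ((isPiHallOf_iff_subgroupOf hk).mp (isPiHallOf_of_isPiHall (isPiHall_conj_smul hK k) hk))
  have h1 := congrArg (Subgroup.map M.subtype) hm
  rw [map_conj_smul, map_subgroupOf_eq_of_le hg, map_subgroupOf_eq_of_le hk,
    conj_smul_conj_smul] at h1
  refine ⟨k⁻¹ * (M.subtype m * g), ?_⟩
  rw [← conj_smul_eq_map, ← conj_smul_conj_smul, h1, conj_smul_conj_smul, inv_mul_cancel, map_one,
    one_smul]

end Cfsg.Agent.S4310
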