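import Mathlib
import Cfsg.Statements.S4348
import Cfsg.Agent.Lib.FGS83.Syl
import Cfsg.Agent.Lib.Core.PCore

set_option autoImplicit false
open Cfsg

namespace Cfsg.Agent.S4348


/-- Let G be a finite group, p a prime and P a Sylow p-subgroup of G, and let O_p(G) be the largest normal p-subgroup of G. If P/O_p(G) is cyclic, then some element of p-power order of G lies in exactly one Sylow p-subgroup. -/
theorem result {G : Type*} [Group G] [Finite G]
    (p : ℕ) [Fact p.Prime] (P : Sylow p G)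
    [hn : ((Cfsg.pCore p G).subgroupOf (P : Subgroup G)).Normal]
    (hc : IsCyclic ((P : Subgroup G) ⧸ (Cfsg.pCore p G).subgroupOf (P : Subgroup G))) :
    ∃ x : G, (∃ k : ℕ, orderOf x = p ^ k) ∧ ∃! Q : Sylow p G, x ∈ Q := by
  obtain ⟨y, hy⟩ := hc.exists_generator
  obtain ⟨x, rfl⟩ := QuotientGroup.mk_surjective y
  have hO : ∀ Q : Sylow p G, Cfsg.pCore p G ≤ Q := fun Q =>
    H1.pCore_le_sylow Q
  refine ⟨x, H83.exists_orderOf_eq_pow_of_mem_sylow P x.2, P, x.2, fun Q hQ => ?_⟩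
  apply Sylow.ext
  apply P.is_maximal' Q.isPGroup'
  intro u hu
  obtain ⟨k, hk⟩ := Subgroup.mem_zpowers_iff.mp (hy (QuotientGroup.mk ⟨u, hu⟩))
  rw [← QuotientGroup.mk_zpow, QuotientGroup.eq, Subgroup.mem_subgroupOf] at hk
  have h1 := hO Q hk
  have h2 : u = (x : G) ^ k * ((x : G) ^ k)⁻¹ * u := by group
  have h3 : u = (x : G) ^ k * (((x : G) ^ k)⁻¹ * u) := by group
  rw [h3]
  exact Subgroup.mul_mem _ (Subgroup.zpow_mem _ hQ k) (by simpa using h1)

end Cfsg.Agent.S4348
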