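import Cfsg.Statements.S4349
import Mathlib
import Cfsg.Agent.Lib.H33.SylSym

set_option autoImplicit false
set_option linter.style.haveILetI false
open Cfsg

namespace Cfsg.Agent.S4349

/-- Let n ≥ 2 and let x be an element of 2-power order of the symmetric group of degree n. Then x lies in exactly one Sylow 2-subgroup if and only if x has at most two fixed points and the nontrivial cycles of x have pairwise different lengths. -/
theorem result (n : ℕ) (hn : 2 ≤ n)
    (x : Equiv.Perm (Fin n)) (hx : ∃ k : ℕ, orderOf x = 2 ^ k) :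
    (∃! P : Sylow 2 (Equiv.Perm (Fin n)), x ∈ P) ↔ (n ≤ x.support.card + 2 ∧ x.cycleType.Nodup) := by
  have : Fact (Nat.Prime 2) := ⟨Nat.prime_two⟩
  obtain ⟨k, hk⟩ := hx
  have hx : x ^ 2 ^ k = 1 := hk ▸ pow_orderOf_eq_one x
  have e := H33.SylSym.C_iff (x := x)
  rw [Fintype.card_fin] at e
  rw [← e]
  constructor
  · rintro ⟨S, -, hS⟩
    refine H33.SylSym.C.of_uniq hx S.isPGroup' fun P hP xP => ?_
    obtain ⟨Q, hQ⟩ := hP.exists_le_sylow
    exact hS Q (hQ xP) ▸ hQ
  · intro h
    have h2 : IsPGroup 2 (Subgroup.zpowers x) := IsPGroup.of_card (n := k) (by rw [Nat.card_zpowers, hk])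
    obtain ⟨S, hS⟩ := h2.exists_le_sylow
    have xS := hS (Subgroup.mem_zpowers x)
    refine ⟨S, xS, fun Q xQ => Sylow.ext ?_⟩
    have := H33.SylSym.sup _ _ rfl x hx h _ _ Q.isPGroup' S.isPGroup' xQ xS
    exact (Q.is_maximal' this le_sup_left).symm.trans (S.is_maximal' this le_sup_right)

end Cfsg.Agent.S4349
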