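import Mathlib
import Cfsg.Statements.S4351
import Cfsg.Agent.Base
import Cfsg.Agent.Lib.CIT.Mart3
import Cfsg.Agent.Lib.CIT.CTI

set_option autoImplicit false
open Cfsg

namespace Cfsg.Agent.S4351


/-- Let G be a finite non-solvable group in which the centralizer of every non-identity element is nilpotent. Then G is a non-abelian simple group; or G has a normal subgroup of index 2 isomorphic to PSL(2, 9); or G has a nontrivial normal elementary abelian 2-subgroup N such that G/N is isomorphic to PSL(2, q) for some q = 2ⁿ ≥ 4 or is a simple group of Suzuki type (simple, of the order of a Suzuki group). -/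
theorem result {G : Type*} [Group G] [Finite G] (hG : ¬ Group.IsSolvable G)
    (hCN : ∀ x : G, x ≠ 1 → Group.IsNilpotent (Subgroup.centralizer ({x} : Set G))) :
    (IsSimpleGroup G ∧ ¬ IsMulCommutative G) ∨
    (∃ (N : Subgroup G), N.Normal ∧ N.index = 2 ∧ ∃ (F : Type) (_ : Field F) (_ : Fintype F), Fintype.card F = 9 ∧
        Nonempty (N ≃* Matrix.ProjectiveSpecialLinearGroup (Fin 2) F)) ∨
    (∃ (N : Subgroup G) (_ : N.Normal), N ≠ ⊥ ∧ IsPGroup 2 N ∧ IsMulCommutative N ∧ (∀ x ∈ N, x * x = 1) ∧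
        ((∃ (F : Type) (_ : Field F) (_ : Fintype F), CharP F 2 ∧ 4 ≤ Fintype.card F ∧
            Nonempty (G ⧸ N ≃* Matrix.ProjectiveSpecialLinearGroup (Fin 2) F)) ∨ Cfsg.IsSuzuki (G ⧸ N))) := by
  have hC : H32.CIT G := H32.CN.cit' hG hCN
  by_cases hO : Cfsg.pCore 2 G = ⊥
  · rcases hC.gen1 hO hG with ⟨h1, a, b, h2⟩ | h
    · exact .inl ⟨h1, fun h => h2 (h.1.1 a b)⟩
    · exact .inr (.inl h)
  have h2 : IsPGroup 2 (Cfsg.pCore 2 G) := H1.isPGroup_pCore
  have hf : ∀ x : G, x ≠ 1 → Odd (orderOf x) → ∀ q ∈ Cfsg.pCore 2 G, q * x = x * q → q = 1 :=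
    fun x h1 ho q hq e => hC.fpf h2 hq ho h1 e
  refine .inr (.inr ⟨Cfsg.pCore 2 G, inferInstance, hO, h2, ?_⟩)
  rcases (hC.gen2 hO hG).2 with ⟨F, _, _, ⟨n, hn, hF⟩, ⟨e⟩⟩ | h
  · have : CharP F 2 := charP_of_card_eq_prime_pow (p := 2) hF
    have h4 : 4 ≤ Fintype.card F := hF ▸ Nat.pow_le_pow_right (n := 2) two_pos hn
    have : Fact (Nat.Prime 3) := ⟨Nat.prime_three⟩
    obtain ⟨x, hx⟩ := exists_prime_orderOf_dvd_card' (G := G) 3 ((H32.three_dvd_card_psl2 F).trans
      (by rw [← Nat.card_congr e.toEquiv]; exact Subgroup.card_quotient_dvd_card _))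
    have := (H32.higman (π := (e.trans (H64.SL2.projEquiv CharTwo.two_eq_zero).symm).toMonoidHom.comp
      (QuotientGroup.mk' _)) (by rwa [Nat.card_eq_fintype_card])
      ((e.trans (H64.SL2.projEquiv CharTwo.two_eq_zero).symm).surjective.comp
        (QuotientGroup.mk'_surjective _)) (by ext; simp) h2 hx
      fun q hq e => hf x (by rintro rfl; simp at hx) (by rw [hx]; decide) q hq
        (mul_inv_eq_iff_eq_mul.1 e).symm).1
    exact ⟨this.1, fun x hx => by rw [← sq, this.2 x hx], .inl ⟨F, _, _, ‹_›, h4, ⟨e⟩⟩⟩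
  · obtain ⟨F, _, _, m, _, ⟨S⟩⟩ := H32.exists_model h
    have h1 := QuotientGroup.mk'_surjective (Cfsg.pCore 2 G)
    have h3 := QuotientGroup.ker_mk' (Cfsg.pCore 2 G)
    have hc := H32.martineau_comm S h1 h3 h2 hf
    exact ⟨⟨⟨fun a b => Subtype.ext (commutatorElement_eq_one_iff_mul_comm.1
      (Subgroup.mem_bot.1 (hc ▸ Subgroup.commutator_mem_commutator a.2 b.2)))⟩⟩,
      fun x hx => H32.martineau_sq S h1 h3 h2 hf hx, .inr (H14.SuzSE.isSuzuki_of_iso h)⟩

end Cfsg.Agent.S4351
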