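import Cfsg.Statements.S4359
import Cfsg.Agent.Lib.Misc92.SimsChain
-- import your own Cfsg.Agent.* helpers here

set_option autoImplicit false
open Pointwise
open Cfsg

namespace Cfsg.Agent.S4359

/-- Let P be a subgroup of a finite group G and g an element such that P ∩ g⁻¹Pg is a normal subgroup of prime index p in g⁻¹Pg. Let n ≥ 1 and let K be the subgroup generated by P and its conjugates g⁻ⁱPgⁱ for i ≤ n. Suppose that g normalizes no non-identity normal subgroup of P and that P meets the center of K trivially. Then the order of P is pᵗ for some t with 1 ≤ t ≤ 3n and t ≠ 3n - 1. -/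
theorem result {G : Type*} [Group G] [Finite G]
    (P : Subgroup G) (g : G) (p : ℕ) (hp : p.Prime)
    (hN : ((P ⊓ MulAut.conj g⁻¹ • P).subgroupOf (MulAut.conj g⁻¹ • P)).Normal)
    (hidx : (P ⊓ MulAut.conj g⁻¹ • P).relIndex (MulAut.conj g⁻¹ • P) = p)
    (n : ℕ) (hn : 1 ≤ n) (K : Subgroup G) (hK : K = ⨆ i ∈ Finset.range (n + 1), MulAut.conj (g ^ i)⁻¹ • P)
    (h1 : ∀ Q : Subgroup G, Q ≤ P → (Q.subgroupOf P).Normal → MulAut.conj g • Q = Q → Q = ⊥)
    (h2 : P ⊓ (Subgroup.center K).map K.subtype = ⊥) :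
    ∃ t : ℕ, Nat.card P = p ^ t ∧ 1 ≤ t ∧ t ≤ 3 * n ∧ t ≠ 3 * n - 1 := by
  have : Fact p.Prime := ⟨hp⟩
  obtain ⟨t, x, X, h⟩ := H92.exists_sChain (σ := MulAut.conj g⁻¹) (P := P) hp
    ((Subgroup.normal_subgroupOf_iff_le_normalizer inf_le_right).1 hN) hidx (fun Q hQ hn e => h1 Q hQ
      (Subgroup.normal_subgroupOf_of_le_normalizer hn) (by
        conv_lhs => rw [← e]
        rw [smul_smul, ← map_mul, mul_inv_cancel, map_one, one_smul]))
  have hle : ∀ i : ℕ, i ≤ n → MulAut.conj g⁻¹ ^ (i : ℤ) • P ≤ K := fun i hi => by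
    rw [hK, zpow_natCast, ← map_pow, inv_pow]
    exact le_iSup₂_of_le i (Finset.mem_range.2 (by omega)) le_rfl
  have h3 := h.params (n := n) fun z hz hc => by
    have hzK : z ∈ K := hle 0 n.zero_le (by simpa using hz)
    have hK' : K ≤ Subgroup.centralizer {z} := by
      rw [hK]
      refine iSup₂_le fun i hi y hy => Subgroup.mem_centralizer_singleton_iff.2
        (hc i (by simpa [Nat.lt_succ_iff] using hi) y ?_)
      rwa [zpow_natCast, ← map_pow, inv_pow]
    have : z ∈ P ⊓ (Subgroup.center K).map K.subtype := ⟨hz, ⟨z, hzK⟩, Subgroup.mem_center_iff.2 fun y =>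
      Subtype.ext (Subgroup.mem_centralizer_singleton_iff.1 (hK' y.2)), rfl⟩
    rwa [h2] at this
  have h4 := h.pos
  refine ⟨t, h.card_P, h4, ?_⟩
  rcases h3 with h3 | ⟨u, -, -, -, -, h5, h6⟩ <;> omega

end Cfsg.Agent.S4359
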