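import Mathlib
import Cfsg.Statements.S4363
import Cfsg.Agent.Lib.FGS83.TurH

set_option autoImplicit false
open Cfsg

namespace Cfsg.Agent.S4363


/-- Let G be a finite solvable group and σ an automorphism of G of prime order r not dividing the order of G, with fixed-point subgroup C. Then the Fitting height of G exceeds that of C by at most 2: if C has a chain of normal subgroups 1 = C₀ ≤ ⋯ ≤ Cₙ = C with nilpotent factors, then G has such a chain of length n + 2. -/
theorem result {G : Type*} [Group G] [Finite G]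
    (hG : Group.IsSolvable G) (σ : MulAut G) (r : ℕ) (hr : r.Prime) (hσ : orderOf σ = r) (hcop : ¬ r ∣ Nat.card G)
    (C : Subgroup G) (hC : ∀ g : G, g ∈ C ↔ σ g = g) (n : ℕ) (hn : (∃ F : Fin (n + 1) → Subgroup ↥C, F 0 = ⊥ ∧ F (Fin.last n) = ⊤ ∧ Monotone F ∧ (∀ i, (F i).Normal) ∧ ∀ i : Fin n, ∃ k : ℕ, (F i.succ).lowerCentralSeries k ≤ F i.castSucc)) :
    (∃ F : Fin ((n + 2) + 1) → Subgroup G, F 0 = ⊥ ∧ F (Fin.last (n + 2)) = ⊤ ∧ Monotone F ∧ (∀ i, (F i).Normal) ∧ ∀ i : Fin (n + 2), ∃ k : ℕ, (F i.succ).lowerCentralSeries k ≤ F i.castSucc) := by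
  obtain ⟨F, h0, h1, -, -, h2⟩ := hn
  have h3 := H83.lowFit_eq_bot_of_chain F h0 h1 h2
  let φ := (Subgroup.zpowers σ).subtype
  have hc : Nat.card (⊤ : Subgroup (Subgroup.zpowers σ)) = r := by
    rw [Subgroup.card_top, Nat.card_zpowers, hσ]
  have e : C = ⊤ ⊓ H2.fixSub φ ⊤ := by
    ext g
    rw [hC, top_inf_eq, H2.mem_fixSub_top]
    refine ⟨fun h a => ?_, fun h => h ⟨σ, Subgroup.mem_zpowers σ⟩⟩
    exact (Subgroup.zpowers_le (H := MulAction.stabilizer (MulAut G) g)).2 h a.2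
  have h4 : H83.lowFit C n = ⊥ := by
    have := H83.map_lowFit (⊤ : Subgroup C) C.subtype n
    rw [h3, Subgroup.map_bot, ← MonoidHom.range_eq_map, Subgroup.range_subtype] at this
    exact this.symm
  have h5 := H83.lowFit_add_two (X := H2.sdL φ ⊤) (B := H2.sdR φ ⊤) (n := n)
    (H1.isSolvable_map inferInstance _) (by rw [H2.card_sdR, hc]; exact hr)
    (H2.sdR_le_normalizer_top _) (H2.sd_coprime (by
      rw [hc, Subgroup.card_top]; exact (Nat.Prime.coprime_iff_not_dvd hr).2 hcop)) (by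
      rw [← H2.sdL_inf_fixSub, ← e, ← H83.map_lowFit, h4, Subgroup.map_bot])
  rw [← H83.map_lowFit, Subgroup.map_eq_bot_iff_of_injective _ SemidirectProduct.inl_injective] at h5
  exact H83.exists_chain_of_lowFit_eq_bot h5

end Cfsg.Agent.S4363
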