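import Cfsg.Statements.S4385
import Cfsg.Agent.Lib.Misc92.DihCore
-- import your own Cfsg.Agent.* helpers here

set_option autoImplicit false
open Pointwise
open Cfsg

namespace Cfsg.Agent.S4385

section
open Subgroup H69 H92
open scoped commutatorElement

theorem six_false {G : Type*} [Group G] [Finite G] {σ : MulAut G} {P H : Subgroup G} {x : ℤ → G}
    {X : ℤ → ℤ → Subgroup G} (h : SChain σ P 2 6 x X) (hH : H ≤ X (-5) 0 ⊔ X (-4) 1)
    (hc : ∀ i j : ℤ, i - j < (4 : ℕ) → j - i < (4 : ℕ) → Commute (x i) (x j))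
    (hn : ∀ i j : ℤ, j = i + (4 : ℕ) → ¬ Commute (x i) (x j)) {g : G} (hg : g ∈ H)
    (hX : X (-5) (-1) ^ᶜ g = X (-3) 1) : False := by
  have : Fact (Nat.Prime 2) := ⟨Nat.prime_two⟩
  have hR : X (-4) (-1) = X (-5) (-1) ⊓ X (-4) 0 :=
    le_antisymm (le_inf (h.mono (by omega) le_rfl (by omega)) (h.mono le_rfl (by omega) (by omega)))
      (h.inf (by omega))
  have h1 : X (-5) 0 ≤ 𝐍(X (-4) (-1)) := by
    rw [hR]
    exact le_normalizer_inf (h.norm_right (a := -5) (b := 0) (by omega) (by omega))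
      (h.norm_left (a := -5) (b := 0) (by omega) (by omega))
  have h2 : ∀ i : ℤ, -4 ≤ i → i ≤ -1 → ⁅x i, x 1⁆ ∈ X (-4) (-1) := by
    intro i a b
    rcases (show i = -4 ∨ i = -3 ∨ -2 ≤ i by omega) with rfl | rfl | c
    · have hw := h.comm_mem (a := -4) (b := 1) (by omega) (by omega)
      refine h.mono (a := -4) (c := -4 + 1) (by omega) (by omega) (by omega)
        (h.mem_right (by omega) (by omega) (M := centralizer {x (-4)})
        (h.le_cent (by omega) fun i u v => hc _ _ (by omega) (by omega))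
        (fun e => hn (-4) _ (by omega) (mem_centralizer_singleton_iff.1 e).symm) hw ?_)
      have hea : IsElementaryAbelian 2 (X (-4 + 1) (1 - 1)) := by
        refine H24.EA.mono (H24.EA.closure (s := {y | ∃ i : ℤ, -3 ≤ i ∧ i ≤ 0 ∧ y = x i}) ?_ ?_)
          (h.gen (by omega) fun i u v => subset_closure ⟨i, u, v, rfl⟩)
        · rintro _ ⟨i, a, b, rfl⟩ _ ⟨j, c, d, rfl⟩
          exact hc _ _ (by omega) (by omega)
        · rintro _ ⟨i, -, -, rfl⟩
          exact h.pow_eq_one i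
      have e1 := H24.EA.pow_eq_one hea hw
      have e2 := h.pow_eq_one (-4)
      rw [sq] at e1 e2
      rw [mem_centralizer_singleton_iff]
      have e3 : (x (-4))⁻¹ = x (-4) := inv_eq_of_mul_eq_one_right e2
      have e4 : ⁅x (-4), x 1⁆⁻¹ = ⁅x (-4), x 1⁆ := inv_eq_of_mul_eq_one_right e1
      calc ⁅x (-4), x 1⁆ * x (-4) = ⁅x (-4), x 1⁆⁻¹ * x (-4) := by rw [e4]
        _ = x 1 * x (-4) * (x 1)⁻¹ := by rw [commutatorElement_def]; group
        _ = (x (-4) * x (-4)) * x 1 * x (-4) * (x 1)⁻¹ := by rw [e2, one_mul]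
        _ = x (-4) * ⁅x (-4), x 1⁆ := by rw [commutatorElement_def, e3]; group
    · have := h.mem_shift (-3) (h.gap_mem (u := 4) (by omega) (by omega) hc hn).1
      rw [map_commutatorElement, h.shift, h.shift] at this
      exact h.mono (by omega) (by omega) (by omega) this
    · rw [commutatorElement_eq_one_iff_commute.2 (hc _ _ (by omega) (by omega))]
      exact one_mem _
  have h3 : x 1 ∈ 𝐍(X (-4) (-1)) := by
    refine mem_normalizer_of_cj_le (map_le_iff_le_comap.2 (h.gen (by omega) fun i a b => ?_))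
    change x 1 * x i * (x 1)⁻¹ ∈ X (-4) (-1)
    rw [show x 1 * x i * (x 1)⁻¹ = ⁅x i, x 1⁆⁻¹ * x i by rw [commutatorElement_def]; group]
    exact mul_mem (inv_mem (h2 i a b)) (h.mem a b)
  have h4 : H ≤ 𝐍(X (-4) (-1)) := hH.trans (sup_le h1 (h.gen (by omega) fun i a b => by
    rcases b.eq_or_lt with rfl | b
    · exact h3
    · exact h1 (h.mem (by omega) (by omega))))
  have h5 : X (-4) (-1) ≤ X (-3) 1 := by
    rw [← cj_eq_of_mem_normalizer (h4 hg), ← hX]
    exact cj_mono g (h.mono (by omega) le_rfl (by omega))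
  have h6 := h.inf (a := -4) (b := -4) (c := -3) (d := 1) (by omega)
    ⟨h.mem le_rfl le_rfl, h5 (h.mem le_rfl (by omega))⟩
  rw [h.bot (by omega)] at h6
  exact h.ne_one _ h6

end

/-- Let H be a subgroup of a finite group G whose largest normal 2-subgroup O_2(H) is nontrivial and such that H/O_2(H) is a dihedral group of order at least 4. Let P be a Sylow 2-subgroup of H and S a Sylow 2-subgroup of G containing P. Suppose y ∈ S lies outside P, normalizes P, has y² in the product of P with the centralizer of P in G, and normalizes no non-identity normal subgroup of H contained in P. Then P has order 4, 8 or 16, and H modulo its largest normal subgroup of odd order is isomorphic to the four-group, to the symmetric group of degree 4, or to the direct product of the symmetric group of degree 4 with a group of order 2. -/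
theorem result {G : Type*} [Group G] [Finite G]
    (H : Subgroup G) (hO : Cfsg.pCore 2 ↥H ≠ ⊥) (n : ℕ) (hn : 2 ≤ n) (hdih : Nonempty (↥H ⧸ Cfsg.pCore 2 ↥H ≃* DihedralGroup n))
    (P : Subgroup G) (hPH : P ≤ H) (hP : IsPGroup 2 P) (hPsyl : ¬ 2 ∣ P.relIndex H)
    (S : Sylow 2 G) (hPS : P ≤ (S : Subgroup G)) (y : G) (hyS : y ∈ (S : Subgroup G)) (hyP : y ∉ P)
    (hy2 : y ^ 2 ∈ P ⊔ Subgroup.centralizer (P : Set G)) (hyN : MulAut.conj y • P = P)
    (hyQ : ∀ Q : Subgroup G, Q ≤ P → (Q.subgroupOf H).Normal → MulAut.conj y • Q = Q → Q = ⊥) :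
    (Nat.card P = 4 ∨ Nat.card P = 8 ∨ Nat.card P = 16) ∧
    (Nonempty (↥H ⧸ Cfsg.oddCore ↥H ≃* Multiplicative (ZMod 2) × Multiplicative (ZMod 2)) ∨
     Nonempty (↥H ⧸ Cfsg.oddCore ↥H ≃* Equiv.Perm (Fin 4)) ∨
     Nonempty (↥H ⧸ Cfsg.oddCore ↥H ≃* Equiv.Perm (Fin 4) × Multiplicative (ZMod 2))) := by
  open Subgroup H69 H92 in
  have : Fact (Nat.Prime 2) := ⟨Nat.prime_two⟩
  obtain ⟨e⟩ := hdih
  set S₀ := P.subgroupOf H with hS₀
  have hS₀p : IsPGroup 2 S₀ := hP.comap_subtype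
  obtain ⟨hsol, hQS, hcard, h₀, hinf, hsup⟩ := H92.dih_facts hn e hS₀p hPsyl
  set Q := (Cfsg.pCore 2 H).map H.subtype with hQ
  have hmS : S₀.map H.subtype = P := map_subgroupOf_eq_of_le hPH
  have hyP' : P ^ᶜ y = P := hyN
  set σ := MulAut.conj ((h₀ : G) * y) with hσ
  have hσP : σ • P = P ^ᶜ (h₀ : G) := by rw [hσ, smul_eq_cj, ← cj_cj, hyP']
  have hinf' : P ⊓ σ • P = Q := by
    rw [hσP, hQ, ← hinf, Subgroup.map_inf _ _ _ H.subtype_injective, map_subtype_cj, hmS]
  have hsup' : P ⊔ σ • P = H := by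
    rw [hσP, ← hmS, ← map_subtype_cj, ← Subgroup.map_sup, hsup, H24.map_top_subtype]
  have hHQ : H ≤ 𝐍(Q) := H2.le_normalizer_map_subtype_of_characteristic le_normalizer _
  have hcP : Nat.card P = Nat.card Q * 2 := by
    rw [← H24.card_subgroupOf_of_le hPH, hQ, H24.card_map_subtype, hcard]
  have hQP : Q ≤ P := hinf' ▸ inf_le_left
  obtain ⟨t, x, X, h⟩ := exists_sChain (σ := σ) (P := P) Nat.prime_two
    (by rw [hinf']; exact (le_sup_right.trans hsup'.le).trans hHQ)
    (SChain.relIndex_eq inf_le_right (by rw [hinf', card_mulAut_smul, hcP])) (fun N hN hn hNσ => by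
      have h1 : H ≤ 𝐍(N) := by
        rw [← hsup']
        refine sup_le hn ?_
        rw [← hNσ, ← smul_normalizer']
        exact pointwise_smul_le_pointwise_smul_iff.2 hn
      refine hyQ N hN (normal_subgroupOf_of_le_normalizer h1) ?_
      rw [hσ, smul_eq_cj, ← cj_cj, cj_eq_iff, cj_eq_of_mem_normalizer (h1 (H.inv_mem h₀.2))] at hNσ
      exact hNσ)
  have hcen : ∀ z : G, (∀ a ∈ P, Commute a z) → (∀ a ∈ σ • P, Commute a z) → ∀ a ∈ H, Commute a z :=
    fun z h1 h2 a ha => mem_centralizer_singleton_iff.1 ((hsup'.ge.trans (sup_le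
      (fun a ha => mem_centralizer_singleton_iff.2 (h1 a ha))
      fun a ha => mem_centralizer_singleton_iff.2 (h2 a ha)) : H ≤ centralizer {z}) ha)
  have hpar := h.params (n := 2) fun z hz hc => by
    have c0 : ∀ a ∈ H, Commute a z := hcen z (fun a ha => hc 0 (by omega) a (by simpa using ha))
      fun a ha => hc 1 (by omega) a (by simpa using ha)
    have c1 : ∀ a ∈ H, Commute a (σ⁻¹ z) := by
      refine hcen _ (fun a ha => ?_) fun a ha => ?_
      · simpa using (hc 1 (by omega) (σ a) (by simpa using smul_mem_pointwise_smul a σ _ ha)).map σ⁻¹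
      · have : σ a ∈ σ ^ ((2 : ℕ) : ℤ) • P := by
          rw [show ((2 : ℕ) : ℤ) = 1 + 1 from rfl, zpow_add, zpow_one, mul_smul]
          exact smul_mem_pointwise_smul a σ _ ha
        simpa using (hc 2 (by omega) (σ a) this).map σ⁻¹
    have hzQ : z ∈ Q := by
      have hn : (zpowers (⟨z, hPH hz⟩ : H)).Normal := ⟨fun a ha g => by
        have : Commute g a := by
          obtain ⟨k, rfl⟩ := ha
          exact Commute.zpow_right (Subtype.ext (c0 g g.2).eq) k
        rwa [this.eq, mul_inv_cancel_right]⟩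
      exact ⟨⟨z, hPH hz⟩, H1.le_pCore (hS₀p.to_le (zpowers_le.2 hz)) (mem_zpowers _), rfl⟩
    have hz' : σ⁻¹ z ∈ P := mem_pointwise_smul_iff_inv_smul_mem.1 (hinf'.ge hzQ).2
    set Z := P ⊓ 𝐂(H) ⊓ 𝐂(H ^ᶜ y⁻¹) with hZ
    have hZ1 : Z = ⊥ := by
      refine hyQ Z (inf_le_left.trans inf_le_left) (normal_subgroupOf_of_le_normalizer
        (le_normalizer_of_le_centralizer (le_centralizer_iff.1 (inf_le_left.trans inf_le_right))))
        (cj_eq_of_cj_le ?_)
      rintro _ ⟨w, ⟨⟨w1, w2⟩, w3⟩, rfl⟩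
      change y * w * y⁻¹ ∈ Z
      refine ⟨⟨hyP' ▸ cj_mem y w1, ?_⟩, ?_⟩
      · have := cj_mem y w3
        rwa [cj_centralizer, cj_inv_cj] at this
      · have h1 : y ^ 2 ∈ centralizer {w} := (sup_le (fun a ha => mem_centralizer_singleton_iff.2
          (mem_centralizer_iff_commute.1 w2 a (hPH ha))) fun a ha => mem_centralizer_singleton_iff.2
            (mem_centralizer_iff_commute.1 ha w w1).symm : P ⊔ 𝐂(P) ≤ _) hy2
        have h2 : y * w * y⁻¹ = y⁻¹ * w * y⁻¹⁻¹ := by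
          rw [mem_centralizer_singleton_iff, sq] at h1
          calc y * w * y⁻¹ = y⁻¹ * (y * y * w) * y⁻¹ := by group
            _ = _ := by rw [h1]; group
        rw [h2, ← cj_centralizer]
        exact cj_mem _ w2
    have : σ⁻¹ z ∈ Z := by
      refine ⟨⟨hz', mem_centralizer_iff_commute.2 c1⟩, ?_⟩
      have h1 : z ∈ 𝐂(H) := mem_centralizer_iff_commute.2 c0
      have h2 := cj_mem ((h₀ : G) * y)⁻¹ h1
      rw [cj_centralizer, mul_inv_rev, ← cj_cj, cj_eq_of_mem (H.inv_mem h₀.2), ← mul_inv_rev] at h2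
      rw [hσ, ← map_inv]
      exact h2
    rw [hZ1, mem_bot] at this
    simpa using congrArg σ this
  have hP0 : P = X (-t + 1) 0 := by simpa using h.top 0
  have hP1 : σ • P = X (-t + 2) 1 := by
    have := h.top 1
    rwa [zpow_one, show (1 : ℤ) - t + 1 = -t + 2 by ring] at this
  have hQX : Q = X (-t + 2) 0 := by
    rw [← hinf', hP1]
    refine le_antisymm ((inf_le_inf_right _ hP0.le).trans (h.inf (by omega))) (le_inf ?_ ?_)
    · exact (h.mono (by omega) le_rfl (by omega)).trans hP0.ge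
    · exact h.mono le_rfl (by omega) (by omega)
  have hxH : ∀ i : ℤ, -t + 1 ≤ i → i ≤ 1 → x i ∈ H := fun i a b => by
    rcases b.eq_or_lt with rfl | b
    · exact hsup'.le (mem_sup_right (hP1.ge (h.mem (by have := h.pos; omega) le_rfl)))
    · exact hPH (hP0.ge (h.mem a (by omega)))
  have hmQ : ∀ w : H, w ∈ Cfsg.pCore 2 H ↔ (w : G) ∈ X (-t + 2) 0 := fun w => by
    rw [← hQX, hQ]
    exact (mem_map_iff_mem H.subtype_injective).symm
  have hcQ : Nat.card (Cfsg.pCore 2 H) * 2 = 2 ^ t := by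
    rw [← hcard, H24.card_subgroupOf_of_le hPH, h.card_P]
  have hcent : ∀ i : ℤ, (∀ j : ℤ, -t + 1 ≤ j → j ≤ 1 → Commute (x j) (x i)) → ∀ a ∈ H, Commute a (x i) :=
    fun i hi => hcen _ (fun a ha => h.comm_of (by omega) (hP0.le ha) fun j u v => hi j u (by omega))
      fun a ha => h.comm_of (by omega) (hP1.le ha) fun j u v => hi j (by omega) v
  have hea : ∀ a b : ℤ, b - a < t → (∀ i j : ℤ, a ≤ i → i ≤ b → a ≤ j → j ≤ b → Commute (x i) (x j)) →
      Cfsg.IsElementaryAbelian 2 (X a b) := fun a b hab hc => by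
    refine H24.EA.mono (H24.EA.closure (s := {y | ∃ i : ℤ, a ≤ i ∧ i ≤ b ∧ y = x i}) ?_ ?_)
      (h.gen hab fun i u v => subset_closure ⟨i, u, v, rfl⟩)
    · rintro _ ⟨i, a, b, rfl⟩ _ ⟨j, c, d, rfl⟩
      exact hc _ _ a b c d
    · rintro _ ⟨i, -, -, rfl⟩
      exact h.pow_eq_one i
  rw [h.card_P]
  rcases hpar with ⟨ht, hc⟩ | ⟨u, hu0, hut, hc, hnc, h5, h6⟩
  · have ht2 : t = 2 := by
      by_contra h2
      have h3 := h.pos
      rw [show t = 1 by omega] at hcQ
      exact hO (eq_bot_of_card_le _ (by omega))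
    subst ht2
    refine ⟨Or.inl rfl, Or.inl (dih_klein hS₀p hPsyl hQS hcard hsup (fun w hw => ?_) ?_ fun s hs => ?_)⟩
    · refine mem_center_iff.2 fun a => Subtype.ext (h.comm_of (by omega) ((hmQ w).1 hw) fun i u v => ?_).symm
      exact (hcent i (fun j u' v' => hc _ _ (by omega) (by omega)) a a.2).symm
    · rw [H24.card_subgroupOf_of_le hPH, h.card_P]; rfl
    · exact Subtype.ext (H24.EA.pow_eq_one (hea _ _ (by omega) fun i j a b c d =>
        hc _ _ (by omega) (by omega)) (hP0.le hs))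
  have hz : ∀ ht : 2 ≤ t, t ≤ u + 1 → (⟨x (-t + 2), hxH _ (by omega) (by omega)⟩ : H) ∈ Cfsg.pCore 2 H ∧
      (∀ s ∈ S₀, Commute (⟨x (-t + 2), hxH _ (by omega) (by omega)⟩ : H) s) ∧
      ¬ Commute (⟨x (-t + 2), hxH _ (by omega) (by omega)⟩ : H) ⟨x 1, hxH _ (by omega) le_rfl⟩ ∧
      Cfsg.IsElementaryAbelian 2 (Cfsg.pCore 2 H) := fun ht hu => by
    refine ⟨(hmQ _).2 (h.mem le_rfl (by omega)), fun s hs => Subtype.ext
      (h.comm_of (by omega) (hP0.le hs) fun i a b => hc _ _ (by omega) (by omega)).symm,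
      fun e => hnc (-t + 2) 1 (by omega) (congrArg Subtype.val e), ?_⟩
    rw [← H24.EA.map_iff H.subtype_injective, ← hQ, hQX]
    exact hea _ _ (by omega) fun i j a b c d => hc _ _ (by omega) (by omega)
  rcases (show (t = 3 ∧ u = 2) ∨ (t = 4 ∧ u = 3) ∨ (t = 6 ∧ u = 4) by omega) with
    ⟨rfl, rfl⟩ | ⟨rfl, rfl⟩ | ⟨rfl, rfl⟩
  · obtain ⟨z1, z2, z3, z4⟩ := hz (by omega) (by omega)
    refine ⟨Or.inr (Or.inl rfl), Or.inr (Or.inl (dih_four hS₀p hPsyl hQS hcard hsup z1 z2 z3 z4 (by omega)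
      fun w hw hw' => Subtype.ext ?_))⟩
    have w0 := (hmQ w).1 hw
    have w1 := h.mem_right (by omega) (by omega) (M := centralizer {x (-2)})
      (h.le_cent (by omega) fun i a b => hc _ _ (by omega) (by omega))
      (fun e => hnc (-2) 0 (by omega) (mem_centralizer_singleton_iff.1 e).symm) w0
      (mem_centralizer_singleton_iff.2 (congrArg Subtype.val (hw' ⟨x (-2), hxH _ (by omega) (by omega)⟩)))
    have w2 := h.mem_left (by omega) (by omega) (M := centralizer {x 1})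
      (h.le_cent (by omega) fun i a b => hc _ _ (by omega) (by omega))
      (fun e => hnc _ 1 (by omega) (mem_centralizer_singleton_iff.1 e)) w0
      (mem_centralizer_singleton_iff.2 (congrArg Subtype.val (hw' ⟨x 1, hxH _ (by omega) (by omega)⟩)))
    have w3 := h.inf (by omega) ⟨w1, w2⟩
    rwa [h.bot (by omega)] at w3
  · obtain ⟨z1, z2, z3, z4⟩ := hz (by omega) (by omega)
    refine ⟨Or.inr (Or.inr rfl), Or.inr (Or.inr (dih_eight hS₀p hPsyl hQS hcard hsup z1 z2 z3 z4 (by omega)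
      (w := ⟨x (-1), hxH _ (by omega) (by omega)⟩) (x := ⟨x (-3), hxH _ (by omega) (by omega)⟩)
      (v := ⟨x 0, hxH _ (by omega) (by omega)⟩) ((hmQ _).2 (h.mem (by omega) (by omega)))
      (fun e => h.ne_one _ (congrArg Subtype.val e)) (mem_center_iff.2 fun a => Subtype.ext
        (hcent _ (fun j u v => hc _ _ (by omega) (by omega)) a a.2)) (Subtype.ext (h.pow_eq_one _))
      ((hmQ _).2 (h.mem (by omega) (by omega)))
      fun e => hnc (-3) 0 (by omega) (congrArg Subtype.val e).symm))⟩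
  · refine (six_false h (H := H) (by rw [← hsup', hP1]; exact sup_le_sup_right hP0.le _) hc hnc h₀.2 ?_).elim
    have e1 : σ ^ (-1 : ℤ) • Q = X (-5) (-1) := by rw [hQX, h.shiftX]; rfl
    have e2 : σ ^ (1 : ℤ) • Q = X (-3) 1 := by rw [hQX, h.shiftX]; rfl
    have e3 : Q ^ᶜ y⁻¹ = Q ^ᶜ y := by
      rw [cj_eq_iff, inv_inv, cj_cj, ← sq, eq_comm, cj_eq_self_iff]
      exact (sup_le (hPH.trans hHQ) (le_normalizer_of_le_centralizer (centralizer_anti hQP)) :
        P ⊔ 𝐂(P) ≤ _) hy2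
    rw [← e1, ← e2, zpow_neg, zpow_one, hσ, ← map_inv, smul_eq_cj, smul_eq_cj, mul_inv_rev, ← cj_cj,
      cj_eq_of_mem_normalizer (hHQ (H.inv_mem h₀.2)), e3, cj_cj]

end Cfsg.Agent.S4385
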