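import Mathlib
import Cfsg.Statements.S4394
import Cfsg.Agent.Lib.FGS.Reduced
import Cfsg.Agent.Lib.FGS.HHFpf
import Cfsg.Agent.Lib.FGS.NilpCover
import Cfsg.Agent.Lib.Core.CoprimeAbelian
import Cfsg.Agent.Lib.PGroup.Frattini
import Cfsg.Agent.Lib.PGroup.Commutator
-- import your own Cfsg.Agent.* helpers here

set_option autoImplicit false
open Cfsg

namespace Cfsg.Agent.S4394

open H76 H46 Subgroup Module
open scoped commutatorElement

/-- A minimal coprime automorphism of prime order. -/
structure MinAut (p q : ℕ) {P : Type*} [Group P] (α : MulAut P) : Prop where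
  pgrp : IsPGroup p P
  prime : q.Prime
  ne : q ≠ p
  ord : orderOf α = q
  min : ∀ T : Subgroup P, T ≠ ⊤ → (∀ x ∈ T, α x ∈ T) → ∀ x ∈ T, α x = x

theorem exists_minAut {X : Type*} [Group X] [Finite X] {p : ℕ} [hp : Fact p.Prime]
    (hX : IsMinimalNonNilpotent X) (P : Sylow p X) [hPn : (P : Subgroup X).Normal]
    (hP1 : (P : Subgroup X) ≠ ⊥) : ∃ (q : ℕ) (α : MulAut (P : Subgroup X)), MinAut p q α := by
  obtain ⟨K, hK⟩ := exists_right_complement'_of_coprime P.card_coprime_index
  have hK1 : K ≠ ⊤ := by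
    rintro rfl
    exact hP1 (by simpa using hK.disjoint)
  have hKc : (Nat.card K).Coprime p := by
    rw [← hK.symm.index_eq_card]
    exact ((Nat.Prime.coprime_iff_not_dvd hp.out).2 P.not_dvd_index).symm
  obtain ⟨y, hyK, hy⟩ : ∃ y ∈ K, y ∉ centralizer ((P : Subgroup X) : Set X) := by
    by_contra! h
    have h1 : (P : Subgroup X) ≤ normalizer (K : Set X) :=
      (le_centralizer_iff.1 h).trans (centralizer_le_normalizer _)
    have h2 := H1.isNilpotent_sup_of_le_normalizer h1 le_normalizer_of_normal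
      P.isPGroup'.isNilpotent (hX.2 K hK1)
    rw [hK.sup_eq_top] at h2
    exact hX.1 (Group.nilpotent_of_mulEquiv topEquiv)
  set β : MulAut (P : Subgroup X) := MulAut.conjNormal y with hβ
  have hβ1 : orderOf β ≠ 1 := fun h => hy fun x hx => by
    have := congrArg Subtype.val (MulEquiv.congr_fun (orderOf_eq_one_iff.1 h) ⟨x, hx⟩)
    simp only [hβ, MulAut.conjNormal_apply, MulAut.one_apply] at this
    exact (mul_inv_eq_iff_eq_mul.1 this).symm
  obtain ⟨q, hq, m, hm⟩ := Nat.exists_prime_and_dvd hβ1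
  have hyc : (orderOf y).Coprime p := hKc.coprime_dvd_left (H1.orderOf_dvd_card_of_mem hyK)
  have hm0 : m ≠ 0 := by rintro rfl; exact (orderOf_pos β).ne' hm
  refine ⟨q, β ^ m, P.isPGroup', hq, ?_, ?_, fun T hT hinv x hx => ?_⟩
  · rintro rfl
    exact (Nat.Prime.coprime_iff_not_dvd hq).1 hyc.symm
      ((Dvd.intro _ hm.symm).trans (orderOf_map_dvd _ y))
  · rw [orderOf_pow' _ hm0, hm, Nat.gcd_mul_left_left, Nat.mul_div_cancel _ (Nat.pos_of_ne_zero hm0)]
  · have hc : (orderOf (y ^ m)).Coprime p := hyc.coprime_dvd_left (orderOf_pow_dvd m)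
    have hα : ∀ x : (P : Subgroup X), ((β ^ m) x : X) = y ^ m * x * (y ^ m)⁻¹ := fun x => by
      rw [hβ, ← map_pow, MulAut.conjNormal_apply]
    have hn : zpowers (y ^ m) ≤ normalizer ((T.map (Subgroup.subtype _) : Subgroup X) : Set X) := by
      rw [zpowers_le]
      refine mem_normalizer_fintype ?_
      rintro _ ⟨t, ht, rfl⟩
      exact ⟨_, hinv t ht, hα t⟩
    have hne : zpowers (y ^ m) ⊔ T.map (Subgroup.subtype _) ≠ ⊤ := by
      intro h
      have h1 := H1.card_sup_dvd_of_le_normalizer hn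
      rw [h, card_top, Nat.card_zpowers, card_map_of_injective (subtype_injective _)] at h1
      have h2 := ((card_subgroup_dvd_card (P : Subgroup X)).trans h1)
      have h3 := (H5.coprime_orderOf_of_isPGroup (G := (P : Subgroup X)) P.isPGroup' hc)
      obtain ⟨k, hk⟩ := P.isPGroup'.exists_card_eq
      have h4 := Nat.Coprime.dvd_of_dvd_mul_left (by rw [hk]; exact hc.symm.pow_left k) h2
      exact hT (eq_top_of_card_eq _ (Nat.dvd_antisymm (card_subgroup_dvd_card T) h4))
    have := H77.commute_of_isNilpotent_of_coprime (hX.2 _ hne) (mem_sup_left (mem_zpowers _))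
      (mem_sup_right (mem_map_of_mem _ hx)) (by
        simpa using H5.coprime_orderOf_of_isPGroup (G := (P : Subgroup X)) P.isPGroup' hc x)
    exact Subtype.ext (by rw [hα]; exact mul_inv_eq_iff_eq_mul.2 this.eq)

namespace MinAut

variable {p q : ℕ} [hp : Fact p.Prime] {P : Type*} [Group P] [Finite P] {α : MulAut P}
  (h : MinAut p q α)
include h

omit [Finite P] in
theorem coprime : (orderOf α).Coprime p := h.ord ▸ (Nat.coprime_primes h.prime hp.out).2 h.ne

omit hp [Finite P] in
theorem ne_one : α ≠ 1 := fun h1 => h.prime.one_lt.ne' (by rw [← h.ord, h1, orderOf_one])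

theorem fix_frattini {x : P} (hx : x ∈ frattini P) : α x = x := by
  have : Nontrivial P := by
    by_contra h1
    rw [not_nontrivial_iff_subsingleton] at h1
    exact h.ne_one (MulEquiv.ext fun _ => Subsingleton.elim _ _)
  refine h.min _ H5.frattini_ne_top (fun y hy => ?_) x hx
  have := characteristic_iff_le_comap.1 (inferInstance : (frattini P).Characteristic) α hy
  exact this

theorem fix_comm (x y : P) : α ⁅x, y⁆ = ⁅x, y⁆ :=
  h.fix_frattini (H5.commutatorElement_mem_frattini h.pgrp x y)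

theorem mem_center_of_fix {c : P} (hc : α c = c) : c ∈ center P := by
  by_contra hcZ
  have hT : centralizer ({c} : Set P) ≠ ⊤ := fun h1 => hcZ (mem_center_iff.2 fun g =>
    mem_centralizer_singleton_iff.1 (h1 ▸ mem_top g))
  refine h.ne_one (MulEquiv.ext fun w => H5.aut_apply_eq_of_isPGroup h.pgrp α h.coprime
    (h.min _ hT (fun x hx => ?_) _ ?_))
  · rw [mem_centralizer_singleton_iff] at hx ⊢
    simpa [hc] using congrArg α hx
  · have h1 := h.fix_comm c w
    rw [map_commutatorElement, hc] at h1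
    rw [mem_centralizer_singleton_iff]
    simp only [commutatorElement_def, mul_assoc, mul_right_inj] at h1
    calc w⁻¹ * α w * c = c * (c⁻¹ * w⁻¹) * (α w * c) := by group
      _ = c * (w⁻¹ * (α w * (c⁻¹ * (α w)⁻¹))) * (α w * c) := by rw [h1]; group
      _ = _ := by group

theorem comm_mem (x y : P) : ⁅x, y⁆ ∈ center P := h.mem_center_of_fix (h.fix_comm x y)

theorem pow_mem (x : P) : x ^ p ∈ center P :=
  h.mem_center_of_fix (h.fix_frattini (H5.pow_mem_frattini h.pgrp x))

theorem commute (z x y : P) : Commute z ⁅x, y⁆ := mem_center_iff.1 (h.comm_mem x y) z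

theorem exists_comm_eq {x : P} (hx : x ∉ center P) (y w : P) : ∃ u : P, ⁅y, w⁆ = ⁅x, u⁆ := by
  let T : Subgroup P :=
    { carrier := {y | ∀ w : P, ∃ u : P, ⁅y, w⁆ = ⁅x, u⁆}
      one_mem' := fun w => ⟨1, by simp⟩
      mul_mem' := fun {a b} ha hb w => by
        obtain ⟨u, hu⟩ := ha w
        obtain ⟨u', hu'⟩ := hb w
        exact ⟨u' * u, by rw [H5.commutator_mul_left_of_commute (h.commute _ _ _),
          H5.commutator_mul_right_of_commute (h.commute _ _ _), hu, hu']⟩
      inv_mem' := fun {a} ha w => by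
        obtain ⟨u, hu⟩ := ha w
        exact ⟨u⁻¹, by rw [H5.commutator_inv_left_of_commute (h.commute _ _ _),
          H5.commutator_inv_right_of_commute (h.commute _ _ _), hu]⟩ }
  have : T = ⊤ := by
    by_contra hT
    refine hx (h.mem_center_of_fix (h.min T hT (fun a ha w => ?_) x fun w => ⟨w, rfl⟩))
    obtain ⟨u, hu⟩ := ha (α.symm w)
    exact ⟨u, by rw [← hu, ← h.fix_comm a, map_commutatorElement, MulEquiv.apply_symm_apply]⟩
  exact (this ▸ mem_top y : y ∈ T) w

omit [Finite P] hp h in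
theorem map_center {z : P} (hz : z ∈ center P) : α z ∈ center P :=
  characteristic_iff_le_comap.1 (inferInstance : (center P).Characteristic) α hz

theorem not_mem {x : P} (hx : x ∉ center P) :
    α x ∉ zpowers x ⊔ center P := by
  intro h1
  refine hx (h.mem_center_of_fix (h.min (zpowers x ⊔ center P)
    (fun h2 => hx (mem_center_iff.2 fun g => ?_)) ?_ x
    (mem_sup_left (mem_zpowers x))))
  · have : zpowers x ⊔ center P ≤ centralizer {x} := sup_le
      (zpowers_le.2 (mem_centralizer_singleton_iff.2 rfl)) (center_le_centralizer _)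
    exact mem_centralizer_singleton_iff.1 (this (h2 ▸ mem_top g))
  · change zpowers x ⊔ center P ≤ (zpowers x ⊔ center P).comap α.toMonoidHom
    exact sup_le (zpowers_le.2 h1) fun z hz => mem_sup_right (map_center hz)

omit hp [Finite P] in
theorem pow_eq_one : α ^ q = 1 := h.ord ▸ pow_orderOf_eq_one α

theorem dvd_index : q ∣ (center P).index - 1 := by
  refine dvd_index_sub_one _ h.comm_mem α (fun _ => map_center) h.prime.pos h.pow_eq_one
    fun j hj hjq => ?_
  by_contra hT
  have h1 := h.min _ hT (by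
    change Subgroup.closure _ ≤ (Subgroup.closure _).comap α.toMonoidHom
    rw [closure_le]
    rintro _ ⟨g, rfl⟩
    exact subset_closure ⟨α g, by
      change α (g⁻¹ * (α ^ j) g) = _
      rw [map_mul, map_inv]
      exact congrArg _ (MulEquiv.congr_fun (Commute.self_pow α j).eq g)⟩)
  refine pow_ne_one_of_lt_orderOf hj.ne' (h.ord ▸ hjq) (MulEquiv.ext fun g =>
    H5.aut_apply_eq_of_isPGroup h.pgrp _ (h.coprime.coprime_dvd_left (orderOf_pow_dvd j)) ?_)
  have h2 := h1 _ (subset_closure ⟨g, rfl⟩)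
  generalize g⁻¹ * (α ^ j) g = d at h2
  clear hj hjq hT h1
  induction j with
  | zero => rfl
  | succ j ih => rw [pow_succ, MulAut.mul_apply, h2, ih]

theorem ne_two (hZ : center P ≠ ⊤) : q ≠ 2 := by
  rintro rfl
  obtain ⟨x, hx⟩ : ∃ x, x ∉ center P := by
    by_contra! h1
    exact hZ (eq_top_iff.2 fun x _ => h1 x)
  have h2 : α (α x) = x := by rw [← MulAut.mul_apply, ← sq, h.pow_eq_one, MulAut.one_apply]
  have h3 : x * α x ∈ center P := by
    by_contra h3
    refine h.not_mem h3 ?_
    rw [map_mul, h2, H5.mul_eq_commutator_mul (α x), mul_assoc]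
    exact mul_mem (mem_sup_right (h.comm_mem _ _)) (mem_sup_left (mem_zpowers _))
  refine h.not_mem hx ?_
  simpa using mul_mem (mem_sup_left (inv_mem (mem_zpowers x))) (mem_sup_right h3)

end MinAut

theorem two_mul_index_le {P : Type*} [Group P] [Finite P] {A B : Subgroup P} (h : A < B) :
    2 * B.index ≤ A.index := by
  have h1 := index_strictAnti h
  obtain ⟨c, hc⟩ := index_dvd_of_le h.le
  rcases c with _ | _ | c
  · omega
  · omega
  · rw [hc]; nlinarith

/-- The final contradiction for `p = 2`. -/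
theorem two_case {P : Type*} [Group P] [Finite P] {α : MulAut P} (h : MinAut 2 3 α)
    (hi : (center P).index ≤ 4) {H : Type*} [Group H] (g : P →* H)
    (hz : ∀ z ∈ center P, g z ^ 2 = 1) {x : P} (hx : x ∉ center P) (hx2 : g x ^ 2 = 1) (w : P) :
    g ⁅x, w⁆ = 1 := by
  have hZ : center P ≠ ⊤ := fun h1 => hx (h1 ▸ mem_top x)
  have hfix : ∀ z ∈ center P, α z = z := h.min _ hZ fun _ => MinAut.map_center
  have h2 : α (α (α x)) = x := by
    have := MulEquiv.congr_fun h.pow_eq_one x
    simpa [pow_succ] using this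
  have h3 : x * α x * α (α x) ∈ center P := by
    by_contra h3
    refine h.not_mem h3 ?_
    rw [map_mul, map_mul, h2, H5.mul_eq_commutator_mul _ x, mul_assoc _ x, ← mul_assoc x]
    exact mul_mem (mem_sup_right (h.comm_mem _ _)) (mem_sup_left (mem_zpowers _))
  have h4 : ∀ y : P, α y ^ 2 = y ^ 2 := fun y => by rw [← map_pow, hfix _ (h.pow_mem y)]
  have h5 : g (α x) ^ 2 = 1 := by rw [← map_pow, h4, map_pow, hx2]
  have h6 : g (α (α x)) ^ 2 = 1 := by rw [← map_pow, h4, map_pow, h5]
  have h7 : g (x * α x) ^ 2 = 1 := by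
    have h8 := hz _ h3
    have h9 : Commute (x * α x) (α (α x)) := by
      have := mem_center_iff.1 h3 (α (α x))
      rw [← mul_assoc] at this
      exact (mul_right_cancel this).symm
    rwa [← map_pow, h9.mul_pow, map_mul, map_pow g (α (α x)), h6, mul_one, map_pow] at h8
  have h8 : g (α x) * g x = g x * g (α x) := by
    rw [map_mul] at h7
    rw [sq] at hx2 h5 h7
    rw [← inv_eq_of_mul_eq_one_right h7, mul_inv_rev, inv_eq_of_mul_eq_one_right hx2,
      inv_eq_of_mul_eq_one_right h5]
  let D := (centralizer {g x}).comap g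
  have hD1 : zpowers x ⊔ center P < D := by
    refine lt_of_le_of_ne (sup_le (zpowers_le.2 (mem_centralizer_singleton_iff.2 rfl))
      fun z hz => mem_centralizer_singleton_iff.2 ?_) fun h1 => h.not_mem hx ?_
    · rw [← map_mul, ← map_mul, mem_center_iff.1 hz]
    · rw [h1]
      exact mem_centralizer_singleton_iff.2 h8
  have hD2 : center P < zpowers x ⊔ center P :=
    lt_of_le_of_ne le_sup_right fun h1 => hx (h1 ▸ mem_sup_left (mem_zpowers x))
  have i1 := two_mul_index_le hD1
  have i2 := two_mul_index_le hD2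
  have i3 : D = ⊤ := index_eq_one.1 (by have := D.index_ne_zero_of_finite; omega)
  rw [map_commutatorElement, commutatorElement_eq_one_iff_mul_comm]
  exact (mem_centralizer_singleton_iff.1 (i3 ▸ mem_top w : w ∈ D)).symm

theorem main {p q : ℕ} [hp : Fact p.Prime] {P : Type*} [Group P] [Finite P] {α : MulAut P}
    (h : MinAut p q α) {H : Type*} [Group H] [Finite H] (V : Subgroup H)
    [hN : V.Normal] (hV : IsMulCommutative V ∧ ∀ x : V, x ^ p = 1)
    (hk : (QuotientGroup.mk' V).ker = centralizer (V : Set H))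
    (hsol : IsPSolvable p (H ⧸ V)) (hO : pCore p (H ⧸ V) = ⊥) (g : P →* H) (hVg : V ≤ g.range) :
    g.range ≤ V := by
  by_contra hS
  have hC : centralizer (V : Set H) = V := by rw [← hk, QuotientGroup.ker_mk']
  set S := g.range with hSdef
  have hZ : ∀ y, g y ∈ centralizer (S : Set H) ↔ y ∈ center P := by
    intro y
    constructor
    · intro hy
      by_contra hyZ
      refine hS (hC ▸ ?_)
      rintro _ ⟨a, rfl⟩ v hv
      obtain ⟨b, rfl⟩ := hVg hv
      obtain ⟨u, hu⟩ := h.exists_comm_eq hyZ b a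
      rw [← commutatorElement_eq_one_iff_mul_comm, ← map_commutatorElement, hu,
        map_commutatorElement, commutatorElement_eq_one_iff_mul_comm]
      exact (hy _ ⟨u, rfl⟩).symm
    · rintro hy _ ⟨a, rfl⟩
      rw [← map_mul, ← map_mul, mem_center_iff.1 hy]
  have hCV : centralizer (S : Set H) ≤ V := hC ▸ centralizer_le hVg
  have hZV : ∀ z ∈ center P, g z ∈ V := fun z hz => hCV ((hZ z).2 hz)
  have hVp : ∀ v ∈ V, v ^ p = 1 := fun v hv => congrArg Subtype.val (hV.2 ⟨v, hv⟩)
  have hZt : center P ≠ ⊤ := fun h1 => hS fun _ ⟨a, ha⟩ => ha ▸ hZV a (h1 ▸ mem_top a)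
  have hDC : ⁅S, S⁆ ≤ centralizer (S : Set H) := by
    rw [commutator_le]
    rintro _ ⟨a, rfl⟩ _ ⟨b, rfl⟩
    rw [← map_commutatorElement, hZ]
    exact h.comm_mem a b
  -- `p ≤ 3`
  have hp3 : p ≤ 3 := by
    obtain ⟨_, ⟨a, rfl⟩, ha⟩ := SetLike.not_le_iff_exists.1 hS
    have ho : orderOf (QuotientGroup.mk' V (g a)) = p ^ (0 + 1) := by
      rw [zero_add, pow_one]
      refine orderOf_eq_prime ?_ fun h1 => ha ((QuotientGroup.eq_one_iff _).1 h1)
      rw [← map_pow, ← map_pow]
      exact (QuotientGroup.eq_one_iff _).2 (hZV _ (h.pow_mem a))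
    rcases hh_elemAb_commutator V hV (QuotientGroup.mk'_surjective V) hk hsol hO ho (r := 2)
      (fun v hv => commutatorElement_eq_one_iff_mul_comm.2
        (hDC (commutator_mem_commutator ⟨a, rfl⟩ (hVg hv)) _ ⟨a, rfl⟩)) with h1 | h1
    · simp at h1; omega
    · rcases eq_or_ne p 2 with rfl | hp2
      · norm_num
      · have := (h1.two_pow hp2).2.1
        simp at this; omega
  let π := QuotientGroup.mk' V
  let A := S.map π
  have hA : IsMulCommutative A := by
    rw [H2.isMulCommutative_iff_commutator_eq_bot, ← map_commutator, Subgroup.map_eq_bot_iff,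
      QuotientGroup.ker_mk']
    exact hDC.trans hCV
  have hAp : IsPGroup p A := (h.pgrp.of_surjective _ g.rangeRestrict_surjective).map π
  -- the case of a cocyclic subgroup with extra fixed points
  have key : ∀ B ≤ A, ∀ a : P, B ⊔ zpowers (π (g a)) = A → ∀ x : P, g x ∈ V →
      g x ∈ centralizer ((B.comap π : Subgroup H) : Set H) → x ∉ center P →
      ⁅S, S⁆ = zpowers (g ⁅x, a⁆) := by
    intro B hB a ha x hxV hxB hx
    refine le_antisymm ?_ (zpowers_le.2 (by
      rw [map_commutatorElement]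
      exact commutator_mem_commutator ⟨x, rfl⟩ ⟨a, rfl⟩))
    rw [commutator_le]
    rintro _ ⟨y, rfl⟩ _ ⟨w, rfl⟩
    obtain ⟨u, hu⟩ := h.exists_comm_eq hx y w
    rw [← map_commutatorElement, hu]
    let T : Subgroup P :=
      { carrier := {u | g ⁅x, u⁆ ∈ zpowers (g ⁅x, a⁆)}
        one_mem' := by simp
        mul_mem' := fun {a b} ha hb => by
          simp only [Set.mem_ofPred_eq] at ha hb ⊢
          rw [H5.commutator_mul_right_of_commute (h.commute _ _ _), map_mul]
          exact mul_mem ha hb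
        inv_mem' := fun {a} ha => by
          simp only [Set.mem_ofPred_eq] at ha ⊢
          rw [H5.commutator_inv_right_of_commute (h.commute _ _ _), map_inv]
          exact inv_mem ha }
    have h1 : (B.comap π).comap g ≤ T := fun u hu => by
      change g ⁅x, u⁆ ∈ zpowers (g ⁅x, a⁆)
      rw [map_commutatorElement g x u, commutatorElement_eq_one_iff_mul_comm.2 (hxB _ hu).symm]
      exact one_mem _
    have h2 : A ≤ T.map (π.comp g) := by
      rw [← ha]
      refine sup_le (fun b hb => ?_) (zpowers_le.2 ⟨a, mem_zpowers _, rfl⟩)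
      obtain ⟨_, ⟨c, rfl⟩, rfl⟩ := hB hb
      exact ⟨c, h1 hb, rfl⟩
    obtain ⟨t, ht, htu⟩ := h2 ⟨g u, ⟨u, rfl⟩, rfl⟩
    have h3 : t⁻¹ * u ∈ T := h1 (by
      change π (g _) ∈ B
      rw [map_mul, map_mul, map_inv, map_inv, ← htu]
      simp)
    have h4 := T.mul_mem ht h3
    rwa [mul_inv_cancel_left] at h4
  have hcoc : ∀ B ≤ A, (∃ a ∈ A, B ⊔ zpowers a = A) → ∃ a : P, B ⊔ zpowers (π (g a)) = A := by
    rintro B - ⟨_, ⟨_, ⟨a, rfl⟩, rfl⟩, ha⟩
    exact ⟨a, ha⟩
  have hnorm : ∀ (B : Subgroup (H ⧸ V)) (r : H), π r ∈ centralizer (B : Set (H ⧸ V)) →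
      r ∈ normalizer ((B.comap π : Subgroup H) : Set H) := fun B r hr =>
    le_normalizer_comap π (centralizer_le_normalizer _ hr)
  have hfin : ∀ W : Subgroup H, ⁅S, S⁆ ≤ W → W ≤ centralizer (S : Set H) →
      (∀ B ≤ A, (∃ a ∈ A, B ⊔ zpowers a = A) →
        normalizer ((B.comap π : Subgroup H) : Set H) ≤ normalizer (W : Set H)) → False := by
    intro W h1 h2 h3
    have hVW : V ≤ normalizer (W : Set H) :=
      hVg.trans ((le_centralizer_iff.1 h2).trans (centralizer_le_normalizer _))
    have h4 := H2.le_of_forall_cocyclic (K := pPrimeCore p (H ⧸ V))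
      (M := (normalizer (W : Set H)).map π) hA le_normalizer_of_normal
      (H1.coprime_card_of_isPGroup_of_coprime hAp H1.coprime_card_pPrimeCore) fun B hB hc r hr => by
        obtain ⟨r, rfl⟩ := QuotientGroup.mk'_surjective V r
        exact mem_map_of_mem _ (h3 B hB hc (hnorm B r hr.2))
    refine hS fun a ha => mem_of_stabilizes V hV hk hsol hO (W := W) ?_
      (fun v hv => h1 (commutator_mem_commutator ha (hVg hv)))
      fun w hw => commutatorElement_eq_one_iff_mul_comm.2 (h2 hw a ha)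
    refine (comap_mono h4).trans ?_
    rw [comap_map_eq, QuotientGroup.ker_mk']
    exact sup_le le_rfl hVW
  have hBS : ∀ B ≤ A, B.comap π ≤ S := fun B hB => by
    refine (comap_mono hB).trans ?_
    rw [comap_map_eq, QuotientGroup.ker_mk']
    exact sup_le le_rfl hVg
  by_cases hex : ∃ B ≤ A, (∃ a ∈ A, B ⊔ zpowers a = A) ∧ ∃ x : P, g x ∈ V ∧
      g x ∈ centralizer ((B.comap π : Subgroup H) : Set H) ∧ x ∉ center P
  swap
  · refine hfin (V ⊓ centralizer (S : Set H)) (le_inf (hDC.trans hCV) hDC) inf_le_right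
      fun B hB hc => ?_
    have : V ⊓ centralizer (S : Set H) = V ⊓ centralizer ((B.comap π : Subgroup H) : Set H) := by
      refine le_antisymm (inf_le_inf_left _ (centralizer_le (hBS B hB))) ?_
      rintro v ⟨hv, hv'⟩
      obtain ⟨x, rfl⟩ := hVg hv
      refine ⟨hv, (hZ x).2 ?_⟩
      by_contra hx
      exact hex ⟨B, hB, hc, x, hv, hv', hx⟩
    rw [this]
    exact H2.le_normalizer_inf le_normalizer_of_normal (H2.le_normalizer_centralizer le_rfl)
  obtain ⟨B₀, hB₀, hc₀, x, hxV, hxB, hx⟩ := hex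
  obtain ⟨a₀, ha₀⟩ := hcoc B₀ hB₀ hc₀
  have hD := key B₀ hB₀ a₀ ha₀ x hxV hxB hx
  have hd1 : g ⁅x, a₀⁆ ≠ 1 := fun h1 => hS (hC ▸ fun s hs v hv => by
    have := commutator_mem_commutator (hVg hv) hs
    rwa [hD, h1, zpowers_one_eq_bot, mem_bot, commutatorElement_eq_one_iff_mul_comm] at this)
  have hDp : Nat.card (⁅S, S⁆ : Subgroup H) = p := by
    rw [hD, Nat.card_zpowers]
    exact orderOf_eq_prime (hVp _ (hZV _ (h.comm_mem _ _))) hd1
  by_cases hcyc : IsCyclic A
  swap
  · refine hfin ⁅S, S⁆ le_rfl hDC fun B hB hc => ?_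
    have : ⁅S, S⁆ = ⁅V, B.comap π⁆ := by
      have hle : ⁅V, B.comap π⁆ ≤ ⁅S, S⁆ := commutator_mono hVg (hBS B hB)
      have : Fact (Nat.card (⁅S, S⁆ : Subgroup H)).Prime := hDp ▸ hp
      rcases (⁅V, B.comap π⁆.subgroupOf ⁅S, S⁆).eq_bot_or_eq_top_of_prime_card with h1 | h1
      · refine absurd ?_ (H2.ne_bot_of_cocyclic hcyc hc)
        rw [subgroupOf_eq_bot, disjoint_iff, inf_eq_left.2 hle, commutator_comm,
          commutator_eq_bot_iff_le_centralizer, hC] at h1
        rw [← map_comap_eq_self_of_surjective (QuotientGroup.mk'_surjective V) B,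
          Subgroup.map_eq_bot_iff, QuotientGroup.ker_mk']
        exact h1
      · exact le_antisymm (subgroupOf_eq_top.1 h1) hle
    rw [this]
    exact H2.le_normalizer_commutator le_normalizer_of_normal le_rfl
  obtain ⟨a, ha⟩ := hcoc ⊥ bot_le (by
    obtain ⟨a, ha⟩ := (Subgroup.isCyclic_iff_exists_zpowers_eq_top A).1 hcyc
    exact ⟨a, ha ▸ mem_zpowers a, by rw [bot_sup_eq, ha]⟩)
  let c : P → P →* (⁅S, S⁆ : Subgroup H) := fun u => MonoidHom.mk'
    (fun y => ⟨g ⁅u, y⁆, by
      rw [map_commutatorElement]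
      exact commutator_mem_commutator ⟨u, rfl⟩ ⟨y, rfl⟩⟩) fun y y' => Subtype.ext (by
      simp only [H5.commutator_mul_right_of_commute (h.commute _ _ _), map_mul,
        MulMemClass.mk_mul_mk])
  have hc : ∀ u y, y ∈ (c u).ker ↔ g u * g y = g y * g u := fun u y => by
    rw [MonoidHom.mem_ker, Subtype.ext_iff, ← commutatorElement_eq_one_iff_mul_comm,
      ← map_commutatorElement]
    rfl
  have hci : ∀ u, (c u).ker.index ∣ p := fun u => by
    rw [index_ker, ← hDp]
    exact card_subgroup_dvd_card _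
  have hgen : ∀ s ∈ S, ∃ v ∈ V, ∃ k : ℕ, s = g a ^ k * v := by
    intro s hs
    obtain ⟨k, hk⟩ : π s ∈ Submonoid.powers (π (g a)) := by
      rw [mem_powers_iff_mem_zpowers, ← bot_sup_eq (zpowers _), ha]
      exact mem_map_of_mem _ hs
    refine ⟨(g a ^ k)⁻¹ * s, QuotientGroup.eq.1 ?_, k, by simp⟩
    exact (map_pow π _ _).trans hk
  have hZi : (c x).ker ⊓ (c a).ker ≤ center P := by
    intro y hy
    have hy1 := (hc _ _).1 (mem_inf.1 hy).1
    have hy2 := (hc _ _).1 (mem_inf.1 hy).2
    have hyV : g y ∈ V := by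
      by_contra hyV
      refine hx ((hZ x).1 fun s hs => ?_)
      obtain ⟨v, hv, k, hk⟩ := hgen (g y) ⟨y, rfl⟩
      have hap : g a ^ p ∈ V := by rw [← map_pow]; exact hZV _ (h.pow_mem a)
      have hVx : V ≤ centralizer {g x} := fun w hw =>
        mem_centralizer_singleton_iff.2 (hC.ge hxV w hw)
      have h1 : g a ^ k ∈ centralizer {g x} := by
        rw [eq_mul_inv_of_mul_eq hk.symm]
        exact mul_mem (mem_centralizer_singleton_iff.2 hy1.symm) (inv_mem (hVx hv))
      have h2 : g a ∈ centralizer {g x} := mem_of_pow_mem_of_coprime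
        ((Nat.Prime.coprime_iff_not_dvd hp.out).2 (by
          rintro ⟨j, rfl⟩
          exact hyV (hk ▸ mul_mem (pow_mul (g a) p j ▸ pow_mem hap j) hv))) (hVx hap) h1
      obtain ⟨v', hv', k', rfl⟩ := hgen s hs
      exact mem_centralizer_singleton_iff.1 (mul_mem (pow_mem h2 _) (hVx hv'))
    refine (hZ y).1 fun s hs => ?_
    obtain ⟨v, hv, k, rfl⟩ := hgen s hs
    exact Commute.mul_left (Commute.pow_left hy2 k) (hC.ge hv _ hyV).symm
  have hi : (center P).index ≤ p * p :=
    (Nat.le_of_dvd (Nat.pos_of_ne_zero index_ne_zero_of_finite) (index_dvd_of_le hZi)).trans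
      (index_inf_le.trans (Nat.mul_le_mul (Nat.le_of_dvd hp.out.pos (hci x))
        (Nat.le_of_dvd hp.out.pos (hci a))))
  obtain ⟨n, hn⟩ := h.pgrp.index (center P)
  have hq := h.dvd_index
  have hq2 := h.ne_two hZt
  have hn0 : n ≠ 0 := by
    rintro rfl
    exact hZt (index_eq_one.1 hn)
  have hn2 : n ≤ 2 := by
    rw [hn, ← sq] at hi
    exact (Nat.pow_le_pow_iff_right hp.out.one_lt).1 hi
  rw [hn] at hq
  have hp2 := hp.out.two_le
  obtain rfl | rfl : p = 2 ∨ p = 3 := by omega
  · have : q = 3 := by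
      interval_cases n
      · exact absurd rfl hn0
      · exact absurd (Nat.dvd_one.1 hq) h.prime.one_lt.ne'
      · exact (Nat.prime_dvd_prime_iff_eq h.prime Nat.prime_three).1 hq
    subst this
    exact hd1 (two_case h hi g (fun z hz => hVp _ (hZV z hz)) hx (hVp _ hxV) a₀)
  · refine hq2 ((Nat.prime_dvd_prime_iff_eq h.prime Nat.prime_two).1 ?_)
    interval_cases n
    · exact absurd rfl hn0
    · exact hq
    · exact h.prime.dvd_of_dvd_pow (n := 3) hq


/-- Let X be a finite minimal non-nilpotent group (not nilpotent, every proper subgroup nilpotent) with a nontrivial normal Sylow p-subgroup P. If G is a finite p-solvable group whose Sylow p-subgroups are isomorphic to P, then G has p-length at most 1. -/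
theorem result {G X : Type*} [Group G] [Finite G] [Group X] [Finite X] (p : ℕ) [Fact p.Prime]
    (hX : Cfsg.IsMinimalNonNilpotent X) (P : Sylow p X) (hPn : (P : Subgroup X).Normal) (hP1 : (P : Subgroup X) ≠ ⊥)
    (hG : Cfsg.IsPSolvable p G) (Q : Sylow p G) (hQ : Nonempty (↥(Q : Subgroup G) ≃* ↥(P : Subgroup X))) : Cfsg.PLengthLE p 1 G := by
  obtain ⟨q, α, h⟩ := exists_minAut hX P hP1
  obtain ⟨e⟩ := hQ
  obtain ⟨H, _, _, f, V, _, hf, hV1, hV2, hV, hk, hs1, hs2, hO⟩ := exists_reduced' hG
  have hr : ((f.comp (Q : Subgroup G).subtype).comp e.symm.toMonoidHom).range =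
      (Q : Subgroup G).map f := by
    rw [MonoidHom.range_comp, MonoidHom.range_eq_top.2 e.symm.surjective, ← MonoidHom.range_eq_map,
      MonoidHom.range_comp, range_subtype]
  have h1 := main h V hV hk hs2 hO _ (hr ▸ hV1 ▸ pCore_le_map_sylow hf Q)
  rw [hr, map_le_iff_le_comap, hV2] at h1
  refine pLengthLE_succ_iff.2 (pLengthLE_zero_iff.2 ?_)
  rw [Nat.coprime_comm, Nat.Prime.coprime_iff_not_dvd Fact.out]
  exact fun hd => Q.not_dvd_index (hd.trans (index_dvd_of_le h1))

end Cfsg.Agent.S4394
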