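import Cfsg.Statements.S4395
import Mathlib
import Cfsg.Agent.Lib.Blk86.Schm4

set_option autoImplicit false
universe u
open Cfsg

namespace Cfsg.Agent.S4395

set_option linter.style.haveILetI false
set_option linter.unusedVariables false


/-- Let p ≠ q be primes, r ≥ 1, a the multiplicative order of p modulo q, and a₀ = a when a is odd, a₀ = 3a/2 when a is even. Call a finite group minimal non-p-nilpotent when it has no normal p-complement but every proper subgroup has one. Then there is a minimal non-p-nilpotent group G₀ of order p^a₀ · q^r such that every minimal non-p-nilpotent group of order p^t · q^r (any t) is a quotient of G₀ by a central subgroup. -/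
theorem result (p q r : ℕ) [Fact p.Prime] [Fact q.Prime] (hpq : p ≠ q) (hr : 1 ≤ r) (a a₀ : ℕ)
    (ha : a = orderOf (p : ZMod q)) (ha₀ : a₀ = if a % 2 = 1 then a else 3 * a / 2) :
    ∃ (G₀ : Type u) (_ : Group G₀) (_ : Finite G₀),
      (¬ Cfsg.HasNormalPComplement p G₀ ∧ ∀ K : Subgroup G₀, K ≠ ⊤ → Cfsg.HasNormalPComplement p ↥K) ∧ Nat.card G₀ = p ^ a₀ * q ^ r ∧
      ∀ (X : Type u) [Group X] [Finite X], (¬ Cfsg.HasNormalPComplement p X ∧ ∀ K : Subgroup X, K ≠ ⊤ → Cfsg.HasNormalPComplement p ↥K) →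
        (∃ t : ℕ, Nat.card X = p ^ t * q ^ r) → ∃ φ : G₀ →* X, Function.Surjective φ ∧ φ.ker ≤ Subgroup.center G₀ := by
  obtain ⟨ζ, hF⟩ := H86.Sm.exists_fd hpq ha
  obtain ⟨B, Y, β, e, h, hY⟩ := H86.Sm.exists_max hF
  have hq : q.Prime := Fact.out
  have hβ : β ^ q ^ r = 1 := by
    rw [show r = r - 1 + 1 by omega, pow_succ', pow_mul, h.mn.pw, one_pow]
  have : NeZero (q ^ r) := ⟨pow_ne_zero _ hq.ne_zero⟩
  let G := Y ⋊[H86.Sm.zh (q ^ r) β hβ] Multiplicative (ZMod (q ^ r))
  have : Finite G := Finite.of_equiv _ SemidirectProduct.equivProd.symm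
  let E : ULift.{u} G ≃* G := MulEquiv.ulift
  obtain ⟨h1, h2⟩ := h.minimal hβ
  refine ⟨ULift.{u} G, inferInstance, inferInstance, ⟨fun hn => h1 (H4.hasNormalPComplement_of_equiv hn E), fun K hK => ?_⟩, ?_, ?_⟩
  · refine H4.hasNormalPComplement_of_equiv (h2 (K.map E.toMonoidHom) (fun h3 => hK ?_)) (E.subgroupMap K).symm
    rw [eq_top_iff]
    intro x _
    obtain ⟨y, hy, hxy⟩ := (h3 ▸ Subgroup.mem_top (E x) : E x ∈ K.map E.toMonoidHom)
    exact E.injective hxy ▸ hy
  · rw [Nat.card_congr E.toEquiv, SemidirectProduct.card, hY, ha₀]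
    simp
  · rintro X _ _ ⟨h3, h4⟩ ⟨t, ht⟩
    obtain ⟨φ, hφ, hk⟩ := h.universal hβ hr hY h3 h4 ht
    refine ⟨φ.comp E.toMonoidHom, hφ.comp E.surjective, fun x hx => ?_⟩
    rw [Subgroup.mem_center_iff]
    intro g
    apply E.injective
    rw [map_mul, map_mul]
    exact Subgroup.mem_center_iff.1 (hk hx) _

end Cfsg.Agent.S4395
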