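import Mathlib
import Cfsg.Statements.S4404
import Cfsg.Agent.Lib.FGS.Blk4C
import Cfsg.Agent.Lib.Core.Hall
-- import your own Cfsg.Agent.* helpers here

set_option autoImplicit false
open Cfsg

namespace Cfsg.Agent.S4404

open Subgroup H76.Blk
open scoped Pointwise commutatorElement IsMulCommutative

/-- Let S be a finite solvable group and M a normal elementary abelian 2-subgroup of S. Suppose S contains an elementary abelian subgroup of order p³ for some odd prime p, and a cyclic 3-subgroup Q such that the cubes of the elements of Q centralize M and the commutator subgroup [Q, M] has order 4 (a four-group inside M). Then S contains an elementary abelian subgroup F of order r³, for some odd prime r, whose centralizer of [Q, M] in F — the subgroup C_F([Q, M]) — is not cyclic. -/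
theorem result {S : Type*} [Group S] [Finite S]
    [Group.IsSolvable S] (M : Subgroup S) [M.Normal] (hM : Cfsg.IsElementaryAbelian 2 M)
    (p : ℕ) (hp : p.Prime) (hp2 : p ≠ 2) (E : Subgroup S) (hE : Cfsg.IsElementaryAbelian p E) (hE3 : Nat.card ↥E = p ^ 3)
    (Q : Subgroup S) (hQc : IsCyclic ↥Q) (hQ3 : IsPGroup 3 ↥Q)
    (hQ1 : ∀ x ∈ Q, x ^ 3 ∈ Subgroup.centralizer (M : Set S)) (hQM : Nat.card ↥⁅Q, M⁆ = 4) :
    ∃ (r : ℕ) (F : Subgroup S), r.Prime ∧ r ≠ 2 ∧ Cfsg.IsElementaryAbelian r F ∧ Nat.card ↥F = r ^ 3 ∧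
      ¬ IsCyclic ↥(F ⊓ Subgroup.centralizer ((⁅Q, M⁆ : Subgroup S) : Set S)) := by
  haveI := hM.1
  haveI := Fact.mk hp
  have pi : ∀ (r : ℕ) [Fact r.Prime] (X : Subgroup S), r ≠ 2 → IsPGroup r X →
      IsPiSubgroup ({2}ᶜ : Set ℕ) X := fun r hr X r2 hX q hq d e => by
    obtain ⟨k, hk⟩ := IsPGroup.iff_card.1 hX
    rw [hk] at d
    exact r2 (((Nat.prime_dvd_prime_iff_eq hq hr.out).1 (hq.dvd_of_dvd_pow d)).symm.trans e)
  obtain ⟨H, hH, QH⟩ := H3.exists_isPiHall_ge (pi 3 Q (by norm_num) hQ3)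
  obtain ⟨g, hg⟩ := H3.exists_conj_le_of_isPiHall hH (pi p E hp2 (IsPGroup.of_card hE3))
  have odd : Odd (Nat.card H) := Nat.coprime_two_right.1
    ((Nat.Prime.coprime_iff_not_dvd Nat.prime_two).2 fun d => hH.1 2 Nat.prime_two d rfl).symm
  obtain ⟨⟨x, xQ⟩, hx⟩ := hQc.exists_monoid_generator
  have hV : ∀ v : M, v * v = 1 := fun v => Subtype.ext ((pow_two (v : S)).symm.trans (hM.2 v v.2))
  let φ : H →* MulAut M := MulAut.conjNormal.comp H.subtype
  let t : H := ⟨x, QH xQ⟩
  have cm : ∀ (a : H) (v : M), ((v * φ a v : M) : S) = ⁅(a : S), (v : S)⁆ := fun a v => by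
    rw [mul_comm, commutatorElement_def, ← coe_inv M v, inv_eq_of_mul_eq_one_right (hV v)]
    rfl
  have hU : ⁅Q, M⁆ = (U (φ t)).map M.subtype := by
    refine le_antisymm (commutator_le.2 fun q hq m hm => ?_) ?_
    · obtain ⟨n, hn⟩ := hx ⟨q, hq⟩
      have : ∀ (n : ℕ) (v : M), v * φ (t ^ n) v ∈ U (φ t) := fun n => by
        induction n with
        | zero => intro v; simp [hV]
        | succ n ih =>
          intro v
          have := mul_mem (mem_U (φ t) v) (ih (φ t v))
          rwa [mul_assoc, ← mul_assoc (φ t v), hV, one_mul, ← MulAut.mul_apply, ← map_mul,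
            ← pow_succ] at this
      refine ⟨_, this n ⟨m, hm⟩, (cm _ _).trans ?_⟩
      rw [show ((t ^ n : H) : S) = q from congrArg Subtype.val hn]
    · rintro _ ⟨_, ⟨v, rfl⟩, rfl⟩
      show ((v * φ t v : M) : S) ∈ _
      rw [cm]
      exact commutator_mem_commutator xQ v.2
  have ht : T3 (φ t) := by
    refine ⟨MulEquiv.ext fun v => Subtype.ext ?_, by
      rw [← card_map_of_injective M.subtype_injective, ← hU, hQM]⟩
    rw [← map_pow]
    exact mul_inv_eq_iff_eq_mul.2 (hQ1 x xQ v v.2).symm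
  have t3 : IsPGroup 3 (zpowers t) := (hQ3.comap_of_injective H.subtype H.subtype_injective).to_le
    (zpowers_le.2 xQ)
  obtain ⟨r, F, hr, r2, hF, c, hn⟩ := main hV φ odd ht t3 hp hp2
    (E := (MulAut.conj g • E).subgroupOf H) (H24.EA.subgroupOf (H24.EA.map hE _) H)
    (by rw [H24.card_subgroupOf_of_le hg, ← hE3]; exact card_map_of_injective (MulAut.conj g).injective)
  refine ⟨r, F.map H.subtype, hr, r2, H24.EA.map hF _, by rw [H24.card_map_subtype, c], fun hc => hn ?_⟩
  rw [((F ⊓ fixer φ (U (φ t))).equivMapOfInjective _ H.subtype_injective).isCyclic]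
  refine H49.isCyclic_of_le hc ?_
  rintro _ ⟨a, ha, rfl⟩
  refine mem_inf.2 ⟨mem_map_of_mem _ ha.1, ?_⟩
  rw [hU]
  rintro _ ⟨v, hv, rfl⟩
  exact (mul_inv_eq_iff_eq_mul.1 (congrArg Subtype.val (ha.2 v hv))).symm

end Cfsg.Agent.S4404
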