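import Mathlib
import Cfsg.Statements.S4408
import Cfsg.Agent.S1349
import Cfsg.Agent.Lib.Core.Coprime
import Cfsg.Agent.Lib.Core.Fitting
-- import your own Cfsg.Agent.* helpers here

set_option autoImplicit false
open Cfsg

namespace Cfsg.Agent.S4408

open Subgroup
open scoped commutatorElement

theorem chain {G : Type*} [Group G] [Finite G] {ι : Type*} [DecidableEq ι] (I : Subgroup G)
    (C : ι → Subgroup G) (a : ι → G) (h1 : ∀ i, a i ∈ I) (h2 : ∀ i, a i ∉ C i)
    (h3 : ∀ i j, i ≠ j → a i ∈ C j) (s : Finset ι) :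
    Nat.card (I ⊓ ⨅ i ∈ s, C i : Subgroup G) * 2 ^ s.card ≤ Nat.card I := by
  induction s using Finset.induction_on with
  | empty => simp
  | insert i s hi ih =>
    refine le_trans ?_ ih
    rw [Finset.card_insert_of_notMem hi, pow_succ', ← mul_assoc, Finset.iInf_insert]
    refine Nat.mul_le_mul_right _ ?_
    have hle : (I ⊓ (C i ⊓ ⨅ j ∈ s, C j) : Subgroup G) ≤ I ⊓ ⨅ j ∈ s, C j :=
      inf_le_inf_left _ inf_le_right
    rw [← H3.relIndex_mul_card hle, mul_comm]
    refine Nat.mul_le_mul_right _ ?_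
    have h4 : (I ⊓ (C i ⊓ ⨅ j ∈ s, C j) : Subgroup G).relIndex (I ⊓ ⨅ j ∈ s, C j) ≠ 1 := by
      intro h
      have h5 : a i ∈ (I ⊓ ⨅ j ∈ s, C j : Subgroup G) :=
        mem_inf.2 ⟨h1 i, mem_iInf.2 fun j => mem_iInf.2 fun hj => h3 i j fun e => hi (e ▸ hj)⟩
      exact h2 i (mem_inf.1 (mem_inf.1 (relIndex_eq_one.1 h h5)).2).1
    have h5 : (I ⊓ (C i ⊓ ⨅ j ∈ s, C j) : Subgroup G).relIndex (I ⊓ ⨅ j ∈ s, C j) ≠ 0 :=
      index_ne_zero_of_finite
    omega


/-- Let S be a finite solvable group whose Fitting subgroup F(S) has odd order, and let I be an elementary abelian 2-subgroup of S of order 2ⁿ with n ≥ 1. Then F(S) contains subgroups A₁, …, Aₙ of prime order, each normalized by I, pairwise commuting and generating a subgroup A of order |A₁|⋯|Aₙ| (their internal direct product), such that no non-identity element of I centralizes A. -/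
theorem result {S : Type*} [Group S] [Finite S]
    [Group.IsSolvable S] (hF : Odd (Nat.card ↥(Cfsg.fittingSubgroup S)))
    (I : Subgroup S) (hI : Cfsg.IsElementaryAbelian 2 I) (n : ℕ) (hn : 1 ≤ n) (hIn : Nat.card ↥I = 2 ^ n) :
    ∃ f : Fin n → Subgroup S, (∀ i, (Nat.card ↥(f i)).Prime) ∧ (∀ i, f i ≤ Cfsg.fittingSubgroup S) ∧
      (∀ i, I ≤ Subgroup.normalizer ((f i) : Set S)) ∧ (∀ i j, i ≠ j → ∀ a ∈ f i, ∀ b ∈ f j, a * b = b * a) ∧
      Nat.card ↥(⨆ i, f i) = ∏ i, Nat.card ↥(f i) ∧ I ⊓ Subgroup.centralizer ((⨆ i, f i : Subgroup S) : Set S) = ⊥ := by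
  classical
  set F := fittingSubgroup S with hFdef
  have hcop : (Nat.card I).Coprime (Nat.card F) := by
    rw [hIn]; exact (Nat.coprime_two_left.2 hF).pow_left _
  have hAF : I ≤ normalizer (F : Set S) := le_top.trans (normalizer_eq_top F).ge
  obtain ⟨W, hW, hAW, hWab, hWc⟩ :=
    Cfsg.Agent.S1349.exists_self_cent hI (inferInstance : Group.IsNilpotent F) hAF
  have hf : I ⊓ centralizer (W : Set S) = ⊥ := by
    have h1 : I ⊓ centralizer (W : Set S) ≤ centralizer (F : Set S) :=
      H2.le_centralizer_of_centralizer_le inferInstance (inf_le_left.trans hAF)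
        (H2.coprime_of_le_left hcop inf_le_left) hW (le_centralizer_iff.1 inf_le_right)
        (hWc.trans (le_centralizer_iff.1 inf_le_right))
    rw [eq_bot_iff, ← H2.inf_eq_bot_of_coprime_card hcop]
    exact le_inf inf_le_left (h1.trans H1.centralizer_fitting_le)
  have hWodd : Odd (Nat.card W) := hF.of_dvd_nat (card_dvd_of_le hW)
  obtain ⟨v, a, h1, h2, B, -, hc, -, hgen⟩ :=
    Cfsg.Agent.S1349.steps hI hWab hAW hWodd hf hIn n le_rfl
  have hB1 : B = ⊥ := by
    rw [← Subgroup.card_eq_one]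
    exact Nat.eq_of_mul_eq_mul_right (Nat.two_pow_pos n) (by rw [hc, one_mul])
  rw [hB1, bot_sup_eq] at hgen
  have hu : ∀ i, ∃ u ∈ zpowers (v i), (orderOf u).Prime := fun i =>
    H2.exists_mem_prime_orderOf (zpowers_ne_bot.2 (h1 i).2.1)
  choose u hu hup using hu
  have huW : ∀ i, u i ∈ W := fun i => zpowers_le.2 (h1 i).1 (hu i)
  have hinv : ∀ i, ∀ x ∈ zpowers (v i), a i * x * (a i)⁻¹ = x⁻¹ := by
    rintro i _ ⟨k, rfl⟩
    simp only
    rw [← conj_zpow, (h1 i).2.2.2, inv_zpow]
  have hcen : ∀ i j, i ≠ j → zpowers (v j) ≤ centralizer {a i} := fun i j hij =>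
    zpowers_le.2 (mem_centralizer_singleton_iff.2 (h2 i j hij).symm)
  have hle : ∀ i, zpowers (u i) ≤ zpowers (v i) := fun i => zpowers_le.2 (hu i)
  have hone : ∀ i, ∀ x ∈ zpowers (v i), x * a i = a i * x → x = 1 := by
    intro i x hx h
    have h3 := hinv i x hx
    rw [← h, mul_inv_cancel_right] at h3
    have h4 : orderOf x ∣ 2 := orderOf_dvd_of_pow_eq_one (by
      rw [pow_two]; nth_rewrite 1 [h3]; exact inv_mul_cancel x)
    exact orderOf_eq_one_iff.1 (Nat.eq_one_of_dvd_coprimes (Nat.coprime_two_left.2 hWodd) h4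
      (orderOf_dvd_natCard W (zpowers_le.2 (h1 i).1 hx)))
  have hcomm : ∀ x ∈ W, ∀ y ∈ W, x * y = y * x := fun x hx y hy =>
    congrArg Subtype.val (hWab.is_comm.comm (⟨x, hx⟩ : W) ⟨y, hy⟩)
  have hcomm' : Pairwise fun i j => ∀ x y : S, x ∈ zpowers (u i) → y ∈ zpowers (u j) →
      Commute x y := fun i j _ x y hx hy =>
    hcomm x (zpowers_le.2 (huW i) hx) y (zpowers_le.2 (huW j) hy)
  refine ⟨fun i => zpowers (u i), fun i => by rw [Nat.card_zpowers]; exact hup i,
    fun i => zpowers_le.2 (hW (huW i)), fun i => hgen.trans (iSup_le fun j => zpowers_le.2 ?_),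
    fun i j hij x hx y hy => hcomm' hij x y hx hy, ?_, ?_⟩
  · refine H3.mem_normalizer_of_conj_mem fun x hx => ?_
    by_cases hij : j = i
    · rw [hij, hinv i x (hle i hx)]
      exact inv_mem hx
    · rw [← mem_centralizer_singleton_iff.1 (hcen j i hij (hle i hx)), mul_inv_cancel_right]
      exact hx
  · have hind : iSupIndep fun i => zpowers (u i) := by
      intro i
      rw [disjoint_def]
      intro x hx hx'
      have h3 : (⨆ j, ⨆ (_ : j ≠ i), zpowers (u j)) ≤ centralizer {a i} :=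
        iSup₂_le fun j hj => (hle j).trans (hcen i j hj.symm)
      exact hone i x (hle i hx) (mem_centralizer_singleton_iff.1 (h3 hx'))
    rw [← noncommPiCoprod_range (hcomm := hcomm'), ← Nat.card_pi]
    exact (Nat.card_congr (MonoidHom.ofInjective
      (injective_noncommPiCoprod_of_iSupIndep (hcomm := hcomm') hind)).toEquiv).symm
  · have h3 := chain I (fun i => centralizer {u i}) a (fun i => (h1 i).2.2.1)
      (fun i h => by
        have h4 := hone i (u i) (hu i) (mem_centralizer_singleton_iff.1 h).symm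
        have h5 := hup i
        rw [h4, orderOf_one] at h5
        exact Nat.not_prime_one h5)
      (fun i j hij => mem_centralizer_singleton_iff.2
        (mem_centralizer_singleton_iff.1 (hcen i j hij (hu j))).symm) Finset.univ
    rw [Finset.card_univ, Fintype.card_fin, hIn] at h3
    have h4 : (I ⊓ ⨅ i ∈ (Finset.univ : Finset (Fin n)), centralizer {u i} : Subgroup S) = ⊥ := by
      refine eq_bot_of_card_le _ (Nat.le_of_mul_le_mul_right ?_ (Nat.two_pow_pos n))
      rwa [one_mul]
    rw [eq_bot_iff, ← h4]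
    refine inf_le_inf_left _ (le_iInf₂ fun i _ => centralizer_le ?_)
    rw [Set.singleton_subset_iff]
    exact le_iSup (fun i => zpowers (u i)) i (mem_zpowers _)

end Cfsg.Agent.S4408
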