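import Mathlib
import Cfsg.Statements.S4409
import Cfsg.Agent.Lib.FGS.Ab8C
import Cfsg.Agent.Lib.Core.Hall
-- import your own Cfsg.Agent.* helpers here

set_option autoImplicit false
open Cfsg

namespace Cfsg.Agent.S4409

open Subgroup H76.Ab8

/-- Let S be a finite solvable group with O_{2'}(S) = 1 that contains a non-cyclic abelian subgroup of order 8, while no proper subgroup of S of 2-power index contains one. Then a Sylow 2-subgroup X of S is normal in S, and one of the following holds: X is abelian; X is extraspecial of order at least 32; X has a generalized quaternion subgroup X₀ of index 2 with X = X₀·C_X(X₀); or X is special with centre of order 4. -/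
theorem result {S : Type*} [Group S] [Finite S]
    [Group.IsSolvable S] (hO : Cfsg.pPrimeCore 2 S = ⊥)
    (h8 : ∃ A : Subgroup S, IsMulCommutative ↥A ∧ ¬ IsCyclic ↥A ∧ Nat.card ↥A = 8)
    (hmin : ∀ R : Subgroup S, R ≠ ⊤ → (∃ k : ℕ, R.index = 2 ^ k) →
      ¬ ∃ A : Subgroup S, A ≤ R ∧ IsMulCommutative ↥A ∧ ¬ IsCyclic ↥A ∧ Nat.card ↥A = 8)
    (X : Sylow 2 S) :
    (X : Subgroup S).Normal ∧
      (IsMulCommutative ↥X ∨
        (Cfsg.IsExtraspecial 2 ↥X ∧ 32 ≤ Nat.card ↥X) ∨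
        (∃ (X₀ : Subgroup S) (k : ℕ), X₀ ≤ (X : Subgroup S) ∧ X₀.relIndex (X : Subgroup S) = 2 ∧
          Nonempty (↥X₀ ≃* QuaternionGroup (2 ^ (k + 1))) ∧ X₀ ⊔ ((X : Subgroup S) ⊓ Subgroup.centralizer (X₀ : Set S)) = (X : Subgroup S)) ∨
        (Cfsg.IsSpecial 2 ↥X ∧ Nat.card ↥(Subgroup.center ↥X) = 4)) := by
  obtain ⟨H, h1, h2⟩ := H3.exists_isPiHall (G := S) ({2}ᶜ : Set ℕ)
  have key : ∀ Y : Subgroup S, Y.Normal → Has Y → H ⊔ Y = ⊤ := fun Y _ ⟨A, a1, a2⟩ => by
    by_contra e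
    refine hmin _ e ⟨_, Nat.eq_prime_pow_of_unique_prime_dvd index_ne_zero_of_finite
      fun {r} hr d => by_contra fun e' => ?_⟩ ⟨A, a1.trans le_sup_right, a2⟩
    exact h2 r hr e' (d.trans (index_dvd_of_le le_sup_left))
  have hc : (Nat.card H).Coprime 2 :=
    ((Nat.Prime.coprime_iff_not_dvd Nat.prime_two).2 fun d => h1 2 Nat.prime_two d rfl).symm
  have key2 : ∀ Y : Subgroup S, Y.Normal → Y ≤ X → Has Y → Y = X := fun Y nY YX hY => by
    have e := H1.card_sup_mul_card_inf_of_normal H Y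
    rw [key Y nY hY, card_top] at e
    have d : Nat.card X ∣ Nat.card H * Nat.card Y :=
      e ▸ (card_subgroup_dvd_card (X : Subgroup S)).mul_right _
    obtain ⟨k, hk⟩ := IsPGroup.iff_card.1 X.isPGroup'
    refine eq_of_le_of_card_ge YX (Nat.le_of_dvd Nat.card_pos ?_)
    rw [hk] at d ⊢
    exact (hc.symm.pow_left k).dvd_of_dvd_mul_left d
  obtain ⟨A, a1⟩ := h8
  have hO' := has_core (H1.centralizer_pCore_le_of_isSolvable hO) ⟨A, le_top, a1⟩
  have e := key2 _ inferInstance (H1.pCore_le_sylow X) hO'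
  have nX : (X : Subgroup S).Normal := e ▸ inferInstance
  refine ⟨nX, or_iff_not_imp_left.2 fun hn => ?_⟩
  exact St.concl ⟨nX, X.isPGroup', e ▸ hO', key2, hn, H, hc, key _ nX (e ▸ hO')⟩

end Cfsg.Agent.S4409
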