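import Mathlib
import Cfsg.Statements.S4412
import Cfsg.Agent.Lib.FGS.DihExt
import Cfsg.Agent.Lib.Core.Frattini
-- import your own Cfsg.Agent.* helpers here

set_option autoImplicit false
open Cfsg

namespace Cfsg.Agent.S4412

open Subgroup H76

variable {P : Type*} [Group P]

/-- Cyclic fixed-point subgroup. -/
def Cyc (T : MulAut P) : Prop := ∃ g : P, ∀ x : P, (T x = x ↔ x ∈ zpowers g)

/-- The configuration given by the dihedral lemma. -/
structure Tri (a b c : MulAut P) (u v w : P) : Prop where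
  au : a u = u⁻¹
  av : a v = v
  aw : a w = w
  bu : b u = u
  bv : b v = v⁻¹
  bw : b w = w
  cu : c u = u
  cv : c v = v
  cw : c w = w⁻¹
  u1 : u ≠ 1
  v1 : v ≠ 1
  w1 : w ≠ 1
  aa : a * a = 1
  bb : b * b = 1
  cc : c * c = 1
  ab : a * b = b * a
  ac : a * c = c * a
  bc : b * c = c * b

/-- A generator of the fixed points of `b * c`. -/
structure Gen (a b c : MulAut P) (g : P) : Prop where
  fix : ∀ x : P, ((b * c) x = x ↔ x ∈ zpowers g)
  ha : a g = g⁻¹
  hb : b g = g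
  hc : c g = g

variable {a b c : MulAut P} {u v w : P}

theorem Tri.rot (h : Tri a b c u v w) : Tri b c a v w u :=
  ⟨h.bv, h.bw, h.bu, h.cv, h.cw, h.cu, h.av, h.aw, h.au, h.v1, h.w1, h.u1, h.bb, h.cc, h.aa,
    h.bc, h.ab.symm, h.ac.symm⟩

theorem Tri.ne (h : Tri a b c u v w) (hodd : Odd (Nat.card P)) {T T' : MulAut P} (h1 : T u = u⁻¹)
    (h2 : T' u = u) : T ≠ T' := by
  rintro rfl
  exact h.u1 (eq_one_of_eq_inv_of_odd hodd (h2.symm.trans h1))

variable [Finite P] {p : ℕ} [Fact p.Prime]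

theorem Tri.broad (h : Tri a b c u v w) (hP : IsPGroup p P) (hodd : Odd (Nat.card P)) :
    ¬ Cyc a := by
  rintro ⟨g, hg⟩
  rcases eq_one_or_of_cyclic hP hodd ((hg w).1 h.aw) ((hg v).1 h.av) h.bw h.bv with h1 | h1
  · exact h.w1 h1
  · exact h.v1 h1

theorem Tri.gen (h : Tri a b c u v w) (hP : IsPGroup p P) (hodd : Odd (Nat.card P))
    (hc : Cyc (b * c)) : ∃ g, Gen a b c g := by
  obtain ⟨g, hg⟩ := hc
  have hu : u ∈ zpowers g := (hg u).1 (by rw [MulAut.mul_apply, h.cu, h.bu])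
  have key : ∀ T : MulAut P, b * c * T = T * (b * c) → T g ∈ zpowers g := fun T hT => (hg _).1 (by
    rw [← MulAut.mul_apply, hT, MulAut.mul_apply, (hg g).2 (mem_zpowers g)])
  refine ⟨g, hg, apply_gen_eq_inv hP hodd h.aa (key a ?_) hu h.u1 h.au,
    apply_gen_eq hP hodd h.bb (key b ?_) hu h.u1 h.bu,
    apply_gen_eq hP hodd h.cc (key c ?_) hu h.u1 h.cu⟩
  · rw [mul_assoc, ← h.ac, ← mul_assoc, ← h.ab, mul_assoc]
  · rw [mul_assoc, ← h.bc]
  · rw [← mul_assoc, ← h.bc]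

theorem Tri.comm (h : Tri a b c u v w) (hodd : Odd (Nat.card P)) {g : P} (hg : Gen a b c g)
    {x y : P} (hx : a x = x) (hy : a y = y) : x * y = y * x := by
  let D : Subgroup P := a.toMonoidHom.eqLocus (MonoidHom.id P)
  have hD : ∀ z ∈ D, (b * c) z ∈ D := fun z hz => by
    change a ((b * c) z) = (b * c) z
    have hz' : a z = z := hz
    rw [← MulAut.mul_apply, ← mul_assoc, h.ab, mul_assoc, h.ac, ← mul_assoc, MulAut.mul_apply, hz']
  let τ : D →* D := ((b * c).toMonoidHom.comp D.subtype).codRestrict D fun z => hD z z.2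
  have h1 : MonoidHom.FixedPointFree τ := fun z hz => Subtype.ext (eq_one_of_eq_inv_of_odd hodd
    ((show a z = z from z.2).symm.trans
      (apply_eq_inv_of_mem_zpowers hg.ha ((hg.fix z).1 (congrArg Subtype.val hz)))))
  have h2 : Function.Involutive τ := fun z => Subtype.ext (by
    change (b * c) ((b * c) z) = z
    rw [← MulAut.mul_apply, mul_assoc, ← mul_assoc c, ← h.bc, mul_assoc, h.cc, mul_one, h.bb,
      MulAut.one_apply])
  exact congrArg Subtype.val (h1.commute_all_of_involutive h2 ⟨x, hx⟩ ⟨y, hy⟩).eq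

omit [Finite P] in
theorem Tri.enum (h : Tri a b c u v w) {T : MulAut P}
    (hT : T ∈ zpowers a ⊔ zpowers b ⊔ zpowers c) : T = 1 ∨ T = a ∨ T = b ∨ T = c ∨ T = a * b ∨
      T = c * a ∨ T = b * c ∨ T = a * (b * c) := by
  have hn : ∀ s t : MulAut P, s * t = t * s → zpowers t ≤ centralizer (zpowers s : Set _) :=
    fun s t hst => zpowers_le.2 (by
      rintro _ ⟨k, rfl⟩
      exact (Commute.zpow_left hst k).eq)
  obtain ⟨x', hx', z, hz, rfl⟩ := (H3.mem_sup_iff_of_le_normalizer ((le_centralizer_iff.1 (sup_le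
    (hn c a h.ac.symm) (hn c b h.bc.symm))).trans (centralizer_le_normalizer _))).1 hT
  obtain ⟨x, hx, y, hy, rfl⟩ := (H3.mem_sup_iff_of_le_normalizer ((hn a b h.ab).trans
    (centralizer_le_normalizer _))).1 hx'
  rcases eq_one_or_eq_of_mem_zpowers h.aa hx with rfl | rfl <;>
    rcases eq_one_or_eq_of_mem_zpowers h.bb hy with rfl | rfl <;>
    rcases eq_one_or_eq_of_mem_zpowers h.cc hz with rfl | rfl <;>
    simp [h.ac, mul_assoc]

theorem Tri.rank (h : Tri a b c u v w) (hP : IsPGroup p P) (hodd : Odd (Nat.card P))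
    (hc : IsMulCommutative P) (hu : orderOf u = p) (hv : orderOf v = p) (hw : orderOf w = p) :
    ¬ ∃ x y : P, closure {x, y} = ⊤ := by
  classical
  rintro ⟨x, y, hxy⟩
  let _ : CommGroup P := { (inferInstance : Group P) with mul_comm := hc.is_comm.comm }
  have hn : ∀ A B : Subgroup P, A ≤ normalizer (B : Set P) := fun A B =>
    le_top.trans (normalizer_eq_top B).ge
  have h1 : zpowers u ⊓ zpowers v = ⊥ := eq_bot_iff.2 fun z hz => eq_one_of_eq_inv_of_odd hodd
    ((apply_eq_of_mem_zpowers h.bu hz.1).symm.trans (apply_eq_inv_of_mem_zpowers h.bv hz.2))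
  have h2 : (zpowers u ⊔ zpowers v) ⊓ zpowers w = ⊥ := eq_bot_iff.2 fun z hz => by
    have h3 : zpowers u ⊔ zpowers v ≤ c.toMonoidHom.eqLocus (MonoidHom.id P) :=
      sup_le (zpowers_le.2 h.cu) (zpowers_le.2 h.cv)
    exact eq_one_of_eq_inv_of_odd hodd
      ((show c z = z from h3 hz.1).symm.trans (apply_eq_inv_of_mem_zpowers h.cw hz.2))
  have h3 : zpowers u ⊔ zpowers v ⊔ zpowers w ≤ (powMonoidHom p : P →* P).ker :=
    sup_le (sup_le (zpowers_le.2 (hu ▸ pow_orderOf_eq_one u))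
      (zpowers_le.2 (hv ▸ pow_orderOf_eq_one v))) (zpowers_le.2 (hw ▸ pow_orderOf_eq_one w))
  have h4 := card_dvd_of_le h3
  rw [H3.card_sup_of_inf_eq_bot (hn _ _) h2, H3.card_sup_of_inf_eq_bot (hn _ _) h1,
    Nat.card_zpowers, Nat.card_zpowers, Nat.card_zpowers, hu, hv, hw, ← index_range] at h4
  have h5 : frattini P ≤ (powMonoidHom p : P →* P).range :=
    H1.frattini_le_of_commutator_le_of_pow_mem Fact.out
      (by rw [commutator_eq_bot]; exact bot_le) fun z => ⟨z, rfl⟩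
  have h6 := (h4.trans (index_dvd_of_le h5)).trans
    (H1.index_frattini_dvd_pow_card hP {x, y} (by simpa using hxy))
  rw [show p * p * p = p ^ 3 by ring,
    Nat.pow_dvd_pow_iff_le_right (Fact.out : p.Prime).one_lt] at h6
  have := Finset.card_le_two (a := x) (b := y)
  omega

theorem Tri.main (h : Tri a b c u v w) (hP : IsPGroup p P) (hodd : Odd (Nat.card P))
    (hu : orderOf u = p) (hv : orderOf v = p) (hw : orderOf w = p) {I I₀ : Subgroup (MulAut P)}
    (hI : IsMulCommutative I) (ha : a ∈ I) (hb : b ∈ I) (hc : c ∈ I)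
    (h5 : I ≤ zpowers a ⊔ zpowers b ⊔ zpowers c) (hI₀ : I₀ < I)
    (hdisj : ∀ T ∈ I₀, T ≠ 1 → Cyc T)
    (hprod : ∀ T ∈ I, ∀ T' ∈ I, T ≠ 1 → T' ≠ 1 → ¬ Cyc T → ¬ Cyc T' → T * T' ∈ I₀) :
    IsMulCommutative P ∧ (∃ a b c : P, closure {a, b, c} = ⊤) ∧
      (¬ ∃ a b : P, closure {a, b} = ⊤) ∧
      Nat.card {T : MulAut P // T ∈ I ∧ T ≠ 1 ∧ ¬ Cyc T} = 3 ∧
      closure {T : MulAut P | T ∈ I ∧ T ≠ 1 ∧ ¬ Cyc T} = I ∧
      (I₀ : Set (MulAut P)) = {S : MulAut P | ∃ T T' : MulAut P, T ∈ I ∧ T' ∈ I ∧ T ≠ 1 ∧ T' ≠ 1 ∧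
        ¬ Cyc T ∧ ¬ Cyc T' ∧ S = T * T'} := by
  classical
  have : Finite (MulAut P) := Finite.of_injective _ DFunLike.coe_injective
  have a1 : a ≠ 1 := h.ne hodd h.au rfl
  have b1 : b ≠ 1 := h.rot.ne hodd h.bv rfl
  have c1 : c ≠ 1 := h.rot.rot.ne hodd h.cw rfl
  have na := h.broad hP hodd
  have nb := h.rot.broad hP hodd
  have nc := h.rot.rot.broad hP hodd
  have hab := hprod a ha b hb a1 b1 na nb
  have hbc := hprod b hb c hc b1 c1 nb nc
  have hca := hprod c hc a ha c1 a1 nc na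
  have ab1 : a * b ≠ 1 := h.ne hodd (by rw [MulAut.mul_apply, h.bu, h.au]) rfl
  have bc1 : b * c ≠ 1 := h.rot.ne hodd (by rw [MulAut.mul_apply, h.cv, h.bv]) rfl
  have ca1 : c * a ≠ 1 := h.rot.rot.ne hodd (by rw [MulAut.mul_apply, h.aw, h.cw]) rfl
  obtain ⟨x, hx⟩ := h.gen hP hodd (hdisj _ hbc bc1)
  obtain ⟨y, hy⟩ := h.rot.gen hP hodd (hdisj _ hca ca1)
  obtain ⟨z, hz⟩ := h.rot.rot.gen hP hodd (hdisj _ hab ab1)
  have hI0 : ∀ T ∈ I₀, T = 1 ∨ T = a * b ∨ T = c * a ∨ T = b * c := by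
    intro T hT
    rcases h.enum (h5 (hI₀.le hT)) with e | e | e | e | e | e | e | e
    · exact Or.inl e
    · exact absurd (hdisj a (e ▸ hT) a1) na
    · exact absurd (hdisj b (e ▸ hT) b1) nb
    · exact absurd (hdisj c (e ▸ hT) c1) nc
    · exact Or.inr (Or.inl e)
    · exact Or.inr (Or.inr (Or.inl e))
    · exact Or.inr (Or.inr (Or.inr e))
    · exact absurd (hdisj a ((I₀.mul_mem_cancel_right hbc).1 (e ▸ hT)) a1) na
  have hcm : ∀ s ∈ I, ∀ t ∈ I, s * t = t * s := fun s hs t ht =>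
    congrArg Subtype.val (hI.is_comm.comm (⟨s, hs⟩ : I) ⟨t, ht⟩)
  have htop : closure {x, y, z} = ⊤ := by
    refine eq_top_iff.2 (H2.ext_le_of_forall_fix_le (φ := I₀.subtype)
      ⟨⟨fun s t => Subtype.ext (hcm s (hI₀.le s.2) t (hI₀.le t.2))⟩⟩ ?_ (fun _ _ _ => mem_top _)
      ?_ ?_)
    · intro hcyc
      obtain ⟨g, hg⟩ := (Subgroup.isCyclic_iff_exists_zpowers_eq_top I₀).1 hcyc
      have hg2 : g * g = 1 := by
        rcases hI0 g (hg ▸ mem_zpowers g) with e | e | e | e <;> rw [e]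
        · exact mul_one 1
        · rw [mul_assoc, ← mul_assoc b, ← h.ab, mul_assoc, h.bb, mul_one, h.aa]
        · rw [mul_assoc, ← mul_assoc a, h.ac, mul_assoc, h.aa, mul_one, h.cc]
        · rw [mul_assoc, ← mul_assoc c, ← h.bc, mul_assoc, h.cc, mul_one, h.bb]
      rw [← hg] at hab hbc
      have e1 := (eq_one_or_eq_of_mem_zpowers hg2 hab).resolve_left ab1
      have e2 := (eq_one_or_eq_of_mem_zpowers hg2 hbc).resolve_left bc1
      exact h.ne hodd (T := a * b) (T' := b * c) (by rw [MulAut.mul_apply, h.bu, h.au])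
        (by rw [MulAut.mul_apply, h.cu, h.bu]) (e1.trans e2.symm)
    · have h2 : IsPGroup 2 I₀ := fun g => ⟨1, Subtype.ext (by
        change (g : MulAut P) ^ 2 ^ 1 = 1
        rw [pow_one, pow_two]
        rcases hI0 g g.2 with e | e | e | e <;> rw [e]
        · exact mul_one 1
        · rw [mul_assoc, ← mul_assoc b, ← h.ab, mul_assoc, h.bb, mul_one, h.aa]
        · rw [mul_assoc, ← mul_assoc a, h.ac, mul_assoc, h.aa, mul_one, h.cc]
        · rw [mul_assoc, ← mul_assoc c, ← h.bc, mul_assoc, h.cc, mul_one, h.bb])⟩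
      obtain ⟨n, hn⟩ := IsPGroup.iff_card.1 h2
      rw [hn, card_top]
      exact (Nat.coprime_two_left.2 hodd).pow_left _
    · rintro ⟨T, hT⟩ hT1 g - hg
      change T g = g at hg
      rcases hI0 T hT with rfl | rfl | rfl | rfl
      · exact absurd rfl hT1
      · exact zpowers_le.2 (subset_closure (by simp)) ((hz.fix g).1 hg)
      · exact zpowers_le.2 (subset_closure (by simp)) ((hy.fix g).1 hg)
      · exact zpowers_le.2 (subset_closure (by simp)) ((hx.fix g).1 hg)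
  have hyz := h.comm hodd hx hy.hc hz.hb
  have hzx := h.rot.comm hodd hy hz.hc hx.hb
  have hxy := h.rot.rot.comm hodd hz hx.hc hy.hb
  have hcomm : IsMulCommutative P := by
    have h1 : ∀ s ∈ ({x, y, z} : Set P), s ∈ center P := by
      intro s hs
      rw [← centralizer_univ, ← coe_top, ← htop, centralizer_closure]
      rintro t (rfl | rfl | rfl) <;> rcases hs with (rfl | rfl | rfl) <;>
        first | rfl | assumption | (symm; assumption)
    have h2 : (⊤ : Subgroup P) ≤ center P := htop ▸ (closure_le _).2 h1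
    exact ⟨⟨fun s t => mem_center_iff.1 (h2 (mem_top t)) s⟩⟩
  have habc : Cyc (a * (b * c)) := by
    have h1 : ∀ g, (a * (b * c)) g = g⁻¹ := by
      intro g
      have hg : g ∈ closure {x, y, z} := htop ▸ mem_top g
      induction hg using closure_induction with
      | mem s hs =>
        rcases hs with rfl | rfl | rfl
        · rw [MulAut.mul_apply, MulAut.mul_apply, hx.hc, hx.hb, hx.ha]
        · rw [MulAut.mul_apply, MulAut.mul_apply, hy.hb, hy.ha, map_inv, hy.hc]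
        · rw [MulAut.mul_apply, MulAut.mul_apply, hz.ha, map_inv, map_inv, hz.hc, hz.hb]
      | one => simp
      | mul s t _ _ hs ht => rw [map_mul, hs, ht, mul_inv_rev, hcomm.is_comm.comm]
      | inv s _ hs => rw [map_inv, hs]
    refine ⟨1, fun g => ⟨fun hg => ?_, fun hg => ?_⟩⟩
    · rw [eq_one_of_eq_inv_of_odd hodd (hg.symm.trans (h1 g))]
      exact one_mem _
    · exact apply_eq_of_mem_zpowers (map_one _) hg
  have hset : {T : MulAut P | T ∈ I ∧ T ≠ 1 ∧ ¬ Cyc T} = {a, b, c} := by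
    ext T
    constructor
    · rintro ⟨h1, h2, h3⟩
      rcases h.enum (h5 h1) with e | e | e | e | e | e | e | e
      · exact absurd e h2
      · exact Or.inl e
      · exact Or.inr (Or.inl e)
      · exact Or.inr (Or.inr e)
      · exact absurd (e ▸ hdisj _ hab ab1) h3
      · exact absurd (e ▸ hdisj _ hca ca1) h3
      · exact absurd (e ▸ hdisj _ hbc bc1) h3
      · exact absurd (e ▸ habc) h3
    · rintro (rfl | rfl | rfl)
      · exact ⟨ha, a1, na⟩
      · exact ⟨hb, b1, nb⟩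
      · exact ⟨hc, c1, nc⟩
  refine ⟨hcomm, ⟨x, y, z, htop⟩, h.rank hP hodd hcomm hu hv hw, ?_, ?_, ?_⟩
  · change Nat.card {T : MulAut P | T ∈ I ∧ T ≠ 1 ∧ ¬ Cyc T} = 3
    rw [hset, Nat.card_coe_set_eq]
    exact Set.ncard_eq_three.2 ⟨a, b, c, h.ne hodd h.au h.bu, h.ne hodd h.au h.cu,
      h.rot.ne hodd h.bv h.cv, rfl⟩
  · refine le_antisymm ((closure_le _).2 fun T hT => hT.1) (h5.trans ?_)
    exact sup_le (sup_le (zpowers_le.2 (subset_closure ⟨ha, a1, na⟩))
      (zpowers_le.2 (subset_closure ⟨hb, b1, nb⟩))) (zpowers_le.2 (subset_closure ⟨hc, c1, nc⟩))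
  · ext S
    constructor
    · intro hS
      rcases hI0 S hS with e | e | e | e
      · exact ⟨a, a, ha, ha, a1, a1, na, na, e.trans h.aa.symm⟩
      · exact ⟨a, b, ha, hb, a1, b1, na, nb, e⟩
      · exact ⟨c, a, hc, ha, c1, a1, nc, na, e⟩
      · exact ⟨b, c, hb, hc, b1, c1, nb, nc, e⟩
    · rintro ⟨T, T', h1, h2, h3, h4, h6, h7, rfl⟩
      exact hprod T h1 T' h2 h3 h4 h6 h7


/-- Let p be an odd prime, P a finite p-group and I an elementary abelian subgroup of order 8 of Aut(P). Call T ∈ I, T ≠ 1, broad when its fixed-point subgroup C_P(T) is not cyclic. Suppose I has a proper subgroup I₀ containing no broad element such that the product of any two broad elements lies in I₀. Then P is abelian of rank exactly 3 (generated by three elements but not by two), there are exactly three broad elements and they generate I, and I₀ is exactly the set of products of two broad elements. -/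
theorem result
    {P : Type*} [Group P] [Finite P] (p : ℕ) (hp : p.Prime) (hp2 : p ≠ 2) (hP : IsPGroup p P)
    (I : Subgroup (MulAut P)) (hI : Cfsg.IsElementaryAbelian 2 I) (hI8 : Nat.card ↥I = 8)
    (I₀ : Subgroup (MulAut P)) (hI₀ : I₀ < I)
    (hdisj : ∀ T ∈ I₀, T ≠ 1 → ∃ g : P, ∀ x : P, (T x = x ↔ x ∈ Subgroup.zpowers g))
    (hprod : ∀ T ∈ I, ∀ T' ∈ I, T ≠ 1 → T' ≠ 1 → (¬ ∃ g : P, ∀ x : P, (T x = x ↔ x ∈ Subgroup.zpowers g)) →
      (¬ ∃ g : P, ∀ x : P, (T' x = x ↔ x ∈ Subgroup.zpowers g)) → T * T' ∈ I₀) :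
    IsMulCommutative P ∧ (∃ a b c : P, Subgroup.closure {a, b, c} = ⊤) ∧ (¬ ∃ a b : P, Subgroup.closure {a, b} = ⊤) ∧
      Nat.card {T : MulAut P // T ∈ I ∧ T ≠ 1 ∧ ¬ ∃ g : P, ∀ x : P, (T x = x ↔ x ∈ Subgroup.zpowers g)} = 3 ∧
      Subgroup.closure {T : MulAut P | T ∈ I ∧ T ≠ 1 ∧ ¬ ∃ g : P, ∀ x : P, (T x = x ↔ x ∈ Subgroup.zpowers g)} = I ∧
      (I₀ : Set (MulAut P)) = {S : MulAut P | ∃ T T' : MulAut P, T ∈ I ∧ T' ∈ I ∧ T ≠ 1 ∧ T' ≠ 1 ∧
        (¬ ∃ g : P, ∀ x : P, (T x = x ↔ x ∈ Subgroup.zpowers g)) ∧ (¬ ∃ g : P, ∀ x : P, (T' x = x ↔ x ∈ Subgroup.zpowers g)) ∧ S = T * T'} := by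
  classical
  have := Fact.mk hp
  have : Finite (MulAut P) := Finite.of_injective _ DFunLike.coe_injective
  have hodd : Odd (Nat.card P) := by
    obtain ⟨n, hn⟩ := IsPGroup.iff_card.1 hP
    rw [hn]
    exact (hp.odd_of_ne_two hp2).pow
  obtain ⟨u, a, h1, h2, -, h4⟩ := exists_dih_ext hP.isNilpotent hodd hI (n := 3) hI8
  have hsq : ∀ i, a i * a i = 1 := fun i => by rw [← pow_two]; exact hI.2 _ (h1 i).2.1
  have hcm : ∀ s ∈ I, ∀ t ∈ I, s * t = t * s := fun s hs t ht =>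
    congrArg Subtype.val (hI.1.is_comm.comm (⟨s, hs⟩ : I) ⟨t, ht⟩)
  have hord : ∀ i, orderOf (u i) = p := fun i => by
    obtain ⟨k, hk⟩ := (IsPGroup.iff_orderOf.1 hP) (u i)
    have h5 := (h1 i).1
    rw [hk] at h5 ⊢
    rw [Nat.Prime.eq_one_of_pow h5, pow_one]
  have hu1 : ∀ i, u i ≠ 1 := fun i h => hp.one_lt.ne (by rw [← hord i, h, orderOf_one])
  have hT : Tri (a 0) (a 1) (a 2) (u 0) (u 1) (u 2) :=
    ⟨(h1 0).2.2, h2 0 1 (by decide), h2 0 2 (by decide), h2 1 0 (by decide), (h1 1).2.2,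
      h2 1 2 (by decide), h2 2 0 (by decide), h2 2 1 (by decide), (h1 2).2.2, hu1 0, hu1 1, hu1 2,
      hsq 0, hsq 1, hsq 2, hcm _ (h1 0).2.1 _ (h1 1).2.1, hcm _ (h1 0).2.1 _ (h1 2).2.1,
      hcm _ (h1 1).2.1 _ (h1 2).2.1⟩
  have h5 : I ≤ zpowers (a 0) ⊔ zpowers (a 1) ⊔ zpowers (a 2) := h4.trans (iSup_le fun i => by
    fin_cases i
    · exact le_sup_left.trans le_sup_left
    · exact le_sup_right.trans le_sup_left
    · exact le_sup_right)
  exact hT.main hP hodd (hord 0) (hord 1) (hord 2) hI.1 (h1 0).2.1 (h1 1).2.1 (h1 2).2.1 h5 hI₀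
    hdisj hprod

end Cfsg.Agent.S4412
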