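import Cfsg.Statements.S4418
import Mathlib
import Cfsg.Agent.Base
import Cfsg.Agent.Lib.Functor.Meta
import Cfsg.Agent.Lib.Thompson.NPC
import Cfsg.Agent.Lib.Core.Fitting
import Cfsg.Agent.S0205
import Cfsg.Agent.S0949

set_option autoImplicit false
open Cfsg

namespace Cfsg.Agent.S4418

/-- Let G be a finite group whose Sylow 2-subgroup S is metacyclic via a cyclic normal subgroup N of S with S/N cyclic of order greater than 2. Then G is soluble. -/
theorem result {G : Type*} [Group G] [Finite G] (S : Sylow 2 G) (N : Subgroup ↥(S : Subgroup G)) [hN : N.Normal] (hNc : IsCyclic N) (hQc : IsCyclic (↥(S : Subgroup G) ⧸ N)) (hQ : 2 < Nat.card (↥(S : Subgroup G) ⧸ N)) : Group.IsSolvable G := by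
  open Subgroup H69 H59 in
  have hodd : ∀ n : ℕ, n.Coprime 2 → Odd n := fun n hn => by simpa using hn
  have hexp : ¬ ∀ x : (S : Subgroup G), (x : (S : Subgroup G) ⧸ N) ^ 2 = 1 := fun h => by
    obtain ⟨y, hy⟩ := hQc.exists_generator
    obtain ⟨x, rfl⟩ := QuotientGroup.mk_surjective y
    rw [← orderOf_eq_card_of_forall_mem_zpowers hy] at hQ
    exact absurd (Nat.le_of_dvd two_pos (orderOf_dvd_of_pow_eq_one (h x))) (by omega)
  by_cases h1 : ∃ n : ℕ, 0 < n ∧ Nonempty ((S : Subgroup G) ≃*
      Multiplicative (ZMod (2 ^ n)) × Multiplicative (ZMod (2 ^ n)))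
  · obtain ⟨n, hn, ⟨e⟩⟩ := h1
    have hn2 : 2 ≤ n := by
      by_contra hlt
      obtain rfl : n = 1 := by omega
      refine hexp fun x => ?_
      rw [← QuotientGroup.mk_pow, show x ^ 2 = 1 from e.injective (by
        rw [map_pow, map_one]
        generalize e x = y
        revert y
        decide), QuotientGroup.mk_one]
    refine H1.isSolvable_of_normal_of_quotient (pPrimeCore 2 G)
      (S0205.result (hodd _ H1.coprime_card_pPrimeCore)) ?_
    let P := S.mapSurjective (QuotientGroup.mk'_surjective (pPrimeCore 2 G))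
    have e' : (S : Subgroup G) ≃* (P : Subgroup (G ⧸ pPrimeCore 2 G)) :=
      H24.equivMapOfDisjoint (by
        rw [QuotientGroup.ker_mk', inf_comm]; exact H1.inf_pPrimeCore_eq_bot S.isPGroup')
    obtain ⟨hP, -, hi⟩ := S0949.result P n hn2
      ((e'.symm.trans e).trans (MulEquiv.prodMultiplicative _ _).symm) fun N hN h =>
        H1.pPrimeCore_eq_bot_iff.1 (H1.pPrimeCore_quotient_pPrimeCore (p := 2)) N hN (by simpa using h)
    refine H1.isSolvable_of_normal_of_quotient (P : Subgroup _)
      (H1.isSolvable_of_isPGroup P.isPGroup') (S0205.result ?_)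
    rw [← Subgroup.index_eq_card]
    rcases hi with hi | hi <;> rw [hi] <;> decide
  have h2 : ¬ H93.MaxCl (S : Subgroup G) := fun h => hexp fun x =>
    map_sq_eq_one_of_maxCl h (fun a b => (IsCyclic.commGroup (α := (S : Subgroup G) ⧸ N)).mul_comm a b)
      (QuotientGroup.mk' N) x
  obtain ⟨P, K, hK, hc⟩ := npc_of_isMetacyclic S ⟨N, hN, hNc, hQc⟩ h1 h2
  refine H1.isSolvable_of_normal_of_quotient K (S0205.result ?_) ?_
  · rw [← hc.index_eq_card]
    exact hodd _ ((Nat.Prime.coprime_iff_not_dvd Nat.prime_two).2 P.not_dvd_index).symm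
  · refine H1.isSolvable_of_isPGroup (p := 2) ?_
    obtain ⟨k, hk⟩ := IsPGroup.iff_card.1 P.isPGroup'
    exact IsPGroup.of_card (n := k) (by rw [← Subgroup.index_eq_card, hc.symm.index_eq_card, hk])

end Cfsg.Agent.S4418
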