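import Cfsg.Statements.S4419
import Mathlib
import Cfsg.Agent.Base
import Cfsg.Agent.Lib.Functor.Meta
import Cfsg.Agent.Lib.BG6.PLength

set_option autoImplicit false
open Cfsg

namespace Cfsg.Agent.S4419

/-- Let p be a prime and G a finite group whose Sylow p-subgroups are metacyclic (a cyclic normal subgroup with cyclic quotient). Then G has a normal p-complement if and only if the order of G/O_{p′,p}(G) is coprime to p² − 1. -/
theorem result {G : Type*} [Group G] [Finite G] (p : ℕ) [Fact p.Prime] (S : Sylow p G) (hS : Cfsg.IsMetacyclic ↥(S : Subgroup G)) : Cfsg.HasNormalPComplement p G ↔ Nat.Coprime (Nat.card (G ⧸ Cfsg.pPrimePCore p G)) (p ^ 2 - 1) := by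
  open Subgroup H69 H59 in
  constructor
  · intro h
    have : pPrimePCore p G = ⊤ := eq_top_iff.2
      (H49.le_pPrimePCore_of_hasNormalPComplement (H4.hasNormalPComplement_top_iff.2 h))
    rw [← Subgroup.index_eq_card, this, Subgroup.index_top]
    exact Nat.coprime_one_left _
  intro hn
  rw [H4.hasNormalPComplement_iff_forall_le_sylow S]
  intro Q hQ g hg hc
  have hQp : IsPGroup p Q := S.isPGroup'.to_le hQ
  set n := Nat.card (G ⧸ pPrimePCore p G)
  have h1 : g ^ n ∈ pPrimePCore p G := by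
    rw [← QuotientGroup.eq_one_iff, QuotientGroup.mk_pow]
    exact pow_card_eq_one'
  have h2 : g ^ n ∈ pPrimeCore p G := res_pPrimePCore_le
    (mem_res h1 (Nat.Coprime.coprime_dvd_left (orderOf_pow_dvd n) hc))
  have h3 : ∀ x ∈ Q, g ^ n * x * (g ^ n)⁻¹ = x := fun x hx => by
    have : g ^ n * x * (g ^ n)⁻¹ * x⁻¹ ∈ Q ⊓ pPrimeCore p G :=
      ⟨Q.mul_mem (conj_mem_of_mem_normalizer (Subgroup.pow_mem _ hg n) hx) (Q.inv_mem hx), by
        rw [mul_assoc, mul_assoc, ← mul_assoc x]
        exact Subgroup.mul_mem _ h2 (Subgroup.Normal.conj_mem inferInstance _ (Subgroup.inv_mem _ h2) x)⟩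
    rw [H1.inf_pPrimeCore_eq_bot hQp, Subgroup.mem_bot, mul_inv_eq_one] at this
    exact this
  let a : MulAut Q := Q.normalizerMonoidHom ⟨g, hg⟩
  have h4 : a ^ n = 1 := by
    rw [← map_pow]
    ext x
    exact h3 x x.2
  have h5 := aut_eq_one_of_index_frattini hQp
    (H93.index_frattini_le_of_isMetacyclic hQp (H48.isMetacyclic_of_le hS hQ)) a
    (Nat.Coprime.coprime_dvd_left ((orderOf_map_dvd _ _).trans (by rw [Subgroup.orderOf_mk])) hc)
    (Nat.Coprime.coprime_dvd_left (orderOf_dvd_of_pow_eq_one h4) hn)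
  intro x hx
  have := congrArg Subtype.val (DFunLike.congr_fun h5 ⟨x, hx⟩)
  exact (mul_inv_eq_iff_eq_mul.1 this).symm

end Cfsg.Agent.S4419
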