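import Cfsg.Statements.S4501
import Mathlib
import Cfsg.Agent.Base
import Cfsg.Agent.S0483
import Cfsg.Agent.S3331
import Cfsg.Agent.S0904
import Cfsg.Agent.S0494
import Cfsg.Agent.Lib.Small36.SylAct
import Cfsg.Agent.Lib.Small36.PSL2p
import Cfsg.Agent.Lib.GL.Basic
import Cfsg.Agent.Lib.Core.PCore
import Cfsg.Agent.Lib.Char.BurnsidePQ

set_option autoImplicit false
open Cfsg

namespace Cfsg.Agent.S4501

theorem arith {p q a b u : ℕ} (hp : p.Prime) (hq : q.Prime) (hp2 : p ≠ 2) (hq2 : q ≠ 2)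
    (hu : 2 ≤ u) (h : (2 * u + 1) * (u * (u + 1)) = 2 * (p ^ a * q ^ b)) : u = 2 := by
  by_contra hu2
  have hodd : Odd (p ^ a * q ^ b) := (hp.odd_of_ne_two hp2).pow.mul (hq.odd_of_ne_two hq2).pow
  have key : ∀ v, v ∣ 2 * (p ^ a * q ^ b) → 3 ≤ v → p ∣ v ∨ q ∣ v := by
    intro v hv h3
    by_contra! h4
    have h5 : v.Coprime (p ^ a * q ^ b) :=
      Nat.Coprime.mul_right ((hp.coprime_iff_not_dvd.2 h4.1).symm.pow_right a)
        ((hq.coprime_iff_not_dvd.2 h4.2).symm.pow_right b)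
    have := Nat.le_of_dvd two_pos (h5.dvd_of_dvd_mul_right hv)
    omega
  have h1 := key (2 * u + 1) (h ▸ dvd_mul_right _ _) (by omega)
  have h2 := key u (h ▸ (dvd_mul_right _ _).mul_left _) (by omega)
  have h3 := key (u + 1) (h ▸ (dvd_mul_left _ _).mul_left _) (by omega)
  have k1 : ∀ r : ℕ, r.Prime → r ∣ u → ¬ r ∣ u + 1 := fun r hr h4 h5 =>
    hr.one_lt.ne' (Nat.dvd_one.1 ((Nat.dvd_add_right h4).1 h5))
  have k2 : ∀ r : ℕ, r.Prime → r ∣ u → ¬ r ∣ 2 * u + 1 := fun r hr h4 h5 =>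
    hr.one_lt.ne' (Nat.dvd_one.1 ((Nat.dvd_add_right (h4.mul_left 2)).1 h5))
  have k3 : ∀ r : ℕ, r.Prime → r ∣ u + 1 → ¬ r ∣ 2 * u + 1 := fun r hr h4 h5 =>
    hr.one_lt.ne' (Nat.dvd_one.1 ((Nat.dvd_add_right h5).1
      (by rw [show 2 * u + 1 + 1 = 2 * (u + 1) by ring]; exact h4.mul_left 2)))
  have := k1 p hp; have := k1 q hq; have := k2 p hp; have := k2 q hq
  have := k3 p hp; have := k3 q hq
  tauto

/-- Let G be a non-abelian finite simple group and p, q distinct primes. If the order of G is 4·p^a·q^b with a ≤ 2, then G is isomorphic to the alternating group of degree 5. If the order of G is 3·p^a·q^b with a ≤ 2, then G is isomorphic to the alternating group of degree 5 or to PSL(2,7). -/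
theorem result {G : Type*} [Group G] [Finite G] [IsSimpleGroup G] (hna : ∃ x y : G, x * y ≠ y * x) (p q a b : ℕ) (hp : p.Prime) (hq : q.Prime) (hpq : p ≠ q) (ha : a ≤ 2) : (Nat.card G = 4 * p ^ a * q ^ b → Nonempty (G ≃* alternatingGroup (Fin 5))) ∧ (Nat.card G = 3 * p ^ a * q ^ b → Nonempty (G ≃* alternatingGroup (Fin 5)) ∨ Nonempty (G ≃* Matrix.ProjectiveSpecialLinearGroup (Fin 2) (ZMod 7))) := by
  classical
  have hG : ¬ IsMulCommutative G := fun h => by
    obtain ⟨x, y, hxy⟩ := hna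
    exact hxy (h.1.1 x y)
  have hns : ¬ Group.IsSolvable G := fun h => hG (IsSimpleGroup.comm_iff_isSolvable.2 h |> fun h => ⟨⟨h⟩⟩)
  have hquot : ∀ (N : Subgroup G) [N.Normal], N ≠ ⊤ → Nonempty (G ≃* G ⧸ N) := by
    intro N hN h
    obtain rfl := hN.eq_bot_or_eq_top.resolve_right h
    exact ⟨QuotientGroup.quotientBot.symm⟩
  constructor
  · intro hc
    have hp2 : p ≠ 2 := by
      rintro rfl
      exact hns (H8.isSolvable_of_card_dvd hp hq (a := a + 2) (b := b) (by rw [hc]; ring_nf; rfl))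
    have hq2 : q ≠ 2 := by
      rintro rfl
      exact hns (H8.isSolvable_of_card_dvd hp hq (a := a) (b := b + 2) (by rw [hc]; ring_nf; rfl))
    have hodd : Odd (p ^ a * q ^ b) := (hp.odd_of_ne_two hp2).pow.mul (hq.odd_of_ne_two hq2).pow
    rw [mul_assoc] at hc
    obtain ⟨m, hm⟩ := hodd
    obtain ⟨S⟩ : Nonempty (Sylow 2 G) := inferInstance
    have hS : Nat.card S = 2 ^ 2 := H36.card_sylow_eq_pow S (by rw [hc]; omega) (by rw [hc]; omega)
    have hcyc := H36.not_isCyclic_sylow_two hG (by rw [hc]; omega) S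
    haveI : IsKleinFour (S : Subgroup G) := by
      refine ⟨hS, ?_⟩
      exact (not_isCyclic_iff_exponent_eq_prime Nat.prime_two hS).1 hcyc
    haveI : Group.IsPerfect G := ⟨H36.commutator_eq_top_of_simple hG⟩
    obtain ⟨e⟩ := hquot (oddCore G) fun h => by
      have := H1.odd_card_oddCore (G := G)
      rw [h, Subgroup.card_top, hc, Nat.odd_iff] at this
      omega
    rcases Cfsg.Agent.S0483.result S 2 le_rfl IsKleinFour.nonempty_mulEquiv with
      ⟨F, _, _, ⟨u, hu⟩, h3, ⟨f⟩⟩ | ⟨⟨f⟩⟩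
    · have h1 := H10.card_PSL_two (F := F)
      rw [← Nat.card_congr (e.trans f).toEquiv, Nat.card_eq_fintype_card (α := F), hu,
        Nat.add_sub_cancel, Nat.gcd_eq_left (dvd_mul_right 2 u)] at h1
      obtain rfl := arith (a := a) (b := b) (u := u) hp hq hp2 hq2 (by omega) (by
        rw [hc] at h1; linarith)
      exact Cfsg.Agent.S0494.result (by omega)
    · have h1 := Nat.card_congr (e.trans f).toEquiv
      have h2 := two_mul_nat_card_alternatingGroup (α := Fin 7)
      rw [Nat.card_perm, Nat.card_eq_fintype_card (α := Fin 7), Fintype.card_fin, ← h1, hc] at h2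
      norm_num [Nat.factorial] at h2
      omega
  · intro hc
    have hp3 : p ≠ 3 := by
      rintro rfl
      exact hns (H8.isSolvable_of_card_dvd hp hq (a := a + 1) (b := b) (by rw [hc]; ring_nf; rfl))
    have hq3 : q ≠ 3 := by
      rintro rfl
      exact hns (H8.isSolvable_of_card_dvd hp hq (a := a) (b := b + 1) (by rw [hc]; ring_nf; rfl))
    haveI := Fact.mk Nat.prime_three
    obtain ⟨S⟩ : Nonempty (Sylow 3 G) := inferInstance
    have h3 : ¬ 3 ∣ p ^ a * q ^ b := fun h => by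
      rcases (Nat.Prime.dvd_mul Nat.prime_three).1 h with h | h
      · exact hp3 ((Nat.prime_dvd_prime_iff_eq Nat.prime_three hp).1
          (Nat.prime_three.dvd_of_dvd_pow h)).symm
      · exact hq3 ((Nat.prime_dvd_prime_iff_eq Nat.prime_three hq).1
          (Nat.prime_three.dvd_of_dvd_pow h)).symm
    have hS : Nat.card S = 3 ^ 1 :=
      H36.card_sylow_eq_pow S (by rw [hc, mul_assoc]; omega) (by rw [hc, mul_assoc]; omega)
    have hC := Cfsg.Agent.S0904.result p q 3 a b hp hq hpq hp3 hq3 (by rw [hc]; ring) S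
    rcases Cfsg.Agent.S3331.result (S : Subgroup G) hS hC with
      ⟨N, hN, h1, -, h2⟩ | ⟨N, hN, h1, -, ⟨f⟩⟩ | h
    · exfalso
      refine hns ?_
      haveI : Group.IsSolvable (G ⧸ N) := by
        rcases h2 with h2 | ⟨⟨f⟩⟩
        · haveI := isCyclic_of_prime_card h2
          exact Group.isSolvable_of_comm fun x y => IsMulCommutative.is_comm.comm x y
        · exact H8.isSolvable_of_card_dvd Nat.prime_two Nat.prime_three (a := 1) (b := 1)
            (by rw [Nat.card_congr f.toEquiv, Nat.card_perm]; simp [Nat.factorial])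
      exact Group.isSolvable_of_ker_le_range N.subtype (QuotientGroup.mk' N) (by simp)
    · obtain ⟨e⟩ := hquot N fun h => hG (by
        subst h
        exact ⟨⟨fun x y => congrArg Subtype.val (h1.1.1 ⟨x, trivial⟩ ⟨y, trivial⟩)⟩⟩)
      exact Or.inl ⟨e.trans f⟩
    · exact Or.inr h

end Cfsg.Agent.S4501
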