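import Mathlib
import Cfsg.Statements.S4606
import Cfsg.Agent.Lib.Block.FongRank
import Cfsg.Agent.S1953

set_option autoImplicit false
open Cfsg

namespace Cfsg.Agent.S4606

open H86 H35

variable {G : Type*} [Group G] [Finite G] {p : ℕ} [hp : Fact p.Prime]

theorem pow_eq_one_of {D : Subgroup G} (hD : IsPGroup p D)
    (h : ∀ u ∈ D, ∀ v ∈ D, u ≠ 1 → v ≠ 1 → IsConj u v) {a : G} (ha : a ∈ D) : a ^ p = 1 := by
  by_contra hne
  have ha1 : a ≠ 1 := fun e => hne (by rw [e, one_pow])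
  have h1 := H35.orderOf_eq_of_isConj (h a ha _ (D.pow_mem ha p) ha1 hne)
  have h2 := (isPElt_of_mem hD ha).dvd_orderOf ha1
  rw [orderOf_pow' _ hp.out.ne_zero, Nat.gcd_eq_right h2] at h1
  have := Nat.div_lt_self (orderOf_pos a) hp.out.one_lt
  omega

theorem comm_of_constrained (hG : IsPConstrained p G) (S : Sylow p G)
    (h : ∀ u ∈ (S : Subgroup G), ∀ v ∈ (S : Subgroup G), u ≠ 1 → v ≠ 1 → IsConj u v)
    {a b : G} (ha : a ∈ (S : Subgroup G)) (hb : b ∈ (S : Subgroup G)) : a * b = b * a := by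
  have hC := H23.isPConstrained_iff.1 hG
  set π := QuotientGroup.mk' (pPrimeCore p G) with hπ
  have hinj : ∀ x ∈ (S : Subgroup G), π x = 1 → x = 1 := fun x hx h1 => by
    have : x ∈ pPrimeCore p G ⊓ (S : Subgroup G) := ⟨(QuotientGroup.eq_one_iff x).1 h1, hx⟩
    rwa [H4.inf_eq_bot_of_not_dvd_card H1.not_dvd_card_pPrimeCore S.isPGroup'] at this
  by_cases ha1 : a = 1
  · simp [ha1]
  by_cases hb1 : b = 1
  · simp [hb1]
  set K := pCore p (G ⧸ pPrimeCore p G) with hK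
  have hK1 : Nontrivial K := by
    rw [Subgroup.nontrivial_iff_ne_bot]
    intro e
    apply ha1
    apply hinj a ha
    have : π a ∈ K := hC (by
      rw [Subgroup.mem_centralizer_iff]; intro y hy
      rw [e] at hy
      rw [Subgroup.mem_bot.1 hy]; simp)
    rwa [e] at this
  have hKp : IsPGroup p K := H1.isPGroup_pCore
  obtain ⟨⟨⟨z, hzK⟩, hz⟩, hz1⟩ := @exists_ne _ hKp.center_nontrivial 1
  obtain ⟨w, hw, rfl⟩ := H76.pCore_le_map_sylow (QuotientGroup.mk'_surjective _) S hzK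
  have hw1 : w ≠ 1 := fun e => hz1 (by subst e; rfl)
  have hzC : π w ∈ K ⊓ Cen K := ⟨hzK, mem_Cen.2 fun q hq =>
    congrArg Subtype.val (Subgroup.mem_center_iff.1 hz ⟨q, hq⟩)⟩
  have key : ∀ x ∈ (S : Subgroup G), x ≠ 1 → π x ∈ K ⊓ Cen K := fun x hx hx1 => by
    obtain ⟨g, rfl⟩ := isConj_iff.1 (h w hw x hx hw1 hx1)
    rw [map_mul, map_mul, map_inv]
    exact (inferInstance : (K ⊓ Cen K).Normal).conj_mem _ hzC _
  have e := mem_Cen.1 (key b hb hb1).2 _ (key a ha ha1).1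
  have := hinj (a * b * (b * a)⁻¹) (by
    exact Subgroup.mul_mem _ (Subgroup.mul_mem _ ha hb) (Subgroup.inv_mem _ (Subgroup.mul_mem _ hb ha)))
    (by rw [map_mul, map_inv, map_mul, map_mul, e, mul_inv_cancel])
  exact mul_inv_eq_one.1 this

theorem mem_Cen_of_fixed
    (h : ∀ u : G, IsPElt p u → u ≠ 1 → HasNormalPComplement p (Subgroup.centralizer ({u} : Set G)))
    {R : Subgroup G} (hR : IsPGroup p R) {y : G} (hy : ¬ p ∣ orderOf y) (hyR : y ∈ Nor R)
    {u : G} (hu : u ∈ R) (hu1 : u ≠ 1) (huy : Commute u y) : y ∈ Cen R := by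
  have key : ∀ w ∈ R, w ≠ 1 → Commute w y → ∀ r ∈ R, Commute w r → Commute r y := by
    intro w hw hw1 hwy r hr hwr
    have hyC : y ∈ Subgroup.centralizer ({w} : Set G) :=
      Subgroup.mem_centralizer_singleton_iff.2 hwy.symm
    have := H4.mem_centralizer_of_hasNormalPComplement (h w (isPElt_of_mem hR hw) hw1)
      (Q := R ⊓ Subgroup.centralizer ({w} : Set G)) hR.to_inf_left inf_le_right hyC
      (mem_Nor_inf hyR (Subgroup.le_normalizer hyC))
      ((Nat.Prime.coprime_iff_not_dvd hp.out).2 hy).symm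
    exact mem_Cen.1 this r ⟨hr, Subgroup.mem_centralizer_singleton_iff.2 hwr.symm⟩
  haveI : Nontrivial R := ⟨⟨u, hu⟩, 1, fun e => hu1 (congrArg Subtype.val e)⟩
  obtain ⟨⟨⟨z, hzR⟩, hz⟩, hz1⟩ := @exists_ne _ hR.center_nontrivial 1
  have hz' : ∀ r ∈ R, Commute z r := fun r hr =>
    (congrArg Subtype.val (Subgroup.mem_center_iff.1 hz ⟨r, hr⟩)).symm
  have hz1' : z ≠ 1 := fun e => hz1 (by subst e; rfl)
  have hzy := key u hu hu1 huy z hzR (hz' u hu).symm
  exact mem_Cen.2 fun r hr => key z hzR hz1' hzy r hr (hz' r hr)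

theorem exists_fixed {L : Type*} [Group L] {H : Subgroup G} (φ : H →* L) {R : Subgroup H} {y : H}
    (hy : y ∈ Nor R) (hc : ∀ r ∈ R, Commute (φ r) (φ y)) {r : H} (hr : r ∈ R) (h1 : φ r ≠ 1) :
    ∃ u ∈ R, u ≠ 1 ∧ Commute u y := by
  by_contra hne
  push Not at hne
  let f : R → R := fun s => ⟨s⁻¹ * (y * s * y⁻¹), R.mul_mem (R.inv_mem s.2) ((mem_Nor.1 hy _).1 s.2)⟩
  have hf : Function.Injective f := fun s t e => by
    have e' : (s : H)⁻¹ * (y * s * y⁻¹) = (t : H)⁻¹ * (y * t * y⁻¹) := congrArg Subtype.val e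
    by_contra hst
    refine hne ((t : H) * (s : H)⁻¹) (R.mul_mem t.2 (R.inv_mem s.2))
      (fun e1 => hst (Subtype.ext (mul_inv_eq_one.1 e1).symm)) ?_
    show _ * _ = _ * _
    calc (t : H) * (s : H)⁻¹ * y = t * ((s : H)⁻¹ * (y * s * y⁻¹)) * (y * (s : H)⁻¹) := by group
      _ = _ := by rw [e']; group
  obtain ⟨s, hs⟩ := Finite.surjective_of_injective hf ⟨r, hr⟩
  apply h1
  have e : r = (s : H)⁻¹ * (y * s * y⁻¹) := (congrArg Subtype.val hs).symm
  rw [e, map_mul, map_mul, map_mul, map_inv, map_inv, ← (hc s s.2).eq]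
  group

theorem free (hp2 : p ≠ 2)
    (h : ∀ u : G, IsPElt p u → u ≠ 1 → HasNormalPComplement p (Subgroup.centralizer ({u} : Set G)))
    (Q : Subgroup G) (hQ : IsPGroup p Q) : ¬ ∃ (H K : Subgroup G) (_ : (K.subgroupOf H).Normal),
      Subgroup.centralizer (Q : Set G) ≤ K ∧ K ≤ H ∧ H ≤ Subgroup.normalizer (Q : Set G) ∧
      Nonempty ((↥H ⧸ K.subgroupOf H) ≃* Matrix.SpecialLinearGroup (Fin 2) (ZMod p)) := by
  rintro ⟨H, K, hN, hCK, hKH, hHN, ⟨e⟩⟩
  let φ : H →* Matrix.SpecialLinearGroup (Fin 2) (ZMod p) :=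
    e.toMonoidHom.comp (QuotientGroup.mk' _)
  have hφ : Function.Surjective φ := e.surjective.comp (QuotientGroup.mk'_surjective _)
  have hker : ∀ x : H, (x : G) ∈ K → φ x = 1 := fun x hx => by
    show e _ = 1
    rw [QuotientGroup.mk'_apply, (QuotientGroup.eq_one_iff x).2 (Subgroup.mem_subgroupOf.2 hx),
      map_one]
  let t : Matrix.SpecialLinearGroup (Fin 2) (ZMod p) := ⟨!![1, 1; 0, 1], by simp [Matrix.det_fin_two]⟩
  have htn : ∀ n : ℕ, ((t ^ n : Matrix.SpecialLinearGroup (Fin 2) (ZMod p)) :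
      Matrix (Fin 2) (Fin 2) (ZMod p)) = !![1, (n : ZMod p); 0, 1] := by
    intro n
    induction n with
    | zero => simp [Matrix.one_fin_two]
    | succ n ih =>
      rw [pow_succ, Matrix.SpecialLinearGroup.coe_mul, ih]
      simp [t, add_comm]
  have htp : t ^ p = 1 := Subtype.ext (by rw [htn]; simp [Matrix.one_fin_two])
  have ht1 : t ≠ 1 := fun e1 => by
    have := congrFun (congrFun (congrArg Subtype.val e1) 0) 1
    simp [t] at this
  let z : Matrix.SpecialLinearGroup (Fin 2) (ZMod p) := -1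
  have hz2 : z ^ 2 = 1 := by simp [z]
  have hzc : ∀ w, Commute z w := fun w => by simp [z, Commute, SemiconjBy]
  have hz1 : z ≠ 1 := fun e1 => by
    have := congrFun (congrFun (congrArg Subtype.val e1) 0) 0
    simp only [z, Matrix.SpecialLinearGroup.coe_neg, Matrix.SpecialLinearGroup.coe_one,
      Matrix.neg_apply, Matrix.one_apply_eq] at this
    have h2 : ((2 : ℕ) : ZMod p) = 0 := by
      push_cast; linear_combination -this
    rw [ZMod.natCast_eq_zero_iff] at h2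
    exact hp2 ((Nat.prime_dvd_prime_iff_eq hp.out Nat.prime_two).1 h2)
  have hzo : ¬ p ∣ orderOf z := fun hd =>
    hp2 ((Nat.prime_dvd_prime_iff_eq hp.out Nat.prime_two).1
      (hd.trans (orderOf_dvd_of_pow_eq_one hz2)))
  have htP : IsPElt p t := isPElt_of_pow_eq_one (k := 1) (by rwa [pow_one])
  let H1 : Subgroup H := (Subgroup.zpowers t).comap φ
  obtain ⟨t0, ht0⟩ := hφ t
  have hr0 : φ (pPart p t0) = t := by rw [← pPart_map, ht0, pPart_eq_self htP]
  obtain ⟨R, hR, hr0R⟩ := exists_isSyl_ge (K := H1) (R := Subgroup.zpowers (pPart p t0))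
    (Subgroup.zpowers_le.2 (by
      show φ _ ∈ Subgroup.zpowers t
      rw [hr0]; exact Subgroup.mem_zpowers t)) (isPElt_iff_zpowers.1 (isPElt_pPart p t0))
  obtain ⟨y0, hy0⟩ := hφ z
  have hcs : cs y0 H1 = H1 := by
    ext x
    rw [mem_cs]
    show φ _ ∈ Subgroup.zpowers t ↔ φ x ∈ Subgroup.zpowers t
    rw [map_mul, map_mul, map_inv, hy0, mul_assoc, ← (hzc _).eq, inv_mul_cancel_left]
  have hR' := hR.cs y0
  rw [hcs] at hR'
  obtain ⟨k, hk, hkR⟩ := hR'.conj hR
  have hn : k * y0 ∈ Nor R := by rw [mem_Nor_iff_cs, cs_mul, ← hkR]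
  let y := pReg p (k * y0)
  have hyR : y ∈ Nor R := pReg_mem p hn
  have hφy : φ y = z := by
    show φ (pReg p _) = z
    rw [← pReg_map, map_mul, hy0]
    exact pReg_mul_eq (htP.of_mem_zpowers hk) hzo (hzc _).symm
  obtain ⟨u, hu, hu1, huy⟩ := exists_fixed φ hyR (fun r _ => by rw [hφy]; exact (hzc _).symm)
    (hr0R (Subgroup.mem_zpowers _)) (by rw [hr0]; exact ht1)
  have hRN : R.map H.subtype ≤ Nor Q := fun x ⟨w, _, hw⟩ => hw ▸ hHN w.2
  have hyN : (y : G) ∈ Nor (R.map H.subtype) := by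
    rw [mem_Nor]
    intro q
    constructor
    · rintro ⟨w, hw, rfl⟩
      exact ⟨y * w * y⁻¹, (mem_Nor.1 hyR w).1 hw, rfl⟩
    · rintro ⟨w, hw, e1⟩
      refine ⟨y⁻¹ * w * y, (mem_Nor.1 hyR _).2 (by simpa [mul_assoc] using hw), ?_⟩
      simp only [Subgroup.coe_subtype, Subgroup.coe_mul, Subgroup.coe_inv] at e1 ⊢
      rw [e1]; group
  have := mem_Cen_of_fixed h (isPGroup_sup hQ (hR.pgrp.map H.subtype) hRN) (y := y)
    (by rw [Subgroup.orderOf_coe]; exact not_dvd_orderOf_pReg p _)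
    (mem_Nor_sup (hHN y.2) hyN) (u := u) (Subgroup.mem_sup_right ⟨u, hu, rfl⟩)
    (fun e1 => hu1 (Subtype.ext e1)) (congrArg Subtype.val huy.eq)
  exact hz1 (hφy ▸ hker y (hCK (Cen_anti le_sup_left this)))

theorem comm_of_principal (hp2 : p ≠ 2)
    (h : ∀ u : G, IsPElt p u → u ≠ 1 → HasNormalPComplement p (Subgroup.centralizer ({u} : Set G)))
    (S : Sylow p G)
    (hc : ∀ u ∈ (S : Subgroup G), ∀ v ∈ (S : Subgroup G), u ≠ 1 → v ≠ 1 → IsConj u v)
    {a b : G} (ha : a ∈ (S : Subgroup G)) (hb : b ∈ (S : Subgroup G)) : a * b = b * a := by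
  obtain ⟨Q, ⟨hQS, ⟨R, hR⟩, -⟩, -, -, hfus⟩ := Cfsg.Agent.S1953.result hp2 S (free hp2 h) _
    (fun _ => Iff.rfl)
  by_cases ha1 : a = 1
  · simp [ha1]
  by_cases hb1 : b = 1
  · simp [hb1]
  have hQp : IsPGroup p Q := S.isPGroup'.to_le hQS
  have hQ1 : Nontrivial Q := by
    rw [Subgroup.nontrivial_iff_ne_bot]
    rintro rfl
    have h1 := isSyl_map R
    rw [hR, bot_inf_eq] at h1
    have h2 := h1.card_le (R := S) (by
      intro x _
      rw [Subgroup.mem_centralizer_iff]; intro y hy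
      rw [Subgroup.mem_bot.1 hy]; simp) S.isPGroup'
    rw [Subgroup.card_bot] at h2
    have : (S : Subgroup G) = ⊥ := Subgroup.eq_bot_of_card_le _ h2
    exact ha1 (by rwa [this] at ha)
  obtain ⟨⟨⟨z, hzQ⟩, hz⟩, hz1⟩ := @exists_ne _ hQp.center_nontrivial 1
  have hz1' : z ≠ 1 := fun e => hz1 (by subst e; rfl)
  have hzC : z ∈ Q ⊓ Cen Q := ⟨hzQ, mem_Cen.2 fun q hq =>
    congrArg Subtype.val (Subgroup.mem_center_iff.1 hz ⟨q, hq⟩)⟩
  have key : ∀ x ∈ (S : Subgroup G), x ≠ 1 → x ∈ Q ⊓ Cen Q := fun x hx hx1 => by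
    obtain ⟨g, rfl⟩ := isConj_iff.1 (hc z (hQS hzQ) x hx hz1' hx1)
    obtain ⟨n, hn, c, hc', rfl⟩ := hfus (Subgroup.zpowers z) (Subgroup.zpowers_le.2 (hQS hzQ)) g
      (by rw [← cs_def, cs_zpowers]; exact Subgroup.zpowers_le.2 hx)
    have e := mem_Cen.1 hc' z (Subgroup.mem_zpowers z)
    have : n * c * z * (n * c)⁻¹ = n * z * n⁻¹ := by
      calc _ = n * (c * z) * c⁻¹ * n⁻¹ := by group
        _ = _ := by rw [← e]; group
    rw [this]
    exact (mem_Nor.1 (mem_Nor_inf hn (Nor_le_Nor_Cen Q hn)) z).1 hzC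
  exact mem_Cen.1 (key b hb hb1).2 _ (key a ha ha1).1

theorem solv.{u} {M : Ideal AlgInt} [M.IsMaximal] (hM : IsPModular p M) (G : Type u) [Group G]
    [Finite G] (hG : IsPSolvable p G) {B : Set (IrrCharacter G)} (hB : IsPBlock M B) :
    Nat.card B = blockRank p B + 1 → ∀ D : Subgroup G, IsDefectGroup p M B D →
      ∀ a ∈ D, ∀ b ∈ D, a * b = b * a := by
  refine H34.fong_induction hM (fun G _ _ B => Nat.card B = blockRank p B + 1 →
    ∀ D : Subgroup G, IsDefectGroup p M B D → ∀ a ∈ D, ∀ b ∈ D, a * b = b * a) ?_ ?_ G hG hB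
  · intro G _ _ _ hG θ hθ hB hk D hD a ha b hb
    obtain ⟨S, rfl⟩ := ((H34.isDefectGroup_iff_isSyl hM H1.not_dvd_card_pPrimeCore hθ hB D).1
      hD).exists_sylow_top
    exact comm_of_constrained (H23.isPConstrained_of_isPSolvable hG) S
      (fun u hu v hv => H34.isConj_of_card_eq_rank_add_one hM hB hD hk hu hv) ha hb
  · intro G _ _ T B' B _ _ h ih hk D hD a ha b hb
    obtain ⟨D', hD', ⟨e⟩⟩ := h.exists_equiv hM hD
    rw [h.card, h.rank hM] at hk
    obtain ⟨a', ha'⟩ := e.surjective ⟨a, ha⟩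
    obtain ⟨b', hb'⟩ := e.surjective ⟨b, hb⟩
    have : a' * b' = b' * a' := Subtype.ext (ih hk D' hD' _ a'.2 _ b'.2)
    have := congrArg (fun x => (e x : G)) this
    simpa [ha', hb'] using this

omit hp


/-- Let G be a finite group, p a prime, M a maximal ideal of the algebraic integers containing p, and B a p-block of G with defect group D. Suppose the number of irreducible characters in B exceeds the p-regular rank of B (the number of irreducible Brauer characters in B) by exactly one. If B is the principal block, or if G is p-solvable, then D is elementary abelian. -/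
theorem result {G : Type*} [Group G] [Finite G] (p : ℕ) [Fact p.Prime] (M : Ideal Cfsg.AlgInt) (hM : Cfsg.IsPModular p M) (B : Set (Cfsg.IrrCharacter G)) (hB : Cfsg.IsPBlock M B) (D : Subgroup G) (hD : Cfsg.IsDefectGroup p M B D)
    (hk : Nat.card B = Cfsg.blockRank p B + 1) (hB0 : B = Cfsg.principalBlock M G ∨ Cfsg.IsPSolvable p G) :
    Cfsg.IsElementaryAbelian p D := by
  classical
  haveI := hM.2.1
  haveI := Fintype.ofFinite G
  have hDp := H33.defect_isPGroup hD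
  have hc : ∀ u ∈ D, ∀ v ∈ D, u ≠ 1 → v ≠ 1 → IsConj u v := fun u hu v hv =>
    H34.isConj_of_card_eq_rank_add_one hM hB hD hk hu hv
  have hpow : ∀ a ∈ D, a ^ p = 1 := fun a ha => pow_eq_one_of hDp hc ha
  suffices h : ∀ a ∈ D, ∀ b ∈ D, a * b = b * a from
    ⟨⟨⟨fun a b => Subtype.ext (h a a.2 b b.2)⟩⟩, hpow⟩
  rcases hB0 with rfl | hG
  · intro a ha b hb
    by_cases hp2 : p = 2
    · subst hp2
      have h1 := hpow a ha
      have h2 := hpow b hb
      have h3 := hpow _ (D.mul_mem ha hb)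
      rw [sq] at h1 h2 h3
      have e1 : a⁻¹ = a := inv_eq_of_mul_eq_one_right h1
      have e2 : b⁻¹ = b := inv_eq_of_mul_eq_one_right h2
      have e3 : (a * b)⁻¹ = a * b := inv_eq_of_mul_eq_one_right h3
      rw [← e3, mul_inv_rev, e1, e2]
    · haveI := H33.charP hM
      obtain ⟨S, rfl⟩ := ((H86.isDef_of_aug (H86.isBlk_eB hB)
        (by rw [H86.aug_eB_principal]; exact one_ne_zero)).1
        ((H86.isDefectGroup_iff hB D).1 hD)).exists_sylow_top
      exact comm_of_principal hp2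
        (fun u hu hu1 => H34.hasNormalPComplement_of_card_eq_rank_add_one hM hk hu hu1) S hc ha hb
  · exact solv hM G hG hB hk D hD

end Cfsg.Agent.S4606
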