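import Mathlib
import Cfsg.Statements.S4621
import Cfsg.Agent.Lib.FGS83.BaseJ

set_option autoImplicit false
open Cfsg

namespace Cfsg.Agent.S4621


/-- Let F be a finite field of odd characteristic, V a finite-dimensional vector space over F, and G a finite solvable group acting faithfully and linearly on V with the order of G coprime to the number of vectors of V. Then there are two vectors x, y ∈ V such that the only element of G fixing both x and y is the identity. -/
theorem result {F : Type*} [Field F] [Fintype F] (hF : ringChar F ≠ 2) {V : Type*} [AddCommGroup V] [Module F V] [FiniteDimensional F V] [Finite V]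
    {G : Type*} [Group G] [Finite G] [Group.IsSolvable G] (ρ : Representation F G V) (hfaith : Function.Injective ρ) (hcop : (Nat.card G).Coprime (Nat.card V)) :
    ∃ x y : V, ∀ g : G, ρ g x = x → ρ g y = y → g = 1 := by
  let φ : G →* MulAut (Multiplicative V) :=
    { toFun := fun g =>
        { toFun := fun v => Multiplicative.ofAdd (ρ g v.toAdd)
          invFun := fun v => Multiplicative.ofAdd (ρ g⁻¹ v.toAdd)
          left_inv := fun v => by simp
          right_inv := fun v => by simp
          map_mul' := fun v w => by simp }
      map_one' := by ext; simp
      map_mul' := fun a b => by ext; simp }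
  obtain ⟨x, y, h⟩ := H83.Base.two_all φ inferInstance hcop
  refine ⟨x.toAdd, y.toAdd, fun g hx hy => hfaith ?_⟩
  ext v
  rw [map_one]
  exact congrArg Multiplicative.toAdd (h g (congrArg Multiplicative.ofAdd hx)
    (congrArg Multiplicative.ofAdd hy) (Multiplicative.ofAdd v))
end Cfsg.Agent.S4621
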