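import Cfsg.Statements.S4745
import Mathlib
import Cfsg.Agent.Lib.Blk86.Rob2
import Cfsg.Agent.Lib.Blk86.RkOne
import Cfsg.Agent.Lib.BSE.Main
import Cfsg.Agent.Lib.FGS.PLength
import Cfsg.Agent.Lib.Core.Permutable
import Cfsg.Agent.Lib.LocEven.SPE
import Cfsg.Agent.S0205
import Cfsg.Agent.S0225

set_option autoImplicit false
open Cfsg

namespace Cfsg.Agent.S4745

set_option linter.style.haveILetI false
set_option linter.unusedVariables false

open H86 Subgroup MulAction

theorem two_sq {G : Type*} [Group G] {z : G} (h1 : z ≠ 1) (h : z * z = 1) : orderOf z = 2 :=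
  haveI : Fact (Nat.Prime 2) := ⟨Nat.prime_two⟩
  orderOf_eq_prime (by rwa [pow_two]) h1

theorem mem_zpowers_sq {G : Type*} [Group G] {p : ℕ} [hp : Fact p.Prime] (hp2 : p ≠ 2) {u : G}
    {k : ℕ} (h : u ^ p ^ k = 1) : u ∈ zpowers (u * u) := by
  obtain ⟨m, hm⟩ : Odd (p ^ k) := (hp.out.odd_of_ne_two hp2).pow
  refine ⟨(m + 1 : ℕ), ?_⟩
  rw [hm] at h
  simp only [zpow_natCast]
  rw [← pow_two, ← pow_mul, show 2 * (m + 1) = 2 * m + 1 + 1 by ring, pow_succ, h, one_mul]


/-- Let p be an odd prime and G a finite group of even order divisible by p in which the centralizer of every non-identity p-element has odd order, and suppose G acts faithfully and transitively on a set with p ^ r elements, r ≥ 1. Then either G has an irreducible character of p-defect zero, or G is p-solvable and has an irreducible character of 2-defect zero. -/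
theorem result {G Ω : Type*} [Group G] [Finite G] [MulAction G Ω] [FaithfulSMul G Ω] [Fintype Ω] (htr : MulAction.IsPretransitive G Ω) (p : ℕ) [Fact p.Prime] (hp2 : p ≠ 2) (hpG : p ∣ Nat.card G) (h2G : 2 ∣ Nat.card G) (hC : ∀ g : G, g ≠ 1 → (∃ k : ℕ, orderOf g = p ^ k) → Odd (Nat.card ↥(Subgroup.centralizer ({g} : Set G)))) (r : ℕ) (hr : 1 ≤ r) (hΩ : Fintype.card Ω = p ^ r) : (∃ χ : Cfsg.IrrCharacter G, (Cfsg.charDegree (χ : G → ℂ)).factorization p = (Nat.card G).factorization p) ∨ (Cfsg.IsPSolvable p G ∧ ∃ χ : Cfsg.IrrCharacter G, (Cfsg.charDegree (χ : G → ℂ)).factorization 2 = (Nat.card G).factorization 2) := by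
  have hp : p.Prime := Fact.out
  by_cases hno : ∃ χ : Cfsg.IrrCharacter G,
      (Cfsg.charDegree (χ : G → ℂ)).factorization p = (Nat.card G).factorization p
  · exact Or.inl hno
  right
  have h : NoTwoP p G := noTwoP_of_odd hC
  haveI : Fact (Nat.Prime 2) := ⟨Nat.prime_two⟩
  obtain ⟨P⟩ : Nonempty (Sylow p G) := inferInstance
  obtain ⟨t0, ht0⟩ := exists_prime_orderOf_dvd_card' 2 h2G
  obtain ⟨hP0, s0, -, hs0⟩ := h.exists_inverted hno ht0 P
  have hc : (P : Subgroup G) ≤ centralizer ((P : Subgroup G) : Set G) := le_Cen_of_inverts hs0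
  have hΩ' : Nat.card Ω = p ^ r := by rw [Nat.card_eq_fintype_card, hΩ]
  have hidx : ∀ a : Ω, (stabilizer G a).index = p ^ r := fun a => by
    rw [index_stabilizer_of_transitive, hΩ']
  have hPtr : ∀ a b : Ω, ∃ u ∈ (P : Subgroup G), u • a = b := by
    intro a b
    obtain ⟨g, rfl⟩ := htr.exists_smul_eq a b
    obtain ⟨u, hu, x, hx, rfl⟩ := H1.exists_mul_eq_of_coprime_relIndex (A := (P : Subgroup G))
      (B := stabilizer G a) (K := ⊤) le_top le_top (by
        rw [relIndex_top_right, relIndex_top_right, hidx]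
        exact ((hp.coprime_iff_not_dvd.2 P.not_dvd_index).symm).pow_right r) (mem_top g)
    exact ⟨u, hu, by rw [mul_smul, mem_stabilizer_iff.1 hx]⟩
  have hPreg : ∀ u ∈ (P : Subgroup G), ∀ a : Ω, u • a = a → u = 1 := by
    intro u hu a ha
    refine FaithfulSMul.eq_of_smul_eq_smul (α := Ω) fun b => ?_
    obtain ⟨v, hv, rfl⟩ := hPtr a b
    rw [one_smul, ← mul_smul, mem_centralizer_iff.1 (hc hv) u hu, mul_smul, ha]
  have hU : H42.BSE.U1 G Ω := by
    constructor
    · intro z hz1 hz a b ha hb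
      obtain ⟨-, s, hzs, hs⟩ := h.exists_inverted hno (two_sq hz1 hz) P
      obtain ⟨c, rfl⟩ := isConj_iff.1 hzs
      obtain ⟨u, hu, hab⟩ := hPtr (c • a) (c • b)
      have e1 : (c * z * c⁻¹) • c • a = c • a := by
        rw [mul_smul, inv_smul_smul, mul_smul, ha]
      have e2 : (c * z * c⁻¹) • c • b = c • b := by
        rw [mul_smul, inv_smul_smul, mul_smul, hb]
      have e3 : u⁻¹ • c • a = u • c • a := by
        rw [← hs u hu, mul_smul, mul_smul, inv_smul_eq_iff.2 e1.symm, hab, e2]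
      have e4 : (u * u) • c • a = c • a := by
        rw [mul_smul, ← e3, smul_inv_smul]
      have e5 := hPreg _ (mul_mem hu hu) _ e4
      obtain ⟨k, hk⟩ := H68.isPGroup_iff_forall.1 P.isPGroup' u hu
      have e6 := mem_zpowers_sq hp2 hk
      rw [e5, zpowers_one_eq_bot, mem_bot] at e6
      rw [e6, one_smul] at hab
      exact smul_left_cancel c hab
    · intro z hz1 hz
      obtain ⟨a, ha⟩ := (H68.isPGroup_zpowers (p := 2) (x := z) (k := 1)
        (by rwa [pow_one, pow_two])).nonempty_fixed_point_of_prime_not_dvd_card Ω (by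
          rw [hΩ']
          intro h2
          exact hp2 ((Nat.prime_dvd_prime_iff_eq Nat.prime_two hp).1
            (Nat.prime_two.dvd_of_dvd_pow h2)).symm)
      exact ⟨a, ha ⟨z, mem_zpowers z⟩⟩
  by_cases h4 : H42.BSE.Four (⊤ : Subgroup G)
  · exfalso
    obtain ⟨x, hx, y, hy, hxy, hcomm⟩ := id h4
    obtain ⟨a, ha⟩ : ∃ a : Ω, x • a ≠ a := by
      by_contra hn
      push Not at hn
      exact hx.2.1 (FaithfulSMul.eq_of_smul_eq_smul (α := Ω) fun b => by rw [hn, one_smul])
    obtain ⟨Q, hS⟩ := H42.BSE.thmB hU htr.exists_smul_eq h4 hx.2.2 ha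
    obtain ⟨b, hb⟩ := hU.ex x hx.2.1 hx.2.2
    have hyb : y • b = b := hU.uniq x hx.2.1 hx.2.2 _ _
      (by rw [← mul_smul, hcomm, mul_smul, hb]) hb
    obtain ⟨g, rfl⟩ := htr.exists_smul_eq b a
    obtain ⟨k, hk, e⟩ := H40.RankOne.exists_K_conj hS
      (H40.RankOne.conj_mem_II (g := g) (s := x) (b := b) ⟨hb, hx.2.1, hx.2.2⟩)
      (H40.RankOne.conj_mem_II (g := g) (s := y) (b := b) ⟨hyb, hy.2.1, hy.2.2⟩)
    have hk1 : k ≠ 1 := by
      rintro rfl
      apply hxy
      simpa using e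
    obtain ⟨χ, hχ⟩ := exists_irr_of_rankOne hS hk hk1
    refine hno ⟨χ, ?_⟩
    obtain ⟨n, hn0, hn, hnG⟩ := H6.irr_one_dvd_card χ.2
    have hd : Cfsg.charDegree (χ : G → ℂ) = n := by
      rw [Cfsg.charDegree, hn, Complex.natCast_re, Nat.floor_natCast]
    rw [hd] at hχ ⊢
    refine le_antisymm ((Nat.factorization_le_iff_dvd hn0.ne' Nat.card_pos.ne').2 hnG p) ?_
    have h1 : ¬ p ∣ Nat.card (stabilizer G b) := by
      intro hd
      obtain ⟨u, hu, hup⟩ := H1.exists_mem_orderOf_eq_prime hp hd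
      obtain ⟨c, -, hcu⟩ := (H68.sylowIn_top P).exists_cj_le
        (H68.isPGroup_zpowers (p := p) (x := u) (k := 1)
          (by rw [pow_one, ← hup]; exact pow_orderOf_eq_one u)) le_top
      have h2 := hPreg _ (H68.cj_le_iff'.1 hcu u (mem_zpowers u)) (c • b)
        (by rw [mul_smul, inv_smul_smul, mul_smul, mem_stabilizer_iff.1 hu])
      have h3 : u = 1 := by simpa using h2
      rw [h3, orderOf_one] at hup
      exact hp.one_lt.ne hup
    rw [← (stabilizer G b).card_mul_index, hidx,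
      Nat.factorization_mul Nat.card_pos.ne' (pow_ne_zero _ hp.ne_zero), Finsupp.add_apply,
      Nat.factorization_eq_zero_of_not_dvd h1, zero_add, hp.factorization_pow,
      Finsupp.single_eq_same]
    rw [hΩ'] at hχ
    exact (hp.pow_dvd_iff_le_factorization hn0.ne').1 hχ
  · obtain ⟨z, hz, N, hN, hNo, hzN⟩ := Cfsg.Agent.S0225.result (G := G) (even_iff_two_dvd.2 h2G) (by
      intro E hE
      apply h4
      haveI := Fintype.ofFinite E
      have hE4 : 2 < Fintype.card E := by rw [IsKleinFour.card_four']; norm_num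
      obtain ⟨x, y, w, hxy, hxw, hyw⟩ := Fintype.two_lt_card_iff.1 hE4
      have key : ∀ x y : E, x ≠ 1 → y ≠ 1 → x ≠ y → H42.BSE.Four (⊤ : Subgroup G) :=
        fun x y h1 h2 h3 => ⟨x, ⟨trivial, by simpa using h1, congrArg Subtype.val (IsKleinFour.mul_self x)⟩,
          y, ⟨trivial, by simpa using h2, congrArg Subtype.val (IsKleinFour.mul_self y)⟩,
          fun e => h3 (Subtype.ext e),
          congrArg Subtype.val (IsKleinFour.isMulCommutative.is_comm.comm x y)⟩
      by_cases hx : x = 1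
      · exact key y w (hx ▸ hxy.symm) (hx ▸ hxw.symm) hyw
      by_cases hy : y = 1
      · exact key x w hx (hy ▸ hyw.symm) hxw
      exact key x y hx hy hxy)
    have hPN : (P : Subgroup G) ≤ N := by
      obtain ⟨-, s, hzs, hs⟩ := h.exists_inverted hno hz P
      obtain ⟨c, rfl⟩ := isConj_iff.1 hzs
      intro u hu
      have h1 := hN.conj_mem _ (hzN (c⁻¹ * u * c)) c
      have h2 : c * (z * (c⁻¹ * u * c) * z⁻¹ * (c⁻¹ * u * c)⁻¹) * c⁻¹ = (u * u)⁻¹ := by
        calc _ = c * z * c⁻¹ * u * (c * z * c⁻¹)⁻¹ * u⁻¹ := by group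
          _ = _ := by rw [hs u hu, mul_inv_rev]
      rw [h2, inv_mem_iff] at h1
      obtain ⟨k, hk⟩ := H68.isPGroup_iff_forall.1 P.isPGroup' u hu
      exact (zpowers_le.2 h1) (mem_zpowers_sq hp2 hk)
    constructor
    · haveI := Cfsg.Agent.S0205.result hNo
      refine H76.isPSolvable_extension N H76.isPSolvable_of_isSolvable
        (H76.isPSolvable_of_coprime ?_)
      exact (hp.coprime_iff_not_dvd.2 fun hd =>
        P.not_dvd_index (hd.trans (index_dvd_of_le hPN))).symm
    · obtain ⟨u, huP, hu⟩ := H68.exists_orderOf_eq_prime_of_ne_bot P.isPGroup' hP0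
      have hu1 : u ≠ 1 := by
        rintro rfl
        exact hp.one_lt.ne (by simpa using hu)
      refine (defect_zero_or_exists 2 (x := u) ?_).resolve_right ?_
      · exact (hC u hu1 ⟨1, by rw [pow_one, hu]⟩).not_two_dvd_nat
      · rintro ⟨g, g', hg, hg', hne, k, hk⟩
        have hm : ∀ g, IsConj u g → g ∈ N := fun g hg => by
          obtain ⟨c, rfl⟩ := isConj_iff.1 hg
          exact hN.conj_mem _ (hPN huP) c
        have h1 := H1.orderOf_dvd_card_of_mem (mul_mem (hm g hg) (inv_mem (hm g' hg')))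
        rw [hk] at h1
        cases k with
        | zero => exact hne (orderOf_eq_one_iff.1 (by simpa using hk))
        | succ k => exact hNo.not_two_dvd_nat ((dvd_pow_self 2 k.succ_ne_zero).trans h1)

end Cfsg.Agent.S4745
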