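import Cfsg.Statements.S4758
import Mathlib
import Cfsg.Agent.Lib.Blk86.Cz4
import Cfsg.Agent.Lib.SylInt.Cover
import Cfsg.Agent.Lib.Core.MinNormal
import Cfsg.Agent.Lib.Core.PCore
import Cfsg.Agent.S0252
import Cfsg.Agent.S0253
import Cfsg.Agent.S0493
import Cfsg.Agent.S0494

set_option autoImplicit false
open Cfsg

namespace Cfsg.Agent.S4758

set_option linter.style.haveILetI false
set_option linter.unusedVariables false

open Subgroup H86.Cz

theorem simple60 {Q : Type*} [Group Q] [Finite Q] (hc : Nat.card Q = 60) (hp : commutator Q = ⊤) :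
    IsSimpleGroup Q := by
  have : Nontrivial Q := Finite.one_lt_card_iff_nontrivial.1 (by omega)
  refine ⟨fun M hM => ?_⟩
  by_cases h : M = ⊤
  · exact Or.inr h
  left
  obtain ⟨K, hK, hne, hMK, hmax⟩ := H3.exists_maximal_normal_ge M h
  have := H3.isSimpleGroup_quotient_of_maximal_normal K hne hmax
  have h1 := card_eq_card_quotient_mul_card_subgroup K
  have h2 : 0 < Nat.card K := Nat.card_pos
  have h3 := Cfsg.Agent.S0493.result (G := Q ⧸ K) (fun hc => hne (top_le_iff.1 (hp.ge.trans
    (commutator_le.2 fun a _ b _ => (QuotientGroup.eq_one_iff _).1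
      (commutatorElement_eq_one_iff_mul_comm.2
        (hc.isMulCommutative.is_comm.comm (a : Q ⧸ K) (b : Q ⧸ K))))))) (by nlinarith)
  rw [hc, h3] at h1
  exact le_bot_iff.1 (hMK.trans (card_eq_one.1 (by omega)).le)

theorem inverts {G : Type*} [Group G] [Finite G] {O : Subgroup G} [hO : O.Normal] {z : G}
    (hz : z * z = 1) (hf : ∀ c ∈ O, c * z = z * c → c = 1) {a : G} (ha : a ∈ O) :
    z * a * z⁻¹ = a⁻¹ := by
  let f : O → O := fun x => ⟨(x : G)⁻¹ * (z * x * z⁻¹), O.mul_mem (O.inv_mem x.2) (hO.conj_mem _ x.2 _)⟩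
  have hi : Function.Injective f := fun x y e => by
    have e1 : (x : G)⁻¹ * (z * x * z⁻¹) = (y : G)⁻¹ * (z * y * z⁻¹) := congrArg Subtype.val e
    have := hf (y * (x : G)⁻¹) (O.mul_mem y.2 (O.inv_mem x.2)) (by
      calc (y : G) * (x : G)⁻¹ * z = y * ((x : G)⁻¹ * (z * x * z⁻¹)) * (z * (x : G)⁻¹) := by group
        _ = _ := by rw [e1]; group)
    exact (Subtype.ext (mul_inv_eq_one.1 this)).symm
  obtain ⟨x, hx⟩ := (Finite.injective_iff_surjective.1 hi) ⟨a, ha⟩
  have e : a = (x : G)⁻¹ * (z * x * z⁻¹) := (congrArg Subtype.val hx).symm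
  have hz' : z⁻¹ = z := inv_eq_of_mul_eq_one_right hz
  rw [e, hz']
  calc z * ((x : G)⁻¹ * (z * x * z)) * z = z * (x : G)⁻¹ * z * x * (z * z) := by group
    _ = _ := by rw [hz]; simp [mul_assoc, hz']

/-- Let u ≠ 1 be an element of the finite group G such that every non-principal irreducible character χ satisfies χ(1) − χ(u) = 4 or χ(u) = 0. Then O(G), the largest normal subgroup of odd order, is abelian, and either G ⧸ O(G) ≅ PSL₂(5) and u is an involution, or G ⧸ O(G) ≅ SL₂(5) and u has order 4. -/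
theorem result {G : Type*} [Group G] [Finite G] (u : G) (hu : u ≠ 1) (hyp : ∀ χ : Cfsg.IrrCharacter G, (χ : G → ℂ) ≠ (fun _ => (1 : ℂ)) → ((χ : G → ℂ) 1 - (χ : G → ℂ) u = 4 ∨ (χ : G → ℂ) u = 0)) : IsMulCommutative ↥(Cfsg.oddCore G) ∧ ((Nonempty (G ⧸ Cfsg.oddCore G ≃* Matrix.ProjectiveSpecialLinearGroup (Fin 2) (ZMod 5)) ∧ orderOf u = 2) ∨ (Nonempty (G ⧸ Cfsg.oddCore G ≃* Matrix.SpecialLinearGroup (Fin 2) (ZMod 5)) ∧ orderOf u = 4)) := by
  classical
  haveI := Fintype.ofFinite G
  have H : Hyp u := fun χ hχ => hyp ⟨χ, hχ⟩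
  obtain ⟨N, hN, hi, huN, huu, hC, hconj, h4⟩ := H.main hu
  have hp : commutator G = ⊤ := by
    rw [← index_eq_one, ← H6.card_hom_eq_index_commutator, Nat.card_eq_one_iff_exists]
    exact ⟨1, H.hom⟩
  have hpq : ∀ (K : Subgroup G) [K.Normal], commutator (G ⧸ K) = ⊤ := fun K _ => by
    have := map_commutator ⊤ ⊤ (QuotientGroup.mk' K)
    rw [← commutator_def, hp, map_top_of_surjective _ (QuotientGroup.mk'_surjective K)] at this
    exact this.symm
  have hs := simple60 (Q := G ⧸ N) hi (hpq N)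
  obtain ⟨eA⟩ := Cfsg.Agent.S0494.result (G := G ⧸ N) hi
  have uC : u ∈ centralizer ({u} : Set G) := mem_centralizer_singleton_iff.2 rfl
  have hu4 : u ^ 4 = 1 := by
    have := pow_card_eq_one' (G := centralizer ({u} : Set G)) (x := ⟨u, uC⟩)
    rw [hC] at this; exact congrArg Subtype.val this
  have ho4 : orderOf u ∣ 2 ^ 2 := orderOf_dvd_of_pow_eq_one hu4
  haveI : Fact (Nat.Prime 2) := ⟨Nat.prime_two⟩
  obtain ⟨S, hS⟩ := (show IsPGroup 2 (zpowers u) from IsPGroup.of_card_dvd_pow
    (by rw [Nat.card_zpowers]; exact ho4)).exists_le_sylow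
  have uS : u ∈ (S : Subgroup G) := hS (mem_zpowers u)
  have cS : Nat.card ((S : Subgroup G).map (QuotientGroup.mk' N)) = 4 := by
    have := (S.mapSurjective (QuotientGroup.mk'_surjective N)).card_eq_multiplicity
    rw [show Nat.card (G ⧸ N) = 60 from hi] at this
    refine this.trans ?_
    rw [show (60 : ℕ) = 2 ^ 2 * 15 by norm_num, Nat.factorization_mul (by norm_num) (by norm_num),
      Nat.Prime.factorization_pow Nat.prime_two]
    simp [Nat.factorization_eq_zero_of_not_dvd (show ¬ 2 ∣ 15 by norm_num)]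
  have sqS : ∀ s ∈ (S : Subgroup G), s * s ∈ N := fun s hs => h4 s (by
    have := pow_card_eq_one' (G := (S : Subgroup G).map (QuotientGroup.mk' N)) (x := ⟨_, s, hs, rfl⟩)
    rw [cS] at this
    have h1 : (QuotientGroup.mk' N s) ^ 4 = 1 := congrArg Subtype.val this
    rw [← map_pow] at h1
    rw [show s * s * (s * s) = s ^ 4 by simp [pow_succ, mul_assoc]]
    exact (QuotientGroup.eq_one_iff _).1 h1)
  obtain ⟨t, tS, htN, hutN⟩ : ∃ t ∈ (S : Subgroup G), t ∉ N ∧ u * t ∉ N := by
    by_contra hc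
    push Not at hc
    have : ((S : Subgroup G).map (QuotientGroup.mk' N) : Set (G ⧸ N)) ⊆ {1, (u : G ⧸ N)⁻¹} := by
      rintro _ ⟨s, hs, rfl⟩
      by_cases h : s ∈ N
      · exact Or.inl ((QuotientGroup.eq_one_iff _).2 h)
      · exact Or.inr (eq_inv_of_mul_eq_one_right ((QuotientGroup.eq_one_iff (u * s)).2 (hc s hs h)))
    have h1 := (Set.ncard_le_ncard this).trans ((Set.ncard_insert_le _ _).trans (by simp : _ ≤ 2))
    rw [← Nat.card_coe_set_eq] at h1
    have : Nat.card ((S : Subgroup G).map (QuotientGroup.mk' N)) ≤ 2 := h1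
    omega
  have utS := (S : Subgroup G).mul_mem uS tS
  have cj : ∀ s ∈ (S : Subgroup G), s ∉ N → ∀ n ∈ N, IsConj u (s * n) := fun s hs h n hn =>
    hconj _ (fun e => h (by simpa using N.mul_mem e (N.inv_mem hn))) (by
      rw [show s * n * (s * n) = s * s * (s⁻¹ * n * s⁻¹⁻¹) * n by group]
      exact N.mul_mem (N.mul_mem (sqS s hs) (hN.conj_mem _ hn _)) hn)
  -- three inverting elements
  have three : ∀ n, (∀ s ∈ (S : Subgroup G), s ∉ N → s * n * (s * n) = s * s) →
      n * n = 1 ∧ n * u = u * n := fun n h => by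
    have k : ∀ s ∈ (S : Subgroup G), s ∉ N → n * s = s * n⁻¹ := fun s hs h' => by
      have := h s hs h'
      calc n * s = s⁻¹ * (s * n * (s * n)) * n⁻¹ := by group
        _ = _ := by rw [this]; group
    have k1 := k u uS huN
    have k2 := k t tS htN
    have k3 := k _ utS hutN
    have k4 : n⁻¹ * t = t * n := by
      calc n⁻¹ * t = n⁻¹ * (t * n⁻¹) * n := by group
        _ = _ := by rw [← k2]; group
    have k5 : n = n⁻¹ := by
      have : u * t * n = u * t * n⁻¹ := by rw [← k3, ← mul_assoc, k1, mul_assoc, mul_assoc, k4]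
      exact mul_left_cancel this
    exact ⟨by nth_rewrite 2 [k5]; simp, by rw [k1, ← k5]⟩
  have hON : oddCore G ≤ N := by
    rcases hs.eq_bot_or_eq_top_of_normal ((oddCore G).map (QuotientGroup.mk' N))
      (Normal.map inferInstance _ (QuotientGroup.mk'_surjective N)) with e | e
    · rwa [Subgroup.map_eq_bot_iff, QuotientGroup.ker_mk'] at e
    · have h1 := card_map_dvd (oddCore G) (QuotientGroup.mk' N)
      rw [e, card_top, show Nat.card (G ⧸ N) = 60 from hi] at h1
      exact absurd (Odd.of_dvd_nat H1.odd_card_oddCore h1) (by decide)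
  by_cases h2 : u * u = 1
  · have sq1 : ∀ g, IsConj u g → g * g = 1 := fun g hg => by
      obtain ⟨c, rfl⟩ := isConj_iff.1 hg
      calc c * u * c⁻¹ * (c * u * c⁻¹) = c * (u * u) * c⁻¹ := by group
        _ = 1 := by rw [h2]; group
    have hN1 : N = ⊥ := (eq_bot_iff_forall N).2 fun n hn => by
      by_contra hn1
      obtain ⟨-, k⟩ := three n fun s hs h => by
        rw [sq1 _ (cj s hs h n hn), sq1 s (by simpa using cj s hs h 1 N.one_mem)]
      have t2 := sq1 t (by simpa using cj t tS htN 1 N.one_mem)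
      have ut2 := sq1 _ (by simpa using cj _ utS hutN 1 N.one_mem)
      have tu : t * u = u * t := by
        calc t * u = (u * u) * (t * u) * (t * t) := by rw [h2, t2]; group
          _ = u * (u * t * (u * t)) * t := by group
          _ = _ := by rw [ut2]; group
      have tC : t ∈ centralizer ({u} : Set G) := mem_centralizer_singleton_iff.2 tu
      have hsub : ({1, n, u, t, u * t} : Set G) ⊆ centralizer ({u} : Set G) := by
        rintro x (rfl | rfl | rfl | rfl | rfl)
        exacts [one_mem _, mem_centralizer_singleton_iff.2 k, uC, tC, mul_mem uC tC]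
      have h1 := Set.ncard_le_ncard hsub
      rw [← Nat.card_coe_set_eq (centralizer ({u} : Set G) : Set G)] at h1
      have h3 : Nat.card (centralizer ({u} : Set G) : Set G) = 4 := hC
      have a1 : ∀ x, x ∉ N → 1 ≠ x := fun x h e => h (e ▸ N.one_mem)
      have a2 : ∀ x, x ∉ N → n ≠ x := fun x h e => h (e ▸ hn)
      have a3 : u ≠ t := fun e => hutN (e ▸ huu)
      have a4 : u ≠ u * t := fun e => a1 t htN (by simpa [eq_comm] using e)
      have a5 : t ≠ u * t := fun e => hu (by simpa using e.symm)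
      rw [Set.ncard_insert_of_notMem (by simp only [Set.mem_insert_iff, Set.mem_singleton_iff, not_or]; exact ⟨Ne.symm hn1, a1 _ huN, a1 _ htN, a1 _ hutN⟩),
        Set.ncard_insert_of_notMem (by simp only [Set.mem_insert_iff, Set.mem_singleton_iff, not_or]; exact ⟨a2 _ huN, a2 _ htN, a2 _ hutN⟩),
        Set.ncard_insert_of_notMem (by simp only [Set.mem_insert_iff, Set.mem_singleton_iff, not_or]; exact ⟨a3, a4⟩), Set.ncard_pair a5] at h1
      omega
    have hO : oddCore G = N := le_antisymm hON (hN1 ▸ bot_le)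
    haveI : Fact (Nat.Prime 5) := ⟨by decide⟩
    obtain ⟨e5⟩ := Cfsg.Agent.S0253.result (F := ZMod 5) (ZMod.card 5)
    refine ⟨⟨⟨fun a b => ?_⟩⟩, Or.inl ⟨⟨((QuotientGroup.quotientMulEquivOfEq hO).trans eA).trans
      e5.symm⟩, orderOf_eq_prime (by rw [pow_two, h2]) hu⟩⟩
    have : ∀ x : oddCore G, x = 1 := fun x => Subtype.ext (mem_bot.1 (hN1 ▸ hON x.2))
    rw [this a, this b]
  · have o4 : orderOf u = 4 := by
      obtain ⟨k, hk, e⟩ := (Nat.dvd_prime_pow Nat.prime_two).1 ho4
      obtain rfl | rfl | rfl : k = 0 ∨ k = 1 ∨ k = 2 := by omega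
      · exact absurd (orderOf_eq_one_iff.1 e) hu
      · exact absurd (by rw [← pow_two, show 2 = orderOf u from e.symm, pow_orderOf_eq_one]) h2
      · exact e
    have Cu : centralizer ({u} : Set G) = zpowers u :=
      (eq_of_le_of_card_ge (zpowers_le.2 uC) (by rw [hC, Nat.card_zpowers, o4])).symm
    have inv0 : ∀ c, c * u = u * c → c * c = 1 → c ≠ 1 → c = u * u := fun c h1 h3 h5 => by
      have := mem_zpowers_iff_mem_range_orderOf.1 (Cu ▸ mem_centralizer_singleton_iff.2 h1)
      simp only [o4, Finset.mem_image, Finset.mem_range] at this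
      obtain ⟨i, hi, rfl⟩ := this
      obtain rfl | rfl | rfl | rfl : i = 0 ∨ i = 1 ∨ i = 2 ∨ i = 3 := by omega
      · simp at h5
      · exact absurd (by simpa using h3) h2
      · exact pow_two u
      · refine absurd ?_ h2
        calc u * u = u * u * u ^ 4 := by rw [hu4, mul_one]
          _ = u ^ 3 * u ^ 3 := by simp only [pow_succ]; group
          _ = 1 := h3
    have inv1 : ∀ g c, IsConj u g → c * g = g * c → c * c = 1 → c ≠ 1 → c = g * g :=
      fun g c hg h1 h3 h5 => by
        obtain ⟨x, rfl⟩ := isConj_iff.1 hg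
        have := inv0 (x⁻¹ * c * x) (by
          calc x⁻¹ * c * x * u = x⁻¹ * (c * (x * u * x⁻¹)) * x := by group
            _ = _ := by rw [h1]; group) (by
          calc x⁻¹ * c * x * (x⁻¹ * c * x) = x⁻¹ * (c * c) * x := by group
            _ = _ := by rw [h3]; group) (fun e => h5 (by
          calc c = x * (x⁻¹ * c * x) * x⁻¹ := by group
            _ = 1 := by rw [e]; group))
        calc c = x * (x⁻¹ * c * x) * x⁻¹ := by group
          _ = _ := by rw [this]; group
    obtain ⟨z, hz⟩ : ∃ z, z = u * u := ⟨_, rfl⟩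
    have zz : z * z = 1 := by rw [hz, ← hu4]; simp [pow_succ, mul_assoc]
    have z1 : z ≠ 1 := hz ▸ h2
    have zN : z ∈ N := hz ▸ huu
    have zS : ∀ s ∈ (S : Subgroup G), z * s = s * z := by
      haveI : Nontrivial (S : Subgroup G) := ⟨⟨u, uS⟩, 1, fun e => hu (congrArg Subtype.val e)⟩
      haveI := S.isPGroup'.center_nontrivial
      obtain ⟨k, hk, hk2⟩ := (S.isPGroup'.to_subgroup (center S)).nontrivial_iff_card.1 inferInstance
      obtain ⟨c, hc⟩ := exists_prime_orderOf_dvd_card' (G := center S) 2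
        (hk2 ▸ dvd_pow_self 2 hk.ne')
      have h1 : ∀ s ∈ (S : Subgroup G), (c.1 : G) * s = s * c.1 := fun s hs =>
        (congrArg Subtype.val (mem_center_iff.1 c.2 ⟨s, hs⟩)).symm
      have h3 : orderOf (c.1 : G) = 2 := by rw [orderOf_coe, orderOf_coe, hc]
      rwa [inv0 _ (h1 u uS) (by rw [← pow_two]; exact orderOf_dvd_iff_pow_eq_one.1 h3.dvd)
        (fun e => by rw [e, orderOf_one] at h3; omega), ← hz] at h1
    have CN : ∀ n ∈ N, n * z = z * n → n = 1 ∨ n = z := fun n hn h => by
      obtain ⟨k1, k2⟩ := three n fun s hs h' => by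
        rw [← inv1 _ z (cj s hs h' n hn) (by rw [← mul_assoc, zS s hs, mul_assoc, ← h, mul_assoc])
          zz z1, ← inv1 s z (by simpa using cj s hs h' 1 N.one_mem) (zS s hs) zz z1]
      by_cases e : n = 1
      · exact Or.inl e
      · exact Or.inr (hz ▸ inv0 n k2 k1 e)
    have oz : orderOf z = 2 := orderOf_eq_prime (by rw [pow_two, zz]) z1
    have zO : ∀ x, orderOf x = 2 → x ∉ oddCore G := fun x hx h => by
      have := H1.coprime_orderOf_of_mem_pPrimeCore h
      rw [hx] at this; simp at this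
    have key : ∀ n ∈ N, n ∈ oddCore G ∨ n * z ∈ oddCore G := by
      obtain ⟨T, hT⟩ := (show IsPGroup 2 (zpowers (⟨z, zN⟩ : N)) from IsPGroup.of_card (n := 1)
        (by rw [Nat.card_zpowers, ← orderOf_coe, oz]; rfl)).exists_le_sylow
      have zT : (⟨z, zN⟩ : N) ∈ (T : Subgroup N) := hT (mem_zpowers _)
      have hT2 : ∀ x ∈ (T : Subgroup N), x = 1 ∨ x = ⟨z, zN⟩ := by
        haveI : Nontrivial (T : Subgroup N) :=
          ⟨⟨_, zT⟩, 1, fun e => z1 (congrArg (fun x => x.1.1) e)⟩
        haveI := T.isPGroup'.center_nontrivial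
        obtain ⟨c, hc⟩ := exists_ne (1 : center T)
        have h1 : ∀ s ∈ (T : Subgroup N), (c.1.1 : G) * s = s * c.1.1 := fun s hs =>
          (congrArg (fun x => x.1.1) (mem_center_iff.1 c.2 ⟨s, hs⟩)).symm
        have h3 := (CN _ c.1.1.2 (h1 _ zT)).resolve_left fun e =>
          hc (Subtype.ext (Subtype.ext (Subtype.ext e)))
        intro x hx
        exact (CN _ x.2 (h3 ▸ (h1 x hx).symm)).imp Subtype.ext Subtype.ext
      have hTe : (T : Subgroup N) = zpowers (⟨z, zN⟩ : N) := le_antisymm (fun x hx => by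
        rcases hT2 x hx with rfl | rfl
        exacts [one_mem _, mem_zpowers _]) hT
      have cT : Nat.card (T : Subgroup N) = 2 := by rw [hTe, Nat.card_zpowers, ← orderOf_coe, oz]
      have hmin : (Nat.card N).minFac = 2 := (Nat.minFac_eq_two_iff _).2
        (cT ▸ card_subgroup_dvd_card _)
      have hcyc : IsCyclic (T : Subgroup N) := isCyclic_of_prime_card cT
      have hcomp := hcyc.isComplement' hmin
      obtain ⟨K, hK⟩ : ∃ K, K = (MonoidHom.transferSylow T
        (hcyc.normalizer_le_centralizer hmin)).ker := ⟨_, rfl⟩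
      haveI : K.Normal := hK ▸ inferInstance
      rw [← hK] at hcomp
      have hKO : K.map N.subtype ≤ oddCore G := (map_mono (H1.le_pPrimeCore_of_not_dvd
        (hcomp.index_eq_card ▸ T.not_dvd_index))).trans (H1.map_subtype_pPrimeCore_le N)
      intro n hn
      obtain ⟨⟨a, b⟩, hab, -⟩ := hcomp.existsUnique ⟨n, hn⟩
      have ha : (a.1 : G) ∈ oddCore G := hKO ⟨_, a.2, rfl⟩
      have e : (a.1 : G) * b.1 = n := congrArg Subtype.val hab
      rcases hT2 _ b.2 with h | h
      · left; rw [← e, h]; simpa using ha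
      · right; rw [← e, h, mul_assoc, zz, mul_one]; exact ha
    have hinv : ∀ a ∈ oddCore G, z * a * z⁻¹ = a⁻¹ := fun a ha => inverts zz
      (fun c hc h => (CN c (hON hc) h).resolve_right fun e => zO z oz (e ▸ hc)) ha
    refine ⟨⟨⟨fun a b => Subtype.ext ?_⟩⟩, Or.inr ⟨?_, o4⟩⟩
    · have := hinv _ (mul_mem a.2 b.2)
      rw [show z * ((a : G) * b) * z⁻¹ = (z * a * z⁻¹) * (z * b * z⁻¹) by group, hinv _ a.2,
        hinv _ b.2, ← mul_inv_rev, inv_inj] at this
      exact this.symm
    · haveI := Fintype.ofFinite (GaloisField 2 2)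
      have c4 : Fintype.card (GaloisField 2 2) = 2 ^ 2 := by
        rw [← Nat.card_eq_fintype_card, GaloisField.card 2 2 two_ne_zero]
      obtain ⟨e4⟩ := Cfsg.Agent.S0252.result (F := GaloisField 2 2) c4
      refine (H69.SI.L2e.cover (ξ := QuotientGroup.map (oddCore G) N (MonoidHom.id G) hON)
        (fun y => ?_) (fun x hx => ?_) (hpq _)
        ⟨_, _, _, 2, le_rfl, c4, ⟨eA.trans e4.symm⟩⟩).resolve_left fun h => zO z oz ?_
      · obtain ⟨g, rfl⟩ := QuotientGroup.mk_surjective y
        exact ⟨g, rfl⟩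
      · obtain ⟨n, rfl⟩ := QuotientGroup.mk_surjective x
        have hn : n ∈ N := (QuotientGroup.eq_one_iff n).1 hx
        have hzc : (z : G ⧸ oddCore G) ∈ center _ := mem_center_iff.2 fun y => by
          obtain ⟨g, rfl⟩ := QuotientGroup.mk_surjective y
          have h1 := (key _ (hN.conj_mem _ zN g⁻¹)).resolve_left (zO _ (by
            rw [← oz]; exact (MulAut.conj g⁻¹).orderOf_eq z))
          rw [← QuotientGroup.mk_mul, ← QuotientGroup.mk_mul, eq_comm, QuotientGroup.eq]
          rwa [mul_inv_rev, inv_eq_of_mul_eq_one_right zz, ← mul_assoc, ← inv_inv g, inv_inv g⁻¹]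
        rcases key n hn with h | h
        · rw [(QuotientGroup.eq_one_iff n).2 h]; exact one_mem _
        · have h' : (n : G ⧸ oddCore G) * z = 1 := (QuotientGroup.eq_one_iff (n * z)).2 h
          rw [eq_inv_of_mul_eq_one_left h']
          exact inv_mem hzc
      · exact (QuotientGroup.eq_one_iff z).1 ((injective_iff_map_eq_one _).1 h _
          ((QuotientGroup.eq_one_iff z).2 zN))

end Cfsg.Agent.S4758
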