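import Cfsg.Statements.S4759
import Mathlib
import Cfsg.Agent.S0205
import Cfsg.Agent.Lib.DadeGl.Dade
import Cfsg.Agent.Lib.LargeExtra.Basic
import Cfsg.Agent.Lib.Char.ExtDeg

set_option autoImplicit false
set_option linter.style.haveILetI false
open Cfsg

namespace Cfsg.Agent.S4759

/-- Let G be a finite group that is the semidirect product of a normal extraspecial 2-subgroup E and a complement H acting faithfully on E (no non-identity element of H centralizes E), and suppose H has a normal subgroup K of odd order with [E, K] = E. Then every faithful irreducible character θ of E (there is exactly one) extends to G: some irreducible character of G restricts to θ on E. -/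
theorem result {G : Type*} [Group G] [Finite G] (E H : Subgroup G) [E.Normal] (hE : Cfsg.IsExtraspecial 2 ↥E) (hEH : E ⊓ H = ⊥) (hEHtop : E ⊔ H = ⊤) (hfaith : ∀ h ∈ H, (∀ e ∈ E, h * e = e * h) → h = 1) (K : Subgroup G) (hKH : K ≤ H) (hKn : ∀ h ∈ H, ∀ k ∈ K, h * k * h⁻¹ ∈ K) (hKodd : Odd (Nat.card ↥K)) (hEK : ⁅E, K⁆ = E) (θ : Cfsg.IrrCharacter ↥E) (hθ : ∀ e : ↥E, (θ : ↥E → ℂ) e = (θ : ↥E → ℂ) 1 → e = 1) : ∃ χ : Cfsg.IrrCharacter G, ∀ e : ↥E, (χ : G → ℂ) e = (θ : ↥E → ℂ) e := by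
  obtain ⟨z, hz⟩ := H95.exists_ES hE
  have zc : ∀ g, g * z = z * g := fun g => H95.mem_cent_iff.1 (hz.normalizer_le (by
    rw [Subgroup.normalizer_eq_top]; trivial))
  have h2 : ∀ {A : Subgroup G}, IsPGroup 2 A → (Nat.card A).Coprime (Nat.card K) := fun h => by
    obtain ⟨k, hk⟩ := IsPGroup.iff_card.1 h
    exact hk ▸ (Nat.coprime_two_left.2 hKodd).pow_left k
  have h0 : ∀ x : E, (x : G) ≠ 1 → (x : G) ≠ z → θ.1 x = 0 := fun x x1 x2 => by
    obtain ⟨y, hy, e⟩ := hz.exists_conj x.2 x1 x2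
    have e1 := H6.irr_isClassFunction θ.2 x ⟨y, hy⟩
    have e2 := hθ ⟨z, hz.mem⟩
    obtain ⟨_, d, ρ, hρ, e3⟩ := θ
    obtain ⟨c, hc⟩ := H8.exists_scalar_of_mem_center ρ (z := ⟨z, hz.mem⟩)
      (Subgroup.mem_center_iff.2 fun g => Subtype.ext (zc g))
    subst e3
    rw [show (⟨y, hy⟩ : E) * x * ⟨y, hy⟩⁻¹ = x * ⟨z, hz.mem⟩ from Subtype.ext e] at e1
    simp only [Representation.character, map_mul, hc, mul_smul_comm, mul_one, map_smul, map_one,
      smul_eq_mul] at e1 e2 ⊢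
    by_contra h
    exact hz.ne_one (congrArg Subtype.val (e2 (by rw [(mul_eq_right₀ h).1 e1, one_mul])))
  have hi : ∀ (g : G) (n : E), θ.1 ⟨g * n * g⁻¹, ‹E.Normal›.conj_mem (n : G) n.2 g⟩ = θ.1 n := by
    intro g n
    by_cases h : (n : G) = 1 ∨ n = z
    · exact congrArg _ (Subtype.ext (by rcases h with h | h <;> simp [h, zc]))
    · rw [not_or] at h
      rw [h0 n h.1 h.2, h0 _ (by simpa using h.1) fun e => h.2 (by
        simpa [← zc] using mul_inv_eq_iff_eq_mul.1 e)]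
  have hC : E ⊓ H86.Cen K ≤ Subgroup.center G := fun c hc => by
    have : E ≤ Subgroup.centralizer {c} := hEK.ge.trans (Subgroup.commutator_le.2 fun e he k hk => by
      have h3 := H86.mem_Cen.1 hc.2 k hk
      rw [commutatorElement_def]
      refine mul_mem (H95.mem_cent_iff.2 ?_) (inv_mem (H95.mem_cent_iff.2 h3))
      have h4 : k * (e⁻¹ * c * e⁻¹⁻¹) = e⁻¹ * c * e⁻¹⁻¹ * k := by
        rcases hz.conj hc.1 (inv_mem he) with h | h <;> rw [h]
        · exact h3
        · rw [← mul_assoc, h3, mul_assoc, zc, mul_assoc]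
      calc _ = e * (k * (e⁻¹ * c * e⁻¹⁻¹)) * e⁻¹ := by group
        _ = _ := by rw [h4]; group)
    rcases hz.nondeg c hc.1 fun y hy => (H95.mem_cent_iff.1 (this hy)).symm with rfl | rfl
    exacts [one_mem _, Subgroup.mem_center_iff.2 zc]
  obtain ⟨χ, c1, c2⟩ := H31.extends_of_forall_prime E θ.2 hi fun q hq _ => by
    haveI := Fact.mk hq
    by_cases h : q = 2
    · subst h
      obtain ⟨T, hT⟩ := hz.isPGroup.exists_le_sylow
      obtain ⟨X, x1, x2, χ, x3, x4⟩ := H33.DG.ext_of_coprime E K (T ⊓ H) (S0205.result hKodd)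
        (h2 hz.isPGroup) (h2 (T.2.to_le inf_le_left))
        (fun s hs => Subgroup.mem_normalizer_fintype (hKn s hs.2))
        (hC.trans (Subgroup.center_le_centralizer _))
        (le_bot_iff.1 ((inf_le_inf_left _ inf_le_right).trans hEH.le)) hi
      refine ⟨X, x1, χ, fun e => T.not_dvd_index (e.trans (Subgroup.index_dvd_of_le fun t ht => ?_)),
        x3, fun n => x4 n _ rfl⟩
      obtain ⟨a, ha, b, hb, rfl⟩ := Subgroup.mem_sup_of_normal_left.1 (hEHtop.ge (Subgroup.mem_top t))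
      exact mul_mem (x1 ha) (x2 ⟨(T.1.mul_mem_cancel_left (hT ha)).1 ht, hb⟩)
    · obtain ⟨T⟩ : Nonempty (Sylow q G) := inferInstance
      obtain ⟨ψ, x1, x2⟩ := H31.extends_le_of_coprime (T := E ⊔ T) le_sup_left θ.2
        (fun g _ => H7.mem_inertia'.2 (hi g)) (by
          rw [Subgroup.relIndex_sup_left]
          exact (IsPGroup.coprime_card_of_ne q 2 h _ _ T.2 hz.isPGroup).coprime_dvd_left
            (Subgroup.index_dvd_card _))
      exact ⟨_, _, ψ, fun e => T.not_dvd_index (e.trans (Subgroup.index_dvd_of_le le_sup_right)),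
        H6.irr_isCharacter x1, x2⟩
  exact ⟨⟨χ, c1⟩, c2⟩

end Cfsg.Agent.S4759
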