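import Mathlib
import Cfsg.Statements.S4776
import Cfsg.Agent.Lib.H85.RelDeg
-- import your own Cfsg.Agent.* helpers here

set_option autoImplicit false
open Cfsg

namespace Cfsg.Agent.S4776

/-- Let N be a normal subgroup of the finite group G that is not perfect and is contained in the derived subgroup of G. Consider the common-divisor graph on the relative degree set cd(G|N) (the degrees of the irreducible complex characters of G whose kernel does not contain N; two distinct degrees adjacent when they have a common divisor greater than one). Then this graph has at most two connected components; and if a, b ∈ cd(G|N) lie in different components, then one of a, b is coprime to the index m of the derived subgroup of N in N while the other is divisible by every prime divisor of m. -/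
theorem result {G : Type*} [Group G] [Finite G] (N : Subgroup G) [N.Normal] (hN : ⁅N, N⁆ < N) (hNG : N ≤ commutator G) : Nat.card (Cfsg.commonDivisorGraph.induce (Cfsg.relCharDegrees N)).ConnectedComponent ≤ 2 ∧ ∀ (a b : ℕ) (ha : a ∈ Cfsg.relCharDegrees N) (hb : b ∈ Cfsg.relCharDegrees N), ¬ (Cfsg.commonDivisorGraph.induce (Cfsg.relCharDegrees N)).Reachable ⟨a, ha⟩ ⟨b, hb⟩ → (Nat.Coprime a (⁅N, N⁆.relIndex N) ∧ ∀ r : ℕ, r.Prime → r ∣ ⁅N, N⁆.relIndex N → r ∣ b) ∨ (Nat.Coprime b (⁅N, N⁆.relIndex N) ∧ ∀ r : ℕ, r.Prime → r ∣ ⁅N, N⁆.relIndex N → r ∣ a) := by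
  refine ⟨?_, fun a b ha hb h => ?_⟩
  · by_contra hc
    have hfin : Finite (Cfsg.commonDivisorGraph.induce
        (Cfsg.relCharDegrees N)).ConnectedComponent :=
      Nat.finite_of_card_ne_zero (by omega)
    have := Fintype.ofFinite (Cfsg.commonDivisorGraph.induce
        (Cfsg.relCharDegrees N)).ConnectedComponent
    rw [not_le, Nat.card_eq_fintype_card, Fintype.two_lt_card_iff] at hc
    obtain ⟨x, y, z, h1, h2, h3⟩ := hc
    induction x using SimpleGraph.ConnectedComponent.ind with | _ x
    induction y using SimpleGraph.ConnectedComponent.ind with | _ y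
    induction z using SimpleGraph.ConnectedComponent.ind with | _ z
    have k : ∀ {u v : Cfsg.relCharDegrees N}, (Cfsg.commonDivisorGraph.induce
        (Cfsg.relCharDegrees N)).connectedComponentMk u ≠ (Cfsg.commonDivisorGraph.induce
        (Cfsg.relCharDegrees N)).connectedComponentMk v → ¬ H85.Rch N u v := fun h h' =>
      h (SimpleGraph.ConnectedComponent.eq.2 h'.2.2)
    obtain ⟨e, -, p, hp, hm, a1, -⟩ := H85.exists_core hNG hN x.2 y.2 (k h1)
    have k2 : ∀ {u v : Cfsg.relCharDegrees N}, ¬ H85.Rch N u v → H85.Rch N e u ∨ H85.Rch N e v :=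
      fun {u v} h => by
        by_contra! h'
        exact h (H85.rch_of_near hNG u.2 v.2 (H85.not_coprime_of_dvd hp.ne_one
          (a1 _ u.2 h'.1 p hp hm) (a1 _ v.2 h'.2 p hp hm)))
    rcases k2 (k h1) with b1 | b1
    · rcases k2 (k h3) with b2 | b2
      exacts [k h1 (b1.symm.trans b2), k h2 (b1.symm.trans b2)]
    · rcases k2 (k h2) with b2 | b2
      exacts [k h1 (b2.symm.trans b1), k h3 (b1.symm.trans b2)]
  · have h' : ¬ H85.Rch N a b := fun h' => h h'.2.2
    obtain ⟨e, -, p, hp, hm, a1, a2⟩ := H85.exists_core hNG hN ha hb h'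
    by_cases b1 : H85.Rch N e a
    · exact Or.inl ⟨a2 a b1, a1 b hb fun b2 => h' (b1.symm.trans b2)⟩
    · refine Or.inr ⟨a2 b (not_not.1 fun b2 => h' (H85.rch_of_near hNG ha hb
        (H85.not_coprime_of_dvd hp.ne_one (a1 _ ha b1 p hp hm) (a1 _ hb b2 p hp hm)))), a1 a ha b1⟩

end Cfsg.Agent.S4776
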