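import Mathlib
import Cfsg.Statements.S4779
import Cfsg.Agent.Lib.H85.RelDeg
-- import your own Cfsg.Agent.* helpers here

set_option autoImplicit false
open Cfsg

namespace Cfsg.Agent.S4779

/-- Let N be a solvable normal subgroup of the finite group G contained in the derived subgroup of G, and consider the common-divisor graph on the relative degree set cd(G|N) (degrees of irreducible complex characters of G whose kernel does not contain N, two distinct degrees adjacent when not coprime). If this graph has two vertices that are not joined by any path, then there is a vertex a₀ such that any two distinct vertices in the component of a₀ are adjacent, and any two distinct vertices outside that component are adjacent or have a common neighbour (one component is complete, the other has diameter at most 2). -/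
theorem result {G : Type*} [Group G] [Finite G] (N : Subgroup G) [N.Normal] [Group.IsSolvable N] (hNG : N ≤ commutator G) (hdisc : ¬ (Cfsg.commonDivisorGraph.induce (Cfsg.relCharDegrees N)).Preconnected) : ∃ a₀ : ↥(Cfsg.relCharDegrees N), (∀ b c : ↥(Cfsg.relCharDegrees N), (Cfsg.commonDivisorGraph.induce (Cfsg.relCharDegrees N)).Reachable a₀ b → (Cfsg.commonDivisorGraph.induce (Cfsg.relCharDegrees N)).Reachable a₀ c → b ≠ c → (Cfsg.commonDivisorGraph.induce (Cfsg.relCharDegrees N)).Adj b c) ∧ (∀ b c : ↥(Cfsg.relCharDegrees N), ¬ (Cfsg.commonDivisorGraph.induce (Cfsg.relCharDegrees N)).Reachable a₀ b → ¬ (Cfsg.commonDivisorGraph.induce (Cfsg.relCharDegrees N)).Reachable a₀ c → b ≠ c → (Cfsg.commonDivisorGraph.induce (Cfsg.relCharDegrees N)).Adj b c ∨ ∃ d : ↥(Cfsg.relCharDegrees N), (Cfsg.commonDivisorGraph.induce (Cfsg.relCharDegrees N)).Adj b d ∧ (Cfsg.commonDivisorGraph.induce (Cfsg.relCharDegrees N)).Adj d c) := by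
  obtain ⟨a, b, h⟩ : ∃ a b, ¬ (Cfsg.commonDivisorGraph.induce
      (Cfsg.relCharDegrees N)).Reachable a b := by
    by_contra! h
    exact hdisc h
  have h' : ¬ H85.Rch N a b := fun h' => h h'.2.2
  have hlt : ⁅N, N⁆ < N := H1.commutator_self_lt_of_isSolvable inferInstance (by
    rintro rfl
    obtain ⟨χ, ⟨x, hx, h1⟩, -⟩ := a.2
    exact h1 (by rw [Subgroup.mem_bot.1 hx]))
  obtain ⟨e, me, p, hp, hm, a1, -⟩ := H85.exists_core hNG hlt a.2 b.2 h'
  obtain ⟨c, hc⟩ : ∃ c : Cfsg.relCharDegrees N, ¬ H85.Rch N e c := by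
    by_contra! h2
    exact h' ((h2 a).symm.trans (h2 b))
  have k : ∀ {u : Cfsg.relCharDegrees N}, ¬ (Cfsg.commonDivisorGraph.induce
      (Cfsg.relCharDegrees N)).Reachable c u → H85.Rch N e u := fun {u} hu => not_not.1 fun h2 =>
    hu (H85.rch_of_near hNG c.2 u.2 (H85.not_coprime_of_dvd hp.ne_one (a1 _ c.2 hc p hp hm)
      (a1 _ u.2 h2 p hp hm))).2.2
  refine ⟨c, fun u v hu hv hne => H85.adj_of_near hNG hne (H85.not_coprime_of_dvd hp.ne_one
    (a1 _ u.2 (fun h2 => hc (h2.trans ⟨u.2, c.2, hu.symm⟩)) p hp hm)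
    (a1 _ v.2 (fun h2 => hc (h2.trans ⟨v.2, c.2, hv.symm⟩)) p hp hm)), fun u v hu hv hne => ?_⟩
  obtain ⟨f, f1, f2, f3⟩ := H85.diam_two_aux _ N rfl inferInstance hNG _ a.2 _ b.2 h' _ _
    ((k hu).symm.trans (k hv))
  by_cases e1 : u = ⟨f, f1⟩
  · subst e1
    exact Or.inl (H85.adj_of_near hNG hne f3)
  by_cases e2 : ⟨f, f1⟩ = v
  · subst e2
    exact Or.inl (H85.adj_of_near hNG hne f2)
  exact Or.inr ⟨⟨f, f1⟩, H85.adj_of_near hNG e1 f2, H85.adj_of_near hNG e2 f3⟩

end Cfsg.Agent.S4779
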