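import Mathlib
import Cfsg.Statements.S4811
import Cfsg.Agent.Lib.H85.RelDeg
-- import your own Cfsg.Agent.* helpers here

set_option autoImplicit false
open Cfsg

namespace Cfsg.Agent.S4811

/-- For every finite solvable group G the character degree graph of G (vertices: the primes dividing some irreducible complex character degree; edges: distinct primes whose product divides some degree) has at most two connected components. -/
theorem result {G : Type*} [Group G] [Finite G] [Group.IsSolvable G] : Nat.card ((Cfsg.degreeGraph G).induce (Cfsg.degreePrimes G)).ConnectedComponent ≤ 2 := by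
  by_contra hc
  have hfin : Finite ((Cfsg.degreeGraph G).induce (Cfsg.degreePrimes G)).ConnectedComponent :=
    Nat.finite_of_card_ne_zero (by omega)
  have := Fintype.ofFinite
    ((Cfsg.degreeGraph G).induce (Cfsg.degreePrimes G)).ConnectedComponent
  rw [not_le, Nat.card_eq_fintype_card, Fintype.two_lt_card_iff] at hc
  obtain ⟨x, y, z, h1, h2, h3⟩ := hc
  induction x using SimpleGraph.ConnectedComponent.ind with | _ x
  induction y using SimpleGraph.ConnectedComponent.ind with | _ y
  induction z using SimpleGraph.ConnectedComponent.ind with | _ z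
  have hNG : commutator G ≤ commutator G := le_rfl
  have sub : ∀ d ∈ Cfsg.relCharDegrees (commutator G), d ∈ Cfsg.charDegrees G :=
    fun d ⟨χ, _, e⟩ => ⟨χ, e⟩
  have ex : ∀ u : Cfsg.degreePrimes G, ∃ d ∈ Cfsg.relCharDegrees (commutator G), u.1 ∣ d := by
    rintro ⟨u, hu, d, ⟨χ, rfl⟩, hd⟩
    refine ⟨_, ⟨χ, ?_, rfl⟩, hd⟩
    by_contra! h
    have h1 := H87.deg_eq_one_of_commutator_le χ.2 fun x hx =>
      (H6.mem_charKer (H6.irr_isCharacter χ.2)).2 (h x hx)
    exact hu.one_lt.ne' (Nat.dvd_one.1 (h1 ▸ hd))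
  have same : ∀ (u v : Cfsg.degreePrimes G), ∀ d ∈ Cfsg.charDegrees G, u.1 ∣ d → v.1 ∣ d →
      ((Cfsg.degreeGraph G).induce (Cfsg.degreePrimes G)).Reachable u v := by
    intro u v d hd a b
    by_cases e : u = v
    · subst e; rfl
    · have e' : u.1 ≠ v.1 := fun h => e (Subtype.ext h)
      exact SimpleGraph.Adj.reachable ⟨e', u.2.1, v.2.1, d, hd,
        ((Nat.coprime_primes u.2.1 v.2.1).2 e').mul_dvd_of_dvd_of_dvd a b⟩
  have path : ∀ a b : Cfsg.relCharDegrees (commutator G), (Cfsg.commonDivisorGraph.induce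
      (Cfsg.relCharDegrees (commutator G))).Reachable a b → ∀ (u v : Cfsg.degreePrimes G),
      u.1 ∣ a.1 → v.1 ∣ b.1 →
      ((Cfsg.degreeGraph G).induce (Cfsg.degreePrimes G)).Reachable u v := by
    intro a b h
    rw [SimpleGraph.reachable_iff_reflTransGen] at h
    induction h with
    | refl => exact fun u v h1 h2 => same u v _ (sub _ a.2) h1 h2
    | @tail b c _ hbc ih =>
      intro u v h1 h2
      obtain ⟨r, hr, hd⟩ := Nat.exists_prime_and_dvd hbc.2.ne'
      have r1 := hd.trans (Nat.gcd_dvd_left _ _)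
      have r2 := hd.trans (Nat.gcd_dvd_right _ _)
      exact (ih u ⟨r, hr, _, sub _ b.2, r1⟩ h1 r1).trans
        (same ⟨r, hr, _, sub _ b.2, r1⟩ v _ (sub _ c.2) r2 h2)
  obtain ⟨a, ma, da⟩ := ex x
  obtain ⟨b, mb, db⟩ := ex y
  obtain ⟨c, mc, dc⟩ := ex z
  have k1 : ¬ H85.Rch (commutator G) a b := fun h =>
    h1 (SimpleGraph.ConnectedComponent.eq.2 (path _ _ h.2.2 _ _ da db))
  have k2 : ¬ H85.Rch (commutator G) a c := fun h =>
    h2 (SimpleGraph.ConnectedComponent.eq.2 (path _ _ h.2.2 _ _ da dc))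
  have k3 : ¬ H85.Rch (commutator G) b c := fun h =>
    h3 (SimpleGraph.ConnectedComponent.eq.2 (path _ _ h.2.2 _ _ db dc))
  have hlt : ⁅commutator G, commutator G⁆ < commutator G :=
    H1.commutator_self_lt_of_isSolvable inferInstance (by
      intro e
      obtain ⟨χ, ⟨x, hx, h1⟩, -⟩ := ma
      rw [e] at hx
      exact h1 (by rw [Subgroup.mem_bot.1 hx]))
  obtain ⟨e, -, p, hp, hm, a1, -⟩ := H85.exists_core hNG hlt ma mb k1
  have k : ∀ {u v : ℕ}, u ∈ Cfsg.relCharDegrees (commutator G) →
      v ∈ Cfsg.relCharDegrees (commutator G) → ¬ H85.Rch (commutator G) u v →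
      H85.Rch (commutator G) e u ∨ H85.Rch (commutator G) e v :=
    fun {u v} mu mv h => by
      by_contra! h'
      exact h (H85.rch_of_near hNG mu mv (H85.not_coprime_of_dvd hp.ne_one
        (a1 _ mu h'.1 p hp hm) (a1 _ mv h'.2 p hp hm)))
  rcases k ma mb k1 with b1 | b1
  · rcases k mb mc k3 with b2 | b2
    exacts [k1 (b1.symm.trans b2), k2 (b1.symm.trans b2)]
  · rcases k ma mc k2 with b2 | b2
    exacts [k1 (b2.symm.trans b1), k3 (b1.symm.trans b2)]

end Cfsg.Agent.S4811
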