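import Cfsg.Statements.S4848
import Cfsg.Agent.Lib.Par.Nv
import Cfsg.Agent.Lib.Core.PCore

set_option autoImplicit false
open Cfsg

namespace Cfsg.Agent.S4848

/-- Let p be a prime and G a finite non-commutative group in which every vanishing element (an element at which some irreducible character is zero) has order a positive power of p. Then either G is a p-group, or the centre of G equals O_p(G) and G/Z(G) is a Frobenius group with a Frobenius complement of p-power order. -/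
theorem result {G : Type*} [Group G] [Finite G] (hna : ¬ IsMulCommutative G) (p : ℕ) [Fact p.Prime] (hvan : ∀ g : G, (∃ χ : Cfsg.IrrCharacter G, (χ : G → ℂ) g = 0) → ∃ m : ℕ, 1 ≤ m ∧ orderOf g = p ^ m) :
    IsPGroup p G ∨ (Subgroup.center G = Cfsg.pCore p G ∧ ∃ H : Subgroup (G ⧸ Subgroup.center G), Cfsg.IsFrobeniusComplement H ∧ IsPGroup p H) := by
  have hp := (Fact.out : p.Prime)
  have hv : ∀ g : G, H22.Van.Van g → ∃ m, g ^ p ^ m = 1 := fun g hg => by
    obtain ⟨m, -, h⟩ := hvan g hg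
    exact ⟨m, h ▸ pow_orderOf_eq_one g⟩
  have hd := fun χ hχ h1 => H14.Par.dvd_deg_of_van hv (χ := χ) hχ h1
  have hKp := H87.not_dvd_card_pResidual hp hd
  obtain ⟨P⟩ := (inferInstance : Nonempty (Sylow p G))
  haveI hK := H4.pResidual_normal p G
  have hQ : IsPGroup p (G ⧸ pResidual p G) := H4.isPGroup_quotient_pResidual
  have hdec : ∀ g : G, ∃ r ∈ pResidual p G, ∃ x ∈ (P : Subgroup G), r * x = g := fun g =>
    H4.exists_pResidual_mul (hp.coprime_iff_not_dvd.2 P.not_dvd_index).symm g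
  generalize pResidual p G = K at hKp hK hQ hdec
  have hKP : K ⊓ P = ⊥ := H4.inf_eq_bot_of_not_dvd_card hKp P.isPGroup'
  have hcm : ∀ a b : G, a * b * a⁻¹ * b⁻¹ = 1 → a * b = b * a := fun a b h => by
    calc a * b = (a * b * a⁻¹ * b⁻¹) * (b * a) := by group
      _ = b * a := by rw [h, one_mul]
  by_cases hK1 : K = ⊥
  · left
    intro g
    obtain ⟨r, hr, x, hx, rfl⟩ := hdec g
    rw [hK1, Subgroup.mem_bot] at hr
    obtain ⟨k, hk⟩ := P.isPGroup' ⟨x, hx⟩
    exact ⟨k, by rw [hr, one_mul]; exact congrArg Subtype.val hk⟩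
  right
  have key : ∀ g ∈ (P : Subgroup G), ∀ c ∈ K, c ≠ 1 → g * c = c * g → g ∈ Subgroup.center G := by
    intro g hg c hc hc1 hgc
    obtain ⟨e, he⟩ := P.isPGroup' ⟨g, hg⟩
    have he' : g ^ p ^ e = 1 := congrArg Subtype.val he
    have hnv : ¬ H22.Van.Van (g * c) := fun h => by
      obtain ⟨m, hm⟩ := hv _ h
      have h1 : (g * c) ^ p ^ (m + e) = 1 := by rw [pow_add, pow_mul, hm, one_pow]
      rw [Commute.mul_pow hgc, add_comm, pow_add, pow_mul, he', one_pow, one_mul, ← pow_add] at h1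
      have h2 := Nat.dvd_gcd (orderOf_dvd_of_pow_eq_one h1) (K.orderOf_dvd_natCard hc)
      rw [(Nat.Coprime.pow_left _ (hp.coprime_iff_not_dvd.2 hKp)).gcd_eq_one, Nat.dvd_one,
        orderOf_eq_one_iff] at h2
      exact hc1 h2
    haveI := hQ.isNilpotent
    have hz : (g : G ⧸ K) ∈ Subgroup.center (G ⧸ K) := by
      by_contra h
      refine hnv (H22.Van.Van.lift (f := QuotientGroup.mk' K) (QuotientGroup.mk'_surjective _)
        (H14.Par.van_of_nilpotent _ _ rfl _ ?_))
      rwa [map_mul, QuotientGroup.mk'_apply, QuotientGroup.mk'_apply,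
        (QuotientGroup.eq_one_iff c).2 hc, mul_one]
    have h3 : ∀ k ∈ K, g * k = k * g := by
      refine H14.Par.comm_of_inertia hKp he' fun θ => ?_
      by_contra h
      refine hnv (H22.Van.van_of_inertia θ.2 fun y hy => h ?_)
      have h4 : g⁻¹ * (y⁻¹ * (g * c) * y) ∈ K := by
        rw [← QuotientGroup.eq_one_iff]
        have := Subgroup.mem_center_iff.1 hz (y : G ⧸ K)⁻¹
        simp only [QuotientGroup.mk_mul, QuotientGroup.mk_inv, (QuotientGroup.eq_one_iff c).2 hc,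
          mul_one]
        rw [this]; group
      have h5 := mul_mem hy (inv_mem (H7.le_inertia (H6.irr_isClassFunction θ.2) h4))
      convert h5 using 1
      group
    rw [Subgroup.mem_center_iff]
    intro y
    obtain ⟨r, hr, x, hx, rfl⟩ := hdec y
    have h6 : x * g = g * x := by
      refine hcm _ _ (Subgroup.mem_bot.1 (hKP ▸ Subgroup.mem_inf.2 ⟨?_,
        mul_mem (mul_mem (mul_mem hx hg) (inv_mem hx)) (inv_mem hg)⟩))
      rw [← QuotientGroup.eq_one_iff]
      have := Subgroup.mem_center_iff.1 hz (x : G ⧸ K)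
      simp only [QuotientGroup.mk_mul, QuotientGroup.mk_inv]
      rw [this]; group
    rw [mul_assoc, h6, ← mul_assoc, ← h3 r hr, mul_assoc]
  obtain ⟨g₀, hg₀, hn₀⟩ : ∃ g ∈ (P : Subgroup G), g ∉ Subgroup.center G := by
    by_contra h
    push Not at h
    refine hna ⟨⟨H87.comm_of_forall_deg_eq_one fun χ hχ => ?_⟩⟩
    by_contra h1
    exact P.not_dvd_index (((hd χ hχ h1).trans (H87.deg_dvd_index_center hχ)).trans
      (Subgroup.index_dvd_of_le h))
  have hZK : ∀ c ∈ K, c ∈ Subgroup.center G → c = 1 := fun c hc hz => by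
    by_contra h
    exact hn₀ (key g₀ hg₀ c hc h (Subgroup.mem_center_iff.1 hz g₀))
  obtain ⟨c₀, hc₀, hc₁⟩ : ∃ c ∈ K, c ≠ 1 := by
    by_contra h
    push Not at h
    exact hK1 ((Subgroup.eq_bot_iff_forall K).2 h)
  refine ⟨le_antisymm (H1.le_pCore fun z => ?_) fun g hg => ?_,
    (P : Subgroup G).map (QuotientGroup.mk' _), (H87.frobenius_of_fpf
      (K := K.map (QuotientGroup.mk' _)) (hKn := hK.map _ (QuotientGroup.mk'_surjective _))
      ?_ ?_ ?_ ?_).1, P.isPGroup'.map _⟩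
  · obtain ⟨k, hk⟩ := hQ ((z : G) : G ⧸ K)
    refine ⟨k, Subtype.ext (hZK _ ?_ (pow_mem z.2 _))⟩
    rwa [← QuotientGroup.mk_pow, QuotientGroup.eq_one_iff] at hk
  · have hgP := H1.pCore_le_sylow P hg
    refine key g hgP c₀ hc₀ hc₁ (hcm _ _ (Subgroup.mem_bot.1 (hKP ▸ Subgroup.mem_inf.2
      ⟨mul_mem (hK.conj_mem _ hc₀ g) (inv_mem hc₀), H1.pCore_le_sylow P ?_⟩)))
    have := mul_mem hg ((pCore_normal p G).conj_mem _ (inv_mem hg) c₀)
    convert this using 1
    group
  · refine Subgroup.isComplement'_of_disjoint_and_mul_eq_univ (disjoint_iff.2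
      (H4.inf_eq_bot_of_not_dvd_card (fun h => hKp (h.trans (Subgroup.card_map_dvd _ _)))
        (P.isPGroup'.map _))) (Set.eq_univ_of_forall fun y => ?_)
    obtain ⟨y, rfl⟩ := QuotientGroup.mk'_surjective _ y
    obtain ⟨r, hr, x, hx, rfl⟩ := hdec y
    exact ⟨_, ⟨r, hr, rfl⟩, _, ⟨x, hx, rfl⟩, (map_mul _ _ _).symm⟩
  · intro h
    have : QuotientGroup.mk' (Subgroup.center G) c₀ = 1 :=
      Subgroup.mem_bot.1 (h ▸ Subgroup.mem_map_of_mem _ hc₀)
    exact hc₁ (hZK _ hc₀ ((QuotientGroup.eq_one_iff _).1 this))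
  · intro h
    have : QuotientGroup.mk' (Subgroup.center G) g₀ = 1 :=
      Subgroup.mem_bot.1 (h ▸ Subgroup.mem_map_of_mem _ hg₀)
    exact hn₀ ((QuotientGroup.eq_one_iff _).1 this)
  · rintro _ ⟨h, hh, rfl⟩ h1 _ ⟨k, hk, rfl⟩ hc
    by_contra h2
    refine h1 ((QuotientGroup.eq_one_iff _).2 (key h hh k hk (fun e => h2 (by rw [e, map_one]))
      (hcm _ _ (hZK _ (mul_mem (hK.conj_mem _ hk h) (inv_mem hk)) ?_))))
    rw [← QuotientGroup.eq_one_iff]
    simp only [QuotientGroup.mk'_apply] at hc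
    simp only [QuotientGroup.mk_mul, QuotientGroup.mk_inv]
    rw [hc]; group

end Cfsg.Agent.S4848
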