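import Cfsg.Statements.S4850
import Cfsg.Agent.Lib.CH2.Van
import Cfsg.Agent.Lib.FGS.SubnormalIn

set_option autoImplicit false
open Cfsg

namespace Cfsg.Agent.S4850

/-- Let p be a prime and G a finite solvable group whose vanishing elements (elements at which some irreducible character is zero) of order divisible by p all have the same order, with at least one such element. Let P be a Sylow p-subgroup of G. Then the derived subgroup of P is subnormal in G and the image of P in G/O_p(G) is cyclic. -/
theorem result {G : Type*} [Group G] [Finite G] [hs : Group.IsSolvable G] (p : ℕ) [Fact p.Prime] (b : ℕ) (hvo : {n : ℕ | p ∣ n ∧ ∃ (g : G) (χ : Cfsg.IrrCharacter G), orderOf g = n ∧ (χ : G → ℂ) g = 0} = {b}) (P : Sylow p G) :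
    ((commutator ↥(P : Subgroup G)).map (P : Subgroup G).subtype).IsSubnormal ∧ IsCyclic ↥((P : Subgroup G).map (QuotientGroup.mk' (Cfsg.pCore p G))) := by
  have h := H22.Van.relIndex_dvd (H22.Van.not_dvd_index (b := b) fun x ⟨χ, hx⟩ h1 =>
    (hvo.le ⟨h1, x, χ, rfl, hx⟩ :)) P
  rw [← H1.card_map_mk'_eq_relIndex] at h
  have h1 := isCyclic_of_card_dvd_prime h
  refine ⟨?_, h1⟩
  have h2 : (commutator P).map (P : Subgroup G).subtype ≤ pCore p G := by
    refine le_of_le_of_eq ?_ (QuotientGroup.ker_mk' _)
    rw [Subgroup.map_subtype_commutator, ← Subgroup.map_eq_bot_iff, Subgroup.map_commutator]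
    exact H2.isMulCommutative_iff_commutator_eq_bot.1 h1.isMulCommutative
  haveI := (H1.isPGroup_pCore (p := p) (G := G)).isNilpotent
  exact H76.isSubnormal_of_le_nilpotent_normal _ _ h2

end Cfsg.Agent.S4850
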