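import Cfsg.Statements.S4878
import Cfsg.Agent.Lib.KGT.Reg

set_option autoImplicit false
open Cfsg

namespace Cfsg.Agent.S4878

open Subgroup H81.TV
open scoped MatrixGroups Pointwise

section
variable {G X : Type*} [Group G] [Finite G] [Group X] [Finite X] {p : ℕ} [hp : Fact p.Prime] {f : G →* X}

omit [Finite X] in
theorem lift (hf : Function.Surjective f) {x : X} (h : (Nat.card f.ker).Coprime (orderOf x)) :
    ∃ g, f g = x ∧ orderOf g = orderOf x := by
  obtain ⟨g, rfl⟩ := hf x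
  obtain ⟨m, hm⟩ := exists_pow_eq_self_of_coprime h
  have h1 : f ((g ^ Nat.card f.ker) ^ m) = f g := by rw [map_pow, map_pow, hm]
  refine ⟨_, h1, Nat.dvd_antisymm (orderOf_dvd_of_pow_eq_one ?_) (h1 ▸ orderOf_map_dvd f _)⟩
  have h2 : g ^ orderOf (f g) ∈ f.ker := by rw [MonoidHom.mem_ker, map_pow, pow_orderOf_eq_one]
  rw [pow_right_comm, pow_right_comm g,
    show (g ^ orderOf (f g)) ^ Nat.card f.ker = 1 from congrArg Subtype.val (pow_card_eq_one' (x := (⟨_, h2⟩ : f.ker))),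
    one_pow]

omit [Finite X] in
theorem not_dvd (hk : ¬ p ∣ Nat.card f.ker) {g : G} (h : ¬ p ∣ orderOf (f g)) : ¬ p ∣ orderOf g := fun e => by
  have h2 : g ^ orderOf (f g) ∈ f.ker := by rw [MonoidHom.mem_ker, map_pow, pow_orderOf_eq_one]
  refine (hp.out.dvd_mul.1 (e.trans (orderOf_dvd_of_pow_eq_one ?_))).elim h hk
  rw [pow_mul]
  exact congrArg Subtype.val (pow_card_eq_one' (x := (⟨_, h2⟩ : f.ker)))

theorem step (hf : Function.Surjective f) (hk : ¬ p ∣ Nat.card f.ker) (hne : f.ker ≠ ⊥) :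
    Nat.card (PR p X) + 1 ≤ Nat.card (PR p G) ∧ (Nat.card (PR p G) ≤ Nat.card (PR p X) + 1 →
      ∀ a b : G, a ≠ 1 → b ≠ 1 → ¬ p ∣ orderOf (f a) → IsConj (f a) (f b) → IsConj a b) := by
  let o : PR p G := ⟨ConjClasses.mk 1, 1, rfl, by simpa using hp.out.one_lt.ne'⟩
  let Φ : ({o}ᶜ : Set (PR p G)) → PR p X := fun c => ⟨ConjClasses.map f c.1.1, by
    obtain ⟨g, e, hg⟩ := c.1.2
    exact ⟨f g, e ▸ rfl, fun h => hg (h.trans (orderOf_map_dvd f g))⟩⟩
  have mk : ∀ a : G, a ≠ 1 → (h : ¬ p ∣ orderOf (f a)) →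
      (⟨ConjClasses.mk a, a, rfl, not_dvd hk h⟩ : PR p G) ∈ ({o}ᶜ : Set (PR p G)) := fun a a1 h e =>
    a1 (isConj_one_left.1 (ConjClasses.mk_eq_mk_iff_isConj.1 (congrArg Subtype.val e)))
  have hΦ : Function.Surjective Φ := by
    rintro ⟨_, x, rfl, hx⟩
    obtain ⟨g, rfl⟩ := hf x
    obtain ⟨⟨c, hc⟩, c1⟩ := ne_bot_iff_exists_ne_one.1 hne
    by_cases g1 : g = 1
    · have e : f c = f g := by rw [g1, map_one]; exact hc
      exact ⟨⟨_, mk c (fun e => c1 (Subtype.ext e)) (e ▸ hx)⟩, Subtype.ext (congrArg ConjClasses.mk e)⟩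
    · exact ⟨⟨_, mk g g1 hx⟩, rfl⟩
  have h1 : Nat.card ({o}ᶜ : Set (PR p G)) + 1 = Nat.card (PR p G) := by
    rw [Nat.card_coe_set_eq, ← Set.ncard_singleton o, add_comm, Set.ncard_add_ncard_compl]
  have h2 := Nat.card_le_card_of_surjective Φ hΦ
  refine ⟨by omega, fun h a b a1 b1 ha hab => ?_⟩
  have hb : ¬ p ∣ orderOf (f b) := by
    obtain ⟨c, hc⟩ := isConj_iff.1 hab
    rwa [← hc, ← MulAut.conj_apply, MulEquiv.orderOf_eq]
  exact ConjClasses.mk_eq_mk_iff_isConj.1 (congrArg (fun c => c.1.1) ((hΦ.bijective_of_nat_card_le (by omega)).1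
    (a₁ := ⟨_, mk a a1 ha⟩) (a₂ := ⟨_, mk b b1 hb⟩) (Subtype.ext (ConjClasses.mk_eq_mk_iff_isConj.2 hab))))

theorem exc (hf : Function.Surjective f) (hk : ¬ 11 ∣ Nat.card f.ker) (hne : f.ker ≠ ⊥) {V H : Subgroup X}
    [V.Normal] (h : Aff 11 V H) (hV : Nat.card V = 121) (hH : Nat.card H = 120)
    (hF : ∀ v ∈ V, v ≠ 1 → ∀ k ∈ H, k * v = v * k → k = 1) (e : H ≃* SL(2, ZMod 5))
    (hC : ∀ a b : G, a ≠ 1 → b ≠ 1 → ¬ 11 ∣ orderOf (f a) → IsConj (f a) (f b) → IsConj a b) : False := by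
  have : Fact (Nat.Prime 11) := ⟨by norm_num⟩
  have oc : ∀ a b : G, IsConj a b → orderOf a = orderOf b := fun a b hab => by
    obtain ⟨c, rfl⟩ := isConj_iff.1 hab
    rw [← MulAut.conj_apply, MulEquiv.orderOf_eq]
  obtain ⟨q, hq, hqN⟩ := Nat.exists_prime_and_dvd (mt card_eq_one.1 hne)
  have := Fact.mk hq
  obtain ⟨⟨c, hc⟩, cq⟩ := exists_prime_orderOf_dvd_card' q hqN
  rw [← orderOf_coe] at cq
  have c1 : c ≠ 1 := by rintro rfl; exact hq.one_lt.ne (by simpa using cq)
  have kc : ∀ a ∈ f.ker, a ≠ 1 → IsConj c a := fun a ha a1 =>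
    hC c a c1 a1 (by simp [MonoidHom.mem_ker.1 hc]) (by rw [MonoidHom.mem_ker.1 hc, MonoidHom.mem_ker.1 ha])
  have kq : ∀ a ∈ f.ker, a ≠ 1 → orderOf a = q := fun a ha a1 => (oc _ _ (kc a ha a1)).symm.trans cq
  have hN : IsPGroup q f.ker := H3.isPGroup_of_pow_eq_one fun a ha => by
    by_cases a1 : a = 1
    · simp [a1]
    · rw [← kq a ha a1, pow_orderOf_eq_one]
  have hX : Nat.card X = 121 * 120 := by rw [← h.cpl.card_mul, hV, hH]
  have hG : Nat.card G = Nat.card f.ker * Nat.card X := by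
    rw [← f.ker.card_mul_index, index_ker, MonoidHom.range_eq_top.2 hf, card_top]
  have A : ∀ (x : X) (j : ℕ), x ≠ 1 → ¬ 11 ∣ orderOf x → x ^ q ^ j = 1 →
      q * orderOf x ∣ Nat.card (centralizer ({x} : Set X)) := by
    intro x j x1 x11 xq
    obtain ⟨y, rfl⟩ := hf x
    have h1 : (centralizer ({y} : Set G)).index = Nat.card f.ker * (centralizer ({f y} : Set X)).index := by
      rw [← H6.card_isConj_eq_index, ← H6.card_isConj_eq_index]
      have e1 := QuotientGroup.card_preimage_mk f.ker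
        ((QuotientGroup.quotientKerEquivOfSurjective f hf) ⁻¹' {z | IsConj (f y) z})
      rw [Nat.card_preimage_of_injective (QuotientGroup.quotientKerEquivOfSurjective f hf).injective
        (by simp [(QuotientGroup.quotientKerEquivOfSurjective f hf).surjective.range_eq])] at e1
      refine (Nat.card_congr (Equiv.subtypeEquivRight fun g => ⟨fun hg => f.map_isConj hg, fun hg => ?_⟩)).trans e1
      exact hC y g (by rintro rfl; exact x1 (map_one f)) (by
        rintro rfl; exact x1 (isConj_one_left.1 (map_one f ▸ hg))) x11 hg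
    have h2 := (centralizer ({y} : Set G)).card_mul_index
    rw [hG, h1, ← (centralizer ({f y} : Set X)).card_mul_index, mul_left_comm] at h2
    rw [← Nat.eq_of_mul_eq_mul_right (Nat.pos_of_ne_zero (index_ne_zero_of_finite))
      (Nat.eq_of_mul_eq_mul_left Nat.card_pos h2), ← H1.card_inf_mul_relIndex f.ker]
    refine Nat.mul_dvd_mul ?_ (orderOf_dvd_of_pow_eq_one ?_)
    · have hy : IsPGroup q (zpowers y) := by
        obtain ⟨i, hi⟩ := hN ⟨y ^ q ^ j, by rw [MonoidHom.mem_ker, map_pow, xq]⟩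
        obtain ⟨l, -, hl⟩ := (Nat.dvd_prime_pow hq).1 (orderOf_dvd_of_pow_eq_one (x := y) (n := q ^ (j + i)) (by
          rw [pow_add, pow_mul]; exact congrArg Subtype.val hi))
        exact IsPGroup.of_card ((Nat.card_zpowers y).trans hl)
      have := H35L.card_modEq_inf_centralizer f.ker (zpowers y) hy
      rw [cent_zpowers] at this
      exact (this.dvd_iff dvd_rfl).1 hqN
    · rw [← map_pow]
      exact pow_index_mem (H := f.ker.subgroupOf (centralizer {y})) ⟨y, mem_centralizer_singleton_iff.2 rfl⟩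
  have q11 : q ≠ 11 := by rintro rfl; exact hk hqN
  by_cases q35 : q = 3 ∨ q = 5
  · obtain ⟨x, hx⟩ := exists_prime_orderOf_dvd_card' (G := X) q (by rw [hX]; rcases q35 with rfl | rfl <;> norm_num)
    have := (A x 1 (by rintro rfl; exact hq.one_lt.ne (by simpa using hx))
      (by rw [hx]; rcases q35 with rfl | rfl <;> norm_num) (by rw [pow_one, ← hx, pow_orderOf_eq_one])).trans
      (card_subgroup_dvd_card _)
    rw [hx, hX] at this
    rcases q35 with rfl | rfl <;> norm_num at this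
  by_cases q2 : q = 2
  · subst q2
    obtain ⟨y, y1, y2, y3⟩ := exists_four
    have o4 : orderOf y = 2 ^ (1 + 1) := orderOf_eq_prime_pow y2 y1
    have o5 : orderOf (e.symm y : X) = 4 := by rw [orderOf_coe, MulEquiv.orderOf_eq, o4]; rfl
    have x1 : (e.symm y : X) ≠ 1 := fun h1 => by simp [h1] at o5
    have h1 := A _ 2 x1 (by rw [o5]; norm_num) (orderOf_dvd_iff_pow_eq_one.1 o5.dvd)
    have h2 : centralizer {(e.symm y : X)} ≤ zpowers (e.symm y : X) := fun g hg => by
      obtain ⟨⟨u, k⟩, rfl, -⟩ := h.cpl.existsUnique g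
      have h3 := mem_centralizer_singleton_iff.1 hg
      have h4 : (u : X)⁻¹ * (e.symm y * u * (e.symm y : X)⁻¹) = k * e.symm y * (k : X)⁻¹ * (e.symm y : X)⁻¹ := by
        rw [mul_assoc (u : X), ← mul_assoc _ (u : X), ← eq_inv_mul_iff_mul_eq] at h3
        rw [h3]; group
      have h5 := h.eq_one (mul_mem (inv_mem u.2) (Normal.conj_mem ‹_› _ u.2 _)) (h4 ▸ mul_mem (mul_mem (mul_mem k.2
        (e.symm y).2) (inv_mem k.2)) (inv_mem (e.symm y).2))
      have u1 : (u : X) = 1 := by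
        by_contra u1
        exact x1 (hF u u.2 u1 _ (e.symm y).2 (mul_inv_eq_iff_eq_mul.1 (inv_mul_eq_one.1 h5).symm))
      simp only [u1, one_mul] at h3 ⊢
      have h6 := y3 (e k) (e.symm.injective (by simpa using Subtype.ext h3))
      have h7 : e k ∈ zpowers y := by
        simp only [Finset.mem_insert, Finset.mem_singleton] at h6
        rcases h6 with h6 | h6 | h6 | h6 <;> rw [h6]
        exacts [one_mem _, mem_zpowers _, pow_mem (mem_zpowers _) _, pow_mem (mem_zpowers _) _]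
      obtain ⟨i, hi⟩ := h7
      exact ⟨i, by simpa using congrArg (fun t => (e.symm t : X)) hi⟩
    have h3 := Nat.le_of_dvd (by rw [Nat.card_zpowers, o5]; norm_num) (h1.trans (card_dvd_of_le h2))
    rw [Nat.card_zpowers, o5] at h3
    omega
  have F : ∀ (r : ℕ) (y : G), r.Prime → r ≠ q → r ≠ 11 → orderOf y = r → ∀ a ∈ f.ker, Commute y a → a = 1 := by
    intro r y hr rq r11 hy a ha hya
    by_contra a1
    have y1 : y ≠ 1 := by rintro rfl; exact hr.one_lt.ne (by simpa using hy)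
    have h1 := hya.orderOf_mul_eq_mul_orderOf_of_coprime (by
      rw [hy, kq a ha a1]; exact (Nat.coprime_primes hr hq).2 rq)
    have h2 := oc _ _ (hC y (y * a) y1 (fun e => by
      rw [e, orderOf_one, hy] at h1; exact hr.not_dvd_one ⟨_, h1⟩) (fun e => r11 ((Nat.prime_dvd_prime_iff_eq
        (by norm_num) hr).1 (hy ▸ e.trans (orderOf_map_dvd f y))).symm) (by rw [map_mul, MonoidHom.mem_ker.1 ha, mul_one]))
    rw [h1, hy, kq a ha a1] at h2
    exact hq.one_lt.ne' (Nat.eq_of_mul_eq_mul_left hr.pos (h2.symm.trans (mul_one r).symm))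
  obtain ⟨t, ht⟩ := exists_prime_orderOf_dvd_card' (G := G) 2 (by rw [hG, hX]; exact Dvd.dvd.mul_left (by norm_num) _)
  have t1 : f t ≠ 1 := fun e => q2 ((kq t e (by rintro rfl; simp at ht)).symm.trans ht)
  have hM := MonoidHom.FixedPointFree.commute_all_of_involutive (φ := MulAut.conjNormal (H := V.comap f) t)
    (fun m hm => by
      have h1 : t * m = m * t := mul_inv_eq_iff_eq_mul.1 (congrArg Subtype.val hm)
      obtain ⟨g, hg⟩ := h.exists_conj (x := f t) fun e => absurd (e.trans (ht ▸ orderOf_map_dvd f t)) (by norm_num)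
      refine Subtype.ext (F 2 t Nat.prime_two (Ne.symm q2) (by norm_num) ht m ?_ h1)
      by_contra h2
      refine t1 (conj_eq_one_iff.1 (hF _ (Normal.conj_mem ‹V.Normal› (f m) m.2 g) (mt conj_eq_one_iff.1 h2) _ hg ?_))
      rw [conj_mul, conj_mul, ← map_mul, h1, map_mul])
    fun m => by rw [← MulAut.mul_apply, ← map_mul, ← pow_two, ← ht, pow_orderOf_eq_one, map_one, MulAut.one_apply]
  have h1 : (centralizer ({c} : Set G)).index ∣ 120 := by
    rw [← hH, ← h.cpl.symm.index_eq_card, ← index_comap_of_surjective V hf]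
    exact index_dvd_of_le fun m hm => mem_centralizer_singleton_iff.2 (congrArg Subtype.val
      (hM ⟨m, hm⟩ ⟨c, by rw [mem_comap, MonoidHom.mem_ker.1 hc]; exact one_mem _⟩).eq)
  have h2 : 120 ∣ (centralizer ({c} : Set G)).index := by
    refine Nat.Coprime.dvd_of_dvd_mul_left (Nat.coprime_of_dvd fun r hr r1 r2 => ?_)
      (by rw [card_mul_index, hG, hX]; exact (dvd_mul_left _ _).mul_left _)
    have := Fact.mk hr
    obtain ⟨y, hy⟩ := exists_prime_orderOf_dvd_card' r r2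
    have r3 : r = 2 ∨ r = 3 ∨ r = 5 := by
      have := Nat.le_of_dvd (by norm_num) r1
      interval_cases r <;> first | omega | exact absurd hr (by norm_num)
    exact c1 (F r y hr (by omega) (by omega) ((orderOf_coe y).trans hy) c hc (mem_centralizer_singleton_iff.1 y.2))
  have h3 : (centralizer ({c} : Set G)).index + 1 = Nat.card f.ker := by
    rw [← H6.card_isConj_eq_index]
    refine Eq.trans ?_ (Set.ncard_diff_singleton_add_one (s := (f.ker : Set G)) (one_mem _))
    refine congrArg (· + 1) (Nat.card_congr (Equiv.subtypeEquivRight fun g => ⟨fun hg => ?_, fun hg => kc g hg.1 hg.2⟩))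
    obtain ⟨x, rfl⟩ := isConj_iff.1 hg
    exact ⟨Normal.conj_mem inferInstance _ hc x, mt conj_eq_one_iff.1 c1⟩
  exact hk ⟨11, by rw [← h3, Nat.dvd_antisymm h1 h2]⟩

end

/-- Let p be a prime and G a finite p-solvable group of order divisible by p in which all non-identity p-elements are conjugate. Then G has at least p conjugacy classes of p-regular elements; or G has exactly p − 1 of them and is isomorphic to the one-dimensional affine group over the field with p elements; or p = 11, G has exactly 9 of them, G has order 121·120 and G is a Frobenius group whose complement is isomorphic to SL(2,5). -/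
theorem result {G : Type*} [Group G] [Finite G] (p : ℕ) [Fact p.Prime] (hsolv : Cfsg.IsPSolvable p G) (hdiv : p ∣ Nat.card G) (hconj : ∀ x y : G, x ≠ 1 → y ≠ 1 → (∃ k : ℕ, orderOf x = p ^ k) → (∃ k : ℕ, orderOf y = p ^ k) → IsConj x y) : p ≤ Nat.card {c : ConjClasses G // ∃ g : G, ConjClasses.mk g = c ∧ ¬ p ∣ orderOf g} ∨ (Nat.card {c : ConjClasses G // ∃ g : G, ConjClasses.mk g = c ∧ ¬ p ∣ orderOf g} = p - 1 ∧ Nonempty (G ≃* ↥(Cfsg.affineGroup (ZMod p)))) ∨ (p = 11 ∧ Nat.card {c : ConjClasses G // ∃ g : G, ConjClasses.mk g = c ∧ ¬ p ∣ orderOf g} = 9 ∧ (Nat.card G = 121 * 120 ∧ ∃ H : Subgroup G, Cfsg.IsFrobeniusComplement H ∧ Nonempty (↥H ≃* Matrix.SpecialLinearGroup (Fin 2) (ZMod 5)))) := by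
  by_cases hO : pPrimeCore p G = ⊥
  · obtain ⟨V, H, _, h⟩ := exists_aff hsolv hO hdiv hconj
    rw [h.card_PR]
    refine h.cases.imp_right (Or.imp_right fun ⟨h1, h2, h3, h4, h5, h6⟩ => ⟨h1, h4, by rw [← h.cpl.card_mul, h2, h3],
      H, ⟨fun e => by simp [e] at h3, fun e => h.ne (eq_bot_iff.2 fun v hv => h.eq_one hv (e ▸ mem_top v)),
        fun g hg => eq_bot_iff.2 fun x hx => ?_⟩, h6⟩)
    obtain ⟨⟨u, k⟩, rfl, -⟩ := h.cpl.existsUnique g
    have h7 : (u : G)⁻¹ * x * u ∈ H := by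
      simpa [mul_assoc] using mul_mem (mul_mem k.2 (H3.mem_conj_smul_iff.1 hx.2)) (inv_mem k.2)
    refine h5 u u.2 (fun e => hg (by simp [e])) x hx.1 ?_
    have := h.eq_one (x := (u : G)⁻¹ * (x * u * x⁻¹)) (mul_mem (inv_mem u.2) (Normal.conj_mem ‹_› _ u.2 x))
      (by simpa [mul_assoc] using mul_mem h7 (inv_mem hx.1))
    exact mul_inv_eq_iff_eq_mul.1 (inv_mul_eq_one.1 this).symm
  left
  let f := QuotientGroup.mk' (pPrimeCore p G)
  have hf : Function.Surjective f := QuotientGroup.mk'_surjective _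
  have hk : ¬ p ∣ Nat.card f.ker := by
    rw [QuotientGroup.ker_mk']; exact H1.not_dvd_card_pPrimeCore
  have hne : f.ker ≠ ⊥ := by rwa [QuotientGroup.ker_mk']
  have hc := fun k => ((Nat.Prime.coprime_iff_not_dvd Fact.out).2 hk).symm.pow_right k
  obtain ⟨V, H, _, h⟩ := exists_aff ((H3.isPSolvable_iff_isPiSeparable Fact.out).2
    (((H3.isPSolvable_iff_isPiSeparable Fact.out).1 hsolv).of_surjective hf)) H1.pPrimeCore_quotient_pPrimeCore
    (((Nat.Prime.dvd_mul Fact.out).1 (card_eq_card_quotient_mul_card_subgroup (pPrimeCore p G) ▸ hdiv)).resolve_right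
      H1.not_dvd_card_pPrimeCore) fun x y x1 y1 ⟨i, hi⟩ ⟨j, hj⟩ => by
    obtain ⟨a, rfl, ha⟩ := lift hf (hi ▸ hc i)
    obtain ⟨b, rfl, hb⟩ := lift hf (hj ▸ hc j)
    exact f.map_isConj (hconj a b (by rintro rfl; exact x1 (map_one f)) (by rintro rfl; exact y1 (map_one f))
      ⟨i, ha.trans hi⟩ ⟨j, hb.trans hj⟩)
  obtain ⟨s1, s2⟩ := step hf hk hne
  rw [h.card_PR] at s1 s2
  change p ≤ Nat.card (PR p G)
  rcases h.cases with e | ⟨e, -⟩ | ⟨rfl, h2, h3, h4, h5, ⟨e⟩⟩
  · omega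
  · omega
  · by_contra hlt
    exact exc hf hk hne h h2 h3 h5 e (s2 (by omega))

end Cfsg.Agent.S4878
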