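import Cfsg.Statements.S4903
import Mathlib
import Cfsg.Agent.Lib.Blau.Nd

set_option autoImplicit false
set_option linter.style.haveILetI false
open Cfsg

namespace Cfsg.Agent.S4903

/-- Let G be a finite group with a faithful irreducible complex character of degree 16, p a prime with p ≥ 19, and P a Sylow p-subgroup of G. Then P is normal in G, or p = 31 and the quotient of G by its centre is isomorphic to PSL(2,31). -/
theorem result {G : Type*} [Group G] [Finite G] (χ : Cfsg.IrrCharacter G) (hdeg : Cfsg.charDegree (χ : G → ℂ) = 16) (hfaith : ∀ g : G, (χ : G → ℂ) g = (χ : G → ℂ) 1 → g = 1) (p : ℕ) [Fact p.Prime] (hp : 19 ≤ p) (P : Sylow p G) : (P : Subgroup G).Normal ∨ (p = 31 ∧ Nonempty (G ⧸ Subgroup.center G ≃* Matrix.ProjectiveSpecialLinearGroup (Fin 2) (ZMod 31))) := by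
  classical
  by_contra hcon
  push Not at hcon
  have hn : ¬ H35L.PCl p G := fun h => hcon.1 (h.normal P)
  have hd : (χ : G → ℂ) 1 = (16 : ℕ) := by rw [H17.Ord.dg_cast, H17.Ord.dg, hdeg]
  obtain ⟨H, _, _, φ, h1, h2, h3, h4, h5, ⟨e⟩⟩ :=
    H33.Bl.reduce' (by omega) χ.2 hfaith hd (by omega) hn
  haveI := Fintype.ofFinite H
  obtain ⟨Q⟩ : Nonempty (Sylow p H) := inferInstance
  haveI := Fintype.ofFinite (Q : Subgroup H)
  obtain ⟨L⟩ := H84.nonempty_log (H33.Bl.card_sylow h4 h5 Q) Q.not_dvd_index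
  obtain ⟨t, ht⟩ := H33.Bl.e_dvd L
  obtain ⟨⟨f⟩, k1, -⟩ | ⟨k1, k2, -⟩ := H33.Bl.core L (by omega)
    (fun _ => h4 (H35L.pcl_of_normal Q)) h1 h2 h3 (by omega) rfl (t := t)
    (by rw [mul_comm]; omega)
  · have hp' := (Fact.out : p.Prime)
    obtain rfl : p = 31 := by
      rcases k1 with k1 | k1
      · omega
      · obtain rfl : p = 33 := by omega
        exact absurd hp' (by norm_num)
    exact (hcon.2 rfl).elim (e.trans f)
  · generalize (H86.Cen (Q : Subgroup H)).relIndex (H86.Nor (Q : Subgroup H)) = a at *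
    have h6 : a ∣ 15 := (Nat.dvd_add_right (dvd_refl a)).1 ⟨t, by omega⟩
    have h7 := Nat.le_of_dvd (by norm_num) h6
    obtain rfl : p = 19 := by
      subst k1
      interval_cases a <;> omega
    exact hn (H33.Bl.no19 χ.2 hfaith hd)

end Cfsg.Agent.S4903
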