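import Cfsg.Statements.S4904
import Mathlib
import Cfsg.Agent.Lib.Blau.Sd
import Cfsg.Agent.Lib.GL.Basic

set_option autoImplicit false
set_option linter.style.haveILetI false
open Cfsg

namespace Cfsg.Agent.S4904

/-- Let G be a finite group with a faithful irreducible complex character of degree d < 27, and p a prime with p > d + 1 and P a Sylow p-subgroup of G. Then one of the following holds: P is normal in G; the quotient of G by its centre is isomorphic to PSL(2,p) and 2d = p + 1 or 2d = p − 1; p = 17, d = 15 and G is isomorphic to the direct product of SL(2,16) with an abelian group; p = 7, d = 4 and G modulo its centre is the alternating group of degree 7; p = 5, d = 3 and G modulo its centre is the alternating group of degree 6. -/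
theorem result {G : Type*} [Group G] [Finite G] (d : ℕ) (hd : d < 27) (χ : Cfsg.IrrCharacter G) (hdeg : Cfsg.charDegree (χ : G → ℂ) = d) (hfaith : ∀ g : G, (χ : G → ℂ) g = (χ : G → ℂ) 1 → g = 1) (p : ℕ) [Fact p.Prime] (hp : d + 1 < p) (P : Sylow p G) : (P : Subgroup G).Normal ∨ (Nonempty (G ⧸ Subgroup.center G ≃* Matrix.ProjectiveSpecialLinearGroup (Fin 2) (ZMod p)) ∧ (2 * d = p + 1 ∨ 2 * d = p - 1)) ∨ (p = 17 ∧ d = 15 ∧ ∃ (A : Type) (_ : CommGroup A) (_ : Finite A), Nonempty (G ≃* Matrix.SpecialLinearGroup (Fin 2) (GaloisField 2 4) × A)) ∨ (p = 7 ∧ d = 4 ∧ Nonempty (G ⧸ Subgroup.center G ≃* ↥(alternatingGroup (Fin 7)))) ∨ (p = 5 ∧ d = 3 ∧ Nonempty (G ⧸ Subgroup.center G ≃* ↥(alternatingGroup (Fin 6)))) := by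
  classical
  by_contra hcon
  simp only [not_or] at hcon
  obtain ⟨c1, c2, c3, c4, c5⟩ := hcon
  have hp' := (Fact.out : p.Prime)
  have hn : ¬ H35L.PCl p G := fun h => c1 (h.normal P)
  have hd' : (χ : G → ℂ) 1 = d := by rw [H17.Ord.dg_cast, H17.Ord.dg, hdeg]
  have hχ := H6.irr_isCharacter χ.2
  have h0 : 0 < d := hdeg ▸ H17.Ord.dg_pos χ
  have hp3 : 3 < p := lt_of_not_ge fun h => by
    obtain rfl : d = 1 := by omega
    obtain ⟨l, hl⟩ := H6.exists_hom_of_char_one_eq_one hχ (by rw [hd', Nat.cast_one])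
    exact hn ((H35L.pcl_of_comm mul_comm).of_injective l ((injective_iff_map_eq_one l).2
      fun g hg => hfaith g (by rw [hl]; simp [hg])))
  by_cases h2 : 2 * d + 1 = p
  · obtain ⟨H, _, _, φ, h1, h3, h4, h5, h6, ⟨e⟩⟩ := H33.Bl.reduce' hp3 χ.2 hfaith hd' hp hn
    obtain ⟨f⟩ := H33.Bl.psl_of_small h5 h6 (H6.irr_isCharacter h1) h3 h4 (by omega)
    exact c2 ⟨⟨e.trans f⟩, Or.inr (by omega)⟩
  have h3 : p ≤ 2 * d + 1 := le_of_not_gt fun h => hn (H33.Bl.pcl_small hχ hfaith hd' h)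
  have hs := H33.Bl.sup_center' hp3 χ.2 hfaith hd' hp hn h2
  have hG := H33.Bl.perf_of_sup hs
  obtain ⟨e⟩ := H33.Bl.quot_of_sup hs
  obtain ⟨r1, r2, r3⟩ := H33.Bl.reduce hp3 χ.2 hfaith hd' hp hn
  have hf : ∀ g : commutator G, (χ : G → ℂ) g = (χ : G → ℂ) (1 : commutator G) → g = 1 :=
    fun g hg => Subtype.ext (hfaith _ hg)
  haveI := Fintype.ofFinite (commutator G)
  obtain ⟨Q⟩ : Nonempty (Sylow p (commutator G)) := inferInstance
  have q1 := H33.Bl.card_sylow r1 r3 Q
  have q2 : ¬ (Q : Subgroup (commutator G)).Normal := fun _ => r1 (H35L.pcl_of_normal Q)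
  have key : 5 < p → d + 2 = p → False := fun h5 h6 => by
    obtain ⟨a, F, _, _, a1, a2, ⟨f⟩⟩ := H84.brauer_sub_two h5 q1 Q.not_dvd_index q2 ⟨_, r2⟩
      ((H87.deg_of_eq hd').trans (by omega)) hf
    have a3 : a < 5 := lt_of_not_ge fun h => by
      have := Nat.pow_le_pow_right two_pos h
      omega
    obtain rfl : a = 4 := by
      interval_cases a
      all_goals first | omega | exact absurd (a1 ▸ hp') (by norm_num)
    letI : ∀ (H : Type _) [Group H], CommGroup (Subgroup.center H) := fun H _ =>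
      { mul_comm := fun a b => Subtype.ext (Subgroup.mem_center_iff.1 b.2 a) }
    have a4 : ∀ z : Subgroup.center (commutator G), z = 1 := fun z =>
      (congrArg Prod.snd (f.apply_symm_apply (1, z))).symm.trans
        (Abelianization.commutator_subset_ker ((MonoidHom.snd _ _).comp f.toMonoidHom)
          (hG ▸ Subgroup.mem_top _))
    obtain ⟨g⟩ := H33.Bl.prod_of_sup hs ((Subgroup.eq_bot_iff_forall _).2 fun z hz =>
      congrArg Subtype.val (a4 ⟨z, hz⟩))
    haveI : Unique (Subgroup.center (commutator G)) := ⟨⟨1⟩, a4⟩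
    haveI := Fintype.ofFinite (GaloisField 2 4)
    refine c3 ⟨a1, by omega, Shrink.{0} (Subgroup.center G), inferInstance,
      Finite.of_equiv _ (equivShrink _), ⟨g.trans (((f.trans MulEquiv.prodUnique).trans
        (H10.slCongr (FiniteField.ringEquivOfCardEq ?_))).prodCongr Shrink.mulEquiv.symm)⟩⟩
    rw [a2, ← Nat.card_eq_fintype_card, GaloisField.card 2 4 (by norm_num)]
  by_cases h7 : p ≤ 7
  · obtain rfl | rfl : p = 5 ∨ p = 7 := by
      interval_cases p
      all_goals first | omega | exact absurd hp' (by norm_num)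
    · obtain rfl : d = 3 := by omega
      obtain ⟨⟨f⟩⟩ | ⟨⟨f⟩⟩ := H33.Bl.small5 hG r1 r3 ⟨_, r2⟩ hd' hf
      · exact c2 ⟨⟨e.trans f⟩, Or.inl rfl⟩
      · exact c5 ⟨rfl, rfl, ⟨e.trans f⟩⟩
    obtain rfl | rfl : d = 4 ∨ d = 5 := by omega
    · obtain ⟨⟨f⟩⟩ | ⟨⟨f⟩⟩ := H33.Bl.small7 hG r1 r3 ⟨_, r2⟩ hd' hf
      · exact c2 ⟨⟨e.trans f⟩, Or.inl rfl⟩
      · exact c4 ⟨rfl, rfl, ⟨e.trans f⟩⟩
    · exact key (by norm_num) rfl
  haveI := Fintype.ofFinite (Q : Subgroup (commutator G))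
  obtain ⟨L⟩ := H84.nonempty_log q1 Q.not_dvd_index
  obtain ⟨t, ht⟩ := H33.Bl.e_dvd L
  obtain ⟨⟨f⟩, k1, -⟩ | ⟨k1, k2, k3⟩ := H33.Bl.core L (by omega) q2 r2 hf hd' hp rfl (t := t)
    (by rw [mul_comm]; omega)
  · exact c2 ⟨⟨e.trans f⟩, by omega⟩
  generalize (H86.Cen (Q : Subgroup (commutator G))).relIndex (H86.Nor (Q : Subgroup _)) = a at *
  have a1 : a < 5 := lt_of_not_ge fun h => by
    have : a * 8 ≤ a * t := Nat.mul_le_mul_left _ (by omega)
    omega
  interval_cases a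
  · omega
  · omega
  · exact key (by omega) k1
  · obtain rfl : p = 19 := by
      obtain h | rfl | rfl | rfl : p = 19 ∨ p = 22 ∨ p = 25 ∨ p = 28 := by omega
      all_goals first | exact h | exact absurd hp' (by norm_num)
    obtain rfl : d = 16 := by omega
    exact hn (H33.Bl.no19 χ.2 hfaith hd')
  · obtain rfl : d = 25 := by omega
    refine absurd (k3 (Nat.not_even_iff_odd.1 fun h => ?_)) (by norm_num)
    obtain ⟨z, hz⟩ := exists_prime_orderOf_dvd_card' 2 h.two_dvd
    have := orderOf_dvd_of_pow_eq_one (hf _ (H84.char_pow_of_central (H6.irr_isCharacter r2) hd'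
      (H87.norm_eq_of_mem_center r2 z.2) (hG ▸ Subgroup.mem_top _)))
    rw [Subgroup.orderOf_coe, hz] at this
    omega

end Cfsg.Agent.S4904
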