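import Cfsg.Statements.S4957
import Cfsg.Agent.Lib.KGT.Big
import Cfsg.Agent.S4956

set_option autoImplicit false
open Cfsg

namespace Cfsg.Agent.S4957

/-- Let X be a finite group and V a normal subgroup of X in which every element has order dividing the prime p, whose index in X is prime to p and which is its own centralizer in X; so V is an elementary abelian normal Sylow p-subgroup, and any complement G to V in X is a group of order prime to p acting faithfully on the vector space V by conjugation (the coprime linear setting of the k(GV) problem). Suppose a complement G to V in X is transitive by conjugation on the nonidentity elements of V. Then X has at most (order of V) conjugacy classes, and if equality holds then G is cyclic (hence, being transitive, a Singer cycle), or V has order 8 and G has order 21 (the nonabelian group of order 21 inside the simple group of order 168), or V has order 9 and G has order 16 (a semidihedral Sylow 2-subgroup of the 2-dimensional general linear group over the field with 3 elements). -/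
theorem result {X : Type*} [Group X] [Finite X] (p : ℕ) [Fact p.Prime] (V : Subgroup X) [V.Normal] (hVexp : ∀ v ∈ V, v ^ p = 1) (hidx : ¬ p ∣ V.index) (hself : Subgroup.centralizer (V : Set X) = V) (G : Subgroup X) (hGV : Subgroup.IsComplement' V G) (htrans : ∀ v ∈ V, ∀ w ∈ V, v ≠ 1 → w ≠ 1 → ∃ g ∈ G, g * v * g⁻¹ = w) : Nat.card (ConjClasses X) ≤ Nat.card V ∧ (Nat.card (ConjClasses X) = Nat.card V → (IsCyclic G ∨ (Nat.card V = 8 ∧ Nat.card G = 21) ∨ (Nat.card V = 9 ∧ Nat.card G = 16))) := by
  classical
  by_cases hV : V = ⊥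
  · subst hV
    have : Subsingleton X := ⟨fun a b => by
      rw [Subgroup.mem_bot.1 (hself.le (H82.mem_centralizer_bot a)),
        Subgroup.mem_bot.1 (hself.le (H82.mem_centralizer_bot b))]⟩
    exact ⟨H81.KR.card_cc_le_card.trans (by simp), fun _ => .inl inferInstance⟩
  have := V.nontrivial_iff_ne_bot.2 hV
  obtain ⟨v, hv⟩ := exists_ne (1 : V)
  have hv' : (v : X) ≠ 1 := fun e => hv (Subtype.ext e)
  letI : CommGroup V := { (inferInstance : Group V) with
    mul_comm := fun a b => Subtype.ext (hself.ge b.2 a a.2) }
  haveI : Module (ZMod p) (Additive V) := AddCommGroup.zmodModule fun x =>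
    Additive.toMul.injective (Subtype.ext (hVexp _ (Additive.toMul x).2))
  let φ : G →* MulAut V := MulAut.conjNormal.comp G.subtype
  let ρ : G →* Module.End (ZMod p) (Additive V) :=
    { toFun := fun g => (MonoidHom.toAdditive (φ g).toMonoidHom).toZModLinearMap p
      map_one' := by ext x; simp
      map_mul' := fun g g' => by ext x; simp }
  have hρ : ∀ (g : G) (u w : V), ρ g (Additive.ofMul u) = Additive.ofMul w ↔ g * (u : X) * (g : X)⁻¹ = w :=
    fun g u w => Additive.ofMul.apply_eq_iff_eq.trans Subtype.ext_iff
  have h : H82.TrRep ρ := ⟨(injective_iff_map_eq_one ρ).2 fun g hg => Subtype.ext (Subgroup.mem_bot.1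
    (hGV.disjoint.le_bot ⟨hself.le fun u hu => (mul_inv_eq_iff_eq_mul.1 ((hρ g ⟨u, hu⟩ ⟨u, hu⟩).1
      (by rw [hg]; rfl))).symm, g.2⟩)), fun u w hu hw => by
    obtain ⟨g, hg, e⟩ := htrans _ u.toMul.2 _ w.toMul.2 (fun e => hu (Subtype.ext e)) fun e => hw (Subtype.ext e)
    exact ⟨⟨g, hg⟩, (hρ _ _ _).2 e⟩⟩
  have hG : ¬ p ∣ Nat.card G := hGV.symm.index_eq_card ▸ hidx
  have hq : Nat.card V = p ^ Module.finrank (ZMod p) (Additive V) := H82.card_V (V := Additive V)
  have h1 := Cfsg.Agent.S4956.result V (fun a ha b hb => hself.ge hb a ha) G hGV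
    (hq ▸ ((Nat.Prime.coprime_iff_not_dvd Fact.out).2 hG).pow_left _) {1, (v : X)}
    (by simp [one_mem]) fun u hu => by
      by_cases u1 : u = 1
      · exact ⟨1, ⟨by simp, 1, one_mem _, by simp [u1]⟩, by rintro s ⟨-, g, -, rfl⟩; simp [u1]⟩
      · refine ⟨v, ⟨by simp, htrans u hu v v.2 u1 hv'⟩, ?_⟩
        rintro s ⟨hs, g, -, rfl⟩
        simpa [u1] using hs
  rw [Finset.sum_pair hv'.symm, inf_of_le_left (show G ≤ Subgroup.centralizer {1} from fun g _ =>
    Subgroup.mem_centralizer_singleton_iff.2 (by simp))] at h1
  have h2 : Nat.card G = (p ^ Module.finrank (ZMod p) (Additive V) - 1) *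
      Nat.card (G ⊓ Subgroup.centralizer {(v : X)} : Subgroup X) := by
    let _ : MulAction G (Additive V) := MulAction.compHom _ ρ
    have e1 : MulAction.orbit G (Additive.ofMul v) = {0}ᶜ := by
      ext w
      exact ⟨by rintro ⟨g, rfl⟩; exact H82.rep_ne_zero (ρ := ρ) (v := Additive.ofMul v) g hv, fun hw => h.trans _ w hv hw⟩
    have e2 : MulAction.stabilizer G (Additive.ofMul v) = (Subgroup.centralizer {(v : X)}).subgroupOf G := by
      ext g
      exact (hρ g v v).trans (mul_inv_eq_iff_eq_mul.trans Subgroup.mem_centralizer_singleton_iff.symm)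
    rw [← H82.card_V, ← Set.ncard_singleton (0 : Additive V), ← Set.ncard_compl, ← e1,
      ← MulAction.index_stabilizer, e2, inf_comm, ← H1.card_subgroupOf_eq, Subgroup.index_mul_card]
  have h3 := H81.KR.card_cc_le_card (X := (G ⊓ Subgroup.centralizer {(v : X)} : Subgroup X))
  rw [h1, hq]
  rcases H81.TV.con h hG h2 with e | ⟨e, e'⟩
  · exact ⟨by omega, fun _ => by omega⟩
  · exact ⟨by omega, fun _ => e'⟩

end Cfsg.Agent.S4957
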