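import Cfsg.Statements.S4997
import Cfsg.Agent.Lib.CH2.Van

set_option autoImplicit false
open Cfsg

namespace Cfsg.Agent.S4997

/-- Let p be an odd prime and G a finite solvable group with exactly one conjugacy class consisting of vanishing elements (elements at which some irreducible complex character is zero) of order divisible by p. Let P be a Sylow p-subgroup of G. Then the order of P is at most p times the order of the largest normal p-subgroup of G. -/
theorem result {G : Type*} [Group G] [Finite G] (hsolv : Group.IsSolvable G) (p : ℕ) [Fact p.Prime] (hp : p ≠ 2) (h1 : Set.ncard {C : ConjClasses G | (∀ g ∈ C.carrier, ∃ χ : Cfsg.IrrCharacter G, (χ : G → ℂ) g = 0) ∧ ∃ g ∈ C.carrier, p ∣ orderOf g} = 1) (P : Sylow p G) : Nat.card ↥(P : Subgroup G) ≤ p * Nat.card ↥(Cfsg.pCore p G) := by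
  obtain ⟨C, hC⟩ := Set.ncard_eq_one.1 h1
  obtain ⟨c, rfl⟩ := ConjClasses.mk_surjective C
  have h := H22.Van.relIndex_dvd (H22.Van.not_dvd_index (b := orderOf c) fun x ⟨χ, hx⟩ h2 => by
    have : ConjClasses.mk x = ConjClasses.mk c := hC.le ⟨fun g hg => ⟨χ, by
      obtain ⟨y, rfl⟩ := isConj_iff.1 (ConjClasses.mk_eq_mk_iff_isConj.1
        (ConjClasses.mem_carrier_iff_mk_eq.1 hg).symm)
      rw [H6.irr_isClassFunction χ.2, hx]⟩, x, ConjClasses.mem_carrier_mk, h2⟩
    obtain ⟨y, rfl⟩ := isConj_iff.1 (ConjClasses.mk_eq_mk_iff_isConj.1 this)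
    exact ((MulAut.conj y).orderOf_eq x).symm) P
  rw [← H1.card_mul_relIndex_of_le (H1.pCore_le_sylow P), mul_comm]
  exact Nat.mul_le_mul_right _ (Nat.le_of_dvd (Fact.out : p.Prime).pos h)

end Cfsg.Agent.S4997
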