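import Cfsg.Statements.S5053
import Mathlib
import Cfsg.Agent.Base
import Cfsg.Agent.Lib.Root.Gen

set_option autoImplicit false
open Cfsg

namespace Cfsg.Agent.S5053

/-- Let G be a finite group generated by a non-degenerate conjugacy class D of root involutions (some two different members commute, some two have product of odd order, some two have product of order 4) and T a weak TI-subset of D: a subset with more than one element, different from D, whose conjugate by any member of D equals T or is disjoint from it. Then T generates an abelian subgroup. -/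
theorem result {G : Type*} [Group G] [Finite G] {D : Set G} (hD : Cfsg.IsNondegenerateRootInvolutionSet D)
    (hcl : Cfsg.IsRootInvolutionClass D)     {T : Set G} (hT : Cfsg.IsWeakTISubsetOfElements D T) : IsMulCommutative ↥(Subgroup.closure T) := by
  obtain ⟨hc, h4⟩ := H89.nondeg_data hD hcl
  have h := H89.ri_of hD.1
  obtain ⟨hTD, -, hne, hti⟩ := hT
  let R : Subgroup G := Subgroup.normalizer T
  have hR : ∀ d ∈ D, ∀ t ∈ T, d * t = t * d → d ∈ R := by
    intro d hd t ht c
    rcases hti d hd with k | k
    · refine Subgroup.mem_set_normalizer_iff.2 fun x => ⟨fun hx => k ▸ ⟨x, hx, rfl⟩, fun hx => ?_⟩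
      obtain ⟨y, hy, e⟩ := k.ge hx
      have : y = x := by simpa using e
      exact this ▸ hy
    · exact absurd ht (Set.disjoint_left.1 k ⟨t, ht, by simp [c]⟩)
  have hno : ∀ a ∈ T, ∀ b ∈ T, ¬ H89.Od a b := by
    intro a ha b hb ho
    have := h.subset_closure_pp hc h4 (hTD ha) (hTD hb) ho (H := R) (hD.1.generates ▸ le_top)
      (fun e he k => hR e he a ha (h.comm_of_mul_mem (hTD ha) he k).symm) (hR b (hTD hb) b hb rfl)
    have hR' : R = ⊤ := by rw [eq_top_iff, ← hD.1.generates, Subgroup.closure_le]; exact this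
    refine hne (Set.Subset.antisymm hTD fun e he => ?_)
    obtain ⟨g, rfl⟩ := hcl.2.2 a (hTD ha) e he
    exact (Subgroup.mem_set_normalizer_iff.1 (hR'.ge (Subgroup.mem_top g)) a).1 ha
  have hcm : ∀ a ∈ T, ∀ b ∈ T, a * b = b * a := by
    intro a ha b hb
    by_contra hn
    have ha' := hTD ha
    have hb' := hTD hb
    have n := hno a ha b hb
    have hm := h.cm_mem ha' hb' n hn
    obtain ⟨z, hz, k1, k2⟩ := h.exists_cm_eq hm ha' (h.mul_mem_symm ha' hm (h.left_mul_cm_mem ha' hb'))
      (hc _ hm _ ha') fun e => hn (h.comm_of_op_eq hc hm ha' hb' e (h.cm_comm_right ha' hb' n).symm).symm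
    have ho := (h.od_of_s3 hb' hz hm ha' (fun k => n k.symm) (fun k => k1 k.symm) (h.cm_symm ha' hb' n)
      (by rw [h.cm_symm hm hz k1, k2])).1
    have hzR := hR z hz a ha (by rw [← k2]; exact (h.cm_comm_right hm hz k1).symm)
    refine hno b hb _ ((Subgroup.mem_set_normalizer_iff.1 hzR b).1 hb) ⟨fun e => ?_, ?_⟩
    · exact H89.not_od_of_comm (h.sq hb') (h.sq hz) (eq_mul_inv_iff_mul_eq.1 e) ho
    · rw [H89.iv (h.sq hz), show b * (z * b * z) = (b * z) ^ 2 by rw [pow_two]; group]
      exact H89.odd_orderOf_pow ho.2 2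
  exact ⟨⟨fun x y => Subtype.ext (H89.comm_of_mem_closure
    (fun a ha => (H89.comm_of_mem_closure (fun b hb => hcm b hb a ha) y.2).symm) x.2)⟩⟩

end Cfsg.Agent.S5053
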