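import Cfsg.Statements.S5143
import Cfsg.Agent.Lib.Fusion.Balance

set_option autoImplicit false
open Cfsg

namespace Cfsg.Agent.S5143

/-- Let F be a saturated fusion system over a finite p-group S, E a normal subsystem over T, and R a subgroup with T ≤ R ≤ S. Then there is exactly one saturated subsystem D of F over R (exactly one family of map sets) whose p-residual subsystem is that of E: the hyperfocal subgroups of D and E coincide and the p-residual subsystems of D and of E have the same maps. -/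
theorem result {Ω : Type*} [Group Ω] {S : Subgroup Ω} [Finite S] (p : ℕ) [Fact p.Prime] (hS : IsPGroup p S) (F : Cfsg.FusionSystem S) (hF : F.IsSaturated p) {T : Subgroup Ω} (E : Cfsg.FusionSystem T) (hE : E.IsNormalIn F p) (R : Subgroup Ω) (hTR : T ≤ R) (hRS : R ≤ S) : ∃ D : Cfsg.FusionSystem R, (D.IsSaturated p ∧ D.IsSubsystemOf F ∧ D.hyperfocalSubgroup p = E.hyperfocalSubgroup p ∧ ∀ (D₁ : Cfsg.FusionSystem (D.hyperfocalSubgroup p)) (E₁ : Cfsg.FusionSystem (E.hyperfocalSubgroup p)), D.IsPResidual p D₁ → E.IsPResidual p E₁ → ∀ P : Subgroup Ω, D₁.Hom P = E₁.Hom P) ∧ ∀ D' : Cfsg.FusionSystem R, D'.IsSaturated p → D'.IsSubsystemOf F → D'.hyperfocalSubgroup p = E.hyperfocalSubgroup p → (∀ (D₁ : Cfsg.FusionSystem (D'.hyperfocalSubgroup p)) (E₁ : Cfsg.FusionSystem (E.hyperfocalSubgroup p)), D'.IsPResidual p D₁ → E.IsPResidual p E₁ → ∀ P : Subgroup Ω, D₁.Hom P = E₁.Hom P) → ∀ P : Subgroup Ω, D'.Hom P = D.Hom P := by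
  have hT := hTR.trans hRS
  have := H90.finite_of_le hT
  have := H90.finite_of_le hRS
  have hS' := hS.to_le hRS
  obtain ⟨L, hL⟩ := H92.exists_hasPPowerIndexIn (hS.to_le hT) hE.1.1 (H90.hyperfocal_le E p) le_rfl
  have hN := H90.isNormalIn_of_isPResidual hS hE hL
  have hU := (H90.hyperfocal_le E p).trans hTR
  have hi := H90.pindex_er (hR := hRS) hS hN hU
  have e := (H90.hyp_er (hR := hRS) hS hN hU).trans
    (H92.hyperfocal_eq_of_hasPPowerIndexIn (hS.to_le hT) hL.2)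
  refine ⟨H90.er F L p R hRS, ⟨H90.isSaturated_er hS hN hU, H90.er_sub, e, fun D₁ E₁ h1 h2 P => ?_⟩,
    fun D hD hs he h P => ?_⟩
  · obtain rfl := H92.eq_of_hasPPowerIndexIn (hS.to_le hT) hL.1 h2.1 hL.2 h2.2
    exact (H92.sub_of_hasPPowerIndexIn hS' h1.1 h1.2.1 e.le hi P).antisymm
      (H92.sub_of_hasPPowerIndexIn hS' hL.1 hi.1 e.ge h1.2 P)
  · obtain ⟨M, hM⟩ := H92.exists_hasPPowerIndexIn hS' hD (H90.hyperfocal_le D p) le_rfl
    have h1 := h M L hM hL
    have h2 := H92.hasPPowerIndexIn_iff.1 hM.2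
    rw [H90.eq_er (hR := hRS) hS hN hD hs (H92.hasPPowerIndexIn_iff.2 ⟨fun P => h1 P ▸ h2.1 P, he.le,
      fun P hP α hα hc => H90.autGroup_mono (fun P => (h1 P).le) P (h2.2.2 P (hP.trans he.ge) α hα hc)⟩)]

end Cfsg.Agent.S5143
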