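import Mathlib
import Cfsg.Statements.S5162
import Cfsg.Agent.Lib.Fusion.Comp
-- import your own Cfsg.Agent.* helpers here

set_option autoImplicit false
open Cfsg

namespace Cfsg.Agent.S5162

/-- Let F be a saturated fusion system over a finite p-group S that is a central product of two saturated subsystems F₁ (over S₁) and F₂ (over S₂) inside S. Then every component of F is a component of F₁ or a component of F₂. -/
theorem result {Ω : Type*} [Group Ω] {S : Subgroup Ω} [Finite S] (p : ℕ) [Fact p.Prime] (hS : IsPGroup p S) (F : Cfsg.FusionSystem S) (hF : F.IsSaturated p) {S₁ S₂ : Subgroup Ω} (F₁ : Cfsg.FusionSystem S₁) (F₂ : Cfsg.FusionSystem S₂) (h₁ : F₁.IsSaturated p) (h₂ : F₂.IsSaturated p) (h₁F : F₁.IsSubsystemOf F) (h₂F : F₂.IsSubsystemOf F) (hc : Cfsg.FusionSystem.IsCentralProductOf F₁ F₂ F) {T : Subgroup Ω} (C : Cfsg.FusionSystem T) (hC : C.IsComponentIn F p) : C.IsComponentIn F₁ p ∨ C.IsComponentIn F₂ p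 := by
  have h := H91.isCentralProductOf_iff'.1 hc
  have n₁ := h.isNormalIn_left h₁ hF
  have n₂ := h.isNormalIn_right h₂ hF
  by_cases k₁ : T ≤ S₁
  · exact Or.inl (H90.isComponentIn_of_le hS hC n₁ k₁)
  by_cases k₂ : T ≤ S₂
  · exact Or.inr (H90.isComponentIn_of_le hS hC n₂ k₂)
  have c₁ := (H90.cz_of_isComponentIn hS hC n₁ k₁).le_cent' hS n₁
  have c₂ := (H90.cz_of_isComponentIn hS hC n₂ k₂).le_cent' hS n₂
  have d₁ : S₂ ≤ H90.Cent F F₁ p := H90.Cz.le_cent' hS n₁ fun _ _ hf => h.cmap_left hf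
  have d₂ : S₁ ≤ H90.Cent F F₂ p :=
    H90.Cz.le_cent' hS n₂ fun _ _ hf => h.symm.cmap_left hf
  have hs := H91.IsSubnormalIn.sub hC.1
  have := H90.finite_of_le (H90.sub_le hs)
  refine (H90.not_fix_of_quasisimple (hS.to_le (H90.sub_le hs)) hC.2 fun P σ hσ x hx => ?_).elim
  obtain ⟨P₁, P₂, f₁, f₂, m₁, m₂, e⟩ := (h.map_iff _ _).1 (hσ.of_sub hs)
  obtain ⟨a, ha, b, hb, rfl, e⟩ := e x hx
  rw [e, (H90.cz_cent' hS n₁).map_eq m₁ ha
    (by simpa using mul_mem (c₁ (hσ.le hx)) (inv_mem (d₁ (m₂.le hb)))),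
    (H90.cz_cent' hS n₂).map_eq m₂ hb
    (by simpa using mul_mem (inv_mem (d₂ (m₁.le ha))) (c₂ (hσ.le hx)))]

end Cfsg.Agent.S5162
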