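import Cfsg.Statements.S5176
import Cfsg.Agent.Lib.QW.Main

set_option autoImplicit false
universe u
open Cfsg

namespace Cfsg.Agent.S5176

/-- The fusion-system form of the standard form problem for SL(2, q), q odd. Let F be a simple saturated fusion system over a finite 2-group S and let R ≤ S be generalized quaternion of order at least 16. Suppose R is weakly closed in S with respect to F, and R is strongly closed in the centralizer system C_F(⟨y⟩) for every involution y of C_S(R). Then either F is the 2-fusion system of PSL(3, q) or of G₂(q) for some odd q (realized by an injective homomorphism of S onto a Sylow 2-subgroup), or S contains a quasi-dihedral subgroup that is strongly closed in F. -/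
theorem result {Ω : Type u} [Group Ω] {S : Subgroup Ω} [Finite S] (hS : IsPGroup 2 S)
    (F : Cfsg.FusionSystem S) (hF : F.IsSimple 2)
    (R : Subgroup Ω) (hRS : R ≤ S) (k : ℕ) (hk : 2 ≤ k) (eR : ↥R ≃* QuaternionGroup (2 ^ k))
    (hW : F.WeaklyClosed R)
    (hC : ∀ y ∈ Cfsg.FusionSystem.centralizerIn S R, orderOf y = 2 →
      ∀ C : Cfsg.FusionSystem (Cfsg.FusionSystem.centralizerIn S (Subgroup.zpowers y)),
        F.IsCentralizerSystem (Subgroup.zpowers y) C → C.StronglyClosed R) :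
    (∃ (K : Type) (_ : Field K) (_ : Fintype K), Odd (Fintype.card K) ∧
        ((∃ ι : ↥S →* Matrix.ProjectiveSpecialLinearGroup (Fin 3) K, F.IsRealizedBy ι ∧
            ∃ T : Sylow 2 (Matrix.ProjectiveSpecialLinearGroup (Fin 3) K),
              (T : Subgroup (Matrix.ProjectiveSpecialLinearGroup (Fin 3) K)) = ι.range) ∨
         (∃ ι : ↥S →* ↥(Cfsg.Lie.G2 K), F.IsRealizedBy ι ∧
            ∃ T : Sylow 2 ↥(Cfsg.Lie.G2 K), (T : Subgroup ↥(Cfsg.Lie.G2 K)) = ι.range))) ∨
      ∃ P : Subgroup Ω, P ≤ S ∧ Cfsg.IsQuasiDihedral ↥P ∧ F.StronglyClosed P := by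
  haveI : Fact (Nat.Prime 2) := ⟨Nat.prime_two⟩
  obtain ⟨n, rfl⟩ := Nat.exists_eq_add_of_le' hk
  obtain ⟨h1, h2⟩ := H93.simple_facts hS hF (by
    haveI : NeZero (2 ^ (n + 2)) := ⟨by positivity⟩
    have h := Subgroup.card_le_of_le hRS
    rw [Nat.card_congr eR.toEquiv, Nat.card_eq_fintype_card, QuaternionGroup.card] at h
    have : 0 < 2 ^ (n + 2) := by positivity
    omega)
  obtain ⟨G, _, _, ι, hι⟩ := H93.Park.exists_finite_realization hS F
  obtain ⟨T, ρ, σ, z, h⟩ := H93.QW.exists_hyp hS hF.1 h1 h2 hRS eR hW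
    (fun y hy h => hC y hy h _ (H90.isCentralizerSystem_csys F _)) hι
  obtain ⟨K, i1, i2, h3, h4⟩ | ⟨P, h3, h4, h5⟩ :=
    h.main (H93.QW.sat_range hι hS hF.1) (H93.QW.focal_range hι h2)
  · refine Or.inl ⟨K, i1, i2, h3, h4.imp ?_ ?_⟩ <;>
      exact fun ⟨κ, h5, U, h6⟩ => ⟨_, (H93.QW.real_comp hι h5).1, U,
        h6.trans (H93.QW.real_comp hι h5).2.symm⟩
  · exact Or.inr ⟨_, H93.preimageAlong_le P, H93.QW.qd_preimage hι h3 h4,
      H93.QW.sc_preimage hι h5⟩

end Cfsg.Agent.S5176
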