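import Cfsg.Statements.S5178
import Mathlib
import Cfsg.Agent.Base
import Cfsg.Agent.Lib.Fusion.AbIdxH
import Cfsg.Agent.Lib.Fusion.RankTwo

set_option autoImplicit false
universe u
open Cfsg

namespace Cfsg.Agent.S5178

open scoped commutatorElement

open H90 H93 Cfsg.FusionSystem Subgroup in

/-- Let p be an odd prime, S a finite p-group containing an extraspecial subgroup Q of index p, and F a saturated fusion system over S whose largest subgroup normal in F is trivial. Then the centre of S equals the centre of Q. -/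
theorem result {Ω : Type u} [Group Ω] {S : Subgroup Ω} [Finite S] (p : ℕ) [Fact p.Prime] (hp : Odd p) (hS : IsPGroup p S)
    (Q : Subgroup Ω) (hQS : Q ≤ S) (hQ : Cfsg.IsExtraspecial p ↥Q) (hQi : (Q.subgroupOf S).index = p)
    (F : Cfsg.FusionSystem S) (hF : F.IsSaturated p) (hO : F.core = ⊥) :
    S ⊓ Subgroup.centralizer (S : Set Ω) = Q ⊓ Subgroup.centralizer (Q : Set Ω) := by
  have hp' : p.Prime := Fact.out
  have h2 : p ≠ 2 := fun e => by rw [e] at hp; exact absurd hp (by decide)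
  have := finite_of_le hQS
  have hc : Nat.card (centralizerIn Q Q) = p := by
    rw [← center_map_eq, card_map_of_injective Q.subtype_injective, hQ.2]
  have h1 : S ≤ normalizer (Q : Set Ω) :=
    (normal_subgroupOf_iff_le_normalizer hQS).1 (H5.normal_of_index_eq hS hQi)
  have h3 : centralizerIn Q Q ≤ centralizerIn S S := fun z hz => ⟨hQS hz.1, fun s hs =>
    mul_inv_eq_iff_eq_mul.1 (conj_eq_of_card_le hS hs (inf_le_left.trans hQS) (fun x hx =>
      ⟨(mem_normalizer_iff.1 (h1 hs) x).1 hx.1, fun y hy => by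
        have h3 := hx.2 _ ((mem_normalizer_iff.1 (inv_mem (h1 hs)) y).1 hy)
        simpa [mul_assoc] using congrArg (fun w => s * w * s⁻¹) h3⟩) hc.le z hz)⟩
  refine le_antisymm (fun x hx => ⟨by_contra fun hx' => ?_, fun y hy => hx.2 y (hQS hy)⟩) h3
  obtain ⟨z, hz, hz'⟩ := exists_ne_one_of_card hc
  have h4 : ∀ s ∈ S, ∃ q ∈ Q, ∃ w ∈ centralizerIn S S, s = q * w ∧ w ^ p ∈ Q := fun s hs => by
    obtain ⟨q, hq, i, e⟩ := (H5.mem_sup_zpowers_iff (h1 hx.1)).1
      ((sup_eq_of_relIndex hQi hQS hx.1 hx').ge hs)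
    exact ⟨q, hq, _, zpow_mem hx i, e, pow_mem_of_relIndex hS hQi (S.zpow_mem hx.1 i)⟩
  have h5 : ∀ s ∈ S, ∀ t ∈ S, ⁅s, t⁆ ∈ centralizerIn Q Q := fun s hs t ht => by
    obtain ⟨a, ha, u, hu, rfl, -⟩ := h4 s hs
    obtain ⟨b, hb, v, hv, rfl, -⟩ := h4 t ht
    rw [show ⁅a * u, b * v⁆ = ⁅a, b⁆ by
      rw [commutatorElement_def, commutatorElement_def,
        show a * u * (b * v) * (a * u)⁻¹ = a * (u * (b * v) * u⁻¹) * a⁻¹ by group,
        center_comm hu ht, mul_inv_cancel_right,
        show a * (b * v) * a⁻¹ * (b * v)⁻¹ = a * b * (v * a⁻¹ * v⁻¹) * b⁻¹ by group,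
        center_comm hv (inv_mem (hQS ha)), mul_inv_cancel_right]]
    exact mem_center_iff_coe.1 (hQ.1.2.2.le (commutator_mem_commutator (mem_top (⟨a, ha⟩ : Q))
      (mem_top ⟨b, hb⟩)))
  have hn : ¬ F.IsNormal S := fun e => hz' ((H91.IsNormal.le_core' e).trans hO.le (hQS hz.1))
  obtain ⟨E, A, ⟨e⟩, h6, -, -, h7⟩ := exists_prod_of_genExtra hS hF (stronglyClosed_top F) hn
    (hQS hz.1) (orderOf_dvd_iff_pow_eq_one.1 (hc ▸ H1.orderOf_dvd_card_of_mem hz))
    (fun s hs t ht => le_zpowers_of_card hc hz hz' (h5 s hs t ht)) fun s hs => by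
      obtain ⟨a, ha, u, hu, rfl, h6⟩ := h4 s hs
      rw [Commute.mul_pow (center_comm hu (hQS ha)).symm]
      exact le_zpowers_of_card hc hz hz' (mul_mem (mem_center_iff_coe.1 (hQ.1.2.1.le
        (H5.pow_mem_frattini hQ.1.1 ⟨a, ha⟩))) ⟨h6, fun y hy => (pow_mem hu p).2 y (hQS hy)⟩)
  obtain ⟨h8, h9, -⟩ := h7 h2
  have : Finite E := Nat.finite_of_card_ne_zero (h8 ▸ (pow_pos hp'.pos 3).ne')
  have h : CI p S := ⟨hS, fun e => hn (isNormal_top_of_comm hS hF fun x hx y hy => e hy x hx), by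
    have h10 : (centralizerIn S S).subgroupOf S = (center E).comap ((MonoidHom.fst E A).comp e) :=
      Subgroup.ext fun y => mem_center_iff_coe.symm.trans ⟨fun hy => mem_center_iff.2 fun a => by
        simpa using congrArg (fun w => (e w).1) (mem_center_iff.1 hy (e.symm (a, 1))),
        fun hy => mem_center_iff.2 fun w => e.injective (by
          rw [map_mul, map_mul]
          exact Prod.ext (mem_center_iff.1 hy _) (h6.1.1 _ _))⟩
    rw [relIndex, h10, index_comap_of_surjective _ (Prod.fst_surjective.comp e.surjective)]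
    exact index_le_of_ne_bot h8 fun e => hp'.ne_one (by
      rw [← (isExtraspecial_of_card_cube h8 h9).2, e, card_bot])⟩
  exact hx' ((commutator_le.2 h5).trans inf_le_left (h.center_le_of_odd hF h2 hO hx))

end Cfsg.Agent.S5178
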