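import Cfsg.Statements.S5179
import Cfsg.Agent.Lib.Fusion.EssLink

set_option autoImplicit false
universe u
open Cfsg

namespace Cfsg.Agent.S5179

/-- Let p be an odd prime, S a finite p-group of order at least p⁶ containing an extraspecial subgroup Q of index p, and F a saturated fusion system over S whose largest subgroup normal in F is trivial. Then no proper subgroup of Q is essential in F: an essential subgroup of F contained in Q equals Q. -/
theorem result {Ω : Type u} [Group Ω] {S : Subgroup Ω} [Finite S] (p : ℕ) [Fact p.Prime] (hp : Odd p) (hS : IsPGroup p S)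
    (Q : Subgroup Ω) (hQS : Q ≤ S) (hQ : Cfsg.IsExtraspecial p ↥Q) (hQi : (Q.subgroupOf S).index = p)
    (h6 : p ^ 6 ≤ Nat.card S)
    (F : Cfsg.FusionSystem S) (hF : F.IsSaturated p) (hO : F.core = ⊥)
    (E : Subgroup Ω) (hEQ : E ≤ Q) (hE : F.IsEssential p E) : E = Q := by
  refine H90.eq_of_essential_le_extraspecial hS hF hQS hQ ?_ hEQ hE
  have hp' : p.Prime := Fact.out
  have h1 := (Q.subgroupOf S).card_mul_index
  rw [hQi, H93.card_subgroupOf_eq hQS] at h1
  by_contra h2
  have h3 := Nat.mul_le_mul_right p (not_lt.1 h2)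
  rw [h1, ← pow_succ] at h3
  exact absurd ((Nat.pow_le_pow_iff_right hp'.one_lt).1 (h6.trans h3)) (by decide)

end Cfsg.Agent.S5179
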