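import Cfsg.Statements.S5180
import Mathlib
import Cfsg.Agent.Base
import Cfsg.Agent.Lib.R3.Bridge

set_option autoImplicit false
universe u
open Cfsg

namespace Cfsg.Agent.S5180

/-- Let p ≥ 5 be a prime, S a finite p-group of sectional p-rank exactly 3, and F a saturated fusion system over S. Then every essential subgroup E of F that needs three generators (the Frattini quotient E/Φ(E) has order p³) is normal in S. -/
theorem result {Ω : Type u} [Group Ω] {S : Subgroup Ω} [Finite S] (p : ℕ) [Fact p.Prime] (hp : 5 ≤ p) (hS : IsPGroup p S) (hsr : Cfsg.SectionalPRankLE p 3 ↥S ∧ ¬ Cfsg.SectionalPRankLE p 2 ↥S)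
    (F : Cfsg.FusionSystem S) (hF : F.IsSaturated p) (E : Subgroup Ω) (hE : F.IsEssential p E)
    (hrk : (frattini ↥E).index = p ^ 3) : S ≤ Subgroup.normalizer (E : Set Ω) := by
  by_contra hn
  obtain ⟨Γ, _, _, S', θ, h, hK⟩ := H93.R3.realize hS F
  obtain ⟨e⟩ := H93.R3.equiv_top h hK
  obtain ⟨e'⟩ := H93.R3.equiv_image hK hE.1.1
  have pS := h.isPGroup hS
  have h1 := (H93.R3.pearl_of_nonnormal pS (h.isSaturated hS hF) (H93.R3.ess_image hS hF h hK hE) hp
    (H93.R3.sr_of e hsr.1) fun e => hn ((H93.R3.norm_image h hK hE.1.1).1 e)).2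
  have h2 := (frattini E).index_dvd_card
  rw [hrk, Nat.card_congr e'.toEquiv, H93.R3.card_eq (pS.to_le (h.image_le E)), h1,
    Nat.pow_dvd_pow_iff_le_right (Fact.out : p.Prime).one_lt] at h2
  omega

end Cfsg.Agent.S5180
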