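import Cfsg.Statements.S5181
import Mathlib
import Cfsg.Agent.Base
import Cfsg.Agent.Lib.R3.All

set_option autoImplicit false
universe u
open Cfsg

namespace Cfsg.Agent.S5181

/-- Let p be an odd prime, S a finite p-group of sectional p-rank exactly 3, and F a saturated fusion system over S whose largest subgroup normal in F is trivial. Then either S is isomorphic to a Sylow p-subgroup of Sp(4,p), or some essential subgroup of F is not normal in S. -/
theorem result {Ω : Type u} [Group Ω] {S : Subgroup Ω} [Finite S] (p : ℕ) [Fact p.Prime] (hp : Odd p) (hS : IsPGroup p S) (hsr : Cfsg.SectionalPRankLE p 3 ↥S ∧ ¬ Cfsg.SectionalPRankLE p 2 ↥S)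
    (F : Cfsg.FusionSystem S) (hF : F.IsSaturated p) (hO : F.core = ⊥) :
    (∃ P : Sylow p ↥(Matrix.symplecticGroup (Fin 2) (ZMod p)),
        Nonempty (↥S ≃* ↥(P : Subgroup ↥(Matrix.symplecticGroup (Fin 2) (ZMod p))))) ∨
      ∃ E : Subgroup Ω, F.IsEssential p E ∧ ¬ S ≤ Subgroup.normalizer (E : Set Ω) := by
  refine or_iff_not_imp_right.2 fun hn => ?_
  obtain ⟨Γ, _, _, S', θ, h, hK⟩ := H93.R3.realize hS F
  obtain ⟨e⟩ := H93.R3.equiv_top h hK
  have pS := h.isPGroup hS
  obtain ⟨h0, h3⟩ := H93.R3.of_not_sr e pS hsr.2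
  refine (H93.R3.all_normal pS (h.isSaturated hS hF) hp (H93.R3.core_image hS hF h hK hO) h3
    (H93.R3.sr_of e hsr.1) h0 fun E hE => ?_).1.of_equiv e
  obtain ⟨D, hD, rfl⟩ := H93.R3.ess_preimage hS hF h hK hE
  exact (H93.R3.norm_image h hK hD.1.1).2 (by_contra fun k => hn ⟨D, hD, k⟩)

end Cfsg.Agent.S5181
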