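import Cfsg.Statements.S5182
import Mathlib
import Cfsg.Agent.Base
import Cfsg.Agent.Lib.R3.All

set_option autoImplicit false
universe u
open Cfsg

namespace Cfsg.Agent.S5182

/-- Let p ≥ 5 be a prime, S a finite p-group of sectional p-rank exactly 3, and F a saturated fusion system over S whose largest subgroup normal in F is trivial. Then F has an essential subgroup that is either elementary abelian of order p² or extraspecial of order p³ and exponent p. -/
theorem result {Ω : Type u} [Group Ω] {S : Subgroup Ω} [Finite S] (p : ℕ) [Fact p.Prime] (hp : 5 ≤ p) (hS : IsPGroup p S) (hsr : Cfsg.SectionalPRankLE p 3 ↥S ∧ ¬ Cfsg.SectionalPRankLE p 2 ↥S)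
    (F : Cfsg.FusionSystem S) (hF : F.IsSaturated p) (hO : F.core = ⊥) :
    ∃ E : Subgroup Ω, (F.IsEssential p E ∧ ((Cfsg.IsElementaryAbelian p E ∧ Nat.card E = p ^ 2) ∨
        (Cfsg.IsExtraspecial p ↥E ∧ Nat.card E = p ^ 3 ∧ ∀ x ∈ E, x ^ p = 1))) := by
  obtain ⟨Γ, _, _, S', θ, h, hK⟩ := H93.R3.realize hS F
  obtain ⟨e⟩ := H93.R3.equiv_top h hK
  have pS := h.isPGroup hS
  have hF' := h.isSaturated hS hF
  have hs := H93.R3.sr_of e hsr.1
  obtain ⟨h0, h3⟩ := H93.R3.of_not_sr e pS hsr.2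
  obtain ⟨E, hE, k⟩ : ∃ E, (groupFusionSystem S').IsEssential p E ∧
      (H93.R3.EA p E ∧ H93.R3.lg p E = 2 ∨ H93.R3.XS p E) := by
    by_cases hn : ∀ E, (groupFusionSystem S').IsEssential p E → S' ≤ Subgroup.normalizer (E : Set Γ)
    · obtain ⟨-, E, hE, k⟩ := H93.R3.all_normal pS hF' ((Fact.out : p.Prime).odd_of_ne_two (by omega))
        (H93.R3.core_image hS hF h hK hO) h3 hs h0 hn
      exact ⟨E, hE, .inr k⟩
    · push Not at hn
      obtain ⟨E, hE, k⟩ := hn
      exact ⟨E, hE, .inl (H93.R3.pearl_of_nonnormal pS hF' hE hp hs k)⟩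
  have pE := pS.to_le hE.1.1
  obtain ⟨D, hD, rfl⟩ := H93.R3.ess_preimage hS hF h hK hE
  obtain ⟨e'⟩ := H93.R3.equiv_image hK hD.1.1
  exact ⟨D, hD, k.imp (fun k => k.1.of_equiv e' pE k.2) fun k => k.of_equiv e' pE⟩

end Cfsg.Agent.S5182
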