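import Cfsg.Statements.S5185
import Mathlib
import Cfsg.Agent.Base
import Cfsg.Agent.Lib.Fusion.Ess

set_option autoImplicit false
universe u
open Cfsg

namespace Cfsg.Agent.S5185

open scoped IsMulCommutative


/-- Let F be a saturated fusion system over a finite p-group S and H an essential subgroup of order p². Then H is elementary abelian (isomorphic to C_p × C_p) and its F-automorphism group contains a subgroup isomorphic to SL(2,p). -/
theorem result {Ω : Type u} [Group Ω] {S : Subgroup Ω} [Finite S] (p : ℕ) [Fact p.Prime] (hS : IsPGroup p S)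
    (F : Cfsg.FusionSystem S) (hF : F.IsSaturated p) (H : Subgroup Ω) (hH : F.IsEssential p H) (hcard : Nat.card H = p ^ 2) :
    Cfsg.IsElementaryAbelian p H ∧
      ∃ K : Subgroup ↥(F.autGroup H), Nonempty (↥K ≃* Matrix.SpecialLinearGroup (Fin 2) (ZMod p)) := by
  have hp : p.Prime := Fact.out
  haveI := H90.finite_of_le hH.1.1
  have hG := hS.to_le hH.1.1
  obtain ⟨τ, h⟩ := H93.exists_nc_of_isEssential hS hF hH
  have h1 := (h.r2 hG (Nat.le_of_dvd (pow_pos hp.pos 2) (hcard ▸ Subgroup.index_dvd_card _))).index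
  obtain ⟨hab, h2⟩ := (H5.frattini_eq_bot_iff hG).1 (Subgroup.card_eq_one.1
    (H93.card_eq_of_index (k := 0) hcard h1))
  refine ⟨⟨hab, fun x hx => congrArg Subtype.val (h2 ⟨x, hx⟩)⟩, ?_⟩
  obtain ⟨z, b, hb, -, h3, -, -, h4, h5, -⟩ := H93.exists_tv_pair h2 hcard.le h.pg h.le h.mem h.nmem
  have h6 := h.le h.mem
  obtain ⟨ψ, h7, h8⟩ := H93.exists_sl2_hom h2 (h3 τ h.mem) ((h3 τ h.mem).conj b) h4 h5 hcard.le h6
    (mul_mem (mul_mem hb h6) (inv_mem hb))
  exact ⟨ψ.range.subgroupOf _, ⟨(Subgroup.subgroupOfEquivOfLe h8).trans (MonoidHom.ofInjective h7).symm⟩⟩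

end Cfsg.Agent.S5185
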