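import Cfsg.Statements.S5187
import Mathlib
import Cfsg.Agent.Base
import Cfsg.Agent.Lib.Fusion.Ess

set_option autoImplicit false
universe u
open Cfsg

namespace Cfsg.Agent.S5187

/-- Let F be a saturated fusion system over a finite p-group S and H an abelian essential subgroup that can be generated by two elements (its Frattini quotient has order at most p²). Then H is elementary abelian of order p², or p ≤ 3 and H is homocyclic of rank two, that is isomorphic to C_{pᵏ} × C_{pᵏ} for some k. -/
theorem result {Ω : Type u} [Group Ω] {S : Subgroup Ω} [Finite S] (p : ℕ) [Fact p.Prime] (hS : IsPGroup p S)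
    (F : Cfsg.FusionSystem S) (hF : F.IsSaturated p) (H : Subgroup Ω) (hH : F.IsEssential p H) (hab : IsMulCommutative ↥H) (hrk : (frattini ↥H).index ≤ p ^ 2) :
    (Cfsg.IsElementaryAbelian p H ∧ Nat.card H = p ^ 2) ∨
      (p ≤ 3 ∧ ∃ k : ℕ, Nonempty (↥H ≃* Multiplicative (ZMod (p ^ k) × ZMod (p ^ k)))) := by
  haveI := H90.finite_of_le hH.1.1
  obtain ⟨τ, h⟩ := H93.exists_nc_of_isEssential hS hF hH
  exact (h.rank_two (hS.to_le hH.1.1) (H93.pCoreOf_eq_bot_of_isEssential hS hH hab) hrk).imp_left
    fun h => ⟨⟨hab, fun x hx => congrArg Subtype.val (h.1 ⟨x, hx⟩)⟩, h.2⟩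

end Cfsg.Agent.S5187
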