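import Cfsg.Statements.S5188
import Mathlib
import Cfsg.Agent.Base
import Cfsg.Agent.Lib.Fusion.Ess

set_option autoImplicit false
universe u
open Cfsg

namespace Cfsg.Agent.S5188

/-- Let F be a saturated fusion system over a finite p-group S and H an essential subgroup of order p⁴. Then H is isomorphic to one of: C_p⁴ or C_{p²} × C_p × C_p (any p); C_{p²} × C_{p²} with p ∈ {2, 3}; p^{1+2}_+ × C_p with p odd (the direct product of an extraspecial group of order p³ and exponent p with a group of order p); Q₈ × C₂ (p = 2); or the non-abelian group of order p⁴ of exponent p² whose centre is cyclic of order p² (the central product of an extraspecial group of order p³ with a cyclic group of order p²; for p = 2 this is D₈ ∘ C₄). -/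
theorem result {Ω : Type u} [Group Ω] {S : Subgroup Ω} [Finite S] (p : ℕ) [Fact p.Prime] (hS : IsPGroup p S)
    (F : Cfsg.FusionSystem S) (hF : F.IsSaturated p) (H : Subgroup Ω) (hH : F.IsEssential p H) (hcard : Nat.card H = p ^ 4) :
    Cfsg.IsElementaryAbelian p H ∨
      Nonempty (↥H ≃* Multiplicative (ZMod (p ^ 2) × ZMod p × ZMod p)) ∨
      ((p = 2 ∨ p = 3) ∧ Nonempty (↥H ≃* Multiplicative (ZMod (p ^ 2) × ZMod (p ^ 2)))) ∨
      (Odd p ∧ ∃ (E : Type) (_ : Group E) (_ : Finite E), Cfsg.IsExtraspecial p E ∧ Nat.card E = p ^ 3 ∧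
        (∀ x : E, x ^ p = 1) ∧ Nonempty (↥H ≃* E × Multiplicative (ZMod p))) ∨
      (p = 2 ∧ Nonempty (↥H ≃* QuaternionGroup 2 × Multiplicative (ZMod 2))) ∨
      (¬ IsMulCommutative ↥H ∧ (∀ x ∈ H, x ^ (p ^ 2) = 1) ∧ IsCyclic ↥(Subgroup.center ↥H) ∧
        Nat.card (Subgroup.center ↥H) = p ^ 2) := by
  have hp : p.Prime := Fact.out
  haveI := H90.finite_of_le hH.1.1
  have hG := hS.to_le hH.1.1
  obtain ⟨τ, h⟩ := H93.exists_nc_of_isEssential hS hF hH
  by_cases h1 : frattini H = ⊥
  · have := (H5.frattini_eq_bot_iff hG).1 h1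
    exact Or.inl ⟨this.1, fun x hx => congrArg Subtype.val (this.2 ⟨x, hx⟩)⟩
  refine Or.inr ?_
  by_cases h2 : (frattini H).index ≤ p ^ 2
  · have hab : IsMulCommutative H := by_contra fun hna => h.index_ne_of_four hcard hna h2
    obtain h3 | ⟨h3, k, ⟨e⟩⟩ := h.rank_two hG (H93.pCoreOf_eq_bot_of_isEssential hS hH hab) h2
    · exact absurd (Nat.pow_right_injective hp.two_le (hcard.symm.trans h3.2)) (by decide)
    have h4 := Nat.card_congr (e.toEquiv.trans Multiplicative.toAdd)
    rw [hcard, Nat.card_prod, Nat.card_zmod, ← pow_add, Nat.pow_right_inj hp.one_lt] at h4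
    obtain rfl : k = 2 := by omega
    exact Or.inr (Or.inl ⟨by have := hp.two_le; omega, ⟨e⟩⟩)
  obtain ⟨k, hk⟩ := IsPGroup.iff_card.1 (hG.to_quotient (frattini H))
  have h3 : (frattini H).index = p ^ k := hk
  have h4 := H93.index_le_of_ne_bot hcard h1
  rw [h3, Nat.pow_le_pow_iff_right hp.one_lt] at h2 h4
  obtain rfl : k = 3 := by omega
  have h5 := (H93.card_eq_of_index (k := 1) hcard h3).trans (pow_one p)
  by_cases hab : IsMulCommutative H
  · exact Or.inl (H93.exists_equiv_of_card_frattini hcard h5)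
  exact Or.inr (Or.inr ((h.four_of_card_frattini hcard hab h5).imp_right (Or.imp_right fun h =>
    ⟨hab, fun x hx => congrArg Subtype.val (h.1 ⟨x, hx⟩), h.2⟩)))

end Cfsg.Agent.S5188
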