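import Cfsg.Statements.S5189
import Mathlib
import Cfsg.Agent.Base
import Cfsg.Agent.Lib.R3.All

set_option autoImplicit false
universe u
open Cfsg

namespace Cfsg.Agent.S5189

/-- Let p be an odd prime, S a finite p-group of sectional p-rank exactly 3, and F a saturated fusion system over S whose largest subgroup normal in F is trivial. Suppose S has two distinct essential subgroups E₁, E₂ each of which is invariant under every F-automorphism of S. Then S is isomorphic to a Sylow p-subgroup of Sp(4,p), and one of E₁, E₂ is extraspecial of order p³ and exponent p while the other is elementary abelian of order p³. -/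
theorem result {Ω : Type u} [Group Ω] {S : Subgroup Ω} [Finite S] (p : ℕ) [Fact p.Prime] (hp : Odd p) (hS : IsPGroup p S)
    (hsr : Cfsg.SectionalPRankLE p 3 ↥S ∧ ¬ Cfsg.SectionalPRankLE p 2 ↥S)
    (F : Cfsg.FusionSystem S) (hF : F.IsSaturated p) (hO : F.core = ⊥)
    (E₁ E₂ : Subgroup Ω) (hne : E₁ ≠ E₂) (hE₁ : F.IsEssential p E₁) (hE₂ : F.IsEssential p E₂)
    (hc₁ : (∀ φ : MulAut ↥S, φ ∈ F.autGroup S → (E₁.subgroupOf S).map φ.toMonoidHom = E₁.subgroupOf S))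
    (hc₂ : (∀ φ : MulAut ↥S, φ ∈ F.autGroup S → (E₂.subgroupOf S).map φ.toMonoidHom = E₂.subgroupOf S)) :
    (∃ P : Sylow p ↥(Matrix.symplecticGroup (Fin 2) (ZMod p)),
        Nonempty (↥S ≃* ↥(P : Subgroup ↥(Matrix.symplecticGroup (Fin 2) (ZMod p))))) ∧
      ((Cfsg.IsExtraspecial p ↥E₁ ∧ Nat.card E₁ = p ^ 3 ∧ (∀ x ∈ E₁, x ^ p = 1) ∧
          Cfsg.IsElementaryAbelian p E₂ ∧ Nat.card E₂ = p ^ 3) ∨
        (Cfsg.IsExtraspecial p ↥E₂ ∧ Nat.card E₂ = p ^ 3 ∧ (∀ x ∈ E₂, x ^ p = 1) ∧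
          Cfsg.IsElementaryAbelian p E₁ ∧ Nat.card E₁ = p ^ 3)) := by
  obtain ⟨Γ, _, _, S', θ, h, hK⟩ := H93.R3.realize hS F
  obtain ⟨e⟩ := H93.R3.equiv_top h hK
  obtain ⟨e₁⟩ := H93.R3.equiv_image hK hE₁.1.1
  obtain ⟨e₂⟩ := H93.R3.equiv_image hK hE₂.1.1
  have pS := h.isPGroup hS
  have p₁ := pS.to_le (h.image_le E₁)
  have p₂ := pS.to_le (h.image_le E₂)
  have k : ∀ Q, H91.kerIn θ ≤ Q := fun Q => hK.le.trans bot_le
  obtain ⟨h1, h2⟩ := H93.R3.two_ess pS (h.isSaturated hS hF) hp (H93.R3.core_image hS hF h hK hO)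
    (H93.R3.of_not_sr e pS hsr.2).2 (H93.R3.sr_of e hsr.1) (H93.R3.ess_image hS hF h hK hE₁)
    (H93.R3.ess_image hS hF h hK hE₂) (fun e => hne (le_antisymm
      ((H93.R3.im_le_iff hE₁.1.1 hE₂.1.1 (k _)).1 e.le)
      ((H93.R3.im_le_iff hE₂.1.1 hE₁.1.1 (k _)).1 e.ge)))
    (H93.R3.norm_image' h hE₁.1.1 hc₁) (H93.R3.norm_image' h hE₂.1.1 hc₂)
  refine ⟨h1.of_equiv e, h2.imp (fun ⟨a, b, c⟩ => ?_) fun ⟨a, b, c⟩ => ?_⟩
  · obtain ⟨a1, a2, a3⟩ := a.of_equiv e₁ p₁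
    exact ⟨a1, a2, a3, b.of_equiv e₂ p₂ c⟩
  · obtain ⟨a1, a2, a3⟩ := a.of_equiv e₂ p₂
    exact ⟨a1, a2, a3, b.of_equiv e₁ p₁ c⟩

end Cfsg.Agent.S5189
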