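import Cfsg.Statements.S5192
import Cfsg.Agent.Lib.Fusion.ParkTransfer
import Cfsg.Agent.Lib.Fusion.NormalSub
-- import your own Cfsg.Agent.* helpers here

set_option autoImplicit false
open Cfsg

namespace Cfsg.Agent.S5192

/-- A Thompson-type transfer for saturated fusion systems. Let F be a saturated fusion system on a finite 2-group S, T a subgroup of S of index 2, and i an involution of S such that every fully normalized F-conjugate of i lies in S but outside T. Then i does not lie in the hyperfocal subgroup of F (the Sylow group of the 2-residual subsystem). -/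
theorem result {Ω : Type*} [Group Ω] [Finite Ω] {S : Subgroup Ω}
    (hS : IsPGroup 2 ↥S) (F : Cfsg.FusionSystem S) (hF : F.IsSaturated 2)
    (T : Subgroup Ω) (hTS : T ≤ S) (hT : T.relIndex S = 2)
    (i : Ω) (hi : i ∈ S) (hi2 : orderOf i = 2)
    (h : ∀ j : Ω, F.IsConjElt i j → F.IsFullyNormalized (Subgroup.zpowers j) → j ∉ T) :
    i ∉ F.hyperfocalSubgroup 2 := by
  classical
  intro hyp
  obtain ⟨K, _, _, ⟨pk⟩⟩ := H92.exists_park hS hF
  let l : Ω → ℤˣ := fun x => if x ∈ T then 1 else -1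
  have hl : H92.MulOn S l := fun x hx y hy => by
    have := Subgroup.mul_mem_iff_of_index_two (a := ⟨x, hx⟩) (b := ⟨y, hy⟩) hT
    simp only [Subgroup.mem_subgroupOf, Subgroup.coe_mul] at this
    by_cases h1 : x ∈ T <;> by_cases h2 : y ∈ T <;> simp [l, this, h1, h2]
  obtain ⟨Q, σ, hσ, hQ⟩ := H90.exists_fullyNormalized F (Subgroup.zpowers_le.2 hi)
  have key : ∀ {a : Ω} {P : Subgroup Ω} {f : Ω → Ω}, H90.Map F P f → a ∈ P →
      H90.im f (Subgroup.zpowers a) = Subgroup.zpowers (f a) := fun {a P f} hf ha => by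
    refine le_antisymm (H90.im_le_iff.2 ?_)
      (Subgroup.zpowers_le.2 (H90.mem_im_of_mem f (Subgroup.mem_zpowers a)))
    rintro _ ⟨n, rfl⟩
    exact ⟨n, (hf.map_zpow ha n).symm⟩
  have hQe : Q = Subgroup.zpowers (σ i) := by rw [← hσ.im_eq, key hσ.1 (Subgroup.mem_zpowers i)]
  subst hQe
  set a := σ i
  have ha2 : orderOf a = 2 := (hσ.1.orderOf_eq (Subgroup.mem_zpowers i)).trans hi2
  have haS : a ∈ S := hσ.1.mem (Subgroup.mem_zpowers i)
  have hz : ∀ x ∈ Subgroup.zpowers a, x = 1 ∨ x = a := fun x hx => by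
    obtain ⟨n, hn, rfl⟩ := Finset.mem_image.1 ((mem_zpowers_iff_mem_range_orderOf).1 hx)
    rw [ha2, Finset.mem_range] at hn
    interval_cases n <;> simp
  have ha1 : a ≠ 1 := fun e => by rw [e, orderOf_one] at ha2; omega
  set N := FusionSystem.normalizerIn S (Subgroup.zpowers a)
  have hNS : N ≤ S := inf_le_left
  have hN : ∀ g ∈ N, g * a * g⁻¹ = a := fun g hg =>
    (hz _ (H90.conj_mem_of_normalizerIn hg (Subgroup.mem_zpowers a))).resolve_left fun e =>
      ha1 (by simpa using e)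
  have hAS : Subgroup.zpowers a ≤ S := Subgroup.zpowers_le.2 haS
  have hAN : Subgroup.zpowers a ≤ N := H90.le_normalizerIn hAS
  have h1 : pk.V hl (pk.j a) = 1 := (H92.Park.inv_V_j hl _ _ hσ.1 i (Subgroup.mem_zpowers i)).trans
    (H92.Park.V_j_focal (pk := pk) hl (H90.hyperfocal_le_focal F 2 hyp))
  have hc := pk.isSec_out.coc hl
  have hsub : pk.fix (pk.jm (Subgroup.zpowers a)) ⊆ pk.all := fun _ _ => H92.Park.mem_all _
  have hinv : ∀ u ∈ pk.jm N, ∀ y ∈ pk.fix (pk.jm (Subgroup.zpowers a)),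
      u • y ∈ pk.fix (pk.jm (Subgroup.zpowers a)) := fun u hu y hy => by
    obtain ⟨x, hx, rfl⟩ := (pk.mem_jm hNS).1 hu
    refine H92.Park.smul_mem_fix ?_ hy
    rw [← pk.ext_ι hx.1]
    exact (H93.ext_mem_normalizer_iff pk.ι_injective hAS hx.1).2 hx.2
  rw [H92.Park.V_eq pk.isSec_out, ← Finset.prod_sdiff hsub, (hc.mono
    (H' := pk.jm (Subgroup.zpowers a)) le_top Finset.sdiff_subset ?_).prod_eq_one ?_
    (pk.j_mem_jm hAS (Subgroup.mem_zpowers a)), one_mul,
    H92.prod_eq_prod_fixed (pk.isPGroup_jm (hS.to_le hNS)) hinv (T₀ := pk.fix (pk.jm N)) ?_ ?_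
      fun _ _ => Int.units_sq _, Finset.prod_congr rfl (g := fun _ => -1) ?_, Finset.prod_const,
    (Nat.odd_iff.2 (Nat.two_dvd_ne_zero.1
      (pk.not_dvd_card_fix (pk.isPGroup_jm (hS.to_le hNS))))).neg_one_pow] at h1
  · exact absurd h1 (by decide)
  · intro y hy
    have hy' := (H92.Park.mem_fix_jm hNS).1 hy
    obtain ⟨τ, hτ, e⟩ := (pk.isSec_out.map_tw hNS hy').exists_perm
    have haN := hAN (Subgroup.mem_zpowers a)
    rw [H92.Park.c_j_fix (hy' a haN), ← e a haN]
    have hi' := (hτ.mono hAN).iso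
    rw [key hτ haN] at hi'
    refine if_neg (h _ ((hσ.1.comp hτ fun x hx => hAN (hσ.mem hx)).isConjElt
      (Subgroup.mem_zpowers i)) (H90.isFullyNormalized_iff.2 ⟨hi'.le', fun R ρ hρ => ?_⟩))
    exact ((H90.isFullyNormalized_iff.1 hQ).2 R _ (hi'.trans hρ)).trans (hτ.card_le fun x hx =>
      ⟨hτ.mem hx, hτ.mem_normalizer hAN hi'.2 hx hx.2⟩)
  · intro y
    rw [H92.Park.mem_fix_jm hNS, H92.Park.mem_fix_jm hAS]
    refine ⟨fun h => ⟨fun x hx => h x (hAN hx), fun u hu => ?_⟩,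
      fun h x hx => h.2 _ (pk.j_mem_jm hNS hx)⟩
    obtain ⟨x, hx, rfl⟩ := (pk.mem_jm hNS).1 hu
    exact h x hx
  · intro u hu y hy
    obtain ⟨x, hx, rfl⟩ := (pk.mem_jm hNS).1 hu
    have := hc.conj (g := pk.j a) (k := pk.j x) trivial trivial (hsub hy)
      ((H92.Park.mem_fix_jm hAS).1 hy a (Subgroup.mem_zpowers a))
    rwa [← pk.mulOn_j.conj hx.1 haS, hN x hx] at this
  · intro u hu y hy
    obtain ⟨x, hx, rfl⟩ := (pk.mem_jm hAS).1 hu
    refine Finset.mem_sdiff.2 ⟨H92.Park.mem_all _, fun h => (Finset.mem_sdiff.1 hy).2 ?_⟩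
    have := H92.Park.mem_fix.1 h _ (inv_mem hu)
    rw [inv_smul_smul] at this
    rwa [this]
  · intro u hu y hy e
    obtain ⟨x, hx, rfl⟩ := (pk.mem_jm hAS).1 hu
    rcases hz x hx with rfl | rfl
    · rw [pk.j_one]; exact hc.one (H92.Park.mem_all _)
    · refine absurd ((H92.Park.mem_fix_jm hAS).2 fun x hx => ?_) (Finset.mem_sdiff.1 hy).2
      rcases hz x hx with rfl | rfl
      · rw [pk.j_one, one_smul]
      · exact e

end Cfsg.Agent.S5192
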