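import Cfsg.Statements.S5196
import Cfsg.Agent.Lib.Fusion.Control
-- import your own Cfsg.Agent.* helpers here

set_option autoImplicit false
universe u
open Cfsg

namespace Cfsg.Agent.S5196

/-- Let p be an odd prime and W a positive characteristic p-functor: W assigns to every finite p-group Q (in a fixed universe) a subgroup W(Q), nontrivial when Q is, carried to W(R) by every isomorphism Q ≅ R; assume also Z(Q) ≤ W(Q) for every finite p-group Q. Suppose W satisfies the local condition: for every finite group G with Sylow p-subgroup P, O_p(G) ∩ Z(G) = O_p(G) ∩ Z(N_G(W(P))). Then W controls weak closure of elements in every saturated fusion system F over a finite p-group S: the centre of the normalizer fusion system of W(S) in F equals the centre of F. (For p = 2 no functor satisfies the local condition, so p is taken odd.) -/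
theorem result {p : ℕ} [Fact p.Prime] (hp : p ≠ 2) (W : ∀ (Q : Type u) [Group Q], Subgroup Q) (hW1 : ∀ (Q : Type u) [Group Q] [Finite Q], IsPGroup p Q → Nontrivial Q → W Q ≠ ⊥) (hW2 : ∀ (Q R : Type u) [Group Q] [Group R] [Finite Q], IsPGroup p Q → ∀ φ : Q ≃* R, (W Q).map φ.toMonoidHom = W R) (hWZ : ∀ (Q : Type u) [Group Q] [Finite Q], IsPGroup p Q → Subgroup.center Q ≤ W Q) (hC : ∀ (G : Type u) [Group G] [Finite G] (P : Sylow p G), Cfsg.pCore p G ⊓ Subgroup.center G = Cfsg.pCore p G ⊓ (Subgroup.center ↥(Subgroup.normalizer (((W ↥(P : Subgroup G)).map (P : Subgroup G).subtype : Subgroup G) : Set G))).map (Subgroup.normalizer (((W ↥(P : Subgroup G)).map (P : Subgroup G).subtype : Subgroup G) : Set G)).subtype) {Ω : Type u} [Group Ω] {S : Subgroup Ω} [Finite S] (hS : IsPGroup p S) (F : Cfsg.FusionSystem S) (hF : F.IsSaturated p) (N : Cfsg.FusionSystem (Cfsg.FusionSystem.normalizerIn S ((W ↥S).map S.subtype))) (hN : F.IsNormalizerSystem ((W ↥S).map S.subtype) N) : N.center = F.center := by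
  have hW : IsCharPFunctor p W := ⟨hW1, hW2⟩
  refine H92.center_eq_of hS hF (H92.iF_le W S) (H92.iF_le_normalizer hW hS) hN fun Z hZ h =>
    H92.isCentral_of_control hW hWZ (𝒞 := fun _ _ => True) (fun _ _ _ _ _ _ => trivial)
      (fun S _ F hS hF _ hZ h => ?_) hS hF trivial hZ h
  obtain ⟨G, _, ι, hG⟩ := H92.exists_model hS hF
  haveI := hG.1
  obtain ⟨T, hT⟩ := hG.2.2.1
  have hZS := hZ.trans (H90.centralizerIn_le S S)
  refine H92.isCentral_of_real hS hF.1 hG.2.1 hZS fun z hz g _ => ?_
  have h1 := h.mem_center hG.2.1 (H92.iF_le W S) hz (H92.center_le_iF (hWZ _ hS) (hZ hz))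
  rw [H92.iF_image hW hS hG.2.1.1, ← hT] at h1
  have hc := H91.isNormal_core F
  have h2 : H93.ext ι z ∈ pCore p G := H92.IsModel.imageAlong_core hG ▸
    H93.ext_mem_imageAlong hc.1 ((H91.isConstrained_iff_core.1 hF).2
      ⟨hZS hz, Subgroup.centralizer_le hc.1 (hZ hz).2⟩)
  have h3 := (hC G T).ge ⟨h2, h1⟩
  rw [Subgroup.mem_center_iff.1 h3.2 g, mul_inv_cancel_right]

end Cfsg.Agent.S5196
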