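import Cfsg.Statements.S5215
import Mathlib
import Cfsg.Agent.Base
import Cfsg.Agent.Lib.Fusion.Rank22

set_option autoImplicit false
open Cfsg

namespace Cfsg.Agent.S5215

/-- Let S be a finite 2-group of 2-rank 2 (an elementary abelian subgroup of order 4, none of order 8) and F a simple saturated fusion system over S. Then S is dihedral, semidihedral or wreathed, and F is the fusion system of the projective special linear group PSL₂(q) for some odd prime power q ≡ ±1 (mod 8) or of PSL₃(q) for some odd prime power q: it is realized by an injective homomorphism of S into that group whose image is a Sylow 2-subgroup. -/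
theorem result {Ω : Type*} [Group Ω] {S : Subgroup Ω} [Finite S] (hS : IsPGroup 2 S) (F : Cfsg.FusionSystem S) (hF : F.IsSaturated 2) (hr : Cfsg.PRankAtLeast 2 2 ↥S ∧ ¬ Cfsg.PRankAtLeast 2 3 ↥S) (hsimple : F.IsSimple 2) : ((∃ m : ℕ, Nonempty (↥S ≃* DihedralGroup m)) ∨ Cfsg.IsQuasiDihedral ↥S ∨ Cfsg.IsWreathed ↥S) ∧ ∃ (K : Type) (_ : Field K) (_ : Fintype K) (q : ℕ), Fintype.card K = q ∧ Odd q ∧ (((q % 8 = 1 ∨ q % 8 = 7) ∧ ∃ ι : ↥S →* Matrix.ProjectiveSpecialLinearGroup (Fin 2) K, F.IsRealizedBy ι ∧ ∃ T : Sylow 2 (Matrix.ProjectiveSpecialLinearGroup (Fin 2) K), (T : Subgroup (Matrix.ProjectiveSpecialLinearGroup (Fin 2) K)) = ι.range) ∨ (∃ ι : ↥S →* Matrix.ProjectiveSpecialLinearGroup (Fin 3) K, F.IsRealizedBy ι ∧ ∃ T : Sylow 2 (Matrix.ProjectiveSpecialLinearGroup (Fin 3) K), (T : Subgroup (Matrix.ProjectiveSpecialLinearGroup (Fin 3) K)) = ι.range)) := by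
  haveI : Fact (Nat.Prime 2) := ⟨Nat.prime_two⟩
  obtain ⟨h1, h2⟩ := H93.simple_facts hS hsimple (by
    obtain ⟨A, -, -, h⟩ := hr.1
    have := A.card_le_card_group
    omega)
  have hp : ∀ (K : Type) [Field K], commutator (Matrix.SpecialLinearGroup (Fin 3) K) = ⊤ :=
    fun K _ => H10.commutator_SL_fin_eq_top 3 (by omega)
  rcases H93.rank_two_cases hS hF hr (eq_bot_iff.2 ((H91.center_le_core F).trans h1.le)) with
    ⟨m, hm, ⟨e⟩⟩ | h | h | h
  · obtain ⟨k, x, y, h⟩ := H93.exists_mx_of_dihedral hS hm e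
    obtain ⟨K, _, _, h3, h4, T, x', y', m, h5, h6, h7⟩ := H93.exists_PSL k
    rw [Nat.card_eq_fintype_card] at h3
    exact ⟨Or.inl ⟨_, ⟨e⟩⟩, K, _, _, _, rfl, Nat.odd_iff.2 (by omega), Or.inl ⟨Or.inl h3,
      h.realize hF h5 h6 h7 (by simp [h4, h2 h.y_mem]) (by simp [h4, h2 (mul_mem h.x_mem h.y_mem)])⟩⟩
  · obtain ⟨k, x, y, h'⟩ := H93.exists_mx_of_qd h
    obtain ⟨K, _, _, h3, T, x', y', m, h5, h6, h7⟩ := H93.exists_SL_three_mx k
    obtain ⟨ι, h8, T, h9⟩ := h'.realize hF h5 h6 h7 (by simp [hp, h2 h'.y_mem])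
      (by simp [hp, h2 (mul_mem h'.x_mem h'.y_mem)])
    exact ⟨Or.inr (Or.inl h), K, _, _, _, rfl, Nat.card_eq_fintype_card (α := K) ▸ h3,
      Or.inr (H93.real_PSL_three h8 T h9)⟩
  · obtain ⟨k, x, y, t, h'⟩ := H41.exists_wr h
    obtain ⟨K, _, _, h3, T, x', y', t', m, h5, h6, h7⟩ := H93.exists_SL_three_wr k
    obtain ⟨ι, h8, T, h9⟩ := H93.wr_realize h' hF (H93.wr_od_of_focal h' hF h2).1
      (H93.wr_od_of_focal h' hF h2).2 h5 h6 h7 (hp K)
    exact ⟨Or.inr (Or.inr h), K, _, _, _, rfl, Nat.card_eq_fintype_card (α := K) ▸ h3,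
      Or.inr (H93.real_PSL_three h8 T h9)⟩
  · exact absurd (eq_bot_iff.2 ((H91.IsNormal.le_core' h).trans h1.le)) hsimple.2.1

end Cfsg.Agent.S5215
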