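import Cfsg.Statements.S5228
import Cfsg.Agent.Lib.TH3.CtA
import Cfsg.Agent.Lib.TH3.FN
import Cfsg.Agent.Lib.TH3.MOD
import Cfsg.Agent.Lib.Fusion.Transport

set_option autoImplicit false
open Cfsg

namespace Cfsg.Agent.S5228

/-- Let S be a finite 3-group isomorphic to a Sylow 3-subgroup of the Thompson sporadic group and F a saturated fusion system over S with no nontrivial normal subgroup (O₃(F) = 1). Then F is a simple fusion system. -/
theorem result {Ω : Type*} [Group Ω] {S : Subgroup Ω} [Finite S] (hS : IsPGroup 3 S) (F : Cfsg.FusionSystem S) (hF : F.IsSaturated 3) [Fact (Nat.Prime 3)] (T : Sylow 3 Cfsg.Spor.Th) (e : ↥S ≃* ↥(T : Subgroup Cfsg.Spor.Th)) (hcore : F.core = ⊥) : F.IsSimple 3 := by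
  obtain ⟨Γ, _, _, S', θ, h, hK⟩ := H93.R3.realize hS F
  obtain ⟨e'⟩ := H93.R3.equiv_top h hK
  have pS : IsPGroup 3 S' := hS.of_equiv e'
  obtain ⟨el, m⟩ := H18.TH.exists_md T (e'.symm.trans e)
  have hF' : H18.TH.Sat S' := h.isSaturated hS hF
  obtain ⟨μ, h', hK', -⟩ := h.symm hK
  exact h'.isSimple pS hK' (H18.TH.simple_of_cls (m.ok pS) hF' (m.cls pS hF')
    (H93.R3.core_image hS hF h hK hcore))

end Cfsg.Agent.S5228
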