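import Mathlib
import Cfsg.Statements.S5243
import Cfsg.Agent.Lib.Fusion.OppFam
-- import your own Cfsg.Agent.* helpers here

set_option autoImplicit false
open Cfsg

namespace Cfsg.Agent.S5243

/-- Let F be a saturated fusion system over a finite p-group S, E a normal subsystem of F over T ≤ S, and χ a surjective homomorphism from Aut_F(T) onto a nontrivial finite group Δ of order prime to p whose kernel contains Aut_E(T). Then there is a proper normal subsystem F₀ of F over S containing E such that Aut_{F₀}(S) consists of those α ∈ Aut_F(S) whose restriction to T is an element of Aut_F(T) in the kernel of χ; moreover every p'-residual subsystem O^{p'}(F) of F is contained in F₀. -/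
theorem result {Ω : Type*} [Group Ω] {S : Subgroup Ω} [Finite S] (p : ℕ) [Fact p.Prime] (hS : IsPGroup p S) (F : Cfsg.FusionSystem S) (hF : F.IsSaturated p) {T : Subgroup Ω} (hTS : T ≤ S) (E : Cfsg.FusionSystem T) (hE : E.IsNormalIn F p) {Δ : Type*} [Group Δ] [Finite Δ] [Nontrivial Δ] (hΔ : (Nat.card Δ).Coprime p) (χ : ↥(F.autGroup T) →* Δ) (hχ : Function.Surjective χ) (hker : (E.autGroup T).subgroupOf (F.autGroup T) ≤ χ.ker) : ∃ F₀ : Cfsg.FusionSystem S, F₀.IsNormalIn F p ∧ ¬ (∀ P : Subgroup Ω, F₀.Hom P = F.Hom P) ∧ E.IsSubsystemOf F₀ ∧ (∀ α : MulAut ↥S, α ∈ F₀.autGroup S ↔ α ∈ F.autGroup S ∧ ∃ β : ↥(F.autGroup T), χ β = 1 ∧ ∀ t : ↥T, (((β : MulAut ↥T) t : ↥T) : Ω) = ((α ⟨(t : Ω), hTS t.2⟩ : ↥S) : Ω)) ∧ ∀ R : Cfsg.FusionSystem S, F.IsPPrimeResidual p R → R.IsSubsystemOf F₀ := by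
  obtain ⟨hEs, -, hi, -⟩ := H91.isNormalIn_iff.1 hE
  have hK : H91.NormalAut F T (χ.ker.map (F.autGroup T).subtype) :=
    ⟨Subgroup.map_subtype_le _, fun α hα _ ⟨κ, hκ, e⟩ =>
      ⟨_, χ.normal_ker.conj_mem κ hκ ⟨α, hα⟩, e ▸ rfl⟩⟩
  have hmem : ∀ β : F.autGroup T, (β : MulAut T) ∈ χ.ker.map (F.autGroup T).subtype ↔ χ β = 1 :=
    fun β => Subgroup.mem_map_iff_mem (f := (F.autGroup T).subtype) Subtype.val_injective
  obtain ⟨F₀, hs, hj, hEF, haut, htop, -⟩ := H91.exists_ppOver hS hF hEs hi hK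
    (fun α hα => ⟨⟨α, H90.autGroup_mono hi.sub T hα⟩, hker hα, rfl⟩) (fun α hα k h => by
      refine (hmem ⟨α, hα⟩).2 ?_
      have h1 := (hmem (⟨α, hα⟩ ^ p ^ k)).1 h
      rw [map_pow] at h1
      exact orderOf_eq_one_iff.1 (Nat.eq_one_of_dvd_coprimes (hΔ.pow_right k)
        (orderOf_dvd_natCard _) (orderOf_dvd_of_pow_eq_one h1)))
  refine ⟨F₀, H91.isNormalIn_of_weakly_top (H91.isWeaklyNormalIn_iff.2 ⟨hs, hF, hj⟩),
    fun h => ?_, hEF, fun α => ?_, fun R hR => ?_⟩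
  · obtain ⟨d, hd⟩ := exists_ne (1 : Δ)
    obtain ⟨β, rfl⟩ := hχ d
    exact hd ((hmem β).1 (by rw [← haut, H90.fs_ext h]; exact β.2))
  · rw [H90.mem_autGroup le_rfl, H90.mem_autGroup le_rfl, htop]
    refine and_congr_right fun _ => ⟨?_, fun ⟨β, hβ, e⟩ => ⟨β, (hmem β).2 hβ, fun x hx => ?_⟩⟩
    · rintro ⟨_, ⟨β, hβ, rfl⟩, e⟩
      refine ⟨β, hβ, fun t => ?_⟩
      rw [← H90.extA_of_mem α (hTS t.2), e t t.2, H90.extA_coe]; rfl
    · rw [H90.extA_of_mem α (hTS hx), H90.extA_of_mem _ hx, e]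
  · rw [H91.eq_opp hS hF hR]
    exact H91.opp_sub_of_weakly hS hF hs hj

end Cfsg.Agent.S5243
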