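import Cfsg.Statements.S5244
import Mathlib
import Cfsg.Agent.Base
import Cfsg.Agent.Lib.Fusion.AbIdxH

set_option autoImplicit false
open Cfsg

namespace Cfsg.Agent.S5244

open H90 H93 Cfsg.FusionSystem in

/-- Let p be an odd prime, S a finite nonabelian p-group with a unique abelian subgroup A of index p, and F a saturated fusion system over S with no nontrivial normal subgroup (O_p(F) = 1) in which A is not F-essential. Then some subgroup Z(S)⟨x⟩ with x ∈ S outside A is F-essential, the centre Z(S) is contained in the commutator subgroup of S, and S has maximal nilpotency class (if S has order pⁿ with n ≥ 3, the term of index n − 2 of its lower central series, counting S itself as the term of index 0, is nontrivial). -/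
theorem result {Ω : Type*} [Group Ω] {S : Subgroup Ω} [Finite S] (p : ℕ) [Fact p.Prime] (hS : IsPGroup p S) (F : Cfsg.FusionSystem S) (hF : F.IsSaturated p) (hp : p ≠ 2) (hna : ¬ IsMulCommutative ↥S) (A : Subgroup Ω) (hA : A ≤ S ∧ IsMulCommutative ↥A ∧ (A.subgroupOf S).index = p) (huniq : ∀ B : Subgroup Ω, B ≤ S → IsMulCommutative ↥B → (B.subgroupOf S).index = p → B = A) (hcore : F.core = ⊥) (hAe : ¬ F.IsEssential p A) : (∃ x ∈ S, x ∉ A ∧ F.IsEssential p ((S ⊓ Subgroup.centralizer (S : Set Ω)) ⊔ Subgroup.zpowers x)) ∧ (S ⊓ Subgroup.centralizer (S : Set Ω)) ≤ (commutator ↥S).map S.subtype ∧ ∀ n : ℕ, Nat.card S = p ^ n → 3 ≤ n → Subgroup.lowerCentralSeries S (n - 2) ≠ ⊥ := by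
  have h := ai_of hS hna hA
  have hp' : p.Prime := Fact.out
  have h1 : ∀ P, F.IsEssential p P → P ≠ A := fun P hP e => hAe (e ▸ hP)
  obtain ⟨Q, hQ⟩ : ∃ P, F.IsEssential p P := by
    by_contra! h2
    exact h.na (((H91.IsNormal.le_core' (isNormal_top_of_no_essential hS hF h2)).trans
      hcore.le).trans bot_le)
  have h2 := h.card_inf_eq hF (rad_of_isEssential hS hF hQ) (h1 Q hQ)
  obtain ⟨⟨P, hP, h3⟩, h4⟩ := center_le_der_of_odd hS hF hp hcore h2 fun P hP => by
    have hR := rad_of_isEssential hS hF hP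
    obtain ⟨x, hx, hx'⟩ := h.exists_mem_not_mem hR (h1 P hP)
    exact (em _).imp (fun hc => (h.ht hR hx hx' hc).2) fun hc => (h.of_not_comm hR hx hx' hc).1
  obtain ⟨x, hx, hx'⟩ := h.exists_mem_not_mem h3.rad (h1 P hP)
  have h5 := h.inf_sup h3.rad.lt.le hx hx'
  rw [(h.ht h3.rad hx hx' h3.comm).1] at h5
  refine ⟨⟨x, h3.rad.lt.le hx, hx', h5.symm ▸ hP⟩, (Subgroup.map_subtype_commutator S).symm ▸ h4,
    fun n hn h6 e => ?_⟩
  obtain ⟨k, rfl⟩ := Nat.exists_eq_add_of_le' h6
  have h7 := H1.card_mul_relIndex_of_le (centralizerIn_le S S)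
  rw [← inf_eq_left.2 h4, h2, inf_eq_left.2 h4, hn, pow_succ', Nat.mul_right_inj hp'.ne_zero] at h7
  have h8 := h.pow_le_card h2 (k := k) (j := 1) h7
  rw [show S.lowerCentralSeries (k + 1) = ⊥ from e, Subgroup.card_bot, pow_one] at h8
  exact hp'.one_lt.not_ge h8

end Cfsg.Agent.S5244
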