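import Cfsg.Statements.S5245
import Cfsg.Agent.Lib.Fusion.AutSys
-- import your own Cfsg.Agent.* helpers here

set_option autoImplicit false
open Cfsg

namespace Cfsg.Agent.S5245

/-- Let F be an extremely sparse fusion system over a finite p-group S (saturated, not the inner system, and every saturated fusion system over any subgroup T of S contained in F is F itself or the inner system of T). Then S is normal in F, the focal and hyperfocal subgroups of F are both S, and Aut_F(S) is generated by the inner automorphisms of S together with a single automorphism of prime order q ≠ p (F is the fusion system of the semidirect product of S by a cyclic group of prime order). -/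
theorem result {Ω : Type*} [Group Ω] {S : Subgroup Ω} [Finite S] (p : ℕ) [Fact p.Prime] (hS : IsPGroup p S) (F : Cfsg.FusionSystem S) (hF : F.IsSaturated p) (hxs : ¬ (∀ P : Subgroup Ω, F.Hom P = (Cfsg.innerFusionSystem S).Hom P) ∧ ∀ (T : Subgroup Ω) (E : Cfsg.FusionSystem T), E.IsSaturated p → E.IsSubsystemOf F → (T = S ∧ ∀ P : Subgroup Ω, E.Hom P = F.Hom P) ∨ (∀ P : Subgroup Ω, E.Hom P = (Cfsg.innerFusionSystem T).Hom P)) : F.IsNormal S ∧ F.focalSubgroup = S ∧ F.hyperfocalSubgroup p = S ∧ ∃ (q : ℕ) (β : MulAut ↥S), q.Prime ∧ q ≠ p ∧ β ∈ F.autGroup S ∧ orderOf β = q ∧ (F.autGroup S : Subgroup (MulAut ↥S)) = Cfsg.Inn ↥S ⊔ Subgroup.zpowers β := by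
  have key : ∀ Q, Q ≤ S → ¬ IsPGroup p (F.autGroup Q) → Q = S := fun Q hQ h => by
    by_contra hne
    exact h (H92.isPGroup_autGroup_of_inner hS hQ fun E h1 h2 _ =>
      H90.fs_ext ((hxs.2 Q E h1 h2).resolve_left fun h => hne h.1))
  have h0 : ¬ IsPGroup p (F.autGroup S) := fun h => hxs.1 fun P => by
    rw [H90.eq_inner_of_isPGroup hS hF fun Q hQ => by_contra fun h' => h' (key Q hQ h' ▸ h)]
  obtain ⟨q, β, hq, hne, hβ, e, hc, h1⟩ := H92.exists_prime_aut le_rfl h0
  obtain ⟨E, h2, h3, h4, h5, h6⟩ := H92.exists_autSys hS le_rfl hβ hc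
  obtain rfl := H90.fs_ext ((hxs.2 S E h2 h3).resolve_right fun h => h1 (h6 (H90.fs_ext h))).2
  have hY := H90.stronglyClosed_hyperfocal hS hF
  have hY' : E.hyperfocalSubgroup p = S := key _ hY.1 fun h => h1 (H90.extA_eq_one_iff.2
    (H93.eq_one_of_fix_hyperfocal hS le_rfl le_rfl hβ hc fun x hx => by
      obtain ⟨γ, hγ, hd, e⟩ := H92.exists_restrict_aut le_rfl hY.1 hβ fun x hx =>
        (H90.iso_extA le_rfl hβ).map.mem_of_stronglyClosed hY (hY.1 hx) hx
      rw [← e x hx.2, H92.eq_one_of_coprime_of_isPGroup h hγ (hc.coprime_dvd_left hd), map_one]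
      rfl))
  exact ⟨h4, (H90.focalSubgroup_le E).antisymm (hY'.ge.trans (H90.hyperfocal_le_focal E p)), hY',
    q, β, hq, hne, hβ, e, h5⟩

end Cfsg.Agent.S5245
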