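import Cfsg.Statements.S5254
import Mathlib
import Cfsg.Agent.Base
import Cfsg.Agent.Lib.Fusion.AbIdxF

set_option autoImplicit false
open Cfsg

namespace Cfsg.Agent.S5254

open H93 in

/-- Let p be an odd prime, S a finite nonabelian p-group with a unique abelian subgroup A of index p, and F a saturated fusion system over S. Then every F-essential subgroup P is A, or Z(S)⟨x⟩ for some x ∈ S outside A, or (when the second centre Z₂(S) lies in A) Z₂(S)⟨x⟩ for some x ∈ S outside A; and P has index p in its normalizer in S. -/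
theorem result {Ω : Type*} [Group Ω] {S : Subgroup Ω} [Finite S] (p : ℕ) [Fact p.Prime] (hS : IsPGroup p S) (F : Cfsg.FusionSystem S) (hF : F.IsSaturated p) (hp : p ≠ 2) (hna : ¬ IsMulCommutative ↥S) (A : Subgroup Ω) (hA : A ≤ S ∧ IsMulCommutative ↥A ∧ (A.subgroupOf S).index = p) (huniq : ∀ B : Subgroup Ω, B ≤ S → IsMulCommutative ↥B → (B.subgroupOf S).index = p → B = A) (P : Subgroup Ω) (hP : F.IsEssential p P) : (P = A ∨ (∃ x ∈ S, x ∉ A ∧ P = (S ⊓ Subgroup.centralizer (S : Set Ω)) ⊔ Subgroup.zpowers x) ∨ (((upperCentralSeries ↥S 2).map S.subtype) ≤ A ∧ ∃ x ∈ S, x ∉ A ∧ P = ((upperCentralSeries ↥S 2).map S.subtype) ⊔ Subgroup.zpowers x)) ∧ (P.subgroupOf (S ⊓ Subgroup.normalizer (P : Set Ω))).index = p := by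
  have h := ai_of hS hna hA
  have hR := rad_of_isEssential hS hF hP
  obtain rfl | hne := eq_or_ne P A
  · exact ⟨.inl rfl, (inf_eq_left.2 h.norm).symm ▸ h.index⟩
  obtain ⟨x, hx, hx'⟩ := h.exists_mem_not_mem hR hne
  have h1 := (h.inf_sup hR.lt.le hx hx').symm
  by_cases hc : P ≤ Subgroup.centralizer (P : Set Ω)
  · obtain ⟨h2, h3⟩ := h.ht hR hx hx' hc
    exact ⟨.inr (.inl ⟨x, hR.lt.le hx, hx', h1.trans (h2 ▸ rfl)⟩), h3.relIndex_eq hS hF⟩
  · obtain ⟨-, h2, -, h3⟩ := h.of_not_comm hR hx hx' hc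
    exact ⟨.inr (.inr ⟨h2.ge.trans inf_le_left, x, hR.lt.le hx, hx', h1.trans (h2 ▸ rfl)⟩), h3⟩

end Cfsg.Agent.S5254
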