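import Cfsg.Statements.S5257
import Mathlib
import Cfsg.Agent.Base
import Cfsg.Agent.Lib.Fusion.AbIdxF

set_option autoImplicit false
open Cfsg

namespace Cfsg.Agent.S5257

open H93 Cfsg.FusionSystem in

/-- Let p be an odd prime, S a finite nonabelian p-group with a unique abelian subgroup A of index p, and F a saturated fusion system over S having an F-essential subgroup other than A. Then the second centre Z₂(S) lies in A; Z(S) ∩ [S, S] has order p; Z(S)[S, S] has index p in A; Z(S) has index p in Z₂(S); and S/Z(S) has maximal nilpotency class (if S/Z(S) has order pᵐ with m ≥ 3 then the term of index m − 2 of the lower central series of S, counting S as index 0, is not contained in Z(S)). -/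
theorem result {Ω : Type*} [Group Ω] {S : Subgroup Ω} [Finite S] (p : ℕ) [Fact p.Prime] (hS : IsPGroup p S) (F : Cfsg.FusionSystem S) (hF : F.IsSaturated p) (hp : p ≠ 2) (hna : ¬ IsMulCommutative ↥S) (A : Subgroup Ω) (hA : A ≤ S ∧ IsMulCommutative ↥A ∧ (A.subgroupOf S).index = p) (huniq : ∀ B : Subgroup Ω, B ≤ S → IsMulCommutative ↥B → (B.subgroupOf S).index = p → B = A) (P : Subgroup Ω) (hP : F.IsEssential p P) (hPA : P ≠ A) : ((upperCentralSeries ↥S 2).map S.subtype) ≤ A ∧ Nat.card ↥((S ⊓ Subgroup.centralizer (S : Set Ω)) ⊓ ((commutator ↥S).map S.subtype)) = p ∧ (((S ⊓ Subgroup.centralizer (S : Set Ω)) ⊔ ((commutator ↥S).map S.subtype)).subgroupOf A).index = p ∧ (((S ⊓ Subgroup.centralizer (S : Set Ω))).subgroupOf ((upperCentralSeries ↥S 2).map S.subtype)).index = p ∧ ∀ m : ℕ, ((S ⊓ Subgroup.centralizer (S : Set Ω)).subgroupOf S).index = p ^ m → 3 ≤ m → ¬ Subgroup.lowerCentralSeries S (m - 2) ≤ (S ⊓ Subgroup.centralizer (S : Set Ω)) := by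
  have h := ai_of hS hna hA
  have hR := rad_of_isEssential hS hF hP
  have h1 := h.Z2_le hF hR hPA huniq
  have h2 := h.card_inf_eq hF hR hPA
  have hp' : p.Prime := Fact.out
  have := H90.finite_of_le h.le
  rw [Subgroup.map_subtype_commutator]
  refine ⟨h1, h2, ?_, ?_, fun m hm h3 h4 => ?_⟩
  · have h3 := H1.card_sup_mul_card_inf_of_le_normalizer (H := ⁅S, S⁆) (N := centralizerIn S S)
      (h.der_le.trans (h.le.trans (le_normalizer_center S)))
    have h4 := H1.card_mul_relIndex_of_le (sup_le h.center_le h.der_le)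
    have := H90.finite_of_le (sup_le h.center_le h.der_le)
    rw [h.card_eq, mul_comm (Nat.card (centralizerIn S S)), ← h3, inf_comm, h2, sup_comm ⁅S, S⁆] at h4
    exact Nat.eq_of_mul_eq_mul_left Nat.card_pos h4
  · have h3 := h.card_inf.symm.trans h2
    rwa [inf_eq_left.2 h1] at h3
  · obtain ⟨k, rfl⟩ := Nat.exists_eq_add_of_le' h3
    have := H90.finite_of_le (inf_le_left : centralizerIn S S ⊓ ⁅S, S⁆ ≤ _)
    exact lt_sq.not_ge ((h.pow_le_card h2 (k := k) (j := 2) hm).trans (h2 ▸ H90.card_le_of_le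
      (le_inf h4 (S.lowerCentralSeries_antitone (Nat.le_add_left 1 k)))))

end Cfsg.Agent.S5257
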