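import Cfsg.Statements.S5258
import Mathlib
import Cfsg.Agent.Base
import Cfsg.Agent.Lib.U5F.Main
import Cfsg.Agent.Lib.U5F.Syl

set_option autoImplicit false
open Cfsg

namespace Cfsg.Agent.S5258

/-- Let p be a prime, K a finite field with q² elements where q = pⁿ (n ≥ 1), and S a finite p-group isomorphic to a Sylow p-subgroup of the projective special unitary group PSU₅(q) realised over K. Then every saturated fusion system over S is realizable: it is the fusion system of a finite group on a Sylow p-subgroup. -/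
theorem result {Ω : Type*} [Group Ω] {S : Subgroup Ω} [Finite S] (p : ℕ) [Fact p.Prime] (hS : IsPGroup p S) (F : Cfsg.FusionSystem S) (hF : F.IsSaturated p) {K : Type*} [Field K] [Fintype K] [CharP K p] (n : ℕ) (hn : 1 ≤ n) (hK : Fintype.card K = (p ^ n) ^ 2) (T : Sylow p (Cfsg.PSU 5 K (p ^ n))) (e : ↥S ≃* ↥(T : Subgroup (Cfsg.PSU 5 K (p ^ n)))) : F.IsRealizable p := by
  obtain ⟨Γ, _, _, ι, h⟩ := H93.Park.exists_finite_realization hS F
  obtain ⟨θ, h1, -, -⟩ := H91.exists_quot_of_real h (H93.groupFusionSystem_isRealizedBy ι.range)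
    (Subgroup.range_subtype _).symm
  obtain ⟨_, hs, ⟨j⟩⟩ := U5F.exists_equiv p n hn hK T
  have r : (ι.comp (j.trans e.symm).toMonoidHom).range = ι.range := by
    rw [MonoidHom.range_comp, MonoidHom.range_eq_top.2 (j.trans e.symm).surjective,
      ← MonoidHom.range_eq_map]
  have C : H93.SX.Cf p (ι.comp (j.trans e.symm).toMonoidHom) :=
    ⟨h.1.comp (j.trans e.symm).injective, U5F.pg_un hs p, r ▸ h1.isSaturated hS hF⟩
  have h4 : (groupFusionSystem ι.range).IsRealizable p := r ▸ U5F.realizable hs C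
  obtain ⟨G, _, _, ψ, h5, P, hP⟩ := h4
  refine ⟨G, _, ‹_›, ψ.comp ι.rangeRestrict, ⟨h5.1.comp (MonoidHom.ofInjective h.1).injective,
    fun Q hQ φ hφ => (h.2 Q hQ φ hφ).trans ⟨fun ⟨g, hg⟩ => ?_, fun ⟨k, hk⟩ => ?_⟩⟩, P, by
      rw [hP, MonoidHom.range_comp, MonoidHom.range_eq_top.2 ι.rangeRestrict_surjective,
        ← MonoidHom.range_eq_map]⟩
  · obtain ⟨k, hk⟩ := (h5.2 ((Q.subgroupOf S).map ι) (Subgroup.map_le_range _ _) (conjHom _ g) (by
      rintro ⟨_, x, hx, rfl⟩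
      exact ⟨_, hg ⟨x, hx⟩⟩)).1 ⟨Subgroup.map_le_range _ _, by
        rintro ⟨_, x, hx, rfl⟩
        exact ⟨_, hg ⟨x, hx⟩⟩, g, fun _ => rfl⟩
    exact ⟨k, fun x => (congrArg ψ (Subtype.ext (hg x))).trans (hk ⟨_, ⟨x, hQ x.2⟩, x.2, rfl⟩)⟩
  · let i := (MonoidHom.ofInjective h.1).symm
    let χ : (Q.subgroupOf S).map ι →* Γ := ι.comp ((φ.codRestrict S hφ).comp
      (((S.subtype.comp i.toMonoidHom).comp (Subgroup.inclusion (Subgroup.map_le_range _ _))).codRestrict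
        Q (by
          rintro ⟨_, x, hx, rfl⟩
          exact (congrArg (fun y : S => y.1 ∈ Q) ((MonoidHom.ofInjective h.1).symm_apply_apply x)).mpr hx)))
    have hχ : ∀ x : Q, χ ⟨_, ⟨x, hQ x.2⟩, x.2, rfl⟩ = ι ⟨φ x, hφ x⟩ := fun x =>
      congrArg (fun y => ι ⟨φ y, hφ y⟩) (Subtype.ext (congrArg S.subtype
        ((MonoidHom.ofInjective h.1).symm_apply_apply ⟨x, hQ x.2⟩)))
    obtain ⟨-, -, g, hg⟩ := (h5.2 _ (Subgroup.map_le_range _ _) χ fun _ => ⟨_, rfl⟩).2 ⟨k, by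
      rintro ⟨_, x, hx, rfl⟩
      exact (congrArg ψ (Subtype.ext (hχ ⟨x, hx⟩))).trans (hk ⟨x, hx⟩)⟩
    exact ⟨g, fun x => (hχ x).symm.trans (hg _)⟩


end Cfsg.Agent.S5258
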