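import Cfsg.Statements.S5259
import Cfsg.Agent.Lib.Fusion.HeisSL
import Cfsg.Agent.Lib.Fusion.Model

set_option autoImplicit false
open Cfsg

namespace Cfsg.Agent.S5259

/-- Let p be a prime, K a finite field of characteristic p, and S a finite p-group isomorphic to a Sylow p-subgroup of SL₃(K). Then every exotic fusion system F over S (saturated but not the fusion system of a finite group on a Sylow p-subgroup) has no nontrivial normal subgroup: O_p(F) = 1. -/
theorem result {Ω : Type*} [Group Ω] {S : Subgroup Ω} [Finite S] (p : ℕ) [Fact p.Prime] (hS : IsPGroup p S) (F : Cfsg.FusionSystem S) (hF : F.IsSaturated p) {K : Type*} [Field K] [Fintype K] [CharP K p] (T : Sylow p (Matrix.SpecialLinearGroup (Fin 3) K)) (e : ↥S ≃* ↥(T : Subgroup (Matrix.SpecialLinearGroup (Fin 3) K))) (hex : F.IsExotic p) : F.core = ⊥ := by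
  by_contra hc
  obtain ⟨Z, hZ⟩ := H90.exists_heis_of_sylow_SL3 p T e
  obtain ⟨G, _, ι, hG⟩ := H92.exists_model hS (hZ.isConstrained hS hF hc)
  exact hex.2 ⟨G, _, hG.1, ι, hG.2.1, hG.2.2.1⟩

end Cfsg.Agent.S5259
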