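import Cfsg.Statements.S5262
import Mathlib
import Cfsg.Agent.Base
import Cfsg.Agent.Lib.Ofs.MN
import Cfsg.Agent.Lib.Oct.Model
import Cfsg.Agent.Lib.Oct.OP

set_option autoImplicit false
open Cfsg

namespace Cfsg.Agent.S5262

/-- Let m ≥ 0, K a finite field with 2^(2m+1) elements, and S a finite 2-group isomorphic to a Sylow 2-subgroup of the Ree group ²F₄(2^(2m+1)) realised over K (its defining field endomorphism being t ↦ t^(2^m); m = 0 gives ²F₄(2)). Then every saturated fusion system over S is realizable: it is the fusion system of a finite group on a Sylow 2-subgroup. -/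
theorem result {Ω : Type*} [Group Ω] {S : Subgroup Ω} [Finite S] (hS : IsPGroup 2 S) (F : Cfsg.FusionSystem S) (hF : F.IsSaturated 2) {K : Type*} [Field K] [Fintype K] (m : ℕ) (hK : Fintype.card K = 2 ^ (2 * m + 1)) (T : Sylow 2 ↥(Cfsg.Lie.twistedF4 K (2 ^ m))) (e : ↥S ≃* ↥(T : Subgroup ↥(Cfsg.Lie.twistedF4 K (2 ^ m)))) : F.IsRealizable 2 := by
  obtain ⟨Γ, _, _, ι, h⟩ := H93.Park.exists_finite_realization hS F
  obtain ⟨θ, h1, h2, -⟩ := H91.exists_quot_of_real h (H93.groupFusionSystem_isRealizedBy ι.range)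
    (Subgroup.range_subtype _).symm
  obtain ⟨_, ⟨O⟩⟩ := H78.Oct.exists_oct m hK
  obtain ⟨U, hU⟩ := H78.Oct.Oct.OP.syl O
  let j : H78.Oct.Co K ≃* T :=
    ((MonoidHom.ofInjective O.inj).trans (MulEquiv.subgroupCongr hU.symm)).trans (Sylow.equiv U T)
  have r : (ι.comp (j.trans e.symm).toMonoidHom).range = ι.range := by
    rw [MonoidHom.range_comp, MonoidHom.range_eq_top.2 (j.trans e.symm).surjective,
      ← MonoidHom.range_eq_map]
  have C : H93.SX.Cf 2 (ι.comp (j.trans e.symm).toMonoidHom) :=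
    ⟨h.1.comp (j.trans e.symm).injective, H78.Oct.Co.isPGroup, r ▸ h1.isSaturated hS hF⟩
  have h4 : (groupFusionSystem ι.range).IsRealizable 2 :=
    r ▸ H78.Ofs.realizable C O (H78.Ofs.odd_gal m (Nat.card_eq_fintype_card.trans hK))
  obtain ⟨G, _, _, ψ, h5, P, hP⟩ := h4
  refine ⟨G, _, ‹_›, ψ.comp ι.rangeRestrict, ⟨h5.1.comp (MonoidHom.ofInjective h.1).injective,
    fun Q hQ φ hφ => (h.2 Q hQ φ hφ).trans ⟨fun ⟨g, hg⟩ => ?_, fun ⟨k, hk⟩ => ?_⟩⟩, P, by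
      rw [hP, MonoidHom.range_comp, MonoidHom.range_eq_top.2 ι.rangeRestrict_surjective,
        ← MonoidHom.range_eq_map]⟩
  · obtain ⟨k, hk⟩ := (h5.2 ((Q.subgroupOf S).map ι) (Subgroup.map_le_range _ _) (conjHom _ g) (by
      rintro ⟨_, x, hx, rfl⟩
      exact ⟨_, hg ⟨x, hx⟩⟩)).1 ⟨Subgroup.map_le_range _ _, by
        rintro ⟨_, x, hx, rfl⟩
        exact ⟨_, hg ⟨x, hx⟩⟩, g, fun _ => rfl⟩
    exact ⟨k, fun x => (congrArg ψ (Subtype.ext (hg x))).trans (hk ⟨_, ⟨x, hQ x.2⟩, x.2, rfl⟩)⟩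
  · let i := (MonoidHom.ofInjective h.1).symm
    let χ : (Q.subgroupOf S).map ι →* Γ := ι.comp ((φ.codRestrict S hφ).comp
      (((S.subtype.comp i.toMonoidHom).comp (Subgroup.inclusion (Subgroup.map_le_range _ _))).codRestrict
        Q (by
          rintro ⟨_, x, hx, rfl⟩
          exact (congrArg (fun y : S => y.1 ∈ Q) ((MonoidHom.ofInjective h.1).symm_apply_apply x)).mpr hx)))
    have hχ : ∀ x : Q, χ ⟨_, ⟨x, hQ x.2⟩, x.2, rfl⟩ = ι ⟨φ x, hφ x⟩ := fun x =>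
      congrArg (fun y => ι ⟨φ y, hφ y⟩) (Subtype.ext (congrArg S.subtype
        ((MonoidHom.ofInjective h.1).symm_apply_apply ⟨x, hQ x.2⟩)))
    obtain ⟨-, -, g, hg⟩ := (h5.2 _ (Subgroup.map_le_range _ _) χ fun _ => ⟨_, rfl⟩).2 ⟨k, by
      rintro ⟨_, x, hx, rfl⟩
      exact (congrArg ψ (Subtype.ext (hχ ⟨x, hx⟩))).trans (hk ⟨x, hx⟩)⟩
    exact ⟨g, fun x => (hχ x).symm.trans (hg _)⟩

end Cfsg.Agent.S5262
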