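import Cfsg.Statements.S5264
import Mathlib
import Cfsg.Agent.Base
import Cfsg.Agent.Lib.R3.Five
import Cfsg.Agent.Lib.Fusion.Hyp

set_option autoImplicit false
open Cfsg

namespace Cfsg.Agent.S5264

/-- Let p be an odd prime other than 7, S a finite p-group of order p^5, and F a saturated fusion system over S with no nontrivial normal subgroup and with hyperfocal subgroup equal to S (so F is its own p-residual subsystem). Then S has an abelian subgroup of index p. -/
theorem result {Ω : Type*} [Group Ω] {S : Subgroup Ω} [Finite S] (p : ℕ) [Fact p.Prime] (hS : IsPGroup p ↥S) (F : Cfsg.FusionSystem S) (hF : F.IsSaturated p) (hp : p ≠ 2) (hp7 : p ≠ 7) (hcard : Nat.card S = p ^ 5) (hcore : F.core = ⊥) (hhyp : F.hyperfocalSubgroup p = S) : ∃ A : Subgroup Ω, A ≤ S ∧ IsMulCommutative ↥A ∧ (A.subgroupOf S).index = p := by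
  by_contra hn
  obtain ⟨Γ, _, _, S', θ, h, hK⟩ := H93.R3.realize hS F
  obtain ⟨e⟩ := H93.R3.equiv_top h hK
  have pS := h.isPGroup hS
  have l := H93.R3.lg_of_card ((Nat.card_congr e.toEquiv).symm.trans hcard)
  refine H93.R3.five pS (h.isSaturated hS hF) ((Fact.out : p.Prime).odd_of_ne_two hp) l
    (fun X hX c => not_le.1 fun k => hn ?_) hp7 (H93.R3.core_image hS hF h hK hcore)
    (le_trans (by rw [h.hyp_eq hS hF, hhyp, h.image_top]) (H90.hyperfocal_le_focal _ p))
  obtain ⟨Y, -, y, m, -⟩ := H93.R3.exists_chain (pS.to_le hX) le_rfl Subgroup.le_normalizer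
    (H93.R3.norm_bot _) bot_le 4 (by rwa [H93.R3.lg_bot])
  rw [H93.R3.lg_bot] at m
  obtain ⟨A, -, a, rfl⟩ := H93.R3.exists_pre le_rfl (hK.le.trans bot_le)
    ((y.trans hX).trans h.image_top.ge)
  obtain ⟨i⟩ := H93.R3.equiv_image hK a
  refine ⟨A, a, H93.R3.comm_of_equiv i (y.trans (c.trans (H93.R3.cent_anti y))), ?_⟩
  have := (A.subgroupOf S).card_mul_index
  rw [H1.card_subgroupOf_of_le a, Nat.card_congr i.toEquiv, H93.R3.card_eq (pS.to_le (y.trans hX)), m,
    hcard, pow_succ p 4] at this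
  exact Nat.eq_of_mul_eq_mul_left (pow_pos (Fact.out : p.Prime).pos 4) this

end Cfsg.Agent.S5264
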