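import Cfsg.Statements.S5265
import Mathlib
import Cfsg.Agent.Base
import Cfsg.Agent.Lib.Fusion.AbIdx2

set_option autoImplicit false
open Cfsg

namespace Cfsg.Agent.S5265

open H90 H93 Cfsg.FusionSystem in

/-- Let p be a prime, S a nontrivial finite p-group whose centre has index at most p², and F a saturated fusion system over S with no nontrivial normal subgroup and with hyperfocal subgroup equal to S. Then S is extraspecial of order p³; for odd p it has exponent p, and for p = 2 it is dihedral of order 8. -/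
theorem result {Ω : Type*} [Group Ω] {S : Subgroup Ω} [Finite S] (p : ℕ) [Fact p.Prime] (hS : IsPGroup p ↥S) (F : Cfsg.FusionSystem S) (hF : F.IsSaturated p) (hS1 : S ≠ ⊥) (hcore : F.core = ⊥) (hhyp : F.hyperfocalSubgroup p = S) (hZ : (Subgroup.center ↥S).index ≤ p ^ 2) : Cfsg.IsExtraspecial p ↥S ∧ Nat.card S = p ^ 3 ∧ (p ≠ 2 → Monoid.exponent ↥S = p) ∧ (p = 2 → Nonempty (↥S ≃* DihedralGroup 4)) := by
  have hp : p.Prime := Fact.out
  have hn : ¬ F.IsNormal S := fun e => hS1 (eq_bot_iff.2 ((H91.IsNormal.le_core' e).trans hcore.le))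
  have h : CI p S := ⟨hS, fun e => hn (isNormal_top_of_comm hS hF fun x hx y hy => e hy x hx),
    (congrArg Subgroup.index (Subgroup.ext fun x => mem_center_iff_coe.symm)).le.trans hZ⟩
  have h1 : centralizerIn S S ≤ ⁅S, S⁆ := by
    obtain rfl | h2 := eq_or_ne p 2
    · exact h.center_le_of_two hF hcore (hhyp.ge.trans (hyperfocal_le_focal F 2))
    · exact h.center_le_of_odd hF h2 hcore
  have h2 := h.card_der
  rw [inf_eq_left.2 h1] at h2
  have h3 : Nat.card S = p ^ 3 := by
    rw [← H1.card_mul_relIndex_of_le (centralizerIn_le S S), h2, h.index_eq, ← pow_succ']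
  obtain ⟨z, hz, hz'⟩ := exists_ne_one_of_card h2
  obtain ⟨E, A, ⟨e⟩, -, h4, h5, h6⟩ := exists_prod_of_genExtra hS hF (stronglyClosed_top F) hn hz.1
    (orderOf_dvd_iff_pow_eq_one.1 (h2 ▸ H1.orderOf_dvd_card_of_mem hz))
    (fun x hx y hy => le_zpowers_of_card h2 hz hz'
      (h.der_le (Subgroup.commutator_mem_commutator hx hy)))
    fun x hx => le_zpowers_of_card h2 hz hz' (h.pow_mem hx)
  refine ⟨isExtraspecial_of_card_cube h3 fun e => h.na (Subgroup.le_centralizer_iff_isMulCommutative.2
    ((commutator_eq_bot_iff _).1 e)), h3, fun h7 => ?_, fun h7 => ?_⟩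
  · haveI := (Subgroup.nontrivial_iff_ne_bot S).2 hS1
    refine (Monoid.exponent_eq_prime_iff hp).2 fun g hg => orderOf_eq_prime (e.injective ?_) hg
    rw [map_pow, map_one]
    exact Prod.ext (Subtype.ext ((h6 h7).2.2 _ (e g).1.2)) (Subtype.ext (h4 _ (e g).2.2))
  · obtain ⟨f⟩ := h5 h7
    have h8 := Nat.card_congr e.toEquiv
    rw [Nat.card_prod, Nat.card_congr f.toEquiv, DihedralGroup.nat_card, h3, h7] at h8
    haveI := (Nat.card_eq_one_iff_unique.1 (show Nat.card A = 1 by omega)).1
    haveI : Unique A := uniqueOfSubsingleton 1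
    exact ⟨e.trans (MulEquiv.prodUnique.trans f)⟩

end Cfsg.Agent.S5265
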