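import Cfsg.Statements.S5267
import Mathlib
import Cfsg.Agent.Base
import Cfsg.Agent.Lib.MX.Main

set_option autoImplicit false
open Cfsg

namespace Cfsg.Agent.S5267

open H90 H90.MX H93 H83.Krek Cfsg.FusionSystem in

/-- Let p be a prime and S a finite p-group of maximal class of order p^n with n ≥ 4 (nilpotency class n − 1: the term γ_{n−1}(S) of its lower central series, reached from S after n − 2 commutator steps, is nontrivial), F a saturated fusion system over S and E an F-essential subgroup. Write Γ₁ for the two-step centralizer C_S([S,S]/γ₄(S)) (the elements of S whose commutators with [S,S] lie in the fourth term γ₄(S) of the lower central series) and Z₂(S) for the second centre. Then E is a pearl — elementary abelian of order p², or extraspecial of order p³ of exponent p (p odd) or quaternion of order 8 (p = 2) — or E = Γ₁, or E = C_S(Z₂(S)). Moreover, if Γ₁ ≠ C_S(Z₂(S)) then every pearl of F is elementary abelian of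 order p². -/
theorem result {Ω : Type*} [Group Ω] {S : Subgroup Ω} [Finite S] (p : ℕ) [Fact p.Prime] (hS : IsPGroup p ↥S) (n : ℕ) (hn : Nat.card S = p ^ n) (h4 : 4 ≤ n) (hmax : Subgroup.lowerCentralSeries S (n - 2) ≠ ⊥) (F : Cfsg.FusionSystem S) (hF : F.IsSaturated p) (Γ₁ : Subgroup Ω) (hΓ₁ : ∀ x : Ω, x ∈ Γ₁ ↔ x ∈ S ∧ ∀ y ∈ Subgroup.lowerCentralSeries S 1, x * y * x⁻¹ * y⁻¹ ∈ Subgroup.lowerCentralSeries S 3) : (∀ E : Subgroup Ω, F.IsEssential p E → (Nat.card ↥E = p ^ 2 ∧ Cfsg.IsElementaryAbelian p E) ∨ (Nat.card ↥E = p ^ 3 ∧ Cfsg.IsExtraspecial p ↥E ∧ (p ≠ 2 → Monoid.exponent ↥E = p) ∧ (p = 2 → Nonempty (↥E ≃* QuaternionGroup 2))) ∨ E = Γ₁ ∨ E = (S ⊓ Subgroup.centralizer (((Subgroup.upperCentralSeries ↥S 2).map S.subtype) : Set Ω))) ∧ (Γ₁ ≠ (S ⊓ Subgroup.centralizer (((Subgroup.upperCentralSeries ↥S 2).map S.subtype) : Set Ω)) → ∀ E : Subgroup Ω, F.IsEssential p E → (Nat.card ↥E = p ^ 3 ∧ Cfsg.IsExtraspecial p ↥E ∧ (p ≠ 2 →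 Monoid.exponent ↥E = p) ∧ (p = 2 → Nonempty (↥E ≃* QuaternionGroup 2))) → False) := by
  have h := mc_of_lcs hn (by omega) hmax
  have m : ∀ i (x : S), (x : Ω) ∈ S.lowerCentralSeries i ↔ x ∈ lc S i := fun i x => by
    rw [lcs_eq_map]
    exact ⟨fun ⟨y, hy, e⟩ => (Subtype.ext e : y = x) ▸ hy, fun k => ⟨x, k, rfl⟩⟩
  have hΓ : Γ₁ ≤ S := fun x hx => ((hΓ₁ x).1 hx).1
  have e1 : C2 S 1 = Γ₁.subgroupOf S := by
    ext x
    rw [Subgroup.mem_subgroupOf, hΓ₁, mem_C2]
    refine ⟨fun k => ⟨x.2, fun y hy => ?_⟩, fun k y hy => (m 3 _).1 (k.2 y ((m 1 y).2 hy))⟩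
    rw [lcs_eq_map] at hy
    obtain ⟨y, hy, rfl⟩ := hy
    exact (m 3 _).2 (k y hy)
  have e2 : C2 S (n - 3) = (S ⊓ Subgroup.centralizer
      (((Subgroup.upperCentralSeries ↥S 2).map S.subtype) : Set Ω)).subgroupOf S := by
    rw [C2_eq_centralizer h h4]
    ext x
    exact ⟨fun k => ⟨x.2, by rintro _ ⟨y, hy, rfl⟩; exact congrArg Subtype.val (k y hy)⟩,
      fun k y hy => Subtype.ext (k.2 y ⟨y, hy, rfl⟩)⟩
  refine ⟨fun E hE => (ess_main h h4 hF hE).1.imp_right (Or.imp_right (Or.imp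
    (fun e => eq_iff_subgroupOf hE.1.1 hΓ (e.trans e1)) fun e => eq_iff_subgroupOf hE.1.1 inf_le_left (e.trans e2))),
    fun hne E hE k => ?_⟩
  have a := (ess_main h h4 hF hE).2 (fun e => hne (eq_iff_subgroupOf hΓ inf_le_left (by rw [← e1, ← e, e2]))) k.1
  have b := k.2.1.2
  rw [(commutator_eq_bot_iff_center_eq_top E).1 ((commutator_eq_bot_iff E).2 a), Subgroup.card_top, k.1] at b
  exact absurd (Nat.pow_right_injective (Fact.out : p.Prime).two_le (b.trans (pow_one p).symm)) (by decide)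

end Cfsg.Agent.S5267
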