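import Cfsg.Statements.S5269
import Mathlib
import Cfsg.Agent.Base
import Cfsg.Agent.Lib.MX.Fin

set_option autoImplicit false
open Cfsg

namespace Cfsg.Agent.S5269

open H90 H90.MX H93 H83.Krek Cfsg.FusionSystem in

/-- Let p ≥ 5 be a prime, S a finite p-group of maximal class of order p^n with n ≥ 4, F a saturated fusion system over S, and E an F-essential subgroup that is normal in S. Then E has index p in S; moreover E is the two-step centralizer Γ₁ = C_S([S,S]/γ₄(S)) or E = C_S(Z₂(S)), unless S has order p^4 and E is extraspecial of order p³ and exponent p. -/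
theorem result {Ω : Type*} [Group Ω] {S : Subgroup Ω} [Finite S] (p : ℕ) [Fact p.Prime] (hS : IsPGroup p ↥S) (n : ℕ) (hn : Nat.card S = p ^ n) (h4 : 4 ≤ n) (hmax : Subgroup.lowerCentralSeries S (n - 2) ≠ ⊥) (F : Cfsg.FusionSystem S) (hF : F.IsSaturated p) (hp : 5 ≤ p) (Γ₁ : Subgroup Ω) (hΓ₁ : ∀ x : Ω, x ∈ Γ₁ ↔ x ∈ S ∧ ∀ y ∈ Subgroup.lowerCentralSeries S 1, x * y * x⁻¹ * y⁻¹ ∈ Subgroup.lowerCentralSeries S 3) (E : Subgroup Ω) (hE : F.IsEssential p E) (hEn : (E.subgroupOf S).Normal) : (E.subgroupOf S).index = p ∧ (E = Γ₁ ∨ E = (S ⊓ Subgroup.centralizer (((Subgroup.upperCentralSeries ↥S 2).map S.subtype) : Set Ω)) ∨ (n = 4 ∧ Nat.card ↥E = p ^ 3 ∧ Cfsg.IsExtraspecial p ↥E ∧ Monoid.exponent ↥E = p)) := by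
  have h := mc_of_lcs hn (by omega) hmax
  obtain ⟨h1, h2⟩ := normal_ess h h4 hF hE (by omega) hEn
  have m : ∀ i (x : S), (x : Ω) ∈ S.lowerCentralSeries i ↔ x ∈ lc S i := fun i x => by
    rw [lcs_eq_map]
    exact ⟨fun ⟨y, hy, e⟩ => (Subtype.ext e : y = x) ▸ hy, fun k => ⟨x, k, rfl⟩⟩
  refine ⟨h1, h2.imp (fun e => eq_iff_subgroupOf hE.1.1 (fun x hx => ((hΓ₁ x).1 hx).1) (e.trans ?_))
    (Or.imp_left fun e => eq_iff_subgroupOf hE.1.1 inf_le_left (e.trans ?_))⟩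
  · ext x
    rw [Subgroup.mem_subgroupOf, hΓ₁, mem_C2]
    refine ⟨fun k => ⟨x.2, fun y hy => ?_⟩, fun k y hy => (m 3 _).1 (k.2 y ((m 1 y).2 hy))⟩
    rw [lcs_eq_map] at hy
    obtain ⟨y, hy, rfl⟩ := hy
    exact (m 3 _).2 (k y hy)
  · rw [C2_eq_centralizer h h4]
    ext x
    exact ⟨fun k => ⟨x.2, by rintro _ ⟨y, hy, rfl⟩; exact congrArg Subtype.val (k y hy)⟩,
      fun k y hy => Subtype.ext (k.2 y ⟨y, hy, rfl⟩)⟩

end Cfsg.Agent.S5269
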