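import Cfsg.Statements.S5270
import Mathlib
import Cfsg.Agent.Base
import Cfsg.Agent.Lib.Fusion.Pearl

set_option autoImplicit false
open Cfsg

namespace Cfsg.Agent.S5270

open H90 H93 Cfsg.FusionSystem in

/-- Let p ≥ 5 be a prime, S a finite p-group of maximal class of order p^n with n ≥ 4, and F a saturated fusion system over S. If some map of F defined on the second centre Z₂(S) with image Z₂(S) does not carry Z(S) into itself, then the centralizer C_S(Z₂(S)) is an F-essential subgroup. -/
theorem result {Ω : Type*} [Group Ω] {S : Subgroup Ω} [Finite S] (p : ℕ) [Fact p.Prime] (hS : IsPGroup p ↥S) (n : ℕ) (hn : Nat.card S = p ^ n) (h4 : 4 ≤ n) (hmax : Subgroup.lowerCentralSeries S (n - 2) ≠ ⊥) (F : Cfsg.FusionSystem S) (hF : F.IsSaturated p) (hp : 5 ≤ p) (φ : ↥((Subgroup.upperCentralSeries ↥S 2).map S.subtype) →* Ω) (hφ : φ ∈ F.Hom ((Subgroup.upperCentralSeries ↥S 2).map S.subtype)) (hφZ : φ.range = ((Subgroup.upperCentralSeries ↥S 2).map S.subtype)) (hmove : ∃ (z : Ω) (hz : z ∈ ((Subgroup.upperCentralSeries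 ↥S 2).map S.subtype)), z ∈ ((Subgroup.center ↥S).map S.subtype) ∧ φ ⟨z, hz⟩ ∉ ((Subgroup.center ↥S).map S.subtype)) : F.IsEssential p (S ⊓ Subgroup.centralizer (((Subgroup.upperCentralSeries ↥S 2).map S.subtype) : Set Ω)) := by
  have h := mc_of_lcs hn (by omega) hmax
  rw [center_map_eq] at hmove
  obtain ⟨z, hz, h1, h2⟩ := hmove
  have h3 : Nat.card (Subgroup.upperCentralSeries S 2) = p ^ 2 := by
    rw [h.ucs_two h4, show n - 3 = n - 4 + 1 by omega]
    exact h.card_lc (by omega)
  have h5 := H5.card_le_card_centralizer_mul_pow hS 2 _ h3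
  have h6 := Subgroup.comap_map_eq_self_of_injective S.subtype_injective
    (Subgroup.upperCentralSeries S 2)
  have h8 := Subgroup.map_subtype_le (Subgroup.upperCentralSeries S 2)
  have h7 := (Subgroup.normal_subgroupOf_iff_le_normalizer h8).1
    (by rw [← Subgroup.comap_subtype, h6]; infer_instance)
  generalize (Subgroup.upperCentralSeries S 2).map S.subtype = Z at *
  rw [← h6, Subgroup.comap_subtype, centralizer_subgroupOf h8,
    card_subgroupOf_eq (centralizerIn_le S Z)] at h5
  obtain ⟨σ, hσ, e⟩ := exists_perm_of_hom hφ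
  have hi : Iso F Z Z σ := hσ.iso_of_im ((range_eq_im φ e).symm.trans hφZ)
  obtain ⟨τ, hτ, e', hc⟩ := hi.extend_centralizer
    (receptive_of_normalized hS hF (isFullyNormalized_of_le_normalizer h8 h7))
  rw [e, ← e' z hz] at h2
  refine isEssential_of_move hS hF (lt_of_le_of_ne (centralizerIn_le S Z) fun e => h2 ?_)
    (isFullyNormalized_of_le_normalizer (centralizerIn_le S Z)
      ((le_inf le_rfl h7).trans (normalizerIn_le_normalizer_centralizerIn S Z)))
    (by rwa [Nat.choose_self, pow_one] at h5) ((hτ.mono le_sup_right).iso_self hc) h1 (centralizerIn_anti S h8 h1) h2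
  have h9 : τ z ∈ Z := e' z hz ▸ hi.mem hz
  exact ⟨h8 h9, fun y hy => ((e.ge hy).2 _ h9).symm⟩

end Cfsg.Agent.S5270
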