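import Cfsg.Statements.S5271
import Cfsg.Agent.Lib.Fusion.WeakEmb
-- import your own Cfsg.Agent.* helpers here

set_option autoImplicit false
open Cfsg

namespace Cfsg.Agent.S5271

/-- A nilpotency criterion for fusion systems. Let F be a saturated fusion system over a finite p-group S of order at least p². Call a subgroup Q of S weakly embedded in F when there is a subgroup P of S strongly closed in F such that both the product QP and the intersection Q ∩ P are strongly closed in F. Then F is the inner fusion system of S if and only if there is a subgroup D of S with 1 < D < S such that every subgroup of S of the same order as D is weakly embedded in F and, for every fully normalized subgroup H of S of that order, the normalizer fusion system of H in F is the inner fusion system of N_S(H). -/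
theorem result {Ω : Type*} [Group Ω] {S : Subgroup Ω} [Finite S] (p : ℕ) [Fact p.Prime] (hS : IsPGroup p ↥S) (F : Cfsg.FusionSystem S) (hF : F.IsSaturated p) (hcard : p ^ 2 ≤ Nat.card S) : (∀ P : Subgroup Ω, F.Hom P = (Cfsg.innerFusionSystem S).Hom P) ↔ ∃ D : Subgroup Ω, ⊥ < D ∧ D < S ∧ (∀ Q : Subgroup Ω, Q ≤ S → Nat.card ↥Q = Nat.card ↥D → ∃ P : Subgroup Ω, F.StronglyClosed P ∧ F.StronglyClosed (Q ⊔ P) ∧ F.StronglyClosed (Q ⊓ P)) ∧ (∀ H : Subgroup Ω, F.IsFullyNormalized H → Nat.card ↥H = Nat.card ↥D → ∀ N : Cfsg.FusionSystem (Cfsg.FusionSystem.normalizerIn S H), F.IsNormalizerSystem H N → ∀ P : Subgroup Ω, N.Hom P = (Cfsg.innerFusionSystem (Cfsg.FusionSystem.normalizerIn S H)).Hom P) := by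
  have hp1 := (Fact.out : p.Prime).one_lt
  refine ⟨fun h => ?_, fun ⟨D, h1, h2, h3, h4⟩ P => ?_⟩
  · obtain rfl := H90.fs_ext h
    have hsc : ∀ M : Subgroup Ω, ⁅S, S⁆ ≤ M → M ≤ S → (innerFusionSystem S).StronglyClosed M :=
      fun M h h' => H90.stronglyClosed_of_hyperfocal_le hS hF h'
        (Subgroup.le_normalizer_iff_commutator_le_right.2
          ((Subgroup.commutator_mono le_rfl h').trans h)) ((H91.hyp_inner hS).le.trans bot_le)
    have : Nontrivial S := Finite.one_lt_card_iff_nontrivial.1
      ((Nat.one_lt_pow two_ne_zero hp1).trans_le hcard)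
    obtain ⟨D, -, h1, h2, -, h3⟩ := H92.exists_maximal_not_le hS le_rfl (X := ⊥) (fun h =>
      H5.frattini_ne_top (G := S) (by
        rw [eq_top_iff, ← Subgroup.map_le_map_iff_of_injective S.subtype_injective]
        exact (Subgroup.map_subtype_le _).trans (by simpa using h))) bot_le
    refine ⟨D, bot_lt_iff_ne_bot.2 fun e => ?_, h1, fun Q hQ hc => ⟨S, H90.stronglyClosed_top _,
      ?_, ?_⟩, fun H hH _ N hN P => ?_⟩
    · rw [h3, e, Subgroup.card_bot] at hcard
      nlinarith
    · rw [sup_eq_right.2 hQ]
      exact H90.stronglyClosed_top _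
    · rw [inf_eq_left.2 hQ]
      refine hsc Q ?_ hQ
      have h4 : (Q.subgroupOf S).index = p := by
        have h5 := (Q.subgroupOf S).card_mul_index
        rw [Nat.card_congr (Subgroup.subgroupOfEquivOfLe hQ).toEquiv, h3, hc] at h5
        have := H90.finite_of_le h1.le
        exact Nat.eq_of_mul_eq_mul_left Nat.card_pos h5
      have := H5.normal_of_index_eq hS h4
      rw [← Subgroup.map_subtype_commutator, ← Subgroup.map_subgroupOf_eq_of_le hQ]
      exact Subgroup.map_mono (H5.commutator_le_of_index_prime (h4 ▸ Fact.out))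
    · rw [H92.eq_inner_of_sub (hS.to_le (H90.normalizerIn_le S H))
        (H90.isSaturated_of_isNormalizerSystem hS hF hH hN) hS (H90.sub_of_isNormalizerSystem hN)]
  · have := H90.finite_of_le h2.le
    obtain ⟨k, hk⟩ := (hS.to_le h2.le).exists_card_eq
    rw [hk] at h3 h4
    rw [H92.eq_inner_of_wEmb hS hF (k := k) (Nat.pos_of_ne_zero fun e => h1.ne' ?_)
      (hk ▸ H90.card_lt_of_lt h2) h3 (H92.nPE_of_normalizer hS hF h4)]
    rwa [e, pow_zero, Subgroup.card_eq_one] at hk

end Cfsg.Agent.S5271
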