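import Cfsg.Statements.S5272
import Cfsg.Agent.Lib.Fusion.SparseModel
-- import your own Cfsg.Agent.* helpers here

set_option autoImplicit false
open Cfsg

namespace Cfsg.Agent.S5272

/-- An axiomatic Glauberman–Thompson nilpotency criterion for fusion systems. Let p be an odd prime, F a saturated fusion system over a finite p-group S, and 𝒜 a nonempty family of abelian subgroups of S. For Q ≤ S write I(Q) for the intersection of the members of 𝒜 contained in Q. Assume (invariance) that for every Q ≤ S containing a member of 𝒜, every F-automorphism of Q maps I(Q) into itself, and (replacement) that for every subgroup B of S of nilpotency class at most 2, if some member of 𝒜 contains [B,B] but not B, then B normalizes some member of 𝒜 that contains [B,B] but not B. Then F is the inner fusion system of S if and only if the normalizer fusion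 system of I(S) in F is the inner fusion system of N_S(I(S)). -/
theorem result {Ω : Type*} [Group Ω] {S : Subgroup Ω} [Finite S] (p : ℕ) [Fact p.Prime] (hS : IsPGroup p ↥S) (F : Cfsg.FusionSystem S) (hF : F.IsSaturated p) (hp : p ≠ 2) (𝒜 : Set (Subgroup Ω)) (h𝒜 : ∀ A ∈ 𝒜, A ≤ S ∧ IsMulCommutative ↥A) (hne : 𝒜.Nonempty) (hinv : ∀ Q : Subgroup Ω, Q ≤ S → (∃ A ∈ 𝒜, A ≤ Q) → ∀ α ∈ F.autGroup Q, ∀ x : ↥Q, (x : Ω) ∈ (⨅ A ∈ {A : Subgroup Ω | A ∈ 𝒜 ∧ A ≤ Q}, A) → (((α : MulAut ↥Q) x : ↥Q) : Ω) ∈ (⨅ A ∈ {A : Subgroup Ω | A ∈ 𝒜 ∧ A ≤ Q}, A)) (hrep : ∀ B : Subgroup Ω, B ≤ S → ⁅⁅B, B⁆, B⁆ = ⊥ → (∃ A ∈ 𝒜, ⁅B, B⁆ ≤ A ∧ ¬ B ≤ A) → ∃ A ∈ 𝒜, ⁅B, B⁆ ≤ A ∧ ¬ B ≤ A ∧ B ≤ Subgroup.normalizer (A : Set Ω)) : (∀ P : Subgroup Ω, F.Hom P = (Cfsg.innerFusionSystem S).Hom P) ↔ ∀ N : Cfsg.FusionSystem (Cfsg.FusionSystem.normalizerIn S (⨅ A ∈ 𝒜, A)), F.IsNormalizerSystem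 (⨅ A ∈ 𝒜, A) N → ∀ P : Subgroup Ω, N.Hom P = (Cfsg.innerFusionSystem (Cfsg.FusionSystem.normalizerIn S (⨅ A ∈ 𝒜, A))).Hom P := by
  obtain ⟨A₀, hA₀⟩ := hne
  have hU : (⨅ A ∈ 𝒜, A) ≤ S := (iInf₂_le A₀ hA₀).trans (h𝒜 A₀ hA₀).1
  refine H92.inner_iff_of_model hS hF hp hU (Subgroup.le_normalizer_iff.2 fun g hg x hx => ?_)
    fun E hE hs G _ _ ι T hG hT h => ?_
  · have := hinv S le_rfl ⟨A₀, hA₀, (h𝒜 A₀ hA₀).1⟩ (MulAut.conj ⟨g, hg⟩)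
      ((H93.mem_autGroup F le_rfl).2 (F.conj_mem le_rfl hg)) ⟨x, hU hx⟩
    rw [show {A | A ∈ 𝒜 ∧ A ≤ S} = 𝒜 from
      Set.ext fun A => ⟨fun h => h.1, fun h => ⟨h, (h𝒜 A h).1⟩⟩] at this
    exact this hx
  have hι := hG.2.1.1
  have hle : ∀ {A B : Subgroup Ω}, A ≤ S → B ≤ S →
      (FusionSystem.imageAlong ι A ≤ FusionSystem.imageAlong ι B ↔ A ≤ B) := fun hA hB =>
    ⟨fun h x hx => (H93.ext_mem_imageAlong_iff hι hB (hA hx)).1 (h (H93.ext_mem_imageAlong hA hx)),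
      H91.imageAlong_mono ι⟩
  have hcomm : ∀ {A B : Subgroup Ω}, A ≤ S → B ≤ S → FusionSystem.imageAlong ι ⁅A, B⁆ =
      ⁅FusionSystem.imageAlong ι A, FusionSystem.imageAlong ι B⁆ := fun {A B} hA hB => by
    simp only [FusionSystem.imageAlong]
    rw [← Subgroup.map_commutator, ← Subgroup.map_subgroupOf_eq_of_le hA,
      ← Subgroup.map_subgroupOf_eq_of_le hB, ← Subgroup.map_commutator]
    simp only [H90.subgroupOf_map_subtype_eq]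
  have hinf : ∀ ℬ : Set (Subgroup Ω), ℬ ⊆ 𝒜 → ℬ.Nonempty → ∀ y,
      y ∈ sInf (FusionSystem.imageAlong ι '' ℬ) ↔ ∃ x ∈ ⨅ A ∈ ℬ, A, H93.ext ι x = y := by
    rintro ℬ hℬ ⟨B, hB⟩ y
    simp only [Subgroup.mem_sInf, Set.forall_mem_image, Subgroup.mem_iInf]
    refine ⟨fun h => ?_, ?_⟩
    · obtain ⟨x, hx, rfl⟩ := (H93.mem_imageAlong (h𝒜 B (hℬ hB)).1).1 (h hB)
      exact ⟨x, fun A hA => (H93.ext_mem_imageAlong_iff hι (h𝒜 A (hℬ hA)).1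
        ((h𝒜 B (hℬ hB)).1 hx)).1 (h hA), rfl⟩
    · rintro ⟨x, hx, rfl⟩ A hA
      exact H93.ext_mem_imageAlong (h𝒜 A (hℬ hA)).1 (hx A hA)
  have hn := H92.sInf_normal T (FusionSystem.imageAlong ι '' 𝒜) ⟨_, A₀, hA₀, rfl⟩
    (by rintro _ ⟨A, -, rfl⟩; exact hT ▸ H93.imageAlong_le_range A)
    (by
      rintro _ ⟨A, hA, rfl⟩
      have := (h𝒜 A hA).2
      exact Subgroup.map_isMulCommutative (A.subgroupOf S) ι)
    (fun Q' hQ' hA => ?_) (fun B' hB' h1 h2 => ?_) (hs.stableFor hp hG hT) hG.2.2.2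
  · rw [show FusionSystem.imageAlong ι (⨅ A ∈ 𝒜, A) = sInf (FusionSystem.imageAlong ι '' 𝒜) from
      Subgroup.ext fun y => by rw [hinf 𝒜 le_rfl ⟨A₀, hA₀⟩, H93.mem_imageAlong hU],
      Subgroup.normalizer_eq_top, H4.hasNormalPComplement_top_iff] at h
    exact h
  · obtain ⟨Q, hQ, rfl⟩ : ∃ Q ≤ S, FusionSystem.imageAlong ι Q = Q' :=
      ⟨_, H93.preimageAlong_le _, H93.imageAlong_preimageAlong (hT ▸ hQ')⟩
    obtain ⟨_, ⟨A, hA, rfl⟩, hAQ⟩ := hA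
    rw [hle (h𝒜 A hA).1 hQ] at hAQ
    rw [show {A | A ∈ FusionSystem.imageAlong ι '' 𝒜 ∧ A ≤ FusionSystem.imageAlong ι Q} =
      FusionSystem.imageAlong ι '' {A | A ∈ 𝒜 ∧ A ≤ Q} from Set.ext fun A' =>
        ⟨fun ⟨⟨A, hA, e⟩, h⟩ => ⟨A, ⟨hA, (hle (h𝒜 A hA).1 hQ).1 (e ▸ h)⟩, e⟩,
          fun ⟨A, hA, e⟩ => ⟨⟨A, hA.1, e⟩, e ▸ H91.imageAlong_mono ι hA.2⟩⟩]
    refine Subgroup.le_normalizer_iff.2 fun g hg y hy => ?_
    rw [hinf {A | A ∈ 𝒜 ∧ A ≤ Q} (fun _ h => h.1) ⟨A, hA, hAQ⟩] at hy ⊢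
    obtain ⟨x, hx, rfl⟩ := hy
    have hxQ : x ∈ Q := hAQ (iInf₂_le (f := fun A (_ : A ∈ {A | A ∈ 𝒜 ∧ A ≤ Q}) => A) A ⟨hA, hAQ⟩ hx)
    have hα : H93.normAct hι hQ ⟨g, hg⟩ ∈ E.autGroup Q := H93.range_normAct hG.2.1 hQ ▸ ⟨_, rfl⟩
    exact ⟨_, hinv Q hQ ⟨A, hA, hAQ⟩ _ ((H93.mem_autGroup F hQ).2
      (hE _ ((H93.mem_autGroup E hQ).1 hα))) ⟨x, hxQ⟩ hx, H93.ext_normAct hι hQ _ _⟩
  · obtain ⟨B, hB, rfl⟩ : ∃ B ≤ S, FusionSystem.imageAlong ι B = B' :=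
      ⟨_, H93.preimageAlong_le _, H93.imageAlong_preimageAlong (hT ▸ hB')⟩
    have hBB := (Subgroup.commutator_le_self B).trans hB
    obtain ⟨_, ⟨A, hA, rfl⟩, h2, h3⟩ := h2
    rw [← hcomm hB hB, ← hcomm hBB hB] at h1
    rw [← hcomm hB hB, hle hBB (h𝒜 A hA).1] at h2
    rw [hle hB (h𝒜 A hA).1] at h3
    obtain ⟨A, hA, -, h4, h5⟩ := hrep B hB (eq_bot_iff.2 ((hle
      ((Subgroup.commutator_mono hBB hB).trans (Subgroup.commutator_le_self S)) bot_le).1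
        (h1.le.trans bot_le))) ⟨A, hA, h2, h3⟩
    refine ⟨_, ⟨A, hA, rfl⟩, by rwa [hle hB (h𝒜 A hA).1], fun y hy => ?_⟩
    obtain ⟨x, hx, rfl⟩ := (H93.mem_imageAlong hB).1 hy
    exact (H93.ext_mem_normalizer_iff hι (h𝒜 A hA).1 (hB hx)).2 (h5 hx)

end Cfsg.Agent.S5272
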