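import Cfsg.Statements.S5296
import Mathlib
import Cfsg.Agent.Base
import Cfsg.Agent.Lib.Fusion.Small

set_option autoImplicit false
universe u
open Cfsg

namespace Cfsg.Agent.S5296

/-- Small-exponent abelian subgroups of the hyperfocal subgroup control fusion. Let E and F be saturated fusion systems over the same finite p-group S with E contained in F. Suppose that E and F have the same maps between A and B for all subgroups A, B of the hyperfocal subgroup of F that are elementary abelian when p is odd, respectively abelian of exponent dividing 4 when p = 2. Then E = F. -/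
theorem result {Ω : Type u} [Group Ω] {S : Subgroup Ω} [Finite S] (p : ℕ) [Fact p.Prime] (hS : IsPGroup p S)
    (E F : Cfsg.FusionSystem S) (hE : E.IsSaturated p) (hF : F.IsSaturated p) (hEF : E.IsSubsystemOf F)
    (hodd : p ≠ 2 → ∀ A B : Subgroup Ω, A ≤ (F.hyperfocalSubgroup p) → B ≤ (F.hyperfocalSubgroup p) →
      Cfsg.IsElementaryAbelian p A → Cfsg.IsElementaryAbelian p B → E.homSet A B = F.homSet A B)
    (htwo : p = 2 → ∀ A B : Subgroup Ω, A ≤ (F.hyperfocalSubgroup p) → B ≤ (F.hyperfocalSubgroup p) →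
      IsMulCommutative ↥A → IsMulCommutative ↥B → (∀ a ∈ A, a ^ 4 = 1) → (∀ b ∈ B, b ^ 4 = 1) → E.homSet A B = F.homSet A B) :
    ∀ P : Subgroup Ω, E.Hom P = F.Hom P := by
  have h := H93.le_of_small hS hF hE hEF fun A hA hc hs σ hσ => by
    have hB : H90.im σ A ≤ F.hyperfocalSubgroup p := H90.im_le_iff.2 fun x hx =>
      hσ.mem_of_stronglyClosed (H90.stronglyClosed_hyperfocal hS hF) hx (hA hx)
    have hc' : IsMulCommutative (H90.im σ A) := ⟨⟨fun a b => hσ.iso.equiv.symm.injective (by
      rw [map_mul, map_mul, hc.is_comm.comm])⟩⟩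
    have hs' : ∀ y ∈ H90.im σ A, H93.Small p y := fun y hy => by
      obtain ⟨x, hx, rfl⟩ := hσ.mem_im.1 hy
      exact (hs x hx).map hσ.homOn hx
    have e : E.homSet A (H90.im σ A) = F.homSet A (H90.im σ A) := by
      by_cases h2 : p = 2
      · have h4 : ∀ x : Ω, H93.Small p x → x ^ 4 = 1 := fun x hx => hx.elim
          (fun h => by rw [show 4 = p * 2 by rw [h2], pow_mul, h, one_pow]) (·.2)
        exact htwo h2 A _ hA hB hc hc' (fun a ha => h4 a (hs a ha)) fun a ha => h4 a (hs' a ha)
      · exact hodd h2 A _ hA hB ⟨hc, fun a ha => (hs a ha).resolve_right fun h => h2 h.1⟩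
          ⟨hc', fun a ha => (hs' a ha).resolve_right fun h => h2 h.1⟩
    have h1 : H90.homOf hσ.homOn ∈ E.homSet A (H90.im σ A) :=
      e ▸ ⟨hσ.homOf_mem, fun x => H90.mem_im_of_mem σ x.2⟩
    exact H90.map_of_hom h1.1 fun _ => rfl
  exact fun P => (hEF P).antisymm (h P)

end Cfsg.Agent.S5296
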