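import Cfsg.Statements.S5274
import Cfsg.Agent.Lib.Fusion.Reduce
-- import your own Cfsg.Agent.* helpers here

set_option autoImplicit false
open Cfsg

namespace Cfsg.Agent.S5274

/-- Let F be a saturated fusion system over a finite 2-group S. Suppose that every element of S is F-conjugate to an element of the centre Z(S) (some map of F defined on the cyclic subgroup it generates sends it into Z(S)). Then S is abelian. -/
theorem result {Ω : Type*} [Group Ω] {S : Subgroup Ω} [Finite S] (hS : IsPGroup 2 ↥S) (F : Cfsg.FusionSystem S) (hF : F.IsSaturated 2) (h : ∀ x ∈ S, ∃ z ∈ S ⊓ Subgroup.centralizer (S : Set Ω), F.IsConjElt x z) : IsMulCommutative ↥S := by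
  revert hS hF h
  refine H92.sat_induction (C := fun Ω _ S F => IsPGroup 2 S → F.IsSaturated 2 →
    (∀ x ∈ S, ∃ z ∈ S ⊓ Subgroup.centralizer (S : Set Ω), F.IsConjElt x z) → IsMulCommutative S)
    (fun Ω _ S _ F _ ih hS hF h => ?_) Ω S F
  have hA : ∀ Q, F.IsNormal Q → ∀ x ∈ S, ∀ y ∈ Q, x * y = y * x := fun Q hQ x hx y hy => by
    obtain ⟨z, hz, hc⟩ := h x hx
    obtain ⟨f, hf, rfl⟩ := H90.isConjElt_iff_map.1 hc
    obtain ⟨g, hg, e, -⟩ := (H90.isNormal_iff_map.1 hQ).2 _ f hf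
    have h1 := Subgroup.mem_sup_left (T := Q) (Subgroup.mem_zpowers x)
    have h2 := Subgroup.mem_sup_right (S := Subgroup.zpowers x) hy
    refine hg.inj (mul_mem h1 h2) (mul_mem h2 h1) ?_
    rw [hg.map_mul h1 h2, hg.map_mul h2 h1, e x (Subgroup.mem_zpowers x)]
    exact (hz.2 _ (hg.mem h2)).symm
  have hB : ∀ x ∈ S, ∀ s ∈ S, s * x * s⁻¹ ∈ Subgroup.zpowers x → s * x * s⁻¹ = x :=
    fun x hx s hs hn => by
    obtain ⟨z, hz, hc⟩ := h x hx
    obtain ⟨f, hf, rfl⟩ := H90.isConjElt_iff_map.1 hc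
    obtain ⟨σ, hσ, e⟩ := hf.exists_perm
    have hc : H90.im σ (Subgroup.zpowers x) ≤ Subgroup.centralizer (S : Set Ω) :=
      H90.im_le_iff.2 fun y ⟨k, hk⟩ => by
        rw [← hk, hσ.map_zpow (Subgroup.mem_zpowers x), e x (Subgroup.mem_zpowers x)]
        exact Subgroup.zpow_mem _ hz.2 k
    obtain ⟨τ, hτ, hi, -⟩ := hσ.iso.exists_normalizer_map' hS hF
      (H90.isFullyNormalized_of_le_normalizer hσ.im_le
        ((Subgroup.le_centralizer_iff.1 hc).trans (Subgroup.centralizer_le_normalizer _)))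
    have := hf.finite
    have hs' : s ∈ FusionSystem.normalizerIn S (Subgroup.zpowers x) :=
      ⟨hs, H90.mem_normalizer_of_conj_mem fun y ⟨k, hk⟩ => by
        rw [← hk, ← conj_zpow]; exact zpow_mem hn k⟩
    have hx' := H90.le_normalizerIn hf.le (Subgroup.mem_zpowers x)
    refine hτ.inj (mul_mem (mul_mem hs' hx') (inv_mem hs')) hx' ?_
    rw [hτ.map_conj hs' hx', hc (hi.mem (Subgroup.mem_zpowers x)) _ (hτ.mem hs'),
      mul_inv_cancel_right]
  have hC : ∀ a ∈ S, ∀ b ∈ S, a * a = 1 → b * b = 1 → a * b = b * a := fun a ha b hb h1 h2 => by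
    have e : a * (a * b) * a⁻¹ = (a * b)⁻¹ := by
      rw [← mul_assoc, h1, one_mul, mul_inv_rev, ← eq_inv_of_mul_eq_one_left h2]
    have := hB _ (mul_mem ha hb) a ha (e ▸ inv_mem (Subgroup.mem_zpowers _))
    rw [← this, ← mul_assoc, h1, one_mul, ← eq_inv_of_mul_eq_one_left h1]
  let V : Subgroup Ω :=
    { carrier := {x | x ∈ S ∧ x * x = 1}
      one_mem' := ⟨S.one_mem, one_mul 1⟩
      mul_mem' := fun {a b} ha hb => ⟨mul_mem ha.1 hb.1, by
        rw [mul_assoc, ← mul_assoc b, ← hC a ha.1 b hb.1 ha.2 hb.2, mul_assoc, hb.2, mul_one, ha.2]⟩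
      inv_mem' := fun {a} ha => ⟨inv_mem ha.1, by rw [← mul_inv_rev, ha.2, inv_one]⟩ }
  have hV : F.StronglyClosed V := H90.stronglyClosed_iff_map.2 ⟨fun x hx => hx.1,
    fun P f hf x hx h => ⟨hf.mem hx, by rw [← hf.map_mul hx hx, h.2, hf.map_one]⟩⟩
  have hVn := H90.isNormal_of_abelian hS hF hV fun x hx y hy => hC x hx.1 y hy.1 hx.2 hy.2
  refine .of_setLike_mul_comm fun x hx y hy => hA S ?_ x hx y hy
  by_cases hb : V = ⊥
  · suffices e : ⊥ = S by simpa only [e] using H91.isNormal_bot F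
    refine bot_le.antisymm fun x hx => ?_
    obtain ⟨k, hk⟩ := hS ⟨x, hx⟩
    replace hk : x ^ 2 ^ k = 1 := congrArg Subtype.val hk
    induction k with
    | zero => simpa using hk
    | succ k ih =>
      exact ih (hb.le (show x ^ 2 ^ k ∈ V from ⟨pow_mem hx _, by rw [← hk, ← pow_add]; ring_nf⟩))
  obtain ⟨Ω', _, S', F', θ, hq, hK⟩ := H92.exists_quot hV
  have := hq.finite
  have hab := ih Ω' S' F' (H92.quot_card_lt hq (hK ▸ hb)) (hq.isPGroup hS) (hq.isSaturated hS hF)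
    fun x' hx' => by
      obtain ⟨x, hx, rfl⟩ := H91.exists_ex_of_mem_range θ (hq.range ▸ hx')
      obtain ⟨z, hz, hc⟩ := h x hx
      obtain ⟨f, hf, rfl⟩ := H90.isConjElt_iff_map.1 hc
      obtain ⟨g, hg, e, -⟩ := (H90.isNormal_iff_map.1 hVn).2 _ f hf
      obtain ⟨f', hf', e'⟩ := hq.exists_map (hK.le.trans le_sup_right) hg
      have h1 := Subgroup.mem_sup_left (T := V) (Subgroup.mem_zpowers x)
      refine ⟨_, ⟨hf'.mem (H91.ex_mem_imageAlong h1 hx), fun y' hy' => ?_⟩,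
        hf'.isConjElt (H91.ex_mem_imageAlong h1 hx)⟩
      obtain ⟨y, hy, rfl⟩ := H91.exists_ex_of_mem_range θ (hq.range ▸ hy')
      rw [e' x h1, e x (Subgroup.mem_zpowers x), ← H91.ex_mul θ hy hz.1, hz.2 y hy,
        H91.ex_mul θ hz.1 hy]
  refine H90.isNormal_of_central_series hS hF (H90.stronglyClosed_top F) (n := 2)
    (C := ![⊥, V, S]) rfl rfl (Fin.monotone_iff_le_succ.2 fun i => ?_) (fun i => ?_) fun i => ?_
  · fin_cases i
    exacts [bot_le, hV.1]
  · fin_cases i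
    · exact Subgroup.commutator_le.2 fun a ha b hb =>
        Subgroup.mem_bot.2 (commutatorElement_eq_one_iff_mul_comm.2 (hA V hVn b hb a ha).symm)
    · refine Subgroup.commutator_le.2 fun a ha b hb => hK.le ?_
      have hm : ∀ x ∈ S, H91.ex θ x ∈ S' := fun x hx => hq.range ▸ H91.ex_mem_range θ hx
      rw [commutatorElement_def, show a * b * a⁻¹ * b⁻¹ = (b⁻¹ * a⁻¹)⁻¹ * (a⁻¹ * b⁻¹) by group,
        ← H91.ex_eq_iff (mul_mem (inv_mem hb) (inv_mem ha)) (mul_mem (inv_mem ha) (inv_mem hb)),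
        H91.ex_mul θ (inv_mem hb) (inv_mem ha), H91.ex_mul θ (inv_mem ha) (inv_mem hb)]
      exact setLike_mul_comm (hm _ (inv_mem hb)) (hm _ (inv_mem ha))
  · fin_cases i
    exacts [H90.weaklyClosed_of_stronglyClosed (H90.stronglyClosed_bot F),
      H90.weaklyClosed_of_stronglyClosed hV]

end Cfsg.Agent.S5274
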