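import Cfsg.Statements.S5275
import Cfsg.Agent.Lib.Fusion.Sparse
import Cfsg.Agent.S3082
-- import your own Cfsg.Agent.* helpers here

set_option autoImplicit false
open Cfsg

namespace Cfsg.Agent.S5275

/-- A Glauberman–Thompson nilpotency criterion for fusion systems relative to a strongly closed subgroup. Let p be an odd prime, F a saturated fusion system over a finite p-group S, and D a subgroup of S that is strongly closed in F. Let Z(J(D)) be the centre of the subgroup of D generated by the abelian subgroups of D of largest order. Then F is the inner fusion system of S if and only if the normalizer fusion system of Z(J(D)) in F is the inner fusion system of N_S(Z(J(D))) = S. -/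
theorem result {Ω : Type*} [Group Ω] {S : Subgroup Ω} [Finite S] (p : ℕ) [Fact p.Prime] (hS : IsPGroup p ↥S) (F : Cfsg.FusionSystem S) (hF : F.IsSaturated p) (hp : p ≠ 2) (D : Subgroup Ω) (hD : F.StronglyClosed D) : (∀ P : Subgroup Ω, F.Hom P = (Cfsg.innerFusionSystem S).Hom P) ↔ ∀ N : Cfsg.FusionSystem (Cfsg.FusionSystem.normalizerIn S (Cfsg.centerThompsonAOf D)), F.IsNormalizerSystem (Cfsg.centerThompsonAOf D) N → ∀ P : Subgroup Ω, N.Hom P = (Cfsg.innerFusionSystem (Cfsg.FusionSystem.normalizerIn S (Cfsg.centerThompsonAOf D))).Hom P := by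
  have := H90.finite_of_le hD.1
  have hD' := hS.to_le hD.1
  rw [← H92.iF_ZJ]
  refine H92.inner_iff_of_model hS hF hp ((H92.iF_le _ _).trans hD.1)
    ((H90.le_normalizer_of_stronglyClosed hD).trans (H92.iF_normalizer (H92.isCharPFunctor_ZJ p) hD'))
    fun E hE _ G _ _ ι T hG hT h => ?_
  have e : ∀ X, X ≤ D → FusionSystem.imageAlong ι X =
      FusionSystem.imageAlong (ι.comp (Subgroup.inclusion hD.1)) X := fun X hX => by
    ext y
    rw [H93.mem_imageAlong hX, H93.mem_imageAlong (hX.trans hD.1)]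
    refine exists_congr fun x => and_congr_right fun hx => ?_
    rw [H93.ext_of_mem (hX hx), H93.ext_of_mem (hD.1 (hX hx))]
    rfl
  rw [e _ (H92.iF_le _ _), H92.iF_image (H92.isCharPFunctor_ZJ p) hD'
    (hG.2.1.1.comp (Subgroup.inclusion_injective _)), H92.iF_ZJ, ← H93.imageAlong_self,
    ← e _ le_rfl] at h
  refine Cfsg.Agent.S3082.result hp T _ ⟨hT ▸ H93.imageAlong_le_range _, fun y hy g hg => ?_⟩
    (.inl h)
  obtain ⟨x, hx, rfl⟩ := (H93.mem_imageAlong hD.1).1 hy
  have hP : Subgroup.zpowers x ≤ S := Subgroup.zpowers_le.2 (hD.1 hx)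
  obtain ⟨f, hf, e'⟩ := H92.exists_map_conj hG.2.1 hP g ((H93.comap_conj_le_range hP).2
    (Subgroup.zpowers_le.2 (H93.mem_preimageAlong.2 ⟨hD.1 hx, hT ▸ hg⟩)))
  rw [← e' x (Subgroup.mem_zpowers x)]
  exact H93.ext_mem_imageAlong hD.1
    ((hf.of_sub hE).mem_of_stronglyClosed hD (Subgroup.mem_zpowers x) hx)

end Cfsg.Agent.S5275
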