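import Mathlib
import Cfsg.Statements.S5277
import Cfsg.Agent.Lib.Flavell.FusB

set_option autoImplicit false
open Cfsg

namespace Cfsg.Agent.S5277

/-- Let p be an odd prime, F a saturated fusion system over a finite p-group S, and α an automorphism of S that fixes no non-identity element of S and preserves F (every map of F, transported along α, is again a map of F). Suppose the order of α is a prime r that does not divide the order of Aut_F(R) for any F-centric F-radical subgroup R of S. Then S is normal in F (F is the normalizer fusion system of S). -/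
theorem result {Ω : Type*} [Group Ω] {S : Subgroup Ω} [Finite S] (p : ℕ) [Fact p.Prime] (hS : IsPGroup p ↥S) (F : Cfsg.FusionSystem S) (hF : F.IsSaturated p) (hp : p ≠ 2) (α : ↥S ≃* ↥S) (hfix : ∀ x : ↥S, α x = x → x = 1) (hmor : F.IsMorphism F (S.subtype.comp α.toMonoidHom)) (r : ℕ) (hr : r.Prime) (hord : orderOf α = r) (hcr : ∀ R : Subgroup Ω, F.IsCentric R → F.IsRadical p R → ¬ r ∣ Nat.card ↥(F.autGroup R)) : F.IsNormal S := by
  have e : ∀ x ∈ S, H91.ex (S.subtype.comp α.toMonoidHom) x = H90.extA S α x := fun x hx => by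
    rw [H91.ex_of_mem _ hx, H90.extA_of_mem _ hx]; rfl
  refine H57.FA.isNormal_of_hyp hp hr hS hF ⟨H90.extA S α, H90.homOn_extA α,
    fun x hx => H90.extA_mem α hx, fun P φ hφ => ?_, fun x _ => ?_, fun x hx h => ?_,
    H57.FA.not_dvd_all hS hF hr hcr⟩
  · obtain ⟨f, hf, e1⟩ := (H91.isMorphism_iff.1 hmor).2 P φ hφ
    rw [H91.image_eq_im e hφ.le] at hf
    refine hf.congr fun y hy => ?_
    obtain ⟨x, hx, rfl⟩ := ((H90.homOn_extA α).mono hφ.le).mem_im.1 hy
    simp only [Equiv.Perm.mul_apply, H91.pinv_apply]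
    rw [← e x (hφ.le hx), e1 x hx, e _ (hφ.mem hx)]
  · rw [← map_pow, ← hord, pow_orderOf_eq_one, map_one]; rfl
  · rw [H90.extA_of_mem _ hx] at h
    exact congrArg Subtype.val (hfix ⟨x, hx⟩ (Subtype.ext h))

end Cfsg.Agent.S5277
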