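import Mathlib
import Cfsg.Statements.S5278
import Cfsg.Agent.Lib.Fusion.TransF
-- import your own Cfsg.Agent.* helpers here

set_option autoImplicit false
open Cfsg

namespace Cfsg.Agent.S5278

/-- Let p be an odd prime, F a saturated fusion system over a finite p-group S, and T a subgroup of Z(S) such that the normalizer fusion system of J(S) in F is contained in the normalizer fusion system of T, J(S) being the subgroup generated by the abelian subgroups of S of largest order. Then either T is weakly closed in F, or Aut_F(T) has a nontrivial cyclic subgroup X of order prime to p that permutes transitively the non-identity elements of the commutator [T, X] (the subgroup of T generated by the elements ψ(t)·t⁻¹ with ψ in X and t in T). -/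
theorem result {Ω : Type*} [Group Ω] {S : Subgroup Ω} [Finite S] (p : ℕ) [Fact p.Prime] (hS : IsPGroup p ↥S) (F : Cfsg.FusionSystem S) (hF : F.IsSaturated p) (hp : p ≠ 2) (T : Subgroup Ω) (hT : T ≤ S ⊓ Subgroup.centralizer (S : Set Ω)) (hJT : ∀ NJ : Cfsg.FusionSystem (Cfsg.FusionSystem.normalizerIn S (Cfsg.thompsonSubgroupAOf S)), F.IsNormalizerSystem (Cfsg.thompsonSubgroupAOf S) NJ → ∀ NT : Cfsg.FusionSystem (Cfsg.FusionSystem.normalizerIn S T), F.IsNormalizerSystem T NT → NJ.IsSubsystemOf NT) : F.WeaklyClosed T ∨ ∃ X : Subgroup (MulAut ↥T), X ≤ F.autGroup T ∧ X ≠ ⊥ ∧ IsCyclic ↥X ∧ (Nat.card ↥X).Coprime p ∧ ∀ a b : ↥T, a ∈ Subgroup.closure {y : ↥T | ∃ ψ ∈ X, ∃ t : ↥T, y = ψ t * t⁻¹} → b ∈ Subgroup.closure {y : ↥T | ∃ ψ ∈ X, ∃ t : ↥T, y = ψ t * t⁻¹} → a ≠ 1 → b ≠ 1 → ∃ ψ ∈ X, ψ a = b := by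
  have hTS : T ≤ S := hT.trans inf_le_left
  have hJS := H24.thompsonSubgroupAOf_le S
  have := H90.finite_of_le hTS
  by_cases hc : ∃ α ∈ F.autGroup T, H91.AT α
  · obtain ⟨α, hα, h⟩ := hc
    have h1 := (H91.coprime_card_autGroup hS hF hT).coprime_dvd_left
      (Subgroup.card_dvd_of_le (Subgroup.zpowers_le.2 hα))
    obtain ⟨n, hn⟩ := (hS.to_le hTS).exists_card_eq
    haveI : IsMulCommutative T := Subgroup.le_centralizer_iff_isMulCommutative.1
      (hT.trans (inf_le_right.trans (H24.centralizer_anti hTS)))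
    exact Or.inr ⟨Subgroup.zpowers α, Subgroup.zpowers_le.2 hα,
      fun e => h.1 (Subgroup.zpowers_eq_bot.1 e), inferInstance, h1,
      h.trans (hn ▸ h1.pow_right n)⟩
  · exact Or.inl (H90.weaklyClosed_of_stronglyClosed (H91.IsNormal.stronglyClosed'
      (H91.isNormal_of_nStab hp hS hF hc hT (H91.nStab_of_nSub ((H92.nSub_iff hJS).2
        (hJT _ (H90.isNormalizerSystem_nsys F hJS) _ (H90.isNormalizerSystem_nsys F hTS)))))))

end Cfsg.Agent.S5278
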