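import Cfsg.Statements.S5287
import Mathlib
import Cfsg.Agent.Base
import Cfsg.Agent.Lib.Fusion.Max2R
import Cfsg.Agent.Lib.Fusion.Resist2

set_option autoImplicit false
open Cfsg

namespace Cfsg.Agent.S5287

/-- Let S be a finite metacyclic p-group (an extension of a cyclic group by a cyclic group). Every saturated fusion system over S is supersoluble (S has a chain of F-strongly closed subgroups from 1 to S with cyclic steps) if and only if S is not homocyclic of rank two (isomorphic to Z/p^n × Z/p^n with n ≥ 1) and, when p = 2, S is not dihedral of order at least 4, not quasi-dihedral (semidihedral) and not generalized quaternion of order at least 8. -/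
theorem result {Ω : Type*} [Group Ω] {S : Subgroup Ω} [Finite S] (p : ℕ) [Fact p.Prime] (hS : IsPGroup p ↥S) (hm : Cfsg.IsMetacyclic ↥S) : (∀ F : Cfsg.FusionSystem S, F.IsSaturated p → (∃ (m : ℕ) (c : Fin (m + 1) → Subgroup Ω), c 0 = ⊥ ∧ c (Fin.last m) = S ∧ (∀ i : Fin (m + 1), F.StronglyClosed (c i)) ∧ ∀ i : Fin m, c i.castSucc ≤ c i.succ ∧ ∃ x ∈ S, c i.succ = c i.castSucc ⊔ Subgroup.zpowers x)) ↔ ¬ ((∃ n : ℕ, 0 < n ∧ Nonempty (↥S ≃* Multiplicative (ZMod (p ^ n)) × Multiplicative (ZMod (p ^ n)))) ∨ (p = 2 ∧ ((∃ n : ℕ, 2 ≤ n ∧ Nonempty (↥S ≃* DihedralGroup n)) ∨ Cfsg.IsQuasiDihedral ↥S ∨ (∃ n : ℕ, 2 ≤ n ∧ Nonempty (↥S ≃* QuaternionGroup n))))) := by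
  have hp : p.Prime := Fact.out
  have key : ∀ n : ℕ, 0 < n →
      (S ≃* Multiplicative (ZMod (p ^ n)) × Multiplicative (ZMod (p ^ n))) →
      ¬ ∀ F : Cfsg.FusionSystem S, F.IsSaturated p → H93.Super F := fun n hn e h => by
    haveI : Fact (1 < p ^ n) := ⟨Nat.one_lt_pow hn.ne' hp.one_lt⟩
    obtain ⟨K, h1, h2⟩ := H93.exists_bad_aut (p := p) (H := Unit) (IsPGroup.of_card (n := n)
      ((Nat.card_congr Multiplicative.toAdd).trans (Nat.card_zmod _)))
      (e.trans MulEquiv.prodUnique.symm)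
    exact h2 (((H93.forall_super_iff hS).1 h).2 K h1)
  refine ⟨fun h => ?_, fun h F hF => H93.super_of_isMetacyclic hS hF hm (fun h1 => h (Or.inl h1)) ?_⟩
  · have fin : ∀ {k x y e f}, p = 2 → H93.MX S k x y e f → ¬ H93.HasModel k e f True True := by
      rintro k x y e f rfl h1 h2
      obtain ⟨E, hE, h3⟩ := h1.exists_not_super h2
      exact h3 (h E hE)
    rintro (⟨n, hn, ⟨e⟩⟩ | ⟨rfl, ⟨n, hn, ⟨e⟩⟩ | h1 | ⟨n, hn, ⟨e⟩⟩⟩)
    · exact key n hn e h
    · rcases hn.eq_or_lt with rfl | hn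
      · obtain ⟨e'⟩ := IsKleinFour.nonempty_mulEquiv (G₁ := DihedralGroup 2)
          (G₂ := Multiplicative (ZMod 2 × ZMod 2))
        exact key 1 one_pos (e.trans (e'.trans (MulEquiv.prodMultiplicative _ _))) h
      · obtain ⟨k, x, y, h1⟩ := H93.exists_mx_of_dihedral hS hn e
        exact fin rfl h1 (H93.hasModel_PSL k)
    · obtain ⟨k, x, y, h1⟩ := H93.exists_mx_of_qd h1
      exact fin rfl h1 (H93.hasModel_SL_three k)
    · obtain ⟨k, x, y, h1⟩ := H93.exists_mx_of_quaternion hS hn e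
      exact fin rfl h1 (H93.hasModel_SL k)
  · rintro ⟨h2, ⟨k, h1⟩ | h1 | ⟨k, h1⟩⟩
    · exact h (Or.inr ⟨h2, Or.inl ⟨_, Nat.one_lt_two_pow (by omega), h1⟩⟩)
    · exact h (Or.inr ⟨h2, Or.inr (Or.inl h1)⟩)
    · exact h (Or.inr ⟨h2, Or.inr (Or.inr ⟨_, Nat.one_lt_two_pow (by omega), h1⟩)⟩)

end Cfsg.Agent.S5287
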