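import Cfsg.Statements.S5299
import Mathlib
import Cfsg.Agent.Base
import Cfsg.Agent.Lib.Fusion.Group

set_option autoImplicit false
universe u
open Cfsg

namespace Cfsg.Agent.S5299

theorem involves_of_surj {X G H : Type*} [Group X] [Group G] [Group H] (j : X →* G)
    (hj : Function.Injective j) (f : X →* H) (hf : Function.Surjective f) : Cfsg.Involves H G := by
  let f' : j.range →* H := f.comp (MonoidHom.ofInjective hj).symm.toMonoidHom
  have hf' : Function.Surjective f' := hf.comp (MonoidHom.ofInjective hj).symm.surjective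
  have h1 : (f'.ker.map j.range.subtype).subgroupOf j.range = f'.ker :=
    Subgroup.comap_map_eq_self_of_injective j.range.subtype_injective _
  have hn : ((f'.ker.map j.range.subtype).subgroupOf j.range).Normal := by
    rw [h1]; infer_instance
  refine ⟨j.range, f'.ker.map j.range.subtype, hn, ⟨?_⟩⟩
  exact (QuotientGroup.quotientMulEquivOfEq h1).trans
    (QuotientGroup.quotientKerEquivOfSurjective f' hf')

/-- Let F be a saturated fusion system over a finite p-group S, H a finite group and Q a p-subgroup of H. If Q is not involved in S (no section of S is isomorphic to Q), then F is H-free: H is involved in no model of the normalizer system of a fully normalized centric subgroup. -/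
theorem result {Ω : Type u} [Group Ω] {S : Subgroup Ω} [Finite S] (p : ℕ) [Fact p.Prime] (hS : IsPGroup p S)
    (F : Cfsg.FusionSystem S) (hF : F.IsSaturated p) (H : Type*) [Group H] [Finite H] (Q : Subgroup H) (hQ : IsPGroup p Q)
    (hfree : ¬ Cfsg.Involves (↥Q) (↥S)) : F.IsSectionFree p H := by
  rintro Q₀ - - N - L _ ι ⟨hfin, hreal, ⟨T, hT⟩, -⟩ ⟨K, R, hR, ⟨e⟩⟩
  apply hfree
  let π : K →* H := e.toMonoidHom.comp (QuotientGroup.mk' _)
  have hπ : Function.Surjective π := e.surjective.comp (QuotientGroup.mk'_surjective _)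
  obtain ⟨X, hX⟩ := H93.exists_syl (p := p) (Q.comap π)
  have h1 := hX.map π
  rw [Subgroup.map_comap_eq_self_of_surjective hπ] at h1
  have h2 : Q = X.map π := h1.eq_of_le hQ le_rfl h1.le
  obtain ⟨k, -, hk⟩ := (H93.syl_top T).conj (X.map K.subtype) (hX.pgrp.map _) le_top
  let c : X →* L := (MulAut.conj k).toMonoidHom.comp (K.subtype.comp X.subtype)
  have hc : ∀ x, c x ∈ ι.range := fun x => hT ▸ hk _ ⟨x, x.2, rfl⟩
  have hci : Function.Injective c :=
    (MulAut.conj k).injective.comp (K.subtype_injective.comp X.subtype_injective)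
  refine involves_of_surj
    ((Subgroup.inclusion (H93.normalizerIn_le Q₀)).comp
      ((MonoidHom.ofInjective hreal.1).symm.toMonoidHom.comp (c.codRestrict _ hc))) ?_
    ((π.comp X.subtype).codRestrict Q fun x => hX.le x.2) ?_
  · refine (Subgroup.inclusion_injective (H93.normalizerIn_le Q₀)).comp
      ((MonoidHom.ofInjective hreal.1).symm.injective.comp fun a b hab => hci ?_)
    exact congrArg Subtype.val hab
  · rintro ⟨q, hq⟩
    rw [h2] at hq
    obtain ⟨x, hx, rfl⟩ := hq
    exact ⟨⟨x, hx⟩, rfl⟩

end Cfsg.Agent.S5299
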