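import Mathlib
import Cfsg.Statements.S5313
import Cfsg.Agent.S5174
import Cfsg.Agent.S5308
import Cfsg.Agent.S5309
import Cfsg.Agent.S0215
import Cfsg.Agent.Lib.GL.Simple
-- import your own Cfsg.Agent.* helpers here

set_option autoImplicit false
open Cfsg

namespace Cfsg.Agent.S5313

/-- Let q be odd, n ≥ 2, with q ≡ 1 or 7 (mod 8) if n = 2, and F a field with q elements. Let G be a finite nonabelian simple group with Sylow 2-subgroup S. If some generalized Fitting subsystem of the 2-fusion system of G on S, over U, is isomorphic to the 2-fusion system of PSL_n(q) (realized by an injective homomorphism of U onto a Sylow 2-subgroup of PSL_n(F)), then the 2-fusion system of G itself is isomorphic to that of PSL_n(q). -/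
theorem result {G : Type*} [Group G] [Finite G]
    [IsSimpleGroup G] (hG : ¬ IsMulCommutative G) (S : Sylow 2 G) (n : ℕ) (hn : 2 ≤ n) {F : Type*} [Field F] [Fintype F]
    (q : ℕ) (hFq : Fintype.card F = q) (hq : Odd q) (h2 : n = 2 → q % 8 = 1 ∨ q % 8 = 7)
    {U : Subgroup G} (D : Cfsg.FusionSystem U) (hD : D.IsGeneralizedFittingOf (Cfsg.groupFusionSystem (S : Subgroup G)) 2)
    (hiso : ∃ ι : ↥U →* Matrix.ProjectiveSpecialLinearGroup (Fin n) F, D.IsRealizedBy ι ∧
      ∃ T' : Sylow 2 (Matrix.ProjectiveSpecialLinearGroup (Fin n) F), (T' : Subgroup (Matrix.ProjectiveSpecialLinearGroup (Fin n) F)) = ι.range) :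
    ∃ ι : ↥(S : Subgroup G) →* Matrix.ProjectiveSpecialLinearGroup (Fin n) F,
      (Cfsg.groupFusionSystem (S : Subgroup G)).IsRealizedBy ι ∧
        ∃ T' : Sylow 2 (Matrix.ProjectiveSpecialLinearGroup (Fin n) F), (T' : Subgroup (Matrix.ProjectiveSpecialLinearGroup (Fin n) F)) = ι.range := by
  have hF := H93.isSaturated_groupFusionSystem S
  refine Cfsg.Agent.S5174.result hG S n hn q hFq hq h2 D
    ((Cfsg.Agent.S5308.result 2 S.isPGroup' _ hF).2 U D hD) hiso fun Y hY h => ?_
  refine le_bot_iff.1 (((Cfsg.Agent.S5309.result 2 S.isPGroup' _ hF D hD).2 Y hY h).trans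
    (sSup_le fun Q hQ => ?_))
  obtain ⟨ι, h1, T', h3⟩ := hiso
  have hs : IsSimpleGroup (Matrix.ProjectiveSpecialLinearGroup (Fin n) F) :=
    H10.isSimpleGroup_PSL_fin n hn fun h => by
      have := h2 h
      have := Fintype.one_lt_card (α := F)
      rw [Nat.card_eq_fintype_card]
      omega
  by_contra hne
  have hQ2 : IsPGroup 2 Q := by
    intro x
    obtain ⟨k, hk⟩ := T'.isPGroup' ⟨ι ⟨x, hQ.1 x.2⟩, h3 ▸ ⟨_, rfl⟩⟩
    refine ⟨k, Subtype.ext (congrArg (fun u : U => (u : G)) (h1.1 (a₁ := ⟨x, hQ.1 x.2⟩ ^ 2 ^ k)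
      (a₂ := 1) ?_))⟩
    rw [map_pow, map_one]
    exact congrArg Subtype.val hk
  have : Nontrivial Q := (Subgroup.nontrivial_iff_ne_bot Q).2 fun e => hne e.le
  obtain ⟨k, hk, e⟩ := hQ2.nontrivial_iff_card.1 this
  obtain ⟨z, hz⟩ := exists_prime_orderOf_dvd_card' (G := Q) 2 (e ▸ dvd_pow_self 2 hk.ne')
  have hz' : orderOf (ι ⟨z, hQ.1 z.2⟩) = 2 := by
    rw [orderOf_injective ι h1.1, ← Subgroup.orderOf_coe, ← hz, ← Subgroup.orderOf_coe z]
  obtain ⟨N, hN, h4, h5⟩ := Cfsg.Agent.S0215.result T' _ hz' (by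
      exact h3.ge ⟨_, rfl⟩) fun g hg => by
    have hP : Subgroup.zpowers (z : G) ≤ U := Subgroup.zpowers_le.2 (hQ.1 z.2)
    have h6 : ∀ x : Subgroup.zpowers (z : G), g * ι (Subgroup.inclusion hP x) * g⁻¹ ∈ ι.range := by
      rintro ⟨_, m, rfl⟩
      have : Subgroup.inclusion hP ⟨(z : G) ^ m, m, rfl⟩ = ⟨z, hQ.1 z.2⟩ ^ m := rfl
      simp only
      rw [this, map_zpow, ← conj_zpow, ← h3]
      exact zpow_mem hg m
    let χ : Subgroup.zpowers (z : G) →* U := (MonoidHom.ofInjective h1.1).symm.toMonoidHom.comp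
      (((MulAut.conj g).toMonoidHom.comp (ι.comp (Subgroup.inclusion hP))).codRestrict _ h6)
    have h7 : ∀ x, ι (χ x) = g * ι (Subgroup.inclusion hP x) * g⁻¹ := fun x =>
      MonoidHom.apply_ofInjective_symm h1.1 _
    obtain ⟨ψ, -, h8, h9⟩ := hQ.2 _ (U.subtype.comp χ)
      ((h1.2 _ hP _ fun x => (χ x).2).2 ⟨g, h7⟩)
    have h10 : χ ⟨z, Subgroup.mem_zpowers _⟩ = ⟨z, hQ.1 z.2⟩ :=
      Subtype.ext ((h8 _).symm.trans (h9 z))
    have := h7 ⟨z, Subgroup.mem_zpowers _⟩
    rw [h10] at this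
    exact this.symm
  rcases hs.eq_bot_or_eq_top_of_normal N hN with rfl | rfl
  · have h6 : Subgroup.center (Matrix.ProjectiveSpecialLinearGroup (Fin n) F) = ⊤ :=
      (hs.eq_bot_or_eq_top_of_normal _ inferInstance).resolve_left fun e => by
        have : ι ⟨z, hQ.1 z.2⟩ ∈ Subgroup.center _ := Subgroup.mem_center_iff.2 fun g =>
          (commutatorElement_eq_one_iff_mul_comm.1 (Subgroup.mem_bot.1 (h5 g))).symm
        rw [e, Subgroup.mem_bot] at this
        simp [this] at hz'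
    have h7 := H10.commutator_SL_fin_eq_top (F := F) n fun h => by
      have := h2 h
      have := Fintype.one_lt_card (α := F)
      rw [Nat.card_eq_fintype_card]
      omega
    have : Group.IsPerfect (Matrix.SpecialLinearGroup (Fin n) F) := ⟨h7⟩
    have h8 : Group.IsPerfect (Matrix.ProjectiveSpecialLinearGroup (Fin n) F) := inferInstance
    have h9 := h8.commutator_eq_top
    rw [commutator_def, Subgroup.commutator_eq_bot_iff_le_centralizer.2 (by
      rw [Subgroup.coe_top, Subgroup.centralizer_univ, h6])] at h9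
    exact bot_ne_top h9
  · rw [Subgroup.card_top] at h4
    exact h4.not_two_dvd_nat (hz' ▸ orderOf_dvd_natCard _)

end Cfsg.Agent.S5313
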