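import Cfsg.Statements.S5316
import Mathlib
import Cfsg.Agent.Base
import Cfsg.Agent.Lib.MX.Main

set_option autoImplicit false
open Cfsg

namespace Cfsg.Agent.S5316

open H90 H90.MX H93 in

/-- Let p ≥ 5 be a prime, S a finite p-group of maximal class of order p^n with n ≥ 5 (nilpotency class n − 1), F a saturated fusion system over S, and E an F-essential subgroup that is not a pearl (not elementary abelian of order p² and not extraspecial of order p³ and exponent p). Then E has order at least p⁴. -/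
theorem result {Ω : Type*} [Group Ω] {S : Subgroup Ω} [Finite S] (p : ℕ) [Fact p.Prime] (hp : 5 ≤ p) (hS : IsPGroup p ↥S) (n : ℕ) (hn : Nat.card S = p ^ n) (h5 : 5 ≤ n)
    (hmax : Subgroup.lowerCentralSeries S (n - 2) ≠ ⊥) (F : Cfsg.FusionSystem S) (hF : F.IsSaturated p)
    (E : Subgroup Ω) (hE : F.IsEssential p E)
    (hnp : ¬ ((Nat.card ↥E = p ^ 2 ∧ Cfsg.IsElementaryAbelian p E) ∨ (Nat.card ↥E = p ^ 3 ∧ Cfsg.IsExtraspecial p ↥E ∧ Monoid.exponent ↥E = p))) :
    p ^ 4 ≤ Nat.card ↥E := by
  have h := mc_of_lcs hn (by omega) hmax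
  have key : ∀ i, 1 ≤ i → i + 3 ≤ n → E.subgroupOf S = C2 S i → p ^ 4 ≤ Nat.card E := fun i a b e => by
    rw [← card_subgroupOf_eq hE.1.1, e, card_C2 h (by omega) a b]
    exact Nat.pow_le_pow_right (by omega) (by omega)
  obtain e | e | e | e := (ess_main h (by omega) hF hE).1
  · exact (hnp (.inl e)).elim
  · exact (hnp (.inr ⟨e.1, e.2.1, e.2.2.1 (by omega)⟩)).elim
  · exact key 1 le_rfl (by omega) e
  · exact key _ (by omega) (by omega) e

end Cfsg.Agent.S5316
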