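import Cfsg.Statements.S5384
import Mathlib
import Cfsg.Agent.Lib.SuzT.Fin
import Cfsg.Agent.Lib.SuzT.Sy

set_option autoImplicit false
open Cfsg

namespace Cfsg.Agent.S5384

open H40.ST

/-- Let G be a finite group of Suzuki sporadic type (involution z with generalized Fitting subgroup Q of its centralizer C extraspecial of order 2^7, C/Q the commutator subgroup of the isometry group of the elliptic quadratic form in dimension 6 over the field with two elements, z not weakly closed in Q). Then G has exactly two conjugacy classes of subgroups of order 5, and the normalizer of a Sylow 5-subgroup P of G has order 600, with P of order 25 and N(P)/P isomorphic to the direct product of a cyclic group of order 4 and the symmetric group of degree 3. -/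
theorem result {G : Type*} [Group G] [Finite G] (z : G) (hz : orderOf z = 2) (Q : Subgroup (Subgroup.centralizer ({z} : Set G))) [Q.Normal] (hF : Cfsg.generalizedFittingSubgroup (Subgroup.centralizer ({z} : Set G)) = Q) (hQ : Cfsg.IsExtraspecial 2 Q) (hcard : Nat.card Q = 2 ^ 7) (e : (Subgroup.centralizer ({z} : Set G)) ⧸ Q ≃* Cfsg.Omega (ZMod 2) (Cfsg.quadFormMinus 2 (ZMod 2) 1 1)) (hnwc : ∃ g : G, (∃ hq : g * z * g⁻¹ ∈ Subgroup.centralizer ({z} : Set G), (⟨g * z * g⁻¹, hq⟩ : Subgroup.centralizer ({z} : Set G)) ∈ Q) ∧ g * z * g⁻¹ ≠ z) (P : Sylow 5 G) : (∃ A B : Subgroup G, Nat.card A = 5 ∧ Nat.card B = 5 ∧ (∀ g : G, A.map (MulAut.conj g).toMonoidHom ≠ B) ∧ ∀ C : Subgroup G, Nat.card C = 5 → ∃ g : G, C.map (MulAut.conj g).toMonoidHom = A ∨ C.map (MulAut.conj g).toMonoidHom = B) ∧ Nat.card (P : Subgroup G) = 25 ∧ Nat.card ↥(Subgroup.normalizer ((P : Subgroup G) : Set G)) = 600 ∧ Nonempty (↥(Subgroup.normalizer ((P : Subgroup G) : Set G)) ⧸ (P : Subgroup G).subgroupOf (Subgroup.normalizer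 ((P : Subgroup G) : Set G)) ≃* Multiplicative (ZMod 4) × Equiv.Perm (Fin 3)) := by
  obtain ⟨g, h1, h2⟩ := hnwc
  obtain ⟨φ, -⟩ := exists_equiv (t6_of hz Q hF hQ hcard e) (H95.mem_map_cent.2 h1) h2
  have : Fact (Nat.Prime 5) := ⟨by norm_num⟩
  obtain ⟨ψ, h⟩ := exists_syl φ (k := 2) card_P0 (by rw [H40.Suz.card]; norm_num) P
  have hN := Subgroup.map_equiv_normalizer_eq P0 ψ
  rw [h] at hN
  refine ⟨two_classes ((ψ.orderOf_eq _).trans cls_five.1) ((ψ.orderOf_eq _).trans cls_five.2.1)
    (fun a ha c => nc5 (ψ.symm a) ?_ (by simpa using ψ.symm.toMonoidHom.map_isConj c)) fun c hc => ?_,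
    by rw [← h, Subgroup.card_map_of_injective ψ.injective, card_P0],
    by rw [← hN, Subgroup.card_map_of_injective ψ.injective, norm5.1],
    ⟨(quot_equiv ψ hN h).some.symm.trans norm5.2.some⟩⟩
  · obtain ⟨k, rfl⟩ := ha
    exact ⟨k, by simp⟩
  · obtain ⟨c, rfl⟩ := ψ.surjective c
    exact (cls_five.2.2 c ((ψ.orderOf_eq c).symm.trans hc)).imp ψ.toMonoidHom.map_isConj
      ψ.toMonoidHom.map_isConj

end Cfsg.Agent.S5384
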