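import Cfsg.Statements.S5389
import Mathlib
import Cfsg.Agent.Lib.SuzT.HSys
import Cfsg.Agent.Lib.SuzSp.Co0

set_option autoImplicit false
open Cfsg

namespace Cfsg.Agent.S5389

open H54 H40.Suz H40.ST

/-- A simple section of the automorphism group of the Leech lattice satisfying the Suzuki-sporadic-type hypothesis (the group so obtained is the sporadic Suzuki group; that identification is not part of this statement): there is a subgroup A of order 3 of that automorphism group such that the centralizer of A modulo the subgroup generated by A and the centre of the automorphism group is a non-abelian simple group satisfying the large extraspecial hypothesis of minus type in dimension 6 — an involution whose centralizer has extraspecial generalized Fitting subgroup of order 2^7 with quotient the commutator subgroup of the isometry group of the elliptic quadratic form in dimension 6 over the field with two elements, the involution not weakly closed in that extraspecial group. -/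
theorem result : ∃ A : Subgroup ↥Cfsg.Co0, Nat.card A = 3 ∧ ∃ (hn : ((A ⊔ Subgroup.center ↥Cfsg.Co0).subgroupOf (Subgroup.centralizer (A : Set ↥Cfsg.Co0))).Normal), ∃ (S : Type) (_ : Group S) (_ : Finite S), Nonempty (S ≃* ↥(Subgroup.centralizer (A : Set ↥Cfsg.Co0)) ⧸ (A ⊔ Subgroup.center ↥Cfsg.Co0).subgroupOf (Subgroup.centralizer (A : Set ↥Cfsg.Co0))) ∧ IsSimpleGroup S ∧ ¬ IsMulCommutative S ∧ ∃ z : S, orderOf z = 2 ∧ ∃ (Q : Subgroup (Subgroup.centralizer ({z} : Set S))) (_ : Q.Normal), Cfsg.generalizedFittingSubgroup (Subgroup.centralizer ({z} : Set S)) = Q ∧ Cfsg.IsExtraspecial 2 Q ∧ Nat.card Q = 2 ^ 7 ∧ Nonempty ((Subgroup.centralizer ({z} : Set S)) ⧸ Q ≃* Cfsg.Omega (ZMod 2) (Cfsg.quadFormMinus 2 (ZMod 2) 1 1)) ∧ ∃ g : S, (∃ hq : g * z * g⁻¹ ∈ Subgroup.centralizer ({z} : Set S), (⟨g * z * g⁻¹, hq⟩ : Subgroup.centralizer ({z} : Set S)) ∈ Q) ∧ g * z * g⁻¹ ≠ z := by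
  have := finite
  obtain ⟨e, -⟩ := exists_equiv_C6
  have hn : (Q0.subgroupOf (Subgroup.centralizer {u 0})).Normal :=
    Subgroup.normal_subgroupOf_of_le_normalizer t6.normalizer_eq.ge
  have hm := Subgroup.map_subgroupOf_eq_of_le t6.le_centralizer
  have hc : Nat.card (Q0.subgroupOf (Subgroup.centralizer {u 0})) = 2 ^ 7 :=
    (Nat.card_congr (Subgroup.subgroupOfEquivOfLe t6.le_centralizer).toEquiv).trans t6.card
  refine ⟨A3, (Nat.card_zpowers _).trans orderOf_om, inferInstance, Spor.Suz, inferInstance, this, ⟨e⟩, simple,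
    fun h => fg_ne (h.is_comm.comm _ _), u 0, t6.orderOf_eq, _, hn,
    H95.L3.fStar_eq (hm.symm ▸ t6.toL3) (le_Q0 H1.isPGroup_pCore),
    H95.isExtraspecial_of_equiv (Subgroup.subgroupOfEquivOfLe t6.le_centralizer).symm t6.isExtraspecial,
    hc, t6.equiv, ?_⟩
  obtain ⟨g, hg⟩ := isConj_iff.1 cj_f
  rw [ev0] at hg
  refine ⟨g, ?_⟩
  rw [hg]
  exact ⟨⟨ev_mem _, mem_wgen u (by decide)⟩, (neQ _ (by decide)).2⟩

end Cfsg.Agent.S5389
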