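import Cfsg.Statements.S5443
import Cfsg.Agent.Lib.F24T.Frame
import Cfsg.Agent.Lib.F24T.B2Model
import Cfsg.Agent.Lib.Fi22I.W27

set_option autoImplicit false
open Cfsg

namespace Cfsg.Agent.S5443

open Subgroup H54 H94 H95 H12.F24 H71.F24 H96.Lab H96.E6
open scoped Pointwise

set_option maxRecDepth 100000

def T27 : ℕ := 0xfdcfcbde8d3fa1fa088ff8287f77235145002f4220014ff4fe3ddfd0ba37a208dc8087e873f5145002ff228014f33ee4dd8ccfbf7a2091f8087fb62f5104043fc228114f33ed4de8ccfbfba1f9208047f761052f4083fc218124fecfcbdd8d3fbf7b1392490062f6084ff4182f4210024ff4fd3defd0bbd8b3f9249006376104ec4082ff218024ff8fd3eefe07bd4b3fa28a0053b5104ec4041ff114028fecfc7ed4e3fbfbb13a28a0052f5044ff4141f8110028f0fedfdefcfcbd8a0893b8287e46375044143f3220110f0feefddfcfcbd4a379048247e860853b4183f3210120ff8fe3edfe0793b9208dc8047e473f6186001ff124018fdcfc7ee4e3f91f9048ff8247fb7236186001f8120018f2bee4defc20bd8ad791f8107fb6375fc43030820410cf2beccdfbc1fbf0ad79208047ef6085fc418337210124fdcfd3c1fc10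bf0b3f8ff8307ef7234ec42030c30000cfecfe3c2fc20bdfb138dc8107f073f4ff43030c30000cf1bed4ddfc10bfba379fc8307e86e752f42030820410cf1beccdfbc2fbdfa089fc8287f06e7510404337220114f17ef7dccc2fbdfafc9048247f06105eb40833b218120f17edfdd8c10bf7afc93b8307e462f5eb42030420c108ff8fcbef7e07dccd3fc30c0033b3082f42041ff10c030ff4fc7ecce3fdfbd0bc30c003373042ff20c1f8108030f27ef7dccc1fbf0a209db8087ef6fc50441433b228110f27eefde8c20bd4a1f9db8107f76fc53b43030420c108ffffc0f2bf17afcad7a28a005fc5eb51450003f028014ffffc0f27f1b9fc9db9249006fc6e761860003f024018ffffc0f33f0fcfcccfc30c003fc3f330c30003f03000c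

theorem stab_equiv : Nonempty (↥(H0 ⊓ MulAction.stabilizer AV (H94.vec 3)) ≃* O6) := by
  have hc : Nat.card ↥(H0 ⊓ MulAction.stabilizer AV (H94.vec 3)) = 51840 := by
    have h := (goodH.rest (fun h => Chain.noConfusion h)).card ctx Kbot
    rw [(by decide +kernel : pt chH.base = H94.vec 3)] at h
    exact h.trans (by decide +kernel)
  obtain ⟨ρ, h1, h2, -⟩ := lab_hom (n := 27) (J := ⊥) (k := 1) (ctx_objT (m := 15) (T := T27) c27_check
    (by decide +kernel)) rfl (valid_objT goodH (x := 3) (by norm_num)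
    (Ms := [0x100008010800041082104200400820001002, 0x41fbe05e76eb76d7ae3d03efc17c1bc1dc1e, 0x208104820410041082008004020010001002, 0x7d082f9d7adbb5db9e3df3e0c27c2bc2dc2e, 0x71b9ec9f4e1b6656a61dc2e74e78f8f19f1a, 0x1d81e81f0ec3f45f867c7bc7dc7e3be3de3e]) (by decide +kernel))
    card_W27 bot_le (by simp) hc.le
  obtain ⟨e⟩ := equivO
  exact ⟨(injEquiv ρ h1 h2).trans e.symm⟩

theorem map_equiv {H A : Type*} [Group H] [Group A] (ρ : H →* A) (Q : Subgroup H) [Q.Normal] (h : ρ.ker = Q)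
    (S : Subgroup H) : Nonempty (S.map (QuotientGroup.mk' Q) ≃* S.map ρ) := by
  subst h
  refine ⟨(equivMapOfInjective _ _ (QuotientGroup.kerLift_injective ρ)).trans (MulEquiv.subgroupCongr ?_)⟩
  rw [map_map]
  rfl


/-- Let G be a finite group of large Fischer type at the involution z: the generalized Fitting subgroup Q of H = C_G(z) is extraspecial of order 2^13, H has normal subgroups Q ≤ H₁ ≤ H₂ with H₁/Q of order 3, H₂/H₁ the projective special unitary group of dimension 4 over the field with nine elements and H₂ of index 2 in H, and some conjugate of z other than z lies in Q. Let t be an involution of Q not conjugate to z in G, and S the set of elements of H conjugating t to t or to t z (the stabilizer of the image of t in Q modulo its centre). Then the image of S in H/Q is isomorphic to the full isometry group of the elliptic quadratic form in dimension 6 over the field with two elements. -/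
theorem result {G : Type*} [Group G] [Finite G] (z : G) (Q : Subgroup (Subgroup.centralizer ({z} : Set G))) [Q.Normal] (hF : Cfsg.IsOfLargeFischerTypeAt z Q) (t : Subgroup.centralizer ({z} : Set G)) (htQ : t ∈ Q) (ht2 : orderOf t = 2) (ht : ¬ IsConj z (t : G)) (S : Subgroup (Subgroup.centralizer ({z} : Set G))) (hS : ∀ h : Subgroup.centralizer ({z} : Set G), h ∈ S ↔ (h * t * h⁻¹ = t ∨ ((h * t * h⁻¹ : Subgroup.centralizer ({z} : Set G)) : G) = t * z)) : Nonempty (↥(S.map (QuotientGroup.mk' Q)) ≃* Cfsg.isometryGroup (ZMod 2) (Cfsg.quadFormMinus 2 (ZMod 2) 1 1)) := by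
  obtain ⟨F, hQ⟩ := exists_frame z Q hF
  have hk : F.ρ.ker = Q := by
    rw [F.ker_eq, hQ]; exact comap_map_eq_self_of_injective (subtype_injective _) _
  obtain ⟨v, ε, hv⟩ : (t : G) ∈ F.Q := hQ ▸ ⟨t, htQ, rfl⟩
  have v0 : v ≠ 0 := by
    rintro rfl
    rw [F.σ_zero, one_mul] at hv
    rcases zp_cases z ε with h | h <;> rw [h] at hv
    · exact ne_one_of_orderOf_eq_two ht2 (Subtype.ext hv)
    · exact ht (by rw [hv])
  have hq : qv v = 0 := by
    have h : (t : G) * t = 1 := congrArg Subtype.val (mul_self_of_orderOf_eq_two ht2)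
    rw [hv, F.elt_mul, V6_add_self, F.σ_zero, one_mul, zp_eq_one_iff F.z1, add_assoc, zmod2_add_self,
      add_zero] at h
    exact h
  obtain ⟨g, hg, rfl⟩ := trans_S378 (v := v) (by
    by_contra h
    exact ht (by rw [hv]; exact ((F.cls v v0 hq).2 h).trans (F.isConj_elt v0 ε)))
  have e : S.map F.ρ = (H0 ⊓ MulAction.stabilizer AV (H94.vec 3)).map (MulAut.conj g).toMonoidHom := by
    ext k
    rw [mem_map_conj]
    have hg' := K0_le_H0 hg
    have e1 : g⁻¹ * k * g ∈ H0 ⊓ MulAction.stabilizer AV (H94.vec 3) ↔ k ∈ H0 ∧ k (g (H94.vec 3)) = g (H94.vec 3) := by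
      rw [mem_inf, H0.mul_mem_cancel_right hg', H0.mul_mem_cancel_left (inv_mem hg'), MulAction.mem_stabilizer_iff,
        mul_smul, mul_smul, inv_smul_eq_iff]
      rfl
    rw [e1, ← F.range]
    have key : ∀ h : centralizer ({z} : Set G), h ∈ S ↔ F.ρ h (g (H94.vec 3)) = g (H94.vec 3) := fun h => by
      obtain ⟨a, ha⟩ := PreFrame.Lift.conj_elt (F := F.toPreFrame) ⟨h.2, rfl⟩ (g (H94.vec 3)) ε
      rw [hS, Subtype.ext_iff]
      simp only [coe_mul, coe_inv]
      rw [hv, ha]
      refine ⟨fun h' => h'.elim (fun h' => (F.elt_inj h').1) fun h' => ?_, fun h' => ?_⟩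
      · exact (F.elt_inj (b := ε + 1) (by rw [h', ← F.zp_add', zp_one, mul_assoc])).1
      · rw [show F.ρ ⟨h, h.2⟩ (g (H94.vec 3)) = _ from h', mul_assoc]
        rcases (by decide : ∀ a b : ZMod 2, a = b ∨ a = b + 1) a ε with rfl | rfl
        · exact Or.inl rfl
        · exact Or.inr (by rw [← F.zp_add', zp_one])
    exact ⟨fun ⟨h, h1, h2⟩ => ⟨⟨h, h2⟩, h2 ▸ (key h).1 h1⟩, fun ⟨⟨h, h2⟩, h1⟩ => ⟨h, (key h).2 (h2 ▸ h1), h2⟩⟩
  obtain ⟨e1⟩ := map_equiv F.ρ Q hk S
  obtain ⟨e2⟩ := stab_equiv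
  exact ⟨e1.trans ((MulEquiv.subgroupCongr e).trans (((MulAut.conj g).subgroupMap _).symm.trans e2))⟩

end Cfsg.Agent.S5443
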