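import Mathlib
import Cfsg.Statements.S5472
import Cfsg.Agent.Lib.Fi22I.Sig
import Cfsg.Agent.Lib.Fischer.T22
import Cfsg.Agent.S0817

set_option autoImplicit false
open Cfsg

namespace Cfsg.Agent.S5472

open H94 H96.F22 H96.Lab H96.E8

/-- Let G be a finite group with trivial centre generated by a conjugation-invariant set D of 3-transpositions on which it acts primitively, such that for some d in D the subgroup generated by the members of D other than d commuting with d has central largest normal 2- and 3-subgroups, and suppose G with D is of type M(22). Then G has a non-inner automorphism s of order 2 whose fixed-point subgroup is isomorphic to the full automorphism group of Ω⁺(8, 2) (the commutator subgroup of the isometry group of the hyperbolic quadratic form in dimension 8 over the field with two elements), together with distinct commuting members a, b of D fixed by s such that: s, s composed with conjugation by a, and s composed with conjugation by a b represent the three classes (under the automorphism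 group) of non-inner automorphisms of order 2; the elements fixed by the automorphism s composed with conjugation by a are exactly those fixed by s and commuting with a, and they form a group isomorphic to the direct product of a group of order 2 and the symplectic group of dimension 6 over the field with two elements; and the elements fixed by the automorphism s composed with conjugation by a b form a group whose largest normal 2-subgroup is elementary abelian of order 64 with quotient isomorphic to the full isometry group of the elliptic quadratic form in dimension 6 over the field with two elements. -/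
theorem result {G : Type*} [Group G] [Finite G] {D : Set G} (hD : Cfsg.IsThreeTranspositionGroup D) (hprim : Cfsg.IsPrimitiveUnderConj D) (d₀ : G) (hd₀ : d₀ ∈ D) (h3 : Cfsg.pCore 3 ↥(Subgroup.closure {y : G | y ∈ D ∧ y ≠ d₀ ∧ Commute d₀ y}) ≤ Subgroup.center ↥(Subgroup.closure {y : G | y ∈ D ∧ y ≠ d₀ ∧ Commute d₀ y})) (h2 : Cfsg.pCore 2 ↥(Subgroup.closure {y : G | y ∈ D ∧ y ≠ d₀ ∧ Commute d₀ y}) ≤ Subgroup.center ↥(Subgroup.closure {y : G | y ∈ D ∧ y ≠ d₀ ∧ Commute d₀ y})) (h22 : Cfsg.IsOfTypeM22 G D) : ∃ (s : MulAut G) (a b : G) (Cs : Subgroup G), orderOf s = 2 ∧ s ∉ (MulAut.conj : G →* MulAut G).range ∧ (∀ g : G, g ∈ Cs ↔ s g = g) ∧ Nonempty (↥Cs ≃* MulAut (Cfsg.Omega (ZMod 2) (Cfsg.quadFormPlus 4 (ZMod 2)))) ∧ a ∈ D ∧ b ∈ D ∧ a ≠ b ∧ Commute a b ∧ s a = a ∧ s b = b ∧ (∀ t : MulAut G, orderOf t = 2 → t ∉ (MulAut.conj : G →* MulAut G).range → (IsConj t s ∨ IsConj t (s * MulAut.conj a) ∨ IsConj t (s * MulAut.conj (a * b)))) ∧ ¬ IsConj s (s * MulAut.conj a) ∧ ¬ IsConj s (s * MulAut.conj (a * b)) ∧ ¬ IsConj (s *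 MulAut.conj a) (s * MulAut.conj (a * b)) ∧ (∀ g : G, (s * MulAut.conj a) g = g ↔ g ∈ Cs ⊓ Subgroup.centralizer ({a} : Set G)) ∧ Nonempty (↥(Cs ⊓ Subgroup.centralizer ({a} : Set G)) ≃* Multiplicative (ZMod 2) × Cfsg.PSp 3 (ZMod 2)) ∧ ∃ Csab O : Subgroup G, (∀ g : G, g ∈ Csab ↔ (s * MulAut.conj (a * b)) g = g) ∧ O = (Cfsg.pCore 2 ↥Csab).map Csab.subtype ∧ Cfsg.IsElementaryAbelian 2 O ∧ Nat.card O = 64 ∧ ∃ _ : (O.subgroupOf Csab).Normal, Nonempty (↥Csab ⧸ O.subgroupOf Csab ≃* Cfsg.isometryGroup (ZMod 2) (Cfsg.quadFormMinus 2 (ZMod 2) 1 1)) := by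
  obtain ⟨M⟩ := model22_of_type hD hprim h22
  have h := Cfsg.Agent.S0817.result (F := ZMod 2) 2 1 le_rfl rfl 4 le_rfl
  rw [card_POmega] at h
  have p := pr_std M
  have n1 : sig M ≠ 1 := fun e => sig_not_inner M 1 ((map_one _).trans e.symm)
  refine ⟨sig M, M.x 43, M.x 47, Cs M, H95.orderOf_eq_two_of (sig_sq M) n1, fun ⟨g, e⟩ => sig_not_inner M g e,
    fun g => by rw [← a_s]; rfl, equiv_Cs M (h.trans (by norm_num)).le, p.m1, p.m2, p.ne, p.cm,
    a_s M ▸ x43_Cs M, a_s M ▸ x47_Cs M, fun t ht ho => outer_classes M (mul_self_of_orderOf ht) fun g e => ho ⟨g, e⟩,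
    ?_, ?_, ?_, fun g => a_sa M ▸ fix_sa M, equiv_Ca M, fixS (a M [3510, 43, 47]), ?_⟩
  · rw [← a_sa, ← a_s]
    exact fun c => absurd (nf_isConj M rfl rfl c) (by rw [fcS1, fcS2]; norm_num)
  · rw [← a_sab, ← a_s]
    exact fun c => absurd (nf_isConj M rfl rfl c) (by rw [fcS1, fcS3]; norm_num)
  · rw [← a_sab, ← a_sa]
    exact fun c => absurd (nf_isConj M rfl rfl c) (by rw [fcS2, fcS3]; norm_num)
  · obtain ⟨O, h⟩ := struct_sab M
    exact ⟨O, fun g => by rw [← a_sab]; rfl, h⟩

end Cfsg.Agent.S5472
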