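import Mathlib
import Cfsg.Statements.S5522
import Cfsg.Agent.Lib.M24Geom.Six
import Cfsg.Agent.Lib.M24Geom.ClsM11

set_option autoImplicit false
open Cfsg

namespace Cfsg.Agent.S5522

open H15 H55.Golay H96.Geo


/-- The Mathieu group M₁₁, realised as the stabiliser of one point of the dodecad of squares inside the stabiliser M₁₂ of that dodecad in M₂₄, acts on the twelve coordinate positions outside the dodecad of squares (its 3-transitive action of degree 12); in this action every element of prime order fixes a point, i.e. the action is elusive. -/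
theorem result (g : Equiv.Perm Cfsg.GolayPt) (hg : g ∈ Cfsg.Spor.M11) (hord : (orderOf g).Prime) :
    ∃ x : Cfsg.GolayPt, x ∉ Cfsg.Spor.squareDodecad ∧ g x = x := by
  obtain ⟨e, he, h1, -, k, hk, rfl⟩ := M11.table.data hg
  have key : ∀ e ∈ M11.cls, e.o.Prime → ∃ i < 24, (340831 : ℕ).testBit i = false ∧ ap e.c i = i := by
    decide +kernel
  obtain ⟨i, hi, h2, h3⟩ := key e he (h1 ▸ hord)
  refine ⟨k (pt i), fun c => ?_, ?_⟩
  · rw [apply_mem_of_smul_eq hk.1.2, squareDodecad_eq, pt_mem_ofMask hi, h2] at c
    exact Bool.noConfusion c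
  · simp [permOf_pt (M11.table.good e he).1 hi, h3]

end Cfsg.Agent.S5522
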