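import Cfsg.Statements.S5529
import Mathlib
import Cfsg.Agent.Lib.Perm.Ree
import Cfsg.Agent.Lib.M24Geom.ClsM23

set_option autoImplicit false
open Cfsg

namespace Cfsg.Agent.S5529

set_option maxRecDepth 100000

open H15 H96.Geo in
/-- evaluation of a positive word in two coded permutations -/
def ev (x y : ℕ) (w : List ℕ) : ℕ := w.foldr (fun l a => mulP (cond (Nat.beq l 0) x y) a) idP

/-- a certificate: orders, two elements, words for the two generators -/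
structure Ce where
  p : ℕ
  q : ℕ
  r : ℕ
  x : ℕ
  y : ℕ
  wa : List ℕ
  wb : List ℕ

open H15 H96.Geo in
/-- the check of a certificate -/
noncomputable def chk (e : Ce) : Bool :=
  inM24 e.x && Nat.beq (ap e.x 23) 23 && inM24 e.y && Nat.beq (ap e.y 23) 23 &&
  Nat.beq (H54.ordc cfg24 e.x) e.p && Nat.beq (H54.ordc cfg24 e.y) e.q &&
  Nat.beq (H54.ordc cfg24 (mulP e.x e.y)) e.r &&
  Nat.beq (ev e.x e.y e.wa) 959666746644334454845758366636382341 &&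
  Nat.beq (ev e.x e.y e.wb) 974335757583526880979536648136592911

/-- the certificates -/
def data : List Ce := [
  ⟨2, 5, 11, 0xbc57431ed0791a8a880c94cae1a829, 0xb968cac9487442958a763346783c80,
    [1,0,1,0,1,0,1,1,1,0,1,0,1,1,0,1,1,0,1,0,1,1,1,0,1,1,0,1,0,1,0,1,1,0,1,1],
    [0,1,1,0,1,1,1,0,1,1,1,1,0,1,1,0,1,0,1,0,1,1,1,0,1,0,1,1,0,1,1,1,1,0,1,1,0]⟩,
  ⟨2, 5, 23, 0xbc52e84ad37d14b636a0298e418828, 0xbc88c0804daba695da28829e32d0e6,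
    [1,1,0,1,0,1,1,0,1,1,1,0,1,1,0,1,0,1,0,1,1,0,1,1,0,1,0,1,0,1,0,1,1,0],
    [1,0,1,0,1,1,0,1,1,1,0,1,1,0,1,0,1,1,0,1,0,1,1,0,1,1,0,1,1,1,1,0,1]⟩,
  ⟨2, 7, 7, 0xba633a4aae7c0e8016cc699441882b, 0xbc1601baaf8d2cc6953321c413490a,
    [0,1,0,1,0,1,0,1,1,1,1,1,0,1,1,1,1,1,0,1,1,1,1,1,1,0,1,1,1,1,0,1,1,1,0],
    [0,1,1,0,1,0,1,1,0,1,1,1,1,1,0,1,0,1,0,1,1,0,1,1,0,1,1,0,1,1]⟩,
  ⟨2, 7, 11, 0xb960d7a0d59ba8058d323c6c45082c, 0xb95b43c99108ac642c704a9f570093,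
    [1,1,1,1,0,1,1,0,1,0,1,0,1,0,1,1,0,1,1,0,1,1,1,1,0,1,1,0,1,1,0],
    [0,1,1,0,1,1,0,1,0,1,1,0,1,1,1,0,1,0,1,1,0,1,1,1,1,1,0,1,0,1,1,1,0,1]⟩,
  ⟨2, 7, 23, 0xb90740c9303096c682283bcb6aba6a, 0xbb2a5485d451e0078d72322c414e2d,
    [1,1,1,1,0,1,1,1,1,1,1,0,1,1,1,1,0,1,1,1,1,0,1,1,0,1,1,1,1,0,1,1,0],
    [0,1,1,0,1,1,0,1,1,1,1,1,0,1,0,1,1,1,0,1,1,1,1,1,0,1,0,1]⟩,
  ⟨2, 11, 11, 0xbc2b29d0362acec72802699e41a229, 0xb9e6864a0fb100da0d45584c91562e,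
    [1,1,0,1,1,1,1,1,1,1,1,1,0,1,1,1,1,0,1,1,0,1,0,1,0,1,0,1,1,1],
    [0,1,1,1,1,0,1,1,1,0,1,1,1,1,0,1,1,0,1,0,1,0,1,1,1,0,1,1,0,1,1]⟩,
  ⟨2, 11, 23, 0xbd9aa99cc313aa42d1289456c83c20, 0xbc6cb4846aac9cc4160f209a03ccd4,
    [1,0,1,1,0,1,0,1,1,1,0,1,0,1,1,1,1,0,1,0,1,1,1,1,0,1,1,0,1,0,1,0],
    [1,1,0,1,1,0,1,1,1,1,0,1,0,1,1,0,1,0,1,0,1,1,0,1,1,0,1,0,1,0,1,0,1,0]⟩,
  ⟨2, 23, 23, 0xba274aa5f08b5cc292560996a188e0, 0xbb0a16ba9282d043c660a894978ec6,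
    [0,1,1,1,0,1,0,1,0,1,1,1,1,1,1,1,1,1,1,1,1,1,0,1,1,0,1,0,1,1],
    [0,1,0,1,0,1,1,1,1,1,0,1,1,1,0,1,1,1,1,0,1,1,1,0,1,0,1,0]⟩,
  ⟨3, 3, 11, 0xba8d44a2027b9a799563092d594580, 0xbd84b9ca9050cb5885a8701263b1e4,
    [0,0,1,1,0,1,1,0,1,1,0,0,1,0,0,1,1,0,0,1,1,0,0,1,1,0,1,0,0],
    [0,0,1,1,0,0,1,0,1,1,0,1,1,0,0,1,0,0,1,1,0,0,1,0,1,0,1,0,1,1,0,1,1]⟩,
  ⟨3, 3, 23, 0xbb088a04d02d6cd7a9333896e1c412, 0xbaa14988e57b52158dcc21ab1b0112,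
    [0,1,1,0,1,0,0,1,0,1,0,1,1,0,1,0,1,0,1,0,1,0,0,1,0,1,0,0,1],
    [1,0,1,0,1,1,0,0,1,0,1,1,0,1,0,0,1,0,1,0,1,0,0,1,0,0,1,0,1,0,1,1,0]⟩,
  ⟨3, 5, 5, 0xbb6b49810f7402c12a4558e2621ec9, 0xbd915a458e5c9f03a42614c8a1b4a0,
    [0,1,0,1,0,0,1,1,1,1,0,1,0,1,1,1,1,0,1,1,0,1,1,0,1,0,0],
    [0,1,0,1,1,0,1,0,1,1,0,1,1,1,1,0,1,1,0,1,0,1,1,0,0,1,0,1]⟩,
  ⟨3, 5, 7, 0xbc5731c888055af72a0939856a04ac, 0xbc2a7550897ba600c4665b10d15a45,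
    [0,0,1,0,0,1,0,1,0,1,0,0,1,0,1,0,0,1,0,1,1,0,1,1,1,1],
    [0,1,1,1,1,0,0,1,0,0,1,0,1,1,1,1,0,0,1,0,1,0,1,0,1]⟩,
  ⟨3, 5, 11, 0xba6b219984705a0b29689d205389f1, 0xba64baaa331bdcc240b43b44130116,
    [1,0,0,1,1,1,1,0,1,1,0,1,0,1,1,0,0,1,0,1,1,1,0,1,0,1,1],
    [0,0,1,0,0,1,0,1,1,0,1,1,0,1,0,1,1,0,1,1,1,0,1,1,1,1]⟩,
  ⟨3, 5, 23, 0xb96d41c4d079d8024d280caa252dcd, 0xb8de49c9c6641a58da89aace11010a,
    [1,0,1,0,1,0,1,0,0,1,1,1,0,1,1,1,0,1,1,1,1,0,1,1,1,1,0],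
    [1,0,1,0,1,1,0,0,1,1,1,0,1,1,1,1,0,1,0,0,1,1,0,0]⟩,
  ⟨3, 7, 7, 0xbdab450182826674346489a4b73c25, 0xbd229ad8a0619617904899dcd1c152,
    [0,1,1,0,0,1,0,0,1,0,1,0,0,1,1,0,0,1,0,1,0,1,0,1,1,1],
    [0,1,1,1,1,0,1,0,1,0,1,0,0,1,0,1,0,1,1,1,1,0,1,1,0,1,0]⟩,
  ⟨3, 7, 11, 0xbb6b4b40c98ae6442a4e03ca23b023, 0xbceca8002279d752912c6d223921c6,
    [0,1,1,1,1,1,1,0,1,0,1,0,1,1,1,1,1,0,1,1,1,1,1,1,0,0],
    [1,0,0,1,0,1,1,1,0,1,1,0,1,1,1,0,0,1,1,0,0,1,1,1]⟩,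
  ⟨3, 7, 23, 0xbc1ed1ca2764c3511528b2c0471a8a, 0xb98883bc695cda583035a46ce54840,
    [1,0,1,1,0,1,0,1,0,1,0,1,0,0,1,0,0,1,0,1,1,0,1,0,1],
    [1,1,0,0,1,0,1,0,1,1,1,0,1,1,1,0,1,1,1,0,1,1,0,0,1,0,0,1]⟩,
  ⟨3, 11, 11, 0xbad94419328a9a138de0b40a470ab3, 0xba0e4538d58006c7ae2968ad3a0645,
    [0,0,1,1,0,1,1,0,1,1,1,0,1,1,1,1,1,0,1,1,1,0,1,1,1,0],
    [1,1,0,1,1,0,1,1,1,0,1,0,0,1,0,1,0,1,1,1,0,1,1]⟩,
  ⟨3, 11, 23, 0xba5165c883ab85102a8f3c0ac305b3, 0xba80db4ea490dcc0957488a093a1e6,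
    [0,1,0,1,1,1,0,1,0,1,1,0,0,1,1,1,0,0,1,0,1,0,0,1,0,0,1],
    [0,0,1,0,1,0,1,1,1,1,1,1,0,0,1,1,0,1,0,0,1,1,0,1,1,0]⟩,
  ⟨3, 23, 23, 0xbd1b09b8567ad95944613a4a832880, 0xba9ee4400c904c53a6226d975a0c93,
    [1,0,0,1,1,1,1,0,1,0,1,1,0,0,1,0,1,0,1,1,1,0,1,1],
    [1,1,1,1,0,0,1,1,1,1,1,1,1,1,0,1,1,1,0,0,1,1,0,0,1,0]⟩,
  ⟨5, 5, 5, 0xb8076955af598543aa084c4ac0ba64, 0xbd0c1ac9f65086c5ba079a0802c52d,
    [0,1,0,0,1,0,0,0,1,1,0,1,0,1,1,0,0,0,1,0],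
    [0,0,0,0,1,0,0,0,1,0,0,1,1,1,1,0,1,0,1,1,1,0,1]⟩,
  ⟨5, 5, 7, 0xba6355364683a8279183b04a899d60, 0xb9ed14bea50b60c72140a196390893,
    [0,0,1,1,1,0,0,1,1,0,0,0,0,1,0,1,1,1,0,1,1,1,0,0,0],
    [0,1,0,1,0,0,1,1,0,0,0,1,1,1,0,1,0,1,0,0,0]⟩,
  ⟨5, 5, 11, 0xba60d559730562313988219e595027, 0xbca6c03cf08b6a455046b04ab1a12e,
    [1,0,1,0,1,1,0,1,1,1,1,0,1,0,0,0,1,0,1,1,0,1,0],
    [0,0,1,1,1,0,0,1,1,0,0,1,0,0,0,0,1,0,1,0,0,1,0,1]⟩,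
  ⟨5, 5, 23, 0xbac829002a7d9a7656887260530e71, 0xbd2ab895e66b8870290c0c87385922,
    [1,0,1,0,0,1,0,0,0,1,0,0,1,0,1,1,1,0,0,1,1,0,1,0,1],
    [1,1,0,0,1,1,1,1,0,1,0,1,0,0,1,1,1,0,1,1,1,0,0,0,1]⟩,
  ⟨5, 7, 7, 0xba4489d9cd3124c01e018d0aa58df5, 0xbaeb13bc960c909309d35519068ca0,
    [1,0,1,1,1,0,1,0,0,1,0,0,1,1,0,1,0,0,0,1,0,1,0],
    [1,1,0,1,1,0,0,0,1,0,0,1,1,0,1,0,0,0,1,0,1,0,0]⟩,
  ⟨5, 7, 11, 0xb8ead530e834df182456090b45ba40, 0xb85d190265228cc69ecf5d6821a510,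
    [0,1,1,0,0,0,1,0,0,1,0,1,0,1,1,1,0,1,1,1,1,1,1,0],
    [0,1,0,1,0,0,1,1,0,0,1,1,0,0,1,0,1,1,1,0,1,1,0]⟩,
  ⟨5, 7, 23, 0xb8545991a98a212701e638ab61ad94, 0xb94114d26c839560c9a7a90cf58903,
    [0,1,1,0,0,1,1,0,0,0,1,1,0,0,0,1,0,1,1,1,0,0,0,0],
    [1,0,1,0,0,0,1,1,0,1,0,1,1,0,0,1,0,0,0,1,0,1]⟩,
  ⟨5, 11, 11, 0xbd0c455520448f35c071b08ad7b82c, 0xb9d50b142944d94a8c4e2180b7c9b1,
    [1,0,1,1,0,1,0,0,1,1,0,1,1,0,0,0,1,1,1,1,0,0,1],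
    [0,0,0,0,1,0,1,1,1,0,1,0,0,1,1,1,1,0,1,0,0,0]⟩,
  ⟨5, 11, 23, 0xb8ea74b5c47a9622da08648c188274, 0xbd4f3b440aa30622adc40991283d2d,
    [0,0,1,1,1,0,0,1,0,1,0,1,1,1,1,0,1,1,1,1,0,1,1,1,0,0],
    [1,1,1,0,0,0,1,0,1,1,1,1,0,1,0,0,0,1,1,1,1,1,0,0]⟩,
  ⟨5, 23, 23, 0xbd827038954256c32a8394c502be2d, 0xb9c1629a638b5944242a7c16e25452,
    [0,1,0,1,0,0,0,0,1,0,0,0,1,1,1,0,0,1,0,1,0,0,1,0],
    [0,1,0,1,1,1,1,0,1,0,0,1,1,1,1,0,1,0,1,1,1,0,1]⟩,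
  ⟨7, 7, 7, 0xba1e38c0479b92a9048d616c6ad160, 0xbbc224c8e371551982a8831a622e96,
    [0,1,0,0,1,0,1,0,1,1,0,0,1,0,0,1,0,0,0,0,0],
    [1,1,0,0,1,1,0,1,0,0,1,1,1,0,0,1,0,0,0,0,1]⟩,
  ⟨7, 7, 11, 0xb80e393dcd62836a422821a6b15525, 0xbb256a85e73414202d23a35049b8b1,
    [1,0,0,1,1,1,0,0,0,1,0,1,0,0,0,0,1,0,1,0,0],
    [0,1,1,0,0,0,0,1,0,1,0,1,0,1,1,0,0,1,0,0,1,0,0]⟩,
  ⟨7, 7, 23, 0xbb2b64860f51dc2a124b9a0a3019b1, 0xbbe805c88e09e2db3149354481ccb0,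
    [0,1,0,0,0,1,1,0,1,1,1,1,0,1,1,0,1,1,1,1,0,1,0,0],
    [0,1,1,1,0,0,0,0,1,1,1,0,0,0,0,1,0,1,1,1,0,0]⟩,
  ⟨7, 11, 11, 0xbc42718950715b64d5065824c7cc94, 0xbd00c7b4472563092d161994174ca9,
    [0,0,0,1,1,1,0,1,0,1,0,1,1,0,0,0,0,1,1,1,1,0,0,1,1],
    [1,1,1,1,0,1,1,0,0,0,0,1,0,1,1,1,1,1,1,0,0]⟩,
  ⟨7, 11, 23, 0xb84c2a58ec2c9731c528a820a73da4, 0xbc6c90d0a023eab9ca073390d1a84c,
    [0,1,1,0,1,1,0,0,1,1,1,0,1,0,0,1,0,1,1,1,1,0,0],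
    [0,0,0,1,0,0,0,1,1,1,0,0,0,1,0,1,1,0,1,0]⟩,
  ⟨7, 23, 23, 0xbc0ce22e6f68c4c546963a500096b2, 0xb8d71941b463ea54008254ece3a4c1,
    [0,0,0,1,0,1,0,1,0,0,0,1,0,1,1,1,0,1,1,1,0],
    [1,0,1,1,1,0,1,0,0,1,1,0,1,0,0,1,0,0,1,0]⟩,
  ⟨11, 11, 11, 0xbae728980a79105ad18371e090b6c2, 0xb824c124b433824b2d471b5f59c510,
    [0,1,1,0,0,1,1,0,0,1,0,1,1,0,1,0,1,1,0,1,0,1,0,0],
    [1,0,1,0,0,0,1,1,0,0,1,0,1,1,0,1,1,0,0,1,1,0]⟩,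
  ⟨11, 11, 23, 0xbbed449d8009ab2195c41363382d0a, 0xb814444e4d5be8183046754a938ed1,
    [0,0,1,0,0,1,1,0,0,1,1,0,1,0,0,0,0,1,0,0,0],
    [0,1,1,1,0,1,1,1,0,0,1,0,1,1,1,0,0,1,1,0,0,0,1]⟩,
  ⟨11, 23, 23, 0xb82a653ce45a20165a3214c746b925, 0xbcd65651c612900191f691c3583531,
    [1,1,1,0,0,1,1,0,0,1,1,1,0,1,1,1,1,1,0,1,0,1,0,0],
    [0,1,0,0,1,0,0,1,1,1,0,0,1,1,0,0]⟩,
  ⟨23, 23, 23, 0xb8e6d7458b912027d4e60a68552016, 0xba4f1690b60298112eafa4dc881a43,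
    [1,0,0,1,1,0,1,0,1,0,0,0,1,1,0,0,0,1,1,1,0,0],
    [1,0,0,0,1,0,0,0,1,1,0,0,0,1,0,0,1,1,1]⟩]

theorem data_chk : data.all chk = true := by decide +kernel

theorem data_cover : ∀ p ∈ [2, 3, 5, 7, 11, 23], ∀ q ∈ [2, 3, 5, 7, 11, 23], ∀ r ∈ [2, 3, 5, 7, 11, 23],
    p ≤ q → q ≤ r → ¬ (p = 2 ∧ q = 2) →
    ¬ ((p = 2 ∧ q = 3) ∨ (p = 2 ∧ q = 5 ∧ r = 5) ∨ (p = 2 ∧ q = 5 ∧ r = 7) ∨ (p = 3 ∧ q = 3 ∧ r ≤ 7)) →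
    ∃ e ∈ data, e.p = p ∧ e.q = q ∧ e.r = r := by decide +kernel

open H15 H96.Geo in
theorem good_ev {H : Subgroup (Equiv.Perm GolayPt)} {x y : ℕ} (hx : Good H x) (hy : Good H y) :
    ∀ w : List ℕ, Good H (ev x y w)
  | [] => by
    rw [ev, List.foldr_nil]
    exact ⟨okP_idP, by rw [permOf_idP]; exact one_mem _⟩
  | l :: w => by
    have ih := good_ev hx hy w
    rw [ev] at ih ⊢
    rw [List.foldr_cons]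
    refine Good.mul ?_ ih
    cases Nat.beq l 0
    exacts [hy, hx]

open H15 H96.Geo in
theorem sound {e : Ce} (h : chk e = true) :
    ∃ x y z : Cfsg.Spor.M23, orderOf x = e.p ∧ orderOf y = e.q ∧ orderOf z = e.r ∧ x * y * z = 1 ∧
      Subgroup.closure {x, y} = ⊤ := by
  simp only [chk, Bool.and_eq_true, Nat.beq_eq] at h
  obtain ⟨⟨⟨⟨⟨⟨⟨⟨h1, h2⟩, h3⟩, h4⟩, h5⟩, h6⟩, h7⟩, h8⟩, h9⟩ := h
  have gx := good_M23 h1 h2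
  have gy := good_M23 h3 h4
  let x : Spor.M23 := ⟨permOf e.x, gx.2⟩
  let y : Spor.M23 := ⟨permOf e.y, gy.2⟩
  refine ⟨x, y, (x * y)⁻¹, ?_, ?_, ?_, mul_inv_cancel _, ?_⟩
  · rw [← h5, ← orderOf_permOf gx.1, ← Subgroup.orderOf_coe]
  · rw [← h6, ← orderOf_permOf gy.1, ← Subgroup.orderOf_coe]
  · rw [← h7, ← orderOf_permOf (okP_mulP gx.1 gy.1), permOf_mulP gx.1 gy.1, orderOf_inv,
      ← Subgroup.orderOf_coe]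
    rfl
  · let H := (Subgroup.closure ({x, y} : Set Spor.M23)).map Spor.M23.subtype
    have hx : Good H e.x := ⟨gx.1, x, Subgroup.subset_closure (by simp), rfl⟩
    have hy : Good H e.y := ⟨gy.1, y, Subgroup.subset_closure (by simp), rfl⟩
    have hle : Spor.M23 ≤ H := M23_le_of_gens fun c hc => by
      simp only [gensM23, List.mem_cons, List.not_mem_nil, or_false] at hc
      rcases hc with rfl | rfl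
      exacts [h8 ▸ (good_ev hx hy e.wa).2, h9 ▸ (good_ev hx hy e.wb).2]
    rw [eq_top_iff]
    intro g _
    obtain ⟨k, hk, e⟩ := hle g.2
    exact (Subtype.ext e : k = g) ▸ hk

theorem prime_mem {p : ℕ} (hp : p.Prime) (h : p ∣ 10200960) : p ∈ [2, 3, 5, 7, 11, 23] := by
  have : p ∈ Nat.primeFactors 10200960 := Nat.mem_primeFactors.2 ⟨hp, h, by norm_num⟩
  rw [show (10200960 : ℕ) = 2 ^ 7 * 3 ^ 2 * 5 * 7 * 11 * 23 by norm_num] at h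
  simp only [hp.dvd_mul] at h
  rcases h with ((((h | h) | h) | h) | h) | h
  · rw [(Nat.prime_dvd_prime_iff_eq hp Nat.prime_two).1 (hp.dvd_of_dvd_pow h)]; simp
  · rw [(Nat.prime_dvd_prime_iff_eq hp Nat.prime_three).1 (hp.dvd_of_dvd_pow h)]; simp
  all_goals rw [(Nat.prime_dvd_prime_iff_eq hp (by norm_num)).1 h]; simp

open H15 H96.Geo in
theorem le_d {g : Equiv.Perm GolayPt} (hg : g ∈ Spor.M23) :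
    (orderOf g = 2 → 16 ≤ H85.Ree.d g) ∧ (orderOf g = 3 → 12 ≤ H85.Ree.d g) ∧
    (orderOf g = 5 → 8 ≤ H85.Ree.d g) ∧ (orderOf g = 7 → 6 ≤ H85.Ree.d g) ∧
    (orderOf g = 11 → 2 ≤ H85.Ree.d g) ∧ (orderOf g = 23 → 2 ≤ H85.Ree.d g) := by
  obtain ⟨e, he, ho, hf, -⟩ := M23.table.data hg
  have h := H85.Ree.le_d g (Fix g) fun a ha => mem_Fix.1 ha
  have hc : Fintype.card GolayPt = 24 := by decide
  have ht : ∀ e ∈ M23.cls, (e.o = 2 → e.f = 8) ∧ (e.o = 3 → e.f = 6) ∧ (e.o = 5 → e.f = 4) ∧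
      (e.o = 7 → e.f = 3) ∧ (e.o = 11 → e.f = 2) ∧ (e.o = 23 → e.f = 1) := by decide +kernel
  obtain ⟨t1, t2, t3, t4, t5, t6⟩ := ht e he
  rw [hc, hf] at h
  rw [← ho] at t1 t2 t3 t4 t5 t6
  refine ⟨fun o => ?_, fun o => ?_, fun o => ?_, fun o => ?_, fun o => ?_, fun o => ?_⟩
  · rw [t1 o, o] at h; omega
  · rw [t2 o, o] at h; omega
  · rw [t3 o, o] at h; omega
  · rw [t4 o, o] at h; omega
  · rw [t5 o, o] at h; omega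
  · rw [t6 o, o] at h; omega

open H15 H96.Geo in
theorem ree_M23 {x y : Spor.M23} (h : Subgroup.closure {x, y} = ⊤) :
    H85.Ree.d (x : Equiv.Perm GolayPt) + H85.Ree.d (y : Equiv.Perm GolayPt) +
      H85.Ree.d ((x * y : Spor.M23) : Equiv.Perm GolayPt) ≤ 28 := by
  have hle : Spor.M23 ≤ Subgroup.closure ({(x : Equiv.Perm GolayPt), (y : Equiv.Perm GolayPt)} : Set _) := by
    intro g hg
    have : g ∈ (Subgroup.closure ({x, y} : Set Spor.M23)).map Spor.M23.subtype :=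
      ⟨⟨g, hg⟩, h ▸ Subgroup.mem_top _, rfl⟩
    rwa [MonoidHom.map_closure, Set.image_pair] at this
  have h1 := H85.Ree.ree (x : Equiv.Perm GolayPt) y {pt 22, none} fun a => by
    by_cases ha : a = none
    · exact ⟨1, one_mem _, none, by simp, ha.symm⟩
    · have ho : MulAction.orbit Spor.M23 (pt 22) = pt '' {δ | H54.tb 0x7fffff δ = true} :=
        M23.chain.orbit_cons
      have : a ∈ MulAction.orbit Spor.M23 (pt 22) := by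
        rw [ho]
        refine ⟨idx a, ?_, pt_idx a⟩
        revert a
        decide
      obtain ⟨g, hg⟩ := this
      exact ⟨g, hle g.2, pt 22, by simp, hg⟩
  have hc : Fintype.card GolayPt = 24 := by decide
  have := Finset.card_le_two (a := pt 22) (b := (none : GolayPt))
  rw [hc] at h1
  rw [Subgroup.coe_mul]
  omega

/-- Generation of the Mathieu group M₂₃ (the stabiliser of a point in the Mathieu group M₂₄ acting on 24 points) by triples of prime orders. Let p ≤ q ≤ r be primes dividing |M₂₃| = 10200960 = 2⁷·3²·5·7·11·23, not both p and q equal to 2. Then M₂₃ contains elements x, y, z of orders p, q, r with xyz = 1 and ⟨x, y⟩ = M₂₃ if and only if (p, q, r) is none of: (2, 3, r) for any r, (2, 5, 5), (2, 5, 7), (3, 3, 3), (3, 3, 5), (3, 3, 7). -/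
theorem result (p q r : ℕ) (hp : p.Prime) (hq : q.Prime)
    (hr : r.Prime) (hpq : p ≤ q) (hqr : q ≤ r) (hp2 : ¬ (p = 2 ∧ q = 2))
    (hdvd : p ∣ 10200960 ∧ q ∣ 10200960 ∧ r ∣ 10200960) :
    (∃ x y z : Cfsg.Spor.M23, orderOf x = p ∧ orderOf y = q ∧ orderOf z = r ∧ x * y * z = 1 ∧
        Subgroup.closure {x, y} = ⊤) ↔
      ¬ ((p = 2 ∧ q = 3) ∨ (p = 2 ∧ q = 5 ∧ r = 5) ∨ (p = 2 ∧ q = 5 ∧ r = 7) ∨ (p = 3 ∧ q = 3 ∧ r ≤ 7)) := by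
  have mp := prime_mem hp hdvd.1
  have mq := prime_mem hq hdvd.2.1
  have mr := prime_mem hr hdvd.2.2
  constructor
  · rintro ⟨x, y, z, ox, oy, oz, e, hg⟩ hex
    have h := ree_M23 hg
    rw [eq_inv_of_mul_eq_one_left e, Subgroup.coe_inv, H85.Ree.d_inv] at h
    rw [← Subgroup.orderOf_coe] at ox oy oz
    have dx := le_d x.2
    have dy := le_d y.2
    have dz := le_d z.2
    rw [ox] at dx
    rw [oy] at dy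
    rw [oz] at dz
    simp only [List.mem_cons, List.not_mem_nil, or_false] at mr
    generalize H85.Ree.d (x : Equiv.Perm GolayPt) = a at h dx
    generalize H85.Ree.d (y : Equiv.Perm GolayPt) = b at h dy
    generalize H85.Ree.d (z : Equiv.Perm GolayPt) = c at h dz
    clear ox oy oz e hg mp mq hdvd hp hq hr
    obtain ⟨x2, x3, -⟩ := dx
    obtain ⟨-, y3, y5, -⟩ := dy
    obtain ⟨-, z3, z5, z7, z11, z23⟩ := dz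
    rcases hex with ⟨rfl, rfl⟩ | ⟨rfl, rfl, rfl⟩ | ⟨rfl, rfl, rfl⟩ | ⟨rfl, rfl, h7⟩
    · have := x2 rfl
      have := y3 rfl
      rcases mr with rfl | rfl | rfl | rfl | rfl | rfl
      · omega
      · have := z3 rfl; omega
      · have := z5 rfl; omega
      · have := z7 rfl; omega
      · have := z11 rfl; omega
      · have := z23 rfl; omega
    · have := x2 rfl
      have := y5 rfl
      have := z5 rfl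
      omega
    · have := x2 rfl
      have := y5 rfl
      have := z7 rfl
      omega
    · have := x3 rfl
      have := y3 rfl
      rcases mr with rfl | rfl | rfl | rfl | rfl | rfl
      · omega
      · have := z3 rfl; omega
      · have := z5 rfl; omega
      · have := z7 rfl; omega
      · omega
      · omega
  · intro hex
    obtain ⟨e, he, rfl, rfl, rfl⟩ := data_cover p mp q mq r mr hpq hqr hp2 hex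
    exact sound (List.all_eq_true.1 data_chk e he)

end Cfsg.Agent.S5529
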