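import Cfsg.Statements.S5533
import Cfsg.Agent.Lib.MonSC.Four
import Cfsg.Agent.Lib.YM.Nodes
import Cfsg.Agent.Lib.MonSC.Iso

set_option autoImplicit false
open Cfsg

namespace Cfsg.Agent.S5533

/-- The Monster (realised inside the presented Bimonster) has a Klein four-subgroup E whose normalizer N has a normal subgroup K containing E such that K/E is isomorphic to the twisted group ²E₆(2) (realised over the field with four elements, as in the definitions), N/K is isomorphic to the symmetric group of degree 3, and E has no complement in K. -/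
theorem result : ∃ (E N : Subgroup Cfsg.Spor.Monster) (K : Subgroup ↥N), IsKleinFour ↥E ∧ N = Subgroup.normalizer (E : Set Cfsg.Spor.Monster) ∧ E.subgroupOf N ≤ K ∧ (∃ (F : Type) (_ : Field F) (_ : Fintype F), Fintype.card F = 4 ∧ ∃ _ : ((E.subgroupOf N).subgroupOf K).Normal, Nonempty (↥K ⧸ (E.subgroupOf N).subgroupOf K ≃* ↥(Cfsg.Lie.twistedE6 F 2))) ∧ (∃ _ : K.Normal, Nonempty (↥N ⧸ K ≃* Equiv.Perm (Fin 3))) ∧ ∀ L : Subgroup ↥K, ¬ ((E.subgroupOf N).subgroupOf K).IsComplement' L := by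
  obtain ⟨e⟩ := H95.Gr.iso
  obtain ⟨u, h1, h2⟩ := H77.YM.exists_nodes
  have hZ : Subgroup.center H95.Gr.GG = ⊥ :=
    (H95.Gr.simple_GG.eq_bot_or_eq_top_of_normal _ inferInstance).resolve_right fun h => by
      obtain ⟨c, hc⟩ := isConj_iff.1 (H95.Gr.ix_t0.mul_of_inQ (H95.Gr.inQ_z.2 H95.Gr.t0_mem))
      rw [← Subgroup.mem_center_iff.1 (h.ge (Subgroup.mem_top c)), mul_inv_cancel_right] at hc
      exact H95.Gr.iz_z.ne_one (by simpa using hc)
  obtain ⟨y, c, s, p, k1, k2, c1, c2⟩ := H18.YG.Nd.four ⟨H18.YG.sat_xs hZ h1, h2⟩ e.symm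
  obtain ⟨ψ, a, b⟩ := H18.YG.exists_psi s p k2
  obtain ⟨E, N, K, a1, a2, a3, a4, a5⟩ := H18.YG.four_shape p (H18.YG.o_f1 (H18.YG.sat553 s))
    (H18.YG.o_f2 (H18.YG.sat553 s)) c1 c2 k1 ψ a b (H18.YG.perfect_fF s)
  exact ⟨E, N, K, a1, a2, a3, ⟨H30.F4, inferInstance, inferInstance, rfl, a4⟩, a5⟩

end Cfsg.Agent.S5533
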