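import Cfsg.Statements.S5538
import Cfsg.Agent.Lib.MSub.HN
import Cfsg.Agent.Lib.MonSC.Iso

set_option autoImplicit false
open Cfsg

namespace Cfsg.Agent.S5538

/-- The Monster (realised inside the presented Bimonster) has a subgroup isomorphic to the Harada–Norton sporadic group (the finitely presented group of the definitions). -/
theorem result : ∃ H : Subgroup Cfsg.Spor.Monster, Cfsg.Spor.IsoHN ↥H := by
  obtain ⟨e⟩ := H95.Gr.iso
  obtain ⟨-, -, L, -, -, -, -, -, ⟨i⟩⟩ := H39.MS.exists_HN
  exact ⟨_, ⟨(e.symm.subgroupMap L).symm.trans i⟩⟩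

end Cfsg.Agent.S5538
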