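import Cfsg.Statements.S5581
import Cfsg.Agent.Lib.J4N.P23
import Cfsg.Agent.Lib.J4N.M22
import Cfsg.Agent.Lib.J4N.U3

set_option autoImplicit false
open Cfsg

namespace Cfsg.Agent.S5581

/-- Let G be a finite non-abelian simple group of Janko-four type (Janko's involution-centralizer conditions; such a group is the fourth Janko group). Then G has maximal subgroups of each of the following kinds: one with a normal subgroup of index 2 isomorphic to U₃(11); one isomorphic to the automorphism group of M₂₂; one with a normal subgroup of index 5 isomorphic to L₂(32); one isomorphic to PGL₂(23); and one isomorphic to U₃(3). -/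
theorem result {G : Type*} [Group G] [Finite G] [IsSimpleGroup G] (hG : ¬ IsMulCommutative G) (hJ : Cfsg.IsOfJankoFourType G) :
    (∃ M : Subgroup G, IsCoatom M ∧ ∃ (K : Subgroup ↥M) (F : Type) (_ : Field F) (_ : Fintype F),
        Fintype.card F = 121 ∧ K.Normal ∧ K.index = 2 ∧ Nonempty (↥K ≃* Cfsg.PSU 3 F 11)) ∧
    (∃ M : Subgroup G, IsCoatom M ∧ Nonempty (↥M ≃* MulAut ↥Cfsg.Spor.M22)) ∧
    (∃ M : Subgroup G, IsCoatom M ∧ ∃ (K : Subgroup ↥M) (F : Type) (_ : Field F) (_ : Fintype F),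
        Fintype.card F = 32 ∧ K.Normal ∧ K.index = 5 ∧ Nonempty (↥K ≃* Matrix.ProjectiveSpecialLinearGroup (Fin 2) F)) ∧
    (∃ M : Subgroup G, IsCoatom M ∧ Nonempty (↥M ≃* GL (Fin 2) (ZMod 23) ⧸ Subgroup.center (GL (Fin 2) (ZMod 23)))) ∧
    (∃ M : Subgroup G, IsCoatom M ∧ ∃ (F : Type) (_ : Field F) (_ : Fintype F), Fintype.card F = 9 ∧ Nonempty (↥M ≃* Cfsg.PSU 3 F 3)) := by
  obtain ⟨e⟩ := H66.J4.equiv_J4 hJ
  have t : ∀ (M : Subgroup Cfsg.Spor.J4) (K : Subgroup M) (n : ℕ), K.Normal → K.index = n →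
      ∃ K' : Subgroup (M.map e.toMonoidHom), K'.Normal ∧ K'.index = n ∧ Nonempty (K' ≃* K) := fun M K n a b =>
    ⟨K.map (e.subgroupMap M).toMonoidHom, a.map _ (e.subgroupMap M).surjective,
      (Subgroup.index_map_equiv K (e.subgroupMap M)).trans b, ⟨((e.subgroupMap M).subgroupMap K).symm⟩⟩
  obtain ⟨M1, c1, K1, F1, _, _, a1, n1, i1, ⟨f1⟩⟩ := H74.J4N.max_u11
  obtain ⟨M2, c2, ⟨f2⟩⟩ := H74.J4N.max_m22
  obtain ⟨M3, c3, K3, F3, _, _, a3, n3, i3, ⟨f3⟩⟩ := H74.J4N.max_l32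
  obtain ⟨M4, c4, ⟨f4⟩⟩ := H74.J4N.max_pgl
  obtain ⟨M5, c5, F5, _, _, a5, ⟨f5⟩⟩ := H74.J4N.max_u33
  obtain ⟨L1, m1, j1, ⟨g1⟩⟩ := t M1 K1 2 n1 i1
  obtain ⟨L3, m3, j3, ⟨g3⟩⟩ := t M3 K3 5 n3 i3
  exact ⟨⟨_, H74.J4M.coatom_map e c1, L1, F1, _, _, a1, m1, j1, ⟨g1.trans f1⟩⟩,
    ⟨_, H74.J4M.coatom_map e c2, ⟨(e.subgroupMap M2).symm.trans f2⟩⟩,
    ⟨_, H74.J4M.coatom_map e c3, L3, F3, _, _, a3, m3, j3, ⟨g3.trans f3⟩⟩,
    ⟨_, H74.J4M.coatom_map e c4, ⟨(e.subgroupMap M4).symm.trans f4⟩⟩,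
    ⟨_, H74.J4M.coatom_map e c5, F5, _, _, a5, ⟨(e.subgroupMap M5).symm.trans f5⟩⟩⟩

end Cfsg.Agent.S5581
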