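import Cfsg.Statements.S5586
import Mathlib
import Cfsg.Agent.Lib.MAg.Am
import Cfsg.Agent.Lib.MAg.YP
import Cfsg.Agent.S1705

set_option autoImplicit false
open Cfsg

namespace Cfsg.Agent.S5586

/-- The Monster is the only group generated by three subgroups C, N, L of the following kind: the largest normal 2-subgroup of C is extraspecial of order 2^25 of plus type, contains its centralizer in C, and has quotient C modulo it isomorphic to the first Conway group; N modulo its largest normal 2-subgroup is isomorphic to the direct product of the symmetric group of degree 3 and M₂₄; L modulo its largest normal 2-subgroup is the direct product of a normal subgroup isomorphic to L₃(2) and a normal subgroup B of order 2160 having a normal subgroup T of order 3 with B/T the symmetric group of degree 6, with T centralized by a subgroup of index 2 of B and with the commutator subgroup of B perfect of order 1080 (the triple cover of the alternating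 group of degree 6 extended by an automorphism); and the indices [N : N ∩ C] = 3, [L : L ∩ N] = [L : L ∩ C] = 7 and [L : L ∩ N ∩ C] = 21. -/
theorem result {G : Type*} [Group G] (C N L : Subgroup G) (hgen : C ⊔ N ⊔ L = ⊤)
    (hQ : Cfsg.IsExtraspecial 2 ↥((Cfsg.pCore 2 ↥C).map C.subtype)) (hQc : Nat.card ↥((Cfsg.pCore 2 ↥C).map C.subtype) = 2 ^ 25)
    (hplus : ∃ E : Subgroup G, E ≤ ((Cfsg.pCore 2 ↥C).map C.subtype) ∧ Cfsg.IsElementaryAbelian 2 E ∧ Nat.card ↥E = 2 ^ 13)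
    (hcc : C ⊓ Subgroup.centralizer (((Cfsg.pCore 2 ↥C).map C.subtype) : Set G) ≤ ((Cfsg.pCore 2 ↥C).map C.subtype))
    (hCo : Cfsg.Spor.IsoCo1 (↥C ⧸ Cfsg.pCore 2 ↥C))
    (hN : Nonempty (↥N ⧸ Cfsg.pCore 2 ↥N ≃* Equiv.Perm (Fin 3) × ↥Cfsg.M24))
    (hL : ∃ A B : Subgroup (↥L ⧸ Cfsg.pCore 2 ↥L), A.Normal ∧ B.Normal ∧ A ⊓ B = ⊥ ∧ A ⊔ B = ⊤ ∧
      Nonempty (↥A ≃* Matrix.SpecialLinearGroup (Fin 3) (ZMod 2)) ∧ Nat.card ↥B = 2160 ∧
      ∃ (T : Subgroup ↥B) (_ : T.Normal), Nat.card ↥T = 3 ∧ Nonempty (↥B ⧸ T ≃* Equiv.Perm (Fin 6)) ∧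
        (Subgroup.centralizer (T : Set ↥B)).index = 2 ∧ Nat.card ↥(commutator ↥B) = 1080 ∧
        ⁅commutator ↥B, commutator ↥B⁆ = commutator ↥B)
    (hNC : C.relIndex N = 3) (hLN : N.relIndex L = 7) (hLC : C.relIndex L = 7) (hLNC : (N ⊓ C).relIndex L = 21) :
    Cfsg.Spor.IsoM G := by
  open Subgroup H95 H95.Ag in
  obtain ⟨z, hz⟩ := exists_ES hQ
  obtain ⟨e⟩ := hCo
  have nm : ∀ c ∈ C, ∀ x ∈ (pCore 2 C).map C.subtype, c * x * c⁻¹ ∈ (pCore 2 C).map C.subtype := by
    rintro c hc _ ⟨x, hx, rfl⟩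
    exact ⟨_, (pCore_normal 2 C).conj_mem x hx ⟨c, hc⟩, rfl⟩
  have cz : ∀ c ∈ C, c * z = z * c := fun c hc =>
    mem_cent_iff.1 (hz.normalizer_le (le_normalizer_of_conj nm hc))
  obtain ⟨cls, M⟩ := exists_monC (φ := e.toMonoidHom.comp (QuotientGroup.mk' _)) hz (map_subtype_le _) cz
    (fun g hg h => hz.nondeg g (hcc ⟨hg, mem_centralizer_iff.2 h⟩) fun y hy => (h y hy).symm) nm hQc
    (e.surjective.comp (QuotientGroup.mk'_surjective _)) fun c => by
      simp only [MonoidHom.comp_apply, MulEquiv.coe_toMonoidHom, map_eq_one_iff _ e.injective,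
        QuotientGroup.mk'_apply, QuotientGroup.eq_one_iff]
      exact (mem_map_iff_mem C.subtype_injective).symm
  have : Finite C := Nat.finite_of_card_ne_zero (by rw [M.card_C, H16.card_sCo1]; norm_num)
  have : Finite N := finite_of_relIndex (C := C) (by rw [hNC]; norm_num)
  have : Finite L := finite_of_relIndex (C := C) (by rw [hLC]; norm_num)
  obtain ⟨π, p1, p2⟩ := exists_pi hN
  obtain ⟨A, B, hA, hB, h1, h2, h3, h4, -⟩ := hL
  obtain ⟨ρ, r1, r2⟩ := exists_rho hA hB h1 h2 h3 h4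
  have S : Sit z C N L π ρ := ⟨hz.ne_one, hz.sq, cz, inferInstance, p1, p2, r1, r2, hNC, hLN, hLC, hLNC⟩
  obtain ⟨w, φ, cls, D⟩ := exists_loc M S
  have hw := D.ne64 D.cw (H16.sqNorm_e8 _)
  obtain ⟨n, hn, c, hc, c', hc', n', hn', k1, k2, k3⟩ := S.geo hw.2 hw.1 D.ww D.zw D.orb D.cen
  obtain ⟨ψ, q1, v, s, x, q2, q3, q4, q5, q6⟩ := H77.YM.AY.psi_am (D.am hn hc hc' hn' k1 k2 k3)
  obtain ⟨d, hd, m, hm, -, -, f⟩ := D.ex64 q2 q3
  have top := S.gen hgen q1 (D.inN hd hm f q4) (fun h => by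
    have h' := mul_mem (mul_mem hd h) (inv_mem hd)
    rw [show d * (d⁻¹ * x * d) * d⁻¹ = x by group] at h'
    rw [cz x h', mul_inv_cancel_right, left_eq_mul] at q5
    exact (D.ne64 q2 q3).1 q5) (mul_mem (mul_mem (inv_mem (q1 hd)) q6) (q1 hd))
  have := Cfsg.Agent.S1705.result.1
  have inj : Function.Injective ψ := by
    refine (MonoidHom.ker_eq_bot_iff ψ).1 ((MonoidHom.normal_ker ψ).eq_bot_or_eq_top.resolve_right fun h => ?_)
    obtain ⟨y, hy⟩ := top.ge (mem_top z)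
    exact hz.ne_one (hy.symm.trans (h.ge (mem_top y)))
  exact ⟨(MulEquiv.ofBijective ψ ⟨inj, MonoidHom.range_eq_top.1 top⟩).symm⟩

end Cfsg.Agent.S5586
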