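import Cfsg.Statements.S5587
import Cfsg.Agent.Lib.B43.Fin
import Cfsg.Agent.Lib.B43.Gen
import Cfsg.Agent.Lib.B43.ExB

set_option autoImplicit false
open Cfsg

namespace Cfsg.Agent.S5587

open H95.B4 H95.Gr Module

section

variable {F n G H : Type*} [Field F] [Fintype n] [DecidableEq n] [Group G] [Group H] (e : G ≃* H)

/-- the representation of an isomorphic group attached to a matrix representation -/
noncomputable def rep (ρ : G →* GL n F) : Representation F H (n → F) :=
  (Matrix.toLinAlgEquiv' (R := F) (n := n)).toMonoidHom.comp ((Units.coeHom _).comp (ρ.comp e.symm.toMonoidHom))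

theorem rep_apply (ρ : G →* GL n F) (g : H) (v : n → F) :
    rep e ρ g v = (ρ (e.symm g) : Matrix n n F).mulVec v := rfl

theorem rep_ne {ρ : G →* GL n F} (h : Function.Injective ρ) {z : H} (hz : z ≠ 1) : rep e ρ z ≠ 1 :=
  fun k => hz (e.symm.injective (h (Units.ext (by
    rw [map_one, map_one]
    exact (Matrix.toLinAlgEquiv' (R := F) (n := n)).injective (k.trans (map_one _).symm)))))

theorem conj_of {ρ ρ' : G →* GL n F} {Φ : (n → F) →ₗ[F] n → F} (inj : Function.Injective Φ)
    (hΦ : ∀ g v, Φ (rep e ρ g v) = rep e ρ' g (Φ v)) : ∃ P : GL n F, ∀ g, ρ' g = P * ρ g * P⁻¹ := by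
  obtain ⟨P, hP⟩ : IsUnit (LinearMap.toMatrix' Φ) :=
    ((Module.End.isUnit_iff Φ).2 ⟨inj, LinearMap.injective_iff_surjective.1 inj⟩).map
      (LinearMap.toMatrixAlgEquiv' (R := F) (n := n))
  refine ⟨P, fun g => eq_mul_inv_iff_mul_eq.2 (Units.ext (Matrix.toLin'.injective
    (LinearMap.ext fun v => ?_)))⟩
  have := hΦ (e g) v
  rw [rep_apply, rep_apply, e.symm_apply_apply] at this
  rw [Units.val_mul, Units.val_mul, Matrix.toLin'_mul, Matrix.toLin'_mul, hP, Matrix.toLin'_toMatrix',
    LinearMap.comp_apply, LinearMap.comp_apply, Matrix.toLin'_apply, Matrix.toLin'_apply, this]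

end

theorem irr {F G V : Type*} [Field F] [Group G] [AddCommGroup V] [Module F V] [FiniteDimensional F V]
    (h2 : (2 : F) ≠ 0) {ρ : Representation F G V} {z : G} (zz : z * z = 1) (n : ρ z ≠ 1) {W : Submodule F V}
    (inv : ∀ g, W ≤ W.comap (ρ g)) (a1 : finrank F W < finrank F V → ρ.subrepresentation W inv z = 1)
    (a2 : finrank F (V ⧸ W) < finrank F V → ρ.quotient W inv z = 1) : W = ⊥ ∨ W = ⊤ := by
  by_contra! k
  have d := W.finrank_quotient_add_finrank
  have d2 : finrank F W ≠ 0 := fun e => k.1 (Submodule.finrank_eq_zero.1 e)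
  refine n (LinearMap.ext fun v => ?_)
  have b1 : ρ z v - v ∈ W :=
    (Submodule.Quotient.eq W).1 (LinearMap.congr_fun (a2 (by omega)) (Submodule.Quotient.mk v))
  have b2 : ρ z (ρ z v - v) = ρ z v - v :=
    congrArg Subtype.val (LinearMap.congr_fun (a1 (Submodule.finrank_lt k.2)) ⟨_, b1⟩)
  rw [map_sub, ← rep_mul, zz, map_one, Module.End.one_apply] at b2
  have b3 : (2 : F) • (ρ z v - v) = 0 := by
    rw [two_smul]
    nth_rewrite 1 [← b2]
    abel
  exact sub_eq_zero.1 ((smul_eq_zero.1 b3).resolve_left h2)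

/-- Over any field F whose characteristic is not 2, the Baby Monster (the finitely presented group of the definitions) has a faithful linear representation of degree 4371; every such representation is irreducible over F, and any two are equivalent. -/
theorem result (F : Type*) [Field F] (hF : ringChar F ≠ 2) :
    (∃ ρ : Cfsg.Spor.BabyMonster →* GL (Fin 4371) F, Function.Injective ρ) ∧
    ∀ ρ : Cfsg.Spor.BabyMonster →* GL (Fin 4371) F, Function.Injective ρ →
      (∀ W : Submodule F (Fin 4371 → F), (∀ g : Cfsg.Spor.BabyMonster, ∀ v ∈ W, (ρ g : Matrix (Fin 4371) (Fin 4371) F).mulVec v ∈ W) → W = ⊥ ∨ W = ⊤) ∧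
      ∀ ρ' : Cfsg.Spor.BabyMonster →* GL (Fin 4371) F, Function.Injective ρ' →
        ∃ P : GL (Fin 4371) F, ∀ g : Cfsg.Spor.BabyMonster, ρ' g = P * ρ g * P⁻¹ := by
  have h2 : (2 : F) ≠ 0 := Ring.two_ne_zero hF
  obtain ⟨e⟩ := H18.YB.iso
  obtain ⟨z, s, σ, x, Q, Q', φ, cls, B, gen⟩ := exists_bs
  have z1 := B.p.h.ne_one
  have hd : finrank F (Fin 4371 → F) = 4371 := by simp
  refine ⟨H95.B4X.exists_rep4371 F, fun ρ hρ => ⟨fun W hW => ?_, fun ρ' hρ' => ?_⟩⟩
  · refine irr h2 B.p.h.sq (rep_ne e hρ z1) (fun g v hv => Submodule.mem_comap.2 ?_) (fun d => ?_) fun d => ?_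
    · rw [rep_apply]
      exact hW _ v hv
    all_goals
      rw [hd] at d
      exact by_contra fun k => absurd (B.finrank_eq h2 d.le k) d.ne
  · obtain ⟨Φ, inj, hΦ⟩ := B.exists_iso h2 gen hd.le hd.le (rep_ne e hρ z1) (rep_ne e hρ' z1)
    exact conj_of e inj hΦ

theorem eqns : True := by
  have := @rep.eq_1.{0, 0, 0, 0}
  trivial

end Cfsg.Agent.S5587
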