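import Cfsg.Statements.S5590
import Cfsg.Agent.Lib.B59.Top
import Cfsg.Agent.Lib.B43.Gen
import Cfsg.Agent.Lib.YB.Iso

set_option autoImplicit false
open Cfsg

namespace Cfsg.Agent.S5590

open H95.B4 H95.B9 H95.Gr Module

section

variable {F n G H : Type*} [Field F] [Fintype n] [DecidableEq n] [Group G] [Group H] (e : G ≃* H)

/-- the representation of an isomorphic group attached to a matrix representation -/
noncomputable def rep (ρ : G →* GL n F) : Representation F H (n → F) :=
  (Matrix.toLinAlgEquiv' (R := F) (n := n)).toMonoidHom.comp ((Units.coeHom _).comp (ρ.comp e.symm.toMonoidHom))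

theorem rep_apply (ρ : G →* GL n F) (g : H) (v : n → F) :
    rep e ρ g v = (ρ (e.symm g) : Matrix n n F).mulVec v := rfl

theorem rep_ne {ρ : G →* GL n F} (h : Function.Injective ρ) {z : H} (hz : z ≠ 1) : rep e ρ z ≠ 1 :=
  fun k => hz (e.symm.injective (h (Units.ext (by
    rw [map_one, map_one]
    exact (Matrix.toLinAlgEquiv' (R := F) (n := n)).injective (k.trans (map_one _).symm)))))

end

theorem compl {E G : Type*} [Group E] [Group G] {π : E →* G} {ψ : G →* E} (h : Function.Bijective (π.comp ψ)) :
    π.ker.IsComplement' ψ.range := by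
  refine Subgroup.isComplement'_of_disjoint_and_mul_eq_univ (Subgroup.disjoint_def.2 ?_)
    (Set.eq_univ_of_forall fun x => ?_)
  · rintro _ a ⟨g, rfl⟩
    rw [(injective_iff_map_eq_one _).1 h.1 g a, map_one]
  · obtain ⟨g, k⟩ := h.2 (π x)
    exact ⟨x * (ψ g)⁻¹, by simpa [mul_inv_eq_one] using k.symm, ψ g, ⟨g, rfl⟩, inv_mul_cancel_right _ _⟩

/-- Let F be a field of characteristic neither 2 nor 3 and ρ a faithful linear representation of the Baby Monster of degree 4371 over F. Then every extension of the Baby Monster by the corresponding module splits: if E is a group with an abelian normal subgroup A, an identification of E/A with the Baby Monster, and an additive identification of A with F^4371 under which conjugation by g ∈ E acts as ρ of the image of g, then A has a complement in E. -/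
theorem result (F : Type*) [Field F] (hF2 : ringChar F ≠ 2) (hF3 : ringChar F ≠ 3) (ρ : Cfsg.Spor.BabyMonster →* GL (Fin 4371) F) (hρ : Function.Injective ρ)
    (E : Type*) [Group E] (A : Subgroup E) [A.Normal] (e : E ⧸ A ≃* Cfsg.Spor.BabyMonster)
    (φ : Additive ↥A ≃+ (Fin 4371 → F))
    (hφ : ∀ (g : E) (a b : ↥A), (b : E) = g * a * g⁻¹ → φ (Additive.ofMul b) =
      (ρ (e (QuotientGroup.mk g)) : Matrix (Fin 4371) (Fin 4371) F).mulVec (φ (Additive.ofMul a))) :
    ∃ K : Subgroup E, A.IsComplement' K := by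
  have h2 : (2 : F) ≠ 0 := Ring.two_ne_zero hF2
  have h3 : (3 : F) ≠ 0 := fun k =>
    hF3 (CharP.ringChar_of_prime_eq_zero Nat.prime_three (by exact_mod_cast k))
  obtain ⟨i⟩ := H18.YB.iso
  obtain ⟨z, s, σ, x, Q, Q', θ, cls, B, -⟩ := exists_bs
  have : Finite BM := Nat.finite_of_card_ne_zero (by rw [card_BM]; norm_num)
  have := simple_BM
  let π : E →* BM := i.toMonoidHom.comp (e.toMonoidHom.comp (QuotientGroup.mk' A))
  have k : ∀ g, π g = 1 ↔ g ∈ A := fun g => by
    simp only [π, MonoidHom.comp_apply, MulEquiv.coe_toMonoidHom, EmbeddingLike.map_eq_one_iff,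
      QuotientGroup.mk'_apply, QuotientGroup.eq_one_iff]
  have X : Xt π (rep i ρ) fun v => (Additive.toMul (φ.symm v) : A) := by
    refine ⟨i.surjective.comp (e.surjective.comp (QuotientGroup.mk'_surjective A)), fun v w => by simp,
      fun v w h => φ.symm.injective (Additive.toMul.injective (Subtype.ext h)), fun g => (k g).trans
        ⟨fun h => ⟨φ (Additive.ofMul ⟨g, h⟩), by simp⟩, fun ⟨v, h⟩ => h ▸ Subtype.coe_prop _⟩, fun g v => ?_⟩
    have := hφ g (Additive.toMul (φ.symm v)) ⟨_, ‹A.Normal›.conj_mem _ (Additive.toMul (φ.symm v)).2 g⟩ rfl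
    rw [ofMul_toMul, φ.apply_symm_apply] at this
    rw [rep_apply, show i.symm (π g) = e (QuotientGroup.mk g) from i.symm_apply_apply _, ← this,
      φ.symm_apply_apply, toMul_ofMul]
  obtain ⟨ψ, g, hg⟩ := exists_lift h2 h3 X B (by simp) (rep_ne i hρ B.p.h.ne_one)
  have inj : Function.Injective (π.comp (ψ.comp i.symm.toMonoidHom)) := by
    rw [← MonoidHom.ker_eq_bot_iff]
    refine (Subgroup.Normal.eq_bot_or_eq_top inferInstance).resolve_right fun t => hg ?_
    simpa using (MonoidHom.mem_ker.1 (t ▸ Subgroup.mem_top (i g)) : π.comp (ψ.comp i.symm.toMonoidHom) (i g) = 1)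
  exact ⟨_, (show π.ker = A from Subgroup.ext k) ▸ compl (Finite.injective_iff_bijective.1 inj)⟩

theorem eqns : True := by
  have := @rep.eq_1.{0, 0, 0, 0}
  trivial

end Cfsg.Agent.S5590
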