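import Mathlib
import Cfsg.Statements.S5594
import Cfsg.Agent.Lib.Leech.Mat

set_option autoImplicit false
set_option exponentiation.threshold 700
open Cfsg

namespace Cfsg.Agent.S5594

open H16

/-- an element whose square is the negation -/
def sqP : ℕ := 0x1000100010001000100010001000100010001000100010001000100018001000100010001000100010001000100010001000100010001000100010001000100010000800100010001000100010001000100010001000100010001000100010001000100010001000100010001000100010001000100018001000100010001000100010001000100010001000100010001000100010001000100010001000100010001000100010001000100010001000180010001000100010001000100010001000100010001000100010001000100010001000100010001000100010001800100010001000100010001000100010001000100010001000100010001000100010001000100010001000080010001000100010001000100010001000100010001000100010001000100010001000100010001000100010001800100010001000100010001000100010001000100010001000100010001000100010001000100018001000100010001000100010001000100010001000100010001000100010001000100010001000100010001000080010001000100010001000100010001000100010001000100010001000100010001000180010001000100010001000100010001000100010001000100010001000100010001000100010001000100010001000100010001000100010001000100010001000100010001000100010001000100010001000080010001000100010001000100008001000100010001000100010001000100010001000100010001000100010001000100010001000100010001000100010001000100010000800100010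001000100010001000100010001000100010001000100010001000100010001000100010001000100018001000100010001000100010001000100010001000100010001000100010001000100010000800100010001000100010001000100010001000100010001000100010001000100010001000100010001000100010001000100010001000080010001000100010001000100010001000100010001000100010001000100010001000100010001000100010000800100010001000100010001000100010001000100010001000100010001000100010001000100010001000100010001000100010001000100010001000100010001000100010001000100010000800100010001000100010001000100010001000100010001000100010001000100010001000100010001000100018001000100010001000100010001000100010001000100010001000100010001000180010001000100010001000100010001000100010001000100010001000100010001000100010001000100010001000100010001000100010001000100010001000100010001800100010001000100010001000100010001000100010001000100010001000100010001000100010001000100008001000100010001000100010001000100010001000100010001000100010001000100010001000100010001000100010001000100018001000100010001000100010001000100010001000100010001000100010001000100010001000100010001000080010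

theorem sq_ok : okM sqP = true ∧ mulM sqP sqP = negM := by decide +kernel

theorem sq_eq : el sqP * el sqP = negCo0 :=
  (sq_ok.2 ▸ (isM_el sq_ok.1).mul (isM_el sq_ok.1)).eq_el isM_neg

/-- The automorphism group of the Leech lattice contains the negation map, and the subgroup of order 2 it generates has no complement: the automorphism group is a non-split extension of its quotient by that subgroup (it is not the direct product of a group of order 2 with the first Conway group). -/
theorem result :
    ∃ n : ↥Cfsg.Co0, (∀ v : ↥Cfsg.leechLattice, ((n • v : ↥Cfsg.leechLattice) : Cfsg.GolayPt → ℤ) = -(v : Cfsg.GolayPt → ℤ)) ∧
    ∀ K : Subgroup ↥Cfsg.Co0, ¬ (Subgroup.zpowers n).IsComplement' K := by
  refine ⟨negCo0, fun v => by rw [negCo0_smul]; rfl, fun K hK => ?_⟩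
  have h1 : K.index = 2 := by
    rw [hK.index_eq_card, Nat.card_zpowers]
    exact orderOf_eq_prime (by rw [pow_two]; exact negCo0_mul_self) negCo0_ne_one
  have h2 := Subgroup.mul_self_mem_of_index_two h1 (el sqP)
  rw [sq_eq] at h2
  exact negCo0_ne_one (Subgroup.disjoint_def.1 hK.disjoint (Subgroup.mem_zpowers _) h2)

end Cfsg.Agent.S5594
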