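import Cfsg.Statements.S5619
import Mathlib
import Cfsg.Agent.Lib.M24Geom.Struct

set_option autoImplicit false
open scoped Pointwise
open Cfsg

namespace Cfsg.Agent.S5619

open H15 H55.Golay H96.Geo

set_option maxRecDepth 100000
noncomputable def ch_6 : H54.Chain := .nil
noncomputable def ch_t5 : H54.Tr :=
 (.node 14 (.leaf 0x2210804000c40010050d88020000410400012400c0040018244010c00000e000100000015)
 (.node 20 (.leaf 0x2010080210470002a1298023000040002004010a08041248006100400001400020000000e)
 (.leaf 0x15000000000015)))
noncomputable def ch_5 : H54.Chain := .cons 21 0x304000 ch_t5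
  [0xbd9d52b1449d20859cd288ded48820]
  [] ch_6
noncomputable def ch_t4 : H54.Tr :=
 (.node 11 (.leaf 0x200880210c74000852184400000410080012002000c0012244208000000b000101000016)
 (.node 22 (.leaf 0x16000000000016)
 (.leaf 0x2210804000c40010050d88020000410400012400c0040018244010c000018000000000000)))
noncomputable def ch_4 : H54.Chain := .cons 22 0x400800 ch_t4
  [0xbd9d52b1449d20859cd288ded48820, 0xbadd4290ec7d510b292d88e7230820]
  [[24]] ch_5
noncomputable def ch_t3 : H54.Tr :=
 (.node 17 (.node 10 (.node 5 (.leaf 0x8428044401081008421080001048201041840080212240350ac00005000200000014)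
 (.node 7 (.leaf 0x1088028880420021290440000001048001240a800452080032100000007000501000013)
 (.leaf 0x8000108400008521042a800040000204011a080c4042205249c00000a000300000016)))
 (.node 14 (.node 11 (.leaf 0x880000c64010050104480c004000220120000800020a201208040000b000601000015)
 (.leaf 0x210c84010c04000202808438c0000048001250a80001000041358ec0000e000301000016))
 (.node 15 (.leaf 0x201008029040000084098423800040000001040a08001058041211c00000f000201000011)
 (.leaf 0x200404008c642002100844b800000008004251280040012a432514000011000100000017))))
 (.node 21 (.node 19 (.leaf 0x210084018c2021001280c48000001002005210240005208245208000001300040100000a)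
 (.node 20 (.leaf 0x2010004200064010202c800118004100a00504100000005a800011a200014000101000017)
 (.leaf 0x2000004208030200a0090c420c00410480042012c00850100002486c00015000500000013)))
 (.node 23 (.node 22 (.leaf 0x2100802004242122120082b80000104a0040100000c524a0011414000016000200000011)
 (.leaf 0x17000000000017))
 (.node 24 (.leaf 0x200404008c642002100844b800000008004251280040012a432514000018000000000000)
 (.leaf 0x2010004200064010202c800118004100a00504100000005a800011a200019000000000000)))))
noncomputable def ch_3 : H54.Chain := .cons 23 0xfacca0 ch_t3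
  [0x8a9e5ab6d074cc83dc695929260820, 0xa397638de88dcd2acd8d2c14448820]
  [[19, 25, 20, 24, 10, 5], [25, 21, 25, 15, 25, 24, 24, 5]] ch_4
noncomputable def ch_t2 : H54.Tr :=
 (.node 9 (.node 4 (.node 2 (.leaf 0x2000000000002)
 (.node 3 (.leaf 0x201088401004021224290c208000400400010418c00c40488413414000003000301000009)
 (.leaf 0x210800218040210842d80491c004000000504180004525a0032482600004000201000008)))
 (.node 6 (.leaf 0x201088021844401004258441080040040000000000001018204049ac00006000101000002)
 (.node 8 (.leaf 0x2200080218420210252884000000410480050410080c1000a45300c000008000100000002)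
 (.leaf 0x2000084010844200800108288000410080052002000400100030510000009000200000008))))
 (.node 16 (.node 12 (.leaf 0x20008840008042102120880b8000400400040102c8000058803159000000c000201000006)
 (.node 13 (.leaf 0x2010000218c30200252d8c03000040048001040240081208044200000000d000300000009)
 (.leaf 0x2010084088440200a0288c23080041008201000240044050040049a40001000040100000d)))
 (.node 18 (.leaf 0x200804200824010042500018c00010002042402800c1208a45140a400012000300000004)
 (.node 24 (.leaf 0x2200080218420210252884000000410480050410080c1000a45300c000018000000000000)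
 (.leaf 0x201088021844401004258441080040040000000000001018204049ac00019000000000000)))))
noncomputable def ch_2 : H54.Chain := .cons 2 340828 ch_t2
  [0x5de6f2c0eca5444559a9899d21a020, 0xa4d51588ad3de0873c64ab2c991820]
  [[25, 3, 24, 18, 3, 4, 3], [4, 25, 25, 25, 6]] ch_3
noncomputable def ch_t1 : H54.Tr :=
 (.node 8 (.node 3 (.node 1 (.leaf 0x1000000000001)
 (.node 2 (.leaf 0x210084210000210800c08691800400080010402080802180450504600002000301000012)
 (.leaf 0x2000000008c74210002104208400410402000412400840582443412400003000300000012)))
 (.node 4 (.leaf 0x2010080010c44000252804201c0041048005200808041042807310840000400050000000d)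
 (.node 6 (.leaf 0xc80000000202a02088488c00400082040408080c0240207018a60000600030000000c)
 (.leaf 0x210c8421004001004280029940001048005250a800800100431418200008000400000003))))
 (.node 13 (.node 9 (.leaf 0x2010000000c64000802908099400400080010400480002008410518200009000100000001)
 (.node 12 (.leaf 0x1048420007420000080c2b94000000a00104020008501a801051240000c000201000009)
 (.leaf 0x210c0400806000201248860940040008001040800040208245041080000d000401000002)))
 (.node 18 (.node 16 (.leaf 0x20080001842001001098c60100040040004000800041200243208a200010000401000003)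
 (.leaf 0x210804280044200a4248c008800410002052400080842080402512800012000200000009))
 (.node 24 (.leaf 0x2010000000c64000802908099400400080010400480002008410518200018000000000000)
 (.leaf 0x2000802884640100104846014000100800521100000120aa022416200019000000000000)))))
noncomputable def ch_1 : H54.Chain := .cons 1 340830 ch_t1
  [0x5d2f588cad3b886b2a419c1ec40920, 0x73d45a08e19d872bc586aa16483520]
  [[3, 6, 18, 24, 12, 8], [24, 25, 25, 8, 25, 25, 25, 13]] ch_2
noncomputable def ch_t0 : H54.Tr :=
 (.node 8 (.node 2 (.node 0 (.leaf 0)
 (.node 1 (.leaf 0x10000290444200242880221840000000010510880410520473110400001000300000004)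
 (.leaf 0x22108040104742128000884b98c041042200250a88044250a07148640000200040100000d)))
 (.node 4 (.node 3 (.leaf 0x108840980402100528842a0c804000a205250808000008a052084400003000401000006)
 (.leaf 0x22008802908000028121046300c0410400010102c80c0210a451582400004000200000008))
 (.node 6 (.leaf 0x21008001005020280010060946000008000000a800400508071190880006000301000004)
 (.leaf 0x2000880200860210212c040218c041040200001208045058000249a800008000101000000))))
 (.node 13 (.node 9 (.leaf 0x221008408805001080098421002040042001240ac000101a0402104480009000201000008)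
 (.node 12 (.leaf 0x22000842104000108521840000f040048000041a80081208047048200000c000300000009)
 (.leaf 0x84210020010052d040198a000048001240a80000058204201240000d000301000009)))
 (.node 18 (.node 16 (.leaf 0x2104842104440008404080198200000a0040002000c4018242151a40001000040000000d)
 (.leaf 0x200000210c5420085008c0200a041002004240a000c12120052002600012000401000001))
 (.node 24 (.leaf 0x842184200100024040a0c0001048004000a4008020a007249a400018000000000000)
 (.leaf 0x2000880200860210212c040218c041040200001208045058000249a800019000000000000)))))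
noncomputable def ch_0 : H54.Chain := .cons 0 340831 ch_t0
  [0x9d2ab289c9b1e038dd84549e1434c0, 0x73d77882b09d8443a9a928e860b248]
  [[6, 2, 2, 25, 8, 18, 6], [24, 25, 3, 12, 4, 0, 2]] ch_1
noncomputable def ch : H54.Chain := ch_0

theorem ch_low0 : H54.checkLow cfg24 ch_0 = true := by decide +kernel
theorem ch_low : H54.checkLow cfg24 ch = true := ch_low0
theorem ch_size : ch.size cfg24.n = 95040 := by decide +kernel

noncomputable def chN_2 : H54.Chain := .nil
noncomputable def chN_t1 : H54.Tr :=
 (.node 14 (.leaf 0x2210804000c40010050d88020000410400012400c0040018244010c00000e000100000015)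
 (.node 20 (.leaf 0x2010080210470002a1298023000040002004010a08041248006100400001400020000000e)
 (.leaf 0x15000000000015)))
noncomputable def chN_1 : H54.Chain := .cons 21 0x304000 chN_t1
  [0xbd9d52b1449d20859cd288ded48820]
  [] chN_2
noncomputable def chN_t0 : H54.Tr :=
 (.node 22 (.node 11 (.leaf 0x2100802180402100528842b840000048005051808084012a45341680000b000101000017)
 (.leaf 0x2108802008642100504846000000104800425008004520a8052180000016000100000017))
 (.node 23 (.leaf 0x17000000000017)
 (.leaf 0x2100802180402100528842b840000048005051808084012a453416800019000000000000)))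
noncomputable def chN_0 : H54.Chain := .cons 23 0xc00800 chN_t0
  [0xb2eb42b4e99b870bc584521e690820, 0x5ddd59a4e87d186b4483534b280820]
  [[23, 25, 22, 23]] chN_1
noncomputable def chN : H54.Chain := chN_0

theorem chN_low0 : H54.checkLow cfg24 chN_0 = true := by decide +kernel
theorem chN_low : H54.checkLow cfg24 chN = true := chN_low0
theorem chN_up0 : H54.checkUp cfg24 chN_0 = true := by decide +kernel
theorem chN_up : H54.checkUp cfg24 chN = true := chN_up0
theorem chN_size : chN.size cfg24.n = 9 := by decide +kernel


/-- the stabiliser of the dodecad of squares and of three of its points -/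
abbrev G0 : Subgroup (Equiv.Perm GolayPt) := Spor.M12 ⊓ St (pt 0) ⊓ St (pt 1) ⊓ St (pt 2)

theorem gG : H54.Good cfg24 pt ch_3 G0 :=
  (good_chain (ch := ch) gensM12_good ch_low card_M12 ch_size).1.2.2.2.2.2.2.2.2.2

theorem card_G0 : Nat.card G0 = 72 := (gG.card X24 K24).trans (by decide +kernel)

theorem eG : H54.grp (Equiv.Perm GolayPt) cfg24 pt ch_3.gens = G0 :=
  (gG.base_change' X24 (by decide +kernel) (by decide +kernel) (by decide +kernel)).2

/-- the normal subgroup of order 9 -/
noncomputable def N0 : Subgroup (Equiv.Perm GolayPt) :=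
  H54.grp (Equiv.Perm GolayPt) cfg24 pt chN.gens

theorem gN : H54.Good cfg24 pt chN N0 := good_full (by decide +kernel) chN_low chN_up

theorem N0_le : N0 ≤ G0 :=
  H54.grp_le (K24 ▸ bot_le) (gG.all_in X24 (by decide +kernel))

theorem N0_norm : G0 ≤ Subgroup.normalizer (N0 : Set (Equiv.Perm GolayPt)) :=
  eG ▸ le_normalizer_of_chk X24 K24 (valid24 (by decide +kernel)) gN (valid24 (by decide +kernel))
    rfl (by decide +kernel)

/-- codes of a quaternion subgroup -/
def qc : QuaternionGroup 2 → ℕ
  | .a i => [984818244535754528103549039458486304, 438228640608320839931147656307705888, 944293816565412651426207388111472672, 719748774308089385568610015441717280].getD i.val 0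
  | .xa i => [648154481660236051385864952584734752, 609744425604512129277147896769742880, 809399594410595785774724965859756064, 891385682027558266148352467872712736].getD i.val 0

theorem exists_q : ∃ f : QuaternionGroup 2 →* G0, Function.Injective f := by
  have h1 : ∀ a, okP (qc a) = true := by decide +kernel
  have h2 : ∀ a b, mulP (qc a) (qc b) = qc (a * b) := by decide +kernel
  have h3 : ∀ a, H54.memb cfg24 ch_3 (qc a) = true := by decide +kernel
  refine ⟨(homOfCodes qc h1 h2).codRestrict _ fun a => (good_of_memb gG (h3 a)).2, ?_⟩
  exact (MonoidHom.injective_codRestrict _ _ _).2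
    (homOfCodes_injective qc h1 h2 (by decide +kernel))

theorem main {G : Type*} [Group G] [Finite G] (hc : Nat.card G = 72) (N : Subgroup G)
    (hn : N.Normal) (hN : Nat.card N = 9) (h3 : ∀ x ∈ N, x ^ 3 = 1) (f : QuaternionGroup 2 →* G)
    (hf : Function.Injective f) :
    (∀ Q : Sylow 3 G, (Q : Subgroup G).Normal ∧ Nat.card Q = 9 ∧ ∀ x ∈ (Q : Subgroup G), x ^ 3 = 1) ∧
      ∀ P : Sylow 2 G, Nonempty (P ≃* QuaternionGroup 2) := by
  haveI : Fact (Nat.Prime 3) := ⟨by norm_num⟩
  have f3 : (72 : ℕ).factorization 3 = 2 := by
    rw [show (72 : ℕ) = 3 ^ 2 * 8 from rfl, Nat.factorization_mul (by norm_num) (by norm_num),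
      Finsupp.add_apply, Nat.Prime.factorization_pow (by norm_num), Finsupp.single_eq_same,
      Nat.factorization_eq_zero_of_not_dvd (by norm_num)]
  have f2 : (72 : ℕ).factorization 2 = 3 := by
    rw [show (72 : ℕ) = 2 ^ 3 * 9 from rfl, Nat.factorization_mul (by norm_num) (by norm_num),
      Finsupp.add_apply, Nat.Prime.factorization_pow (by norm_num), Finsupp.single_eq_same,
      Nat.factorization_eq_zero_of_not_dvd (by norm_num)]
  refine ⟨fun Q => ?_, fun P => ?_⟩
  · let Q0 : Sylow 3 G := Sylow.ofCard N (by rw [hN, hc, f3]; rfl)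
    haveI := Sylow.unique_of_normal Q0 hn
    rw [Subsingleton.elim Q Q0]
    exact ⟨hn, hN, h3⟩
  · let P0 : Sylow 2 G := Sylow.ofCard f.range (by
      rw [← Nat.card_congr (MonoidHom.ofInjective hf).toEquiv, hc, f2, Nat.card_eq_fintype_card,
        QuaternionGroup.card]; rfl)
    exact ⟨(P.equiv P0).trans (MonoidHom.ofInjective hf).symm⟩

theorem eqns : True := by
  have := @qc.eq_def
  trivial

/-- In the group of the length-24 code, the subgroup fixing a dodecad setwise and three of its points individually (a group of order 72) has a normal Sylow 3-subgroup that is elementary abelian of order 9, and its Sylow 2-subgroups are quaternion of order 8. -/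
theorem result (d : Finset Cfsg.GolayPt) (hd : d ∈ Cfsg.dodecads) (p q r : Cfsg.GolayPt) (hp : p ∈ d) (hq : q ∈ d) (hr : r ∈ d) (hpq : p ≠ q) (hpr : p ≠ r) (hqr : q ≠ r) : (∀ Q : Sylow 3 ↥(MulAction.stabilizer Cfsg.M24 d ⊓ MulAction.stabilizer Cfsg.M24 p ⊓ MulAction.stabilizer Cfsg.M24 q ⊓ MulAction.stabilizer Cfsg.M24 r), (Q : Subgroup ↥(MulAction.stabilizer Cfsg.M24 d ⊓ MulAction.stabilizer Cfsg.M24 p ⊓ MulAction.stabilizer Cfsg.M24 q ⊓ MulAction.stabilizer Cfsg.M24 r)).Normal ∧ Nat.card ↥Q = 9 ∧ ∀ x ∈ (Q : Subgroup ↥(MulAction.stabilizer Cfsg.M24 d ⊓ MulAction.stabilizer Cfsg.M24 p ⊓ MulAction.stabilizer Cfsg.M24 q ⊓ MulAction.stabilizer Cfsg.M24 r)), x ^ 3 = 1) ∧ ∀ P : Sylow 2 ↥(MulAction.stabilizer Cfsg.M24 d ⊓ MulAction.stabilizer Cfsg.M24 p ⊓ MulAction.stabilizer Cfsg.M24 q ⊓ MulAction.stabilizer Cfsg.M24 r), Nonempty (↥P ≃* QuaternionGroup 2) := by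
  obtain ⟨k, hk, e0, e1, e2, e3⟩ := M24_trans_dodecad_pt3 hd squareDodecad_mem hp hq hr
    (p' := pt 0) (q' := pt 1) (r' := pt 2) (by rw [squareDodecad_eq]; decide +kernel)
    (by rw [squareDodecad_eq]; decide +kernel) (by rw [squareDodecad_eq]; decide +kernel)
    hpq hpr hqr (by decide) (by decide) (by decide)
  let e : ↥(MulAction.stabilizer Cfsg.M24 d ⊓ MulAction.stabilizer Cfsg.M24 p ⊓
      MulAction.stabilizer Cfsg.M24 q ⊓ MulAction.stabilizer Cfsg.M24 r) ≃* G0 :=
    (subEquiv (K := St d ⊓ St p ⊓ St q ⊓ St r) fun x => Iff.rfl).trans (conjEquiv k fun x => by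
      simp only [G0, M12_eq, Subgroup.mem_inf, conj_mem_iff_of_mem hk, conj_mem_St_iff e0,
        conj_mem_St_iff (show k • p = pt 0 from e1), conj_mem_St_iff (show k • q = pt 1 from e2),
        conj_mem_St_iff (show k • r = pt 2 from e3), and_assoc])
  obtain ⟨f, hf⟩ := exists_q
  have := normal_subgroupOf_of_le N0_norm
  refine main ((Nat.card_congr e.toEquiv).trans card_G0) ((N0.subgroupOf _).comap e.toMonoidHom)
    inferInstance ?_ (fun x hx => ?_) (e.symm.toMonoidHom.comp f) (e.symm.injective.comp hf)
  · rw [Subgroup.comap_equiv_eq_map_symm', Subgroup.card_map_of_injective e.symm.injective,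
      Nat.card_congr (Subgroup.subgroupOfEquivOfLe N0_le).toEquiv, gN.card X24 K24, chN_size]
  · apply e.injective
    rw [map_pow, map_one]
    exact Subtype.ext (mul_self_of_elts gN (by decide +kernel) _ hx)

end Cfsg.Agent.S5619
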