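import Cfsg.Statements.S5727
import Mathlib
import Cfsg.Agent.S5726

set_option autoImplicit false
open Cfsg

namespace Cfsg.Agent.S5727


/-- If a finite group acts faithfully and transitively on a set with m·p elements, where p is a prime and 1 ≤ m ≤ p, then some element of order p fixes no point. -/
theorem result {G Ω : Type*} [Group G] [Finite G] [MulAction G Ω] [FaithfulSMul G Ω] [Fintype Ω] (htr : MulAction.IsPretransitive G Ω)
    (p m : ℕ) (hp : p.Prime) (hm : 1 ≤ m) (hmp : m ≤ p) (hΩ : Fintype.card Ω = m * p) :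
    ∃ g : G, orderOf g = p ∧ ∀ ω : Ω, g • ω ≠ ω := by
  classical
  rcases hmp.eq_or_lt with rfl | hlt
  · exact Cfsg.Agent.S5726.result htr m 2 hp (by norm_num) (by rw [hΩ, pow_two])
  have : Fact p.Prime := ⟨hp⟩
  obtain ⟨P⟩ : Nonempty (Sylow p G) := inferInstance
  have hpos : 0 < Fintype.card Ω := by rw [hΩ]; exact Nat.mul_pos hm hp.pos
  obtain ⟨ω₀⟩ : Nonempty Ω := Fintype.card_pos_iff.1 hpos
  have hidx : ∀ ω : Ω, (MulAction.stabilizer (P : Subgroup G) ω).index = p := by
    intro ω
    have h := Cfsg.Agent.S5726.pow_dvd_index_stabilizer htr p 1 (by rw [hΩ, pow_one]; exact Dvd.intro_left _ rfl) P ω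
    obtain ⟨j, hj⟩ := P.isPGroup'.index (MulAction.stabilizer (P : Subgroup G) ω)
    have hle : (MulAction.stabilizer (P : Subgroup G) ω).index ≤ m * p := by
      rw [MulAction.index_stabilizer, ← hΩ, ← Nat.card_eq_fintype_card, ← Set.ncard_univ]
      exact Set.ncard_le_ncard (Set.subset_univ _)
    rw [hj] at h hle ⊢
    have hj1 : 1 ≤ j := (Nat.pow_dvd_pow_iff_le_right hp.one_lt).1 h
    have hj2 : j < 2 := by
      by_contra hj2
      have : p ^ 2 ≤ p ^ j := Nat.pow_le_pow_right hp.pos (by omega)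
      have h3 : m * p < p * p := Nat.mul_lt_mul_of_pos_right hlt hp.pos
      nlinarith
    have : j = 1 := by omega
    rw [this, pow_one]
  have hnorm : ∀ ω : Ω, (MulAction.stabilizer (P : Subgroup G) ω).Normal := by
    intro ω
    apply Subgroup.normal_of_index_eq_minFac_card
    obtain ⟨j, hj⟩ := P.isPGroup'.exists_card_eq
    have hd := (MulAction.stabilizer (P : Subgroup G) ω).index_dvd_card
    rw [hidx] at hd ⊢
    rw [hj] at hd ⊢
    have hj0 : j ≠ 0 := by
      rintro rfl
      rw [pow_zero] at hd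
      exact hp.one_lt.ne' (Nat.eq_one_of_dvd_one hd)
    rw [hp.pow_minFac hj0]
  -- number of orbits
  let Q := MulAction.orbitRel.Quotient (P : Subgroup G) Ω
  have hQ : Fintype.card Q * p = m * p := by
    have e := MulAction.selfEquivSigmaOrbitsQuotientStabilizer (P : Subgroup G) Ω
    have h1 := Nat.card_congr e
    rw [Nat.card_sigma, Nat.card_eq_fintype_card, hΩ] at h1
    rw [h1]
    have : ∀ a : Q, Nat.card ((P : Subgroup G) ⧸ MulAction.stabilizer (P : Subgroup G) (Quotient.out a)) = p :=
      fun a => hidx _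
    simp only [this, Finset.sum_const, Finset.card_univ, smul_eq_mul]
    rfl
  have hQm : Fintype.card Q = m := Nat.eq_of_mul_eq_mul_right hp.pos hQ
  have hex : ∃ g : (P : Subgroup G), ∀ a : Q, g ∉ MulAction.stabilizer (P : Subgroup G) (Quotient.out a) := by
    by_contra hcon
    push Not at hcon
    have hcov := open Pointwise in show ⋃ a ∈ (Finset.univ : Finset Q), (1 : (P : Subgroup G)) •
        ((MulAction.stabilizer (P : Subgroup G) (Quotient.out a) : Subgroup (P : Subgroup G)) : Set (P : Subgroup G)) = Set.univ by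
      ext g
      simp only [Finset.mem_univ, Set.iUnion_true, Set.mem_iUnion, Set.mem_univ, iff_true]
      obtain ⟨a, ha⟩ := hcon g
      exact ⟨a, g, ha, one_mul g⟩
    obtain ⟨a, -, -, ha⟩ := Subgroup.exists_index_le_card_of_leftCoset_cover hcov
    rw [hidx, Finset.card_univ, hQm] at ha
    omega
  obtain ⟨g, hg⟩ := hex
  have hg' : ∀ ω : Ω, g ∉ MulAction.stabilizer (P : Subgroup G) ω := by
    intro ω hω
    let a : Q := Quotient.mk _ ω
    have hrel : (MulAction.orbitRel (P : Subgroup G) Ω) (Quotient.out a) ω := Quotient.mk_out ω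
    obtain ⟨y, hy⟩ := MulAction.orbitRel_apply.1 hrel
    apply hg a
    have h1 := (hnorm ω).conj_mem g hω y
    rw [MulAction.mem_stabilizer_iff] at h1 ⊢
    have h2 := (hnorm ω).conj_mem g hω y⁻¹
    rw [← hy]
    simp only
    rw [MulAction.mem_stabilizer_iff] at h2
    calc g • y • ω = y • ((y⁻¹ * g * y⁻¹⁻¹) • ω) := by
          rw [inv_inv, mul_smul, mul_smul, smul_inv_smul]
      _ = y • ω := by rw [h2]
  have hgp : (g : G) ^ p = 1 := by
    apply FaithfulSMul.eq_of_smul_eq_smul (α := Ω)
    intro ω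
    have := hnorm ω
    have h1 := (MulAction.stabilizer (P : Subgroup G) ω).pow_index_mem g
    rw [hidx, MulAction.mem_stabilizer_iff] at h1
    rw [one_smul]
    exact h1
  refine ⟨g, ?_, fun ω hω => hg' ω hω⟩
  apply orderOf_eq_prime hgp
  intro h1
  apply hg' ω₀
  rw [MulAction.mem_stabilizer_iff, Subgroup.smul_def, h1, one_smul]

end Cfsg.Agent.S5727
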