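import Cfsg.Statements.S5728
import Mathlib


set_option autoImplicit false
open Cfsg

namespace Cfsg.Agent.S5728


/-- An elusive transitive action. Let p = 2^s − 1 be a prime and let F be the field with p² elements. Inside the group of affine maps x ↦ a·x + b of F (a ≠ 0), consider the subgroup of maps with both coefficients in the prime field. Then every element of prime order of the affine group is conjugate, within the affine group, to an element of that subgroup; equivalently, in the transitive action of the affine group on the cosets of that subgroup (of degree p(p + 1)) every element of prime order fixes a point. -/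
theorem result (p s : ℕ) [Fact p.Prime] (hs : p = 2 ^ s - 1)
    (g : Equiv.Perm (GaloisField p 2)) (hg : g ∈ Cfsg.affineGroup (GaloisField p 2)) (hord : (orderOf g).Prime) :
    ∃ x ∈ Cfsg.affineGroup (GaloisField p 2), ∃ a b : ZMod p, a ≠ 0 ∧
      ∀ y : GaloisField p 2, (x * g * x⁻¹) y = algebraMap (ZMod p) (GaloisField p 2) a * y + algebraMap (ZMod p) (GaloisField p 2) b := by
  have hp : p.Prime := Fact.out
  obtain ⟨a, b, hab⟩ := hg
  have := Fintype.ofFinite (GaloisField p 2)
  by_cases ha : (a : GaloisField p 2) = 1
  · -- translation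
    have hb : b ≠ 0 := by
      rintro rfl
      have : g = 1 := by ext y; simp [hab, ha]
      rw [this, orderOf_one] at hord
      exact Nat.not_prime_one hord
    let x : Equiv.Perm (GaloisField p 2) := Equiv.mulLeft₀ b⁻¹ (inv_ne_zero hb)
    refine ⟨x, ⟨Units.mk0 b⁻¹ (inv_ne_zero hb), 0, fun y => by simp [x]⟩, 1, 1, one_ne_zero, fun y => ?_⟩
    have hx : x⁻¹ y = b * y := by
      rw [Equiv.Perm.inv_def, Equiv.symm_apply_eq]
      simp [x, hb]
    simp only [Equiv.Perm.coe_mul, Function.comp_apply, hx, hab, ha, map_one, one_mul]
    simp [x, mul_add, hb]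
  · let c : GaloisField p 2 := b / (1 - a)
    have h1 : (1 : GaloisField p 2) - a ≠ 0 := sub_ne_zero.2 (Ne.symm ha)
    let x : Equiv.Perm (GaloisField p 2) := Equiv.subRight c
    have hx : ∀ y, x⁻¹ y = y + c := by
      intro y
      rw [Equiv.Perm.inv_def, Equiv.symm_apply_eq]
      simp [x]
    have hconj : ∀ y, (x * g * x⁻¹) y = a * y := by
      intro y
      simp only [Equiv.Perm.coe_mul, Function.comp_apply, hx, hab]
      simp only [x, Equiv.subRight_apply, c]
      field_simp
      ring
    have hpow : ∀ (k : ℕ) y, ((x * g * x⁻¹) ^ k) y = (a : GaloisField p 2) ^ k * y := by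
      intro k
      induction k with
      | zero => simp
      | succ k ih => intro y; rw [pow_succ, Equiv.Perm.mul_apply, ih, hconj, pow_succ, mul_assoc]
    set r := orderOf g with hr
    have har : (a : GaloisField p 2) ^ r = 1 := by
      have h2 := hpow r 1
      rw [conj_pow, hr, pow_orderOf_eq_one] at h2
      simpa using h2.symm
    have : Fact r.Prime := ⟨hord⟩
    have hoa : orderOf (a : GaloisField p 2) = r := orderOf_eq_prime har ha
    have hcard : Fintype.card (GaloisField p 2) = p ^ 2 := by
      rw [← Nat.card_eq_fintype_card, GaloisField.card p 2 (by norm_num)]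
    have hdvd : r ∣ p ^ 2 - 1 := by
      rw [← hoa, ← hcard]
      exact orderOf_dvd_of_pow_eq_one (FiniteField.pow_card_sub_one_eq_one _ a.ne_zero)
    have hs0 : 1 ≤ 2 ^ s := Nat.one_le_two_pow
    have hp1 : p + 1 = 2 ^ s := by omega
    have hdvd' : r ∣ p - 1 := by
      have e : p ^ 2 - 1 = (p + 1) * (p - 1) := by
        have := Nat.sq_sub_sq p 1
        simpa using this
      rw [e] at hdvd
      rcases (Nat.Prime.dvd_mul hord).1 hdvd with h | h
      · rw [hp1] at h
        have h2 : r = 2 := (Nat.prime_dvd_prime_iff_eq hord Nat.prime_two).1 (hord.dvd_of_dvd_pow h)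
        rw [h2] at h ⊢
        have := hp.pos
        omega
      · exact h
    have hap : (a : GaloisField p 2) ^ p = a := by
      obtain ⟨k, hk⟩ := hdvd'
      have : p = r * k + 1 := by have := hp.pos; omega
      calc (a : GaloisField p 2) ^ p = a ^ (r * k + 1) := congrArg _ this
        _ = a := by rw [pow_succ, pow_mul, har, one_pow, one_mul]
    have hmem : (a : GaloisField p 2) ∈ (⊥ : Subfield (GaloisField p 2)) :=
      (Subfield.mem_bot_iff_pow_eq_self _ p).2 hap
    obtain ⟨k, hk⟩ := (mem_bot_iff_intCast p _).1 hmem
    refine ⟨x, ⟨1, -c, fun y => by simp [x, sub_eq_add_neg]⟩, (k : ZMod p), 0, ?_, fun y => ?_⟩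
    · intro h0
      apply a.ne_zero
      rw [← hk, ← map_intCast (algebraMap (ZMod p) (GaloisField p 2)), h0, map_zero]
    · rw [hconj, map_intCast, hk, map_zero, add_zero]

end Cfsg.Agent.S5728
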