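import Mathlib
import Cfsg.Statements.S5732
import Cfsg.Agent.Lib.Drg.Fin
import Cfsg.Agent.S3549

set_option autoImplicit false
open Cfsg

namespace Cfsg.Agent.S5732

/-- There is a bound N such that for every finite group G acting faithfully and transitively on a set with n ≥ N points, either G is primitive and a Frobenius permutation group (Frobenius as a permutation group: transitive, some non-identity element fixes a point, and no non-identity element fixes two points), or the subgroup generated by the derangements of G has index at most √n − 1 in G. -/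
theorem result : ∃ N : ℕ, ∀ (G Ω : Type*) [Group G] [Finite G] [MulAction G Ω] [FaithfulSMul G Ω] [Fintype Ω],
      MulAction.IsPretransitive G Ω → N ≤ Fintype.card Ω →
      (MulAction.IsPreprimitive G Ω ∧ (MulAction.IsPretransitive G Ω ∧ (∃ g : G, g ≠ 1 ∧ ∃ ω : Ω, g • ω = ω) ∧ ∀ g : G, g ≠ 1 → Nat.card (MulAction.fixedBy Ω g) ≤ 1)) ∨
      ((Subgroup.closure {g : G | ∀ ω : Ω, g • ω ≠ ω}).index : ℝ) ≤ Real.sqrt (Fintype.card Ω) - 1 := by
  refine ⟨4, fun G Ω _ _ _ _ _ htr hn => ?_⟩
  rw [← Nat.card_eq_fintype_card] at hn ⊢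
  by_cases hp : MulAction.IsPreprimitive G Ω
  · by_cases hN : H75.derSub G Ω = ⊤
    · right
      refine H38.Drg.real_bound ?_
      have h1 : (H75.derSub G Ω).index = 1 := Subgroup.index_eq_one.2 hN
      show ((H75.derSub G Ω).index + 1) ^ 2 ≤ _
      rw [h1]; exact hn
    · rcases H38.Drg.der_main htr (by omega) hN with h | ⟨S, _, _, _, h4⟩
      · exact Or.inr (H38.Drg.real_bound h)
      · left
        refine ⟨hp, htr, ?_, h4⟩
        obtain ⟨g, hg⟩ : ∃ g : G, g ∉ H75.derSub G Ω := by
          by_contra hc
          push Not at hc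
          exact hN (eq_top_iff.2 fun g _ => hc g)
        have h5 := (H75.derSub_main htr).2 g hg
        obtain ⟨ω⟩ := (Nat.card_eq_one_iff_unique.1 h5).2
        exact ⟨g, fun h => hg (h ▸ one_mem _), ω.1, ω.2⟩
  · exact Or.inr (Cfsg.Agent.S3549.result htr hp)

end Cfsg.Agent.S5732
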