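import Cfsg.Statements.S5736
import Cfsg.Agent.Lib.Binary.PSL2

set_option autoImplicit false
open Cfsg

namespace Cfsg.Agent.S5736

/-- Let F be a finite field with q ≥ 4 elements, q ≠ 5, let G = PSL₂(F) and let H be a proper subgroup of G. Then the action of G on the cosets of H is binary if and only if H is trivial, or q is a power of 2 and H is a Sylow 2-subgroup, or q = 2^a with a odd and H has order 3. Here an action is binary (relational complexity 2) when, for every n ≥ 2 and all n-tuples I, J of points, if for every pair of positions some group element carries the corresponding pair of entries of I to those of J, then a single group element carries I to J. -/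
theorem result {F : Type*} [Field F] [Fintype F] (h4 : 4 ≤ Fintype.card F) (h5 : Fintype.card F ≠ 5)
    (H : Subgroup (Matrix.ProjectiveSpecialLinearGroup (Fin 2) F)) (hH : H ≠ ⊤) :
    (∀ (n : ℕ) (I J : Fin n → Matrix.ProjectiveSpecialLinearGroup (Fin 2) F ⧸ H), 2 ≤ n →
        (∀ i j : Fin n, i ≠ j → ∃ g : Matrix.ProjectiveSpecialLinearGroup (Fin 2) F, g • I i = J i ∧ g • I j = J j) → ∃ g : Matrix.ProjectiveSpecialLinearGroup (Fin 2) F, ∀ i, g • I i = J i) ↔
      (H = ⊥ ∨ ((∃ a : ℕ, Fintype.card F = 2 ^ a) ∧ ∃ P : Sylow 2 (Matrix.ProjectiveSpecialLinearGroup (Fin 2) F), H = P) ∨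
        ((∃ a : ℕ, Odd a ∧ Fintype.card F = 2 ^ a) ∧ Nat.card H = 3)) := by
  change H41.BA.Bin _ _ ↔ _
  have c2 : (2 : F) = 0 → ∃ a : ℕ, Fintype.card F = 2 ^ a := fun h2 => by
    have : CharP F 2 := (CharP.charP_iff_prime_eq_zero Nat.prime_two).mpr h2
    obtain ⟨n, -, hn⟩ := FiniteField.card F 2
    exact ⟨n, hn⟩
  have c3 : ∀ {a : ℕ}, Fintype.card F = 2 ^ a → (2 : F) = 0 := fun {a} h =>
    H64.SL2.two_eq_zero_of_even (by
      rw [h]
      refine dvd_pow_self 2 ?_
      rintro rfl
      omega)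
  constructor
  · intro hB
    rcases Nat.even_or_odd (Nat.card H) with h | h
    · by_cases h2 : (2 : F) = 0
      · let e := (H64.SL2.projEquiv h2).symm
        exact Or.inr (Or.inl ⟨c2 h2, H41.BA.sylow_of_map e (H41.BA.sl2_of_bin h2
          (H41.BA.map_ne_top e hH) (by rwa [H41.BA.card_map_equiv]) (H41.BA.bin_map e hB))⟩)
      · have := H64.SL2.odd_card_of_two_ne_zero h2
        exact absurd hB (H41.BA.psl_even h2 (by omega) hH h)
    · rcases H41.BA.psl_odd h hB with h | ⟨h2, h3, hω⟩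
      · exact Or.inl h
      · obtain ⟨a, ha⟩ := c2 h2
        exact Or.inr (Or.inr ⟨⟨a, (H41.BA.no_root_iff ha h2).mp hω, ha⟩, h3⟩)
  · rintro (rfl | ⟨⟨a, ha⟩, P, rfl⟩ | ⟨⟨a, ho, ha⟩, h3⟩)
    · exact H41.BA.bin_bot
    · let e := (H64.SL2.projEquiv (c3 ha)).symm
      obtain ⟨Q, hQ⟩ := H41.BA.sylow_map e P
      rw [← H41.BA.bin_map_iff e, ← hQ]
      exact H41.BA.sl2_bin_sylow (c3 ha) Q
    · let e := (H64.SL2.projEquiv (c3 ha)).symm
      rw [← H41.BA.bin_map_iff e]
      exact H41.BA.sl2_bin_three (c3 ha) ((H41.BA.no_root_iff ha (c3 ha)).mpr ho)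
        (by rwa [H41.BA.card_map_equiv])

end Cfsg.Agent.S5736
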