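import Mathlib
import Cfsg.Statements.S5740
import Cfsg.Agent.Lib.H5.E2Mk
import Cfsg.Agent.Lib.H5.E2LocD

set_option autoImplicit false
open Cfsg

namespace Cfsg.Agent.S5740

/-- In the simple group ²E₆(2) (the twisted group of type E₆ over the field with 4 elements), for every prime p > 5 no p-local subgroup is maximal: the normaliser of a non-trivial p-subgroup is never a maximal subgroup. -/
theorem result {K : Type*} [Field K] [Fintype K] (hK : Fintype.card K = 4) (p : ℕ) (hp : p.Prime) (h5 : 5 < p)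
    (P : Subgroup (Cfsg.Lie.twistedE6 K 2)) (hP : IsPGroup p P) (hP1 : P ≠ ⊥) :
    ¬ IsCoatom (Subgroup.normalizer (P : Set (Cfsg.Lie.twistedE6 K 2))) := by
  obtain ⟨τ, h⟩ := H5.E2.exists_md hK
  have := h.finite
  have key : ∀ q : ℕ, q.Prime → p = q → ¬ q ^ 2 ∣ 76532479683774853939200 →
      (∃ g : Cfsg.Lie.twistedE6 K 2, orderOf g = q ∧
        ¬ IsCoatom (Subgroup.normalizer (Subgroup.zpowers g : Set (Cfsg.Lie.twistedE6 K 2)))) →
      ¬ IsCoatom (Subgroup.normalizer (P : Set (Cfsg.Lie.twistedE6 K 2))) := by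
    rintro q hq rfl h2 ⟨g, h3, h4⟩
    obtain ⟨c, hc⟩ := H5.E2.exists_map_eq_zpowers hq h3 (h.card ▸ h2) hP hP1
    exact H5.E2.not_coatom_of_map c (hc ▸ h4)
  have hd : p ∣ 76532479683774853939200 := by
    by_contra hd
    obtain ⟨k, k0, k1, -⟩ := H5.E2.card_cases (n := 0) hp hP hP1 (by rwa [h.card, zero_add, pow_one])
    omega
  have hm := H15.Mdl.prime_mem_of_dvd [2, 3, 5, 7, 11, 13, 17, 19] (K := 36) (by decide) (by norm_num) hp hd
  simp only [List.mem_cons, List.not_mem_nil, or_false] at hm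
  rcases hm with rfl | rfl | rfl | rfl | e | e | e | e
  · omega
  · omega
  · omega
  · obtain ⟨a, ra⟩ := h.ex H5.E2.qa_ok
    obtain ⟨b, rb⟩ := h.ex H5.E2.qb_ok
    obtain ⟨c1, c2, c3, c4, c5, c6⟩ := H5.E2.ab7
    have oa := h.snd.orderOf_eq ra c1 (by norm_num)
    have ob := h.snd.orderOf_eq rb c2 (by norm_num)
    have hab : Commute a b := (h.snd.comm_iff ra rb).1 c3
    have ha : a ^ 7 = 1 := oa ▸ pow_orderOf_eq_one a
    have hb : b ^ 7 = 1 := ob ▸ pow_orderOf_eq_one b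
    have r := H5.E2.RV_vec c4
    have hn : b ∉ Subgroup.zpowers a := fun k => c6 (((H5.E2.RV.act rb r).eq_iff r).1
      (H5.E2.fx_zpowers (((H5.E2.RV.act ra r).eq_iff r).2 c5) b k))
    have h3 : ¬ 7 ^ 3 ∣ Nat.card (Cfsg.Lie.twistedE6 K 2) := by rw [h.card]; norm_num
    obtain ⟨h1, h2⟩ := H5.E2.exists_map_le_two hp hab oa hb hn h3
    obtain ⟨c, hc⟩ := h2 P hP
    refine H5.E2.not_coatom_of_map c ?_
    have hP' := hP.map (MulAut.conj c).toMonoidHom
    have hP1' : P.map (MulAut.conj c).toMonoidHom ≠ ⊥ := fun e =>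
      hP1 ((Subgroup.map_eq_bot_iff_of_injective _ (MulAut.conj c).injective).1 e)
    generalize P.map (MulAut.conj c).toMonoidHom = Q at hc hP' hP1'
    obtain ⟨k, k0, k1, hk⟩ := H5.E2.card_cases hp hP' hP1' h3
    obtain rfl | rfl : k = 1 ∨ k = 2 := by omega
    · obtain ⟨x, x1, -, rfl⟩ := H5.E2.exists_zpowers_of_card hp (hk.trans (pow_one 7))
      obtain ⟨i, hi, j, hj, rfl⟩ := H5.E2.mem_two (by norm_num) ha hb (hc (Subgroup.mem_zpowers x))
      have k : ∀ u v t : ℕ, (u * t) % 7 = i → (v * t) % 7 = j →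
          Subgroup.zpowers (a ^ i * b ^ j) = Subgroup.zpowers (a ^ u * b ^ v) := fun u v t e1 e2 => by
        have e : (a ^ u * b ^ v) ^ t = a ^ i * b ^ j := by
          rw [(hab.pow_pow u v).mul_pow, ← pow_mul, ← pow_mul, ← e1, ← e2, ← oa, pow_mod_orderOf,
            oa, ← ob, pow_mod_orderOf]
        have : Fact (Nat.Prime 7) := ⟨hp⟩
        refine H5.E2.zpowers_eq_of_mem hp (orderOf_eq_prime ?_ fun e' => x1 ?_)
          (e ▸ Subgroup.npow_mem_zpowers _ t) x1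
        · rw [(hab.pow_pow u v).mul_pow, ← pow_mul, ← pow_mul, mul_comm u, mul_comm v, pow_mul, pow_mul,
            ha, hb, one_pow, one_pow, one_mul]
        · rw [← e, e', one_pow]
      obtain ⟨t, ht⟩ | ⟨v, hv, t, ht⟩ := (by decide : ∀ i, i < 7 → ∀ j, j < 7 →
        (∃ t : Fin 7, (0 * t.1) % 7 = i ∧ (1 * t.1) % 7 = j) ∨
        ∃ v, v < 7 ∧ ∃ t : Fin 7, (1 * t.1) % 7 = i ∧ (v * t.1) % 7 = j) i hi j hj
      · rw [k 0 1 t ht.1 ht.2]; exact H5.E2.loc7_7 h ra rb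
      · rw [k 1 v t ht.1 ht.2]
        interval_cases v
        exacts [H5.E2.loc7_0 h ra rb, H5.E2.loc7_1 h ra rb, H5.E2.loc7_2 h ra rb, H5.E2.loc7_3 h ra rb,
          H5.E2.loc7_4 h ra rb, H5.E2.loc7_5 h ra rb, H5.E2.loc7_6 h ra rb]
    · rw [Subgroup.eq_of_le_of_card_ge hc (h1.trans hk.symm).le]
      exact H5.E2.loc49 h ra rb hab ha hb
  · exact key 11 (by norm_num) e (by norm_num) (H5.E2.loc11 h)
  · exact key 13 (by norm_num) e (by norm_num) (H5.E2.loc13 h)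
  · exact key 17 (by norm_num) e (by norm_num) (H5.E2.loc17 h)
  · exact key 19 (by norm_num) e (by norm_num) (H5.E2.loc19 h)

end Cfsg.Agent.S5740
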