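import Mathlib
import Cfsg.Statements.S5742
import Cfsg.Agent.Lib.H5.E6Fi
import Cfsg.Agent.S1696
import Cfsg.Agent.S2079

set_option autoImplicit false
open Cfsg

namespace Cfsg.Agent.S5742

/-- The simple group ²E₆(2) (the twisted group of type E₆ over the field with 4 elements) contains at least three pairwise non-conjugate subgroups isomorphic to the Fischer group Fi₂₂. -/
theorem result {K : Type*} [Field K] [Fintype K] (hK : Fintype.card K = 4) :
    ∃ H : Fin 3 → Subgroup (Cfsg.Lie.twistedE6 K 2),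
      (∀ i, Cfsg.Spor.IsoFi22 (H i)) ∧
      (∀ i j, i ≠ j → ∀ g : (Cfsg.Lie.twistedE6 K 2), (H i).map (MulAut.conj g).toMonoidHom ≠ H j) := by
  obtain ⟨φ, h1, h2⟩ := H5.E6F.exists_hom hK
  have hs : IsSimpleGroup Cfsg.Spor.Fi22 := Cfsg.Agent.S1696.result.1
  have hφ : Function.Injective φ := by
    rw [← MonoidHom.ker_eq_bot_iff]
    exact (hs.eq_bot_or_eq_top_of_normal φ.ker inferInstance).resolve_right fun e =>
      h1 (MonoidHom.mem_ker.1 (e ▸ Subgroup.mem_top _))
  exact H5.E6T.three hK φ hφ Cfsg.Agent.S2079.result fun M hM => h2 M fun x _ => hM _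

end Cfsg.Agent.S5742
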