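import Mathlib
import Cfsg.Statements.S5744
import Cfsg.Agent.Lib.H5.E6Fi
import Cfsg.Agent.Lib.Cover.OmegaAux
import Cfsg.Agent.S1696
import Cfsg.Agent.S1686
import Cfsg.Agent.S2604

set_option autoImplicit false
open Cfsg

namespace Cfsg.Agent.S5744

/-- The simple group ²E₆(2) (the twisted group of type E₆ over the field with 4 elements) contains at least three pairwise non-conjugate subgroups isomorphic to the orthogonal group Ω₇(3) (the commutator subgroup of the isometry group of x₀² + x₁y₁ + x₂y₂ + x₃y₃ over the field with 3 elements). -/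
theorem result {K : Type*} [Field K] [Fintype K] (hK : Fintype.card K = 4) :
    ∃ H : Fin 3 → Subgroup (Cfsg.Lie.twistedE6 K 2),
      (∀ i, Nonempty ((H i) ≃* Cfsg.Omega (ZMod 3) (Cfsg.quadFormOdd 3 (ZMod 3)))) ∧
      (∀ i j, i ≠ j → ∀ g : (Cfsg.Lie.twistedE6 K 2), (H i).map (MulAut.conj g).toMonoidHom ≠ H j) := by
  obtain ⟨φ, h1, h2⟩ := H5.E6F.exists_hom hK
  have hs : IsSimpleGroup Cfsg.Spor.Fi22 := Cfsg.Agent.S1696.result.1
  have hφ : Function.Injective φ := by
    rw [← MonoidHom.ker_eq_bot_iff]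
    exact (hs.eq_bot_or_eq_top_of_normal φ.ker inferInstance).resolve_right fun e =>
      h1 (MonoidHom.mem_ker.1 (e ▸ Subgroup.mem_top _))
  obtain ⟨e⟩ := Cfsg.Agent.S1686.result
  obtain ⟨o⟩ := Cfsg.Agent.S2604.result (F := ZMod 3) (p := 3) (f := 1) (m := 3) le_rfl (by simp)
    (by norm_num) le_rfl
  obtain ⟨H, k1, k2⟩ := H5.E6T.three hK (φ.comp ((Subgroup.subtype _).comp e.symm.toMonoidHom))
    (hφ.comp (Subtype.val_injective.comp e.symm.injective))
    (by rw [Nat.card_congr o.toEquiv]; simp) fun M hM => h2 M fun x hx => by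
      have := hM (e ⟨PresentedGroup.of x, Subgroup.mem_map_of_mem _ (Subgroup.subset_closure (by
        cases x <;> simp at hx ⊢))⟩)
      simpa using this
  have hz := H19.Cov.center_omega_odd (F := ZMod 3) (by decide) (m := 3) (by norm_num)
  exact ⟨H, fun i => ⟨(k1 i).some.trans ((QuotientGroup.quotientMulEquivOfEq hz).trans
    QuotientGroup.quotientBot)⟩, k2⟩

end Cfsg.Agent.S5744
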