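import Mathlib
import Cfsg.Statements.S5748
import Cfsg.Agent.Lib.CIT.AC

set_option autoImplicit false
open Cfsg

namespace Cfsg.Agent.S5748


/-- A finite non-abelian simple group in which commuting is a transitive relation on the non-identity elements (equivalently, every non-identity element has abelian centraliser) is isomorphic to PSL₂ over a field with 2^f elements for some f ≥ 2; conversely these groups have that property. -/
theorem result {G : Type*} [Group G] [Finite G] [IsSimpleGroup G] (hG : ¬ IsMulCommutative G) :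
    (∀ a b c : G, a ≠ 1 → b ≠ 1 → c ≠ 1 → Commute a b → Commute b c → Commute a c) ↔
    ∃ (F : Type) (_ : Field F) (_ : Fintype F) (f : ℕ), 2 ≤ f ∧ Fintype.card F = 2 ^ f ∧ Nonempty (G ≃* Matrix.ProjectiveSpecialLinearGroup (Fin 2) F) := by
  have hna : ∃ a b : G, a * b ≠ b * a := by
    by_contra hc
    push Not at hc
    exact hG ⟨⟨hc⟩⟩
  constructor
  · intro h
    have h' : ∀ t x y : G, t ≠ 1 → x * t = t * x → y * t = t * y → x * y = y * x := by
      intro t x y ht hx hy
      by_cases x1 : x = 1
      · simp [x1]
      by_cases y1 : y = 1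
      · simp [y1]
      exact h x t y x1 ht y1 hx hy.symm
    have hA : H32.AC G := fun t x y ht => h' t x y (H9.ne_one_of_orderOf_two ht)
    obtain ⟨x, y, x1, y1, xy, xx, yy, c⟩ := H14.SuzSE.rank2_of_simple hna
    obtain ⟨a, ha⟩ := (H9.isPGroup_closure_pair_of_commute xx yy c).exists_le_sylow
    have ox := H9.orderOf_eq_two_of_mul_self x1 xx
    have he := H32.even_of_invol ox
    have hT : H32.TIC G := fun P z hz hz1 g hg => Subgroup.mem_sup_right
      (H69.mem_centralizer_iff_commute.2 fun w hw => h' z w g hz1 (hA.comm he (H32.le_Hs P hw) hz)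
        (Subgroup.mem_centralizer_singleton_iff.1 hg))
    obtain ⟨b, hab⟩ : ∃ b : Sylow 2 G, a ≠ b := by
      by_contra hc
      push Not at hc
      refine H32.not_normal_sylow hna a ?_
      rw [← Subgroup.normalizer_eq_top_iff, eq_top_iff]
      exact fun g _ => Sylow.smul_eq_iff_mem_normalizer.1 (hc _).symm
    exact hT.psl2 hA hab ox (H9.orderOf_eq_two_of_mul_self y1 yy)
      (ha (Subgroup.subset_closure (by simp))) (ha (Subgroup.subset_closure (by simp))) xy
  · rintro ⟨F, _, _, f, hf, hF, ⟨e⟩⟩ a b c - hb - h1 h2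
    have two : (2 : F) = 0 := H64.SL2.two_eq_zero_of_even (hF ▸ dvd_pow_self 2 (by omega))
    let φ := e.trans (H64.SL2.projEquiv two).symm
    refine φ.injective ?_
    rw [map_mul, map_mul]
    refine H64.SL2.commute_of_mem_centralizer (g := φ b) ?_
      (Subgroup.mem_centralizer_singleton_iff.2 (h1.map φ).eq)
      (Subgroup.mem_centralizer_singleton_iff.2 (h2.map φ).symm.eq)
    rw [H64.SL2.center_eq_bot_of_two_eq_zero two, Subgroup.mem_bot]
    simpa using hb

end Cfsg.Agent.S5748
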