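import Cfsg.Statements.S5769
import Cfsg.Agent.Lib.Chev.Spec
import Cfsg.Agent.S1064
import Cfsg.Agent.S2511
import Cfsg.Agent.Lib.MatConj.SpEig
import Cfsg.Agent.Lib.MatConj.PSLIrr

set_option autoImplicit false
open Cfsg

namespace Cfsg.Agent.S5769

open H37 H38 Cfsg.Lie

/-- Exponents of the root values of an element of order 13. -/
def eL : List ℤ := [3, 12, 12, 9, 7, 1, 3, 6, 4, 11, 0, 1, 8, 10, 6, 8, 2, 1, 8, 10, 6, 8, 2, 3, 5, 12, 10, 0, 2, 9, 7, 4, 4, 10, 4, 6, 2, 4, 11, 12, 1, 8, 6, 12, 1, 8, 6, 3, 9, 11, 5, 3, 0, 9, 11, 5, 3, 6, 8, 2, 4, 6, 11, 2, 7, 9, 11, 5, 7, 10, 8, 2, 4, 0, 10, 8, 2, 4, 10, 7, 5, 12, 1, 7, 5, 12, 1, 2, 9, 11, 7, 9, 3, 9, 9, 6, 4, 11, 0, 3, 1, 8, 10, 11, 5, 7, 3, 5, 12, 11, 5, 7, 3, 5, 12, 0, 2, 9, 7, 10, 12, 6, 4, 1, 1, 10]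

/-- Candidates for the images of the simple roots. -/
def cand : List (List ℕ) := [[24, 50, 55, 67, 80, 84, 104, 107, 110, 113], [4, 30, 64, 68, 79, 83, 90, 105, 111, 118], [10, 27, 52, 73, 98, 115], [4, 30, 64, 68, 79, 83, 90, 105, 111, 118], [3, 29, 48, 53, 65, 88, 91, 93, 94, 117], [5, 11, 17, 40, 44, 82, 86, 100, 123, 124], [8, 31, 32, 34, 37, 60, 72, 77, 96, 122]]

/-- The possible images of the simple roots, with the inverse of `w - 2` modulo five. -/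
def leaves : List (List ℕ × List (List ℤ)) := [([55, 105, 115, 30, 3, 100, 77], [[3, 2, 1, 2, 1, 2, 1], [1, 4, 2, 4, 4, 0, 0], [2, 0, 2, 2, 4, 0, 3], [3, 4, 0, 2, 2, 3, 2], [3, 4, 3, 3, 1, 2, 4], [0, 3, 1, 3, 2, 4, 0], [3, 0, 4, 1, 3, 3, 0]]), ([50, 111, 115, 30, 3, 100, 72], [[3, 3, 2, 0, 1, 2, 3], [1, 1, 4, 0, 4, 0, 4], [2, 2, 4, 3, 4, 0, 2], [3, 4, 0, 2, 2, 3, 2], [3, 2, 1, 2, 1, 2, 0], [0, 4, 2, 1, 2, 4, 2], [3, 4, 3, 3, 3, 3, 3]]), ([55, 79, 115, 68, 3, 100, 32], [[3, 2, 1, 2, 1, 2, 1], [3, 4, 4, 0, 4, 0, 1], [3, 0, 3, 0, 4, 0, 1], [2, 4, 4, 4, 2, 3, 4], [0, 4, 0, 4, 1, 2, 0], [0, 3, 1, 3, 2, 4, 0], [1, 0, 2, 0, 3, 3, 4]]), ([50, 83, 115, 68, 3, 100, 31], [[1, 1, 3, 3, 1, 2, 3], [0, 0, 2, 4, 4, 0, 4], [2, 2, 4, 3, 4, 0, 2], [4, 0, 2, 3, 2, 3, 2], [0, 4, 0, 4, 1, 2, 0], [3, 2, 3, 4, 2, 4, 2], [2, 3, 1, 2, 3, 3, 3]]), ([110, 105, 10, 90, 3, 100, 77], [[0, 3, 3, 2, 1, 2, 3], [0, 1,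 1, 4, 4, 0, 4], [2, 0, 2, 2, 4, 0, 3], [3, 4, 0, 2, 2, 3, 2], [4, 2, 4, 3, 1, 2, 0], [2, 4, 3, 3, 2, 4, 2], [1, 4, 2, 1, 3, 3, 3]]), ([104, 111, 10, 90, 3, 100, 72], [[4, 2, 4, 3, 1, 2, 1], [3, 4, 3, 1, 4, 0, 0], [3, 1, 1, 1, 4, 0, 0], [3, 4, 0, 2, 2, 3, 2], [1, 4, 2, 1, 1, 2, 4], [1, 3, 4, 4, 2, 4, 0], [2, 0, 1, 0, 3, 3, 0]]), ([110, 79, 10, 118, 3, 100, 32], [[4, 1, 2, 1, 1, 2, 3], [2, 0, 3, 1, 4, 0, 4], [4, 4, 4, 4, 4, 0, 3], [1, 0, 3, 0, 2, 3, 2], [0, 4, 0, 4, 1, 2, 0], [1, 2, 2, 2, 2, 4, 2], [3, 3, 4, 3, 3, 3, 3]]), ([104, 83, 10, 118, 3, 100, 31], [[4, 2, 4, 3, 1, 2, 1], [2, 4, 1, 4, 4, 0, 1], [4, 1, 3, 3, 4, 0, 4], [1, 4, 1, 3, 2, 3, 4], [0, 4, 0, 4, 1, 2, 0], [1, 3, 4, 4, 2, 4, 0], [3, 0, 3, 2, 3, 3, 4]])]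

/-- Backtracking over isometric images of the simple roots. -/
def dfs : ℕ → List ℕ → Bool
  | 0, s => leaves.any fun l => l.1 == s
  | k + 1, s => (cand.getD s.length []).all fun r =>
    (List.range s.length).any (fun i => chevE7.pairing (s.getD i 0) r !=
      chevE7.pairing (chevE7.simple i) (chevE7.simple s.length)) || dfs k (s ++ [r])

theorem dfs_ok : dfs 7 [] = true := by decide +kernel

theorem dfs_spec (f : ℕ → ℕ) (h1 : ∀ j < 7, f j ∈ cand.getD j [])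
    (h2 : ∀ i < 7, ∀ j < 7, chevE7.pairing (f i) (f j) =
      chevE7.pairing (chevE7.simple i) (chevE7.simple j)) :
    ∀ k m, k + m = 7 → dfs k ((List.range m).map f) = true →
      ∃ l ∈ leaves, l.1 = (List.range 7).map f := by
  intro k
  induction k with
  | zero =>
    intro m hm h
    obtain rfl : m = 7 := by omega
    simpa [dfs] using h
  | succ k ih =>
    intro m hm h
    simp only [dfs, List.length_map, List.length_range, List.all_eq_true, Bool.or_eq_true,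
      List.any_eq_true, List.mem_range, bne_iff_ne] at h
    refine ih (m + 1) (by omega) ?_
    rw [List.range_succ, List.map_append]
    refine (h _ (h1 m (by omega))).resolve_left ?_
    rintro ⟨i, hi, e⟩
    rw [P.getD_range hi] at e
    exact e (h2 i (by omega) m (by omega))

theorem cand_ok : ∀ j < 7, ∀ r < 126, (eL.getD r 0 - 2 * eL.getD (chevE7.simple j) 0) % 13 = 0 →
    r ∈ cand.getD j [] := by decide +kernel

theorem leaves_ok : ∀ l ∈ leaves, ∀ i k : Fin chevE7.rank, ((∑ j : Fin chevE7.rank, (P.corD chevE7 (l.1.getD j 0) i -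
    if i = j then 2 else 0) * (l.2.getD j []).getD k 0) - if i = k then 1 else 0) % 5 = 0 := by
  decide +kernel

theorem rt_eq : ∀ (r : Fin chevE7.nroots) (j : Fin chevE7.rank), rsE7.rt r j = P.corD chevE7 r j := by
  decide +kernel

/-- The cocharacter. -/
def aL : List (List ℤ) := [[1, 0, -1, 0, 0, 0, 0], [1, 0, -1, 0, 0, 0, -1], [2, 0, -2, 0, 1, 0, -1],
  [2, 1, -2, -1, 1, 1, -2], [2, 0, -1, 0, 0, 1, -1], [1, 0, 0, -1, 0, 1, -1], [1, 0, 0, 0, 0, 0, 0]]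

theorem eL_ok : ∀ r < 126, (P.ev 2 (P.chiP chevE7 r aL) - eL.getD r 0) % 13 = 0 := by decide +kernel

theorem weyl {Γ : Type*} [CommGroup Γ] {w : Equiv.Perm (Fin chevE7.nroots)} (hw : w ∈ rsE7.W)
    (h1 : ∀ r : Fin chevE7.nroots, (eL.getD (w r) 0 - 2 * eL.getD r 0) % 13 = 0)
    {c : Fin chevE7.rank → Γ} (h5 : ∀ r, chi rsE7.toRS r c ^ 5 = 1)
    (h2 : ∀ r, chi rsE7.toRS (w r) c = chi rsE7.toRS r c ^ 2) (r : Fin chevE7.nroots) :
    chi rsE7.toRS r c = 1 := by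
  let f : ℕ → ℕ := fun j => if h : j < chevE7.rank then w (rsE7.sim ⟨j, h⟩) else 0
  have hf : ∀ j : Fin chevE7.rank, f j = w (rsE7.sim j) := fun j => dif_pos j.2
  have h7 : ∀ j : Fin chevE7.rank, (j : ℕ) < 7 := fun j => j.2
  have a1 : ∀ j : Fin chevE7.rank, f j ∈ cand.getD j [] := fun j => by
    have := h1 (rsE7.sim j)
    rw [rsE7.sim_eq] at this
    exact hf j ▸ cand_ok j j.2 _ (Fin.is_lt _) this
  have a2 : ∀ i j : Fin chevE7.rank, chevE7.pairing (f i) (f j) =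
      chevE7.pairing (chevE7.simple i) (chevE7.simple j) := fun i j => by
    rw [hf, hf, rsE7.pairing_eq, rsE7.pair_W hw, ← rsE7.pairing_eq, rsE7.sim_eq, rsE7.sim_eq]
  obtain ⟨l, hl, e⟩ := dfs_spec f (fun j hj => a1 ⟨j, hj⟩) (fun i hi j hj => a2 ⟨i, hi⟩ ⟨j, hj⟩)
    7 0 rfl dfs_ok
  let a : Fin chevE7.rank → Γ := fun j => chi rsE7.toRS (rsE7.sim j) c
  let M : Matrix (Fin chevE7.rank) (Fin chevE7.rank) ℤ :=
    Matrix.of fun i j => P.corD chevE7 (l.1.getD j 0) i - if i = j then 2 else 0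
  let N : Matrix (Fin chevE7.rank) (Fin chevE7.rank) ℤ :=
    Matrix.of fun j k => (l.2.getD j []).getD k 0
  have h3 : mact M a = 1 := by
    funext j
    have := h2 (rsE7.sim j)
    rw [chi_eq_prod] at this
    simp only [mact_apply, M, Matrix.of_apply, zpow_sub, Finset.prod_mul_distrib, e,
      P.getD_range (h7 j), hf, ← rt_eq]
    rw [Finset.prod_eq_single (f := fun i => (a i ^ if i = j then (2 : ℤ) else 0)⁻¹) j
      (fun i _ hi => by simp [hi]) (by simp), if_pos rfl, Pi.one_apply, mul_inv_eq_one, zpow_ofNat]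
    exact this
  choose K hK using fun i k => Int.dvd_of_emod_eq_zero (leaves_ok l hl i k)
  have h4 : M * N = 1 + (5 : ℕ) • Matrix.of K := by
    ext i k
    rw [Matrix.add_apply, Matrix.smul_apply, Matrix.of_apply, nsmul_eq_mul, Nat.cast_ofNat, ← hK,
      Matrix.one_apply, add_sub_cancel]
    rfl
  have h6 := mact_mact M N a
  rw [h3, map_one, h4, mact_add, mact_one, mact_smul, ← map_pow,
    show a ^ 5 = 1 from funext fun j => h5 _, map_one, mul_one] at h6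
  rw [chi_eq_prod]
  exact Finset.prod_eq_one fun j _ => by rw [show chi _ _ c = 1 from (congrFun h6 j).symm, one_zpow]

theorem no65 {F : Type} [Field F] [Fintype F] (hF : Fintype.card F = 2) (x : chevE7.group F) :
    ¬ 65 ∣ orderOf x := by
  intro hx
  have hD : chevE7 ∈ Tabs := by simp
  have hc := Cfsg.Agent.S1064.result hF
  simp only [Nat.reducePow, Nat.reduceSub, Nat.reduceGcd, one_mul, Nat.reduceMul] at hc
  have hfin : Finite (chevE7.group F) := Nat.finite_of_card_ne_zero (by rw [hc]; decide)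
  obtain ⟨x, hx⟩ : ∃ x : chevE7.group F, orderOf x = 65 :=
    ⟨_, orderOf_pow_orderOf_div (orderOf_pos x).ne' hx⟩
  have : CharP F 2 := charP_of_card_eq_prime hF
  obtain ⟨-, y, hy, -⟩ := P.exists_orderOf (p := 2) (q := 2) (AlgebraicClosure F) dvd_rfl
    (N := [1, 0, -1, 0, 1]) (Or.inl rfl)
  replace hy : orderOf y = 13 := hy
  have y13 : ∀ a b : ℤ, y ^ a = y ^ b ↔ (a - b) % 13 = 0 := fun a b => by
    rw [zpow_eq_zpow_iff_modEq, hy, Int.ModEq, Int.emod_eq_emod_iff_emod_sub_eq_zero]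
    rfl
  have hchi : ∀ r : Fin chevE7.nroots, chi rsE7.toRS r (P.pv 2 aL y) = y ^ eL.getD r 0 := fun r => by
    rw [P.chi_pv, y13]; exact eL_ok r r.2
  obtain ⟨g0, hg0⟩ := exists_twisted (F := F) hD rsE7 (tor_st_injective_E7 _)
    (P.finL _ [101, 70, 100, 104, 81, 114, 98])
  obtain ⟨b, hb⟩ := hg0 (P.pv 2 aL y) (by
    rw [hF, P.wact_pv, P.map_finL (by decide +kernel)]
    exact P.pv_pow (q := 2) (N := [1, 0, -1, 1, 1, -1, 0, 1]) (by decide +kernel) (by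
      rw [← zpow_zero y, y13]; decide +kernel))
  have p13 : Fact (Nat.Prime 13) := ⟨by decide⟩
  have hb13 : orderOf b = 13 := by
    refine orderOf_eq_prime (fm_injective hD (algebraMap F (AlgebraicClosure F)) ?_) fun e => ?_
    · have : (Elts.tor (EG_R3 hD rsE7 (AlgebraicClosure F)) (P.pv 2 aL y)) ^ 13 = 1 := by
        rw [← map_pow, tor_eq_one_iff]
        intro r
        rw [map_pow, hchi, ← zpow_natCast, ← zpow_mul, ← zpow_zero y, y13]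
        simp
      rw [← hb, show g0⁻¹ * _ * g0 = g0⁻¹ * _ * g0⁻¹⁻¹ by rw [inv_inv], conj_pow, conj_eq_one_iff] at this
      rw [map_pow, this, map_one]
    · rw [e, map_one, mul_one, inv_mul_cancel, eq_comm, tor_eq_one_iff] at hb
      have := (hchi _).symm.trans (hb (0 : Fin 126))
      rw [← zpow_zero y, y13] at this
      exact absurd this (by decide)
  have h13 : ∀ z : chevE7.group F, orderOf z = 13 →
      Nat.card (Subgroup.zpowers z) = 13 ^ (Nat.card (chevE7.group F)).factorization 13 := by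
    intro z hz
    rw [Nat.card_zpowers, hz, hc]
    decide +kernel
  have hx5 : orderOf (x ^ 5) = 13 := by rw [orderOf_pow, hx]; rfl
  obtain ⟨u, hu⟩ := MulAction.exists_smul_eq (chevE7.group F) (Sylow.ofCard _ (h13 _ hx5))
    (Sylow.ofCard _ (h13 _ hb13))
  have h1 : u * x ^ 5 * u⁻¹ ∈ Subgroup.zpowers b := by
    have : u * x ^ 5 * u⁻¹ ∈ (u • Sylow.ofCard _ (h13 _ hx5) : Sylow 13 _) :=
      Subgroup.smul_mem_pointwise_smul _ (MulAut.conj u) _ (Subgroup.mem_zpowers _)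
    rwa [hu] at this
  obtain ⟨j, hj⟩ := h1
  have hx' : orderOf (u * x * u⁻¹) = 65 := (MulAut.conj u).orderOf_eq x ▸ hx
  obtain ⟨g, c, h2, h3⟩ := exists_diag_pow hD rsE7 (x := u * x * u⁻¹) (by rw [hF, hx']; decide)
    (k := 5) (g0 := g0) (c0 := P.pv 2 aL y ^ j) (by
      rw [conj_pow, ← hj, map_zpow, map_zpow, ← hb]
      exact (map_zpow (MulAut.conj g0⁻¹) _ _).trans (by simp))
  obtain ⟨w, hw, h4⟩ := exists_frob_weyl hD rsE7 (α := Unit) (fun _ => h2)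
  rw [hF] at h4
  have hpw : ∀ k, (∀ r, chi rsE7.toRS r c ^ k = 1) ↔ 65 ∣ k := fun k => by
    rw [← hx', orderOf_dvd_iff_pow_eq_one, ← map_eq_one_iff _ (fm_injective hD
      (algebraMap F (AlgebraicClosure F))), map_pow, ← conj_eq_one_iff (a := g⁻¹), ← conj_pow, inv_inv,
      h2, ← map_pow, tor_eq_one_iff]
    simp only [map_pow]
  have hj13 : ¬ (13 : ℤ) ∣ j := fun h => by
    refine absurd ((hpw 5).mp fun r => ?_) (by decide)
    obtain ⟨i, rfl⟩ := h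
    rw [h3, map_zpow, hchi, ← zpow_mul, ← zpow_zero y, y13]
    exact Int.emod_eq_zero_of_dvd ⟨eL.getD r 0 * i, by ring⟩
  refine absurd ((hpw 13).mp fun r => ?_) (by decide)
  rw [← map_pow]
  refine weyl hw (fun r => ?_) (fun r => ?_) (fun r => ?_) r
  · have := h3 (w r)
    rw [h4 (), ← pow_mul, mul_comm, pow_mul, h3, map_zpow, map_zpow, hchi, hchi, ← zpow_mul,
      ← zpow_mul, ← zpow_natCast, ← zpow_mul, eq_comm, y13] at this
    refine Int.emod_eq_zero_of_dvd (((Int.prime_iff_natAbs_prime (k := 13).mpr p13.out).dvd_or_dvd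
      (b := j) ?_).resolve_right hj13)
    obtain ⟨i, hi⟩ := Int.dvd_of_emod_eq_zero this
    exact ⟨i, by rw [← hi]; push_cast; ring⟩
  · rw [map_pow, ← pow_mul]; exact (hpw _).mpr dvd_rfl r
  · rw [map_pow, map_pow, h4 (), ← pow_mul, ← pow_mul]

theorem empty {X : Type*} [Group X] (h : ∃ x : X, 65 ∣ orderOf x)
    (H : Subgroup (chevE7.group (ZMod 2))) : IsEmpty (H ≃* X) := ⟨fun e => by
  obtain ⟨x, hx⟩ := h
  refine no65 (ZMod.card 2) (e.symm x) ?_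
  rwa [Subgroup.orderOf_coe, MulEquiv.orderOf_eq]⟩

/-- The Chevalley group of type E₇ over the field with two elements (generated by its root elements in the adjoint representation) has no subgroup isomorphic to any of PSL₂(64), PSp₄(8), PSL₄(8), PSU₄(8) or PSp₆(8). Here F₈ and F₆₄ denote fields with 8 and 64 elements. -/
theorem result {F₈ F₆₄ : Type*} [Field F₈] [Fintype F₈] (h8 : Fintype.card F₈ = 8) [Field F₆₄] [Fintype F₆₄] (h64 : Fintype.card F₆₄ = 64)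
    (H : Subgroup ↥(Cfsg.Lie.chevE7.group (ZMod 2))) :
    IsEmpty (↥H ≃* Matrix.ProjectiveSpecialLinearGroup (Fin 2) F₆₄) ∧ IsEmpty (↥H ≃* Cfsg.PSp 2 F₈) ∧
    IsEmpty (↥H ≃* Matrix.ProjectiveSpecialLinearGroup (Fin 4) F₈) ∧ IsEmpty (↥H ≃* Cfsg.PSU 4 F₆₄ 8) ∧ IsEmpty (↥H ≃* Cfsg.PSp 3 F₈) := by
  have : CharP F₆₄ 2 := charP_of_card_eq_prime_pow (f := 6) h64
  have sp : ∀ m, 2 ≤ m → ∃ x : PSp m F₈, 65 ∣ orderOf x := fun m hm => by
    obtain ⟨A, hA⟩ := H65.exists_sp_orderOf (F := F₈) (d := 2) (N := m) (m := 65) two_pos hm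
      (Or.inr (by rw [h8]; decide))
    exact ⟨A, by rw [H65.orderOf_psp_of_odd (by omega) (by rw [hA]; decide), hA]⟩
  refine ⟨empty ?_ H, empty (sp 2 le_rfl) H, empty ?_ H, empty ?_ H, empty (sp 3 (by omega)) H⟩
  · obtain ⟨x, hx⟩ := H65.exists_psl_singer (F := F₆₄) (n := Fin 2)
    rw [h64] at hx
    exact ⟨x, hx⟩
  · obtain ⟨x, hx⟩ := H65.exists_psl_singer (F := F₈) (n := Fin 4)
    rw [h8] at hx
    exact ⟨x, Dvd.dvd.trans (by decide) hx⟩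
  · obtain ⟨σ, hσ, hσσ, hne⟩ := H66.exists_conjHom (q := 8) h64
    obtain ⟨s, h2, h3, h4⟩ := H65.exists_unitary_singer (n := Fin 4) (p := 2) (a := 3) rfl h64 hσ hσσ hne
    let s' : SU 4 F₆₄ 8 := ⟨⟨s, h3⟩, (H66.mem_SU_iff hσ _).mpr h2⟩
    obtain ⟨c, hc⟩ := (S2511.psu_mk_pow_eq_one_iff (q := 8) h64 (by omega) s' _).mp (pow_orderOf_eq_one _)
    have h5 : 455 ∣ orderOf (s' : PSU 4 F₆₄ 8) * 9 := h4 _ c hc
    exact ⟨s', by omega⟩

end Cfsg.Agent.S5769
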