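import Mathlib
import Cfsg.Statements.S5847
import Cfsg.Agent.Lib.Orth12.Asch7

set_option autoImplicit false
open Cfsg

namespace Cfsg.Agent.S5847

open Matrix Cfsg.Geo H10.Asch H28.AF H12.A Module QuadraticMap

/-- Every maximal subgroup of Ω_10^+(q) is of one of the listed geometric types or lies in the residual class. Let F be a finite field with q elements (characteristic p), Q a non-degenerate quadratic form on F^10 of plus type (Witt index 5: some totally singular 5-space), Ω the commutator subgroup of its isometry group, and H a maximal subgroup of Ω (inside GL_10(F)). Then H is the intersection with Ω of one of: the stabiliser of a non-zero totally singular subspace of dimension ≠ 4; for q odd, the stabiliser of a non-degenerate subspace of odd dimension ≠ 5; the stabiliser of a non-degenerate 2-space of minus type; for q ≥ 4, the stabiliser of a non-degenerate 2-space of plus type; the stabiliser of a non-degenerate 4-space; for q even, the stabiliser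 of the span of a non-singular vector; for q = p prime with p ≡ 1 mod 4, the stabiliser of a decomposition into 10 pairwise orthogonal, pairwise isometric non-degenerate 1-spaces; for q ≥ 7, the stabiliser of a decomposition into 5 pairwise orthogonal, pairwise isometric non-degenerate 2-spaces; for q ≡ 1 mod 4, the stabiliser of a decomposition into 2 pairwise orthogonal, pairwise isometric non-degenerate 5-spaces; for q ≡ 3 mod 4, the stabiliser of a decomposition into two orthogonal, non-isometric non-degenerate 5-spaces; for q odd, the normaliser of a degree-2 subfield of the matrix algebra, self-adjoint for the polar form; a subfield group (|F| = |F₀|^r, r prime) whose F₀-structure carries a non-zero multiple of Q — or else H lies in the residual class of the orthogonal case (modulo scalars H is almost simple, with absolutely irreducible perfect socle preimage realisable over no proper subfield and fixing no non-degenerate unitary form). -/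
theorem result {F : Type*} [Field F] [Fintype F] (Q : (Fin 10 → F) → F) (hQ : Cfsg.Geo.IsNondegenerateQuadraticForm Q) (hplus : Cfsg.Geo.IsPlusTypeOn Q ⊤) (H : Subgroup (Matrix.GeneralLinearGroup (Fin 10) F)) (hH : Cfsg.Geo.IsMaximalIn (Cfsg.Geo.omegaGL Q) H) :
    (∃ W : Submodule F (Fin 10 → F), W ≠ ⊥ ∧ Cfsg.Geo.IsTotallySingularQuad Q W ∧ Module.finrank F W ≠ 4 ∧ H = Cfsg.Geo.subspaceStabilizer W ⊓ Cfsg.Geo.omegaGL Q) ∨
    (Odd (Fintype.card F) ∧ ∃ W : Submodule F (Fin 10 → F), W ≠ ⊥ ∧ W ≠ ⊤ ∧ Odd (Module.finrank F W) ∧ 2 * Module.finrank F W ≠ 10 ∧ Cfsg.Geo.IsNondegenerateOn (QuadraticMap.polar Q) W ∧ H = Cfsg.Geo.subspaceStabilizer W ⊓ Cfsg.Geo.omegaGL Q) ∨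
    (∃ W : Submodule F (Fin 10 → F), Module.finrank F W = 2 ∧ Cfsg.Geo.IsNondegenerateOn (QuadraticMap.polar Q) W ∧ ¬ Cfsg.Geo.IsPlusTypeOn Q W ∧ H = Cfsg.Geo.subspaceStabilizer W ⊓ Cfsg.Geo.omegaGL Q) ∨
    (4 ≤ Fintype.card F ∧ ∃ W : Submodule F (Fin 10 → F), Module.finrank F W = 2 ∧ Cfsg.Geo.IsNondegenerateOn (QuadraticMap.polar Q) W ∧ Cfsg.Geo.IsPlusTypeOn Q W ∧ H = Cfsg.Geo.subspaceStabilizer W ⊓ Cfsg.Geo.omegaGL Q) ∨
    (∃ W : Submodule F (Fin 10 → F), Module.finrank F W = 4 ∧ Cfsg.Geo.IsNondegenerateOn (QuadraticMap.polar Q) W ∧ H = Cfsg.Geo.subspaceStabilizer W ⊓ Cfsg.Geo.omegaGL Q) ∨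
    (¬ Odd (Fintype.card F) ∧ ∃ v : (Fin 10 → F), Q v ≠ 0 ∧ H = Cfsg.Geo.subspaceStabilizer (Submodule.span F {v}) ⊓ Cfsg.Geo.omegaGL Q) ∨
    ((∃ p : ℕ, p.Prime ∧ Fintype.card F = p ∧ (p % 4 = 1)) ∧ ∃ D : Fin 10 → Submodule F (Fin 10 → F), Cfsg.Geo.IsOrthogonalMDecomposition Q 1 D ∧ H = Cfsg.Geo.decompositionStabilizer D ⊓ Cfsg.Geo.omegaGL Q) ∨
    (7 ≤ Fintype.card F ∧ ∃ D : Fin 5 → Submodule F (Fin 10 → F), Cfsg.Geo.IsOrthogonalMDecomposition Q 2 D ∧ H = Cfsg.Geo.decompositionStabilizer D ⊓ Cfsg.Geo.omegaGL Q) ∨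
    (Fintype.card F % 4 = 1 ∧ ∃ D : Fin 2 → Submodule F (Fin 10 → F), Cfsg.Geo.IsOrthogonalMDecomposition Q 5 D ∧ H = Cfsg.Geo.decompositionStabilizer D ⊓ Cfsg.Geo.omegaGL Q) ∨
    (Fintype.card F % 4 = 3 ∧ ∃ D : Fin 2 → Submodule F (Fin 10 → F), Cfsg.Geo.IsNondegenerateMDecomposition (QuadraticMap.polar Q) 5 D ∧ ¬ Cfsg.Geo.AreIsometricFor Q (D 0) (D 1) ∧ H = Cfsg.Geo.decompositionStabilizer D ⊓ Cfsg.Geo.omegaGL Q) ∨
    (Odd (Fintype.card F) ∧ ∃ K : Subalgebra F (Matrix (Fin 10) (Fin 10) F), Cfsg.Geo.IsFieldSubalgebra 2 K ∧ Cfsg.Geo.IsSelfAdjointFor (QuadraticMap.polar Q) K ∧ H = Cfsg.Geo.subalgebraNormalizer K ⊓ Cfsg.Geo.omegaGL Q) ∨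
    (∃ (F₀ : Subfield F) (r : ℕ) (P : Matrix.GeneralLinearGroup (Fin 10) F) (ζ : F), r.Prime ∧ Fintype.card F = Nat.card F₀ ^ r ∧ ζ ≠ 0 ∧ Cfsg.Geo.IsQuadFormRationalStructure (fun v : Fin 10 → F => ζ * Q v) F₀ P ∧ H = Cfsg.Geo.subfieldSubgroup F₀ P ⊓ Cfsg.Geo.omegaGL Q) ∨
    Cfsg.Geo.InOrthogonalResidualClass H := by
  obtain ⟨Q, rfl⟩ := exists_quadraticForm hQ
  obtain ⟨S, h⟩ := exists_oq (nondeg_of hQ)
  have hn : Fintype.card (Fin 10) = 10 := Fintype.card_fin 10
  have h7 : 7 ≤ Fintype.card (Fin 10) := by omega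
  have hF := fixQ_of_le hH.1.le
  by_cases hI : Irr H
  swap
  · rcases h.red_max hH h7 hI with h1 | h1 | h1 | h1 | h1 | h1 | ⟨W, a, b, -, c, -, d⟩
    · exact Or.inl (h.ts_max_plus hH h7 (m := 4) hn hplus h1)
    · exact Or.inr (Or.inl (by rwa [hn] at h1))
    · exact Or.inr (Or.inr (Or.inl h1))
    · exact Or.inr (Or.inr (Or.inr (Or.inl h1)))
    · exact Or.inr (Or.inr (Or.inr (Or.inr (Or.inl h1))))
    · exact Or.inr (Or.inr (Or.inr (Or.inr (Or.inr (Or.inl h1)))))
    · have h5 : finrank F W = 5 := by omega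
      have h2 := two_ne_zero_of_odd_nd c (by rw [h5]; decide)
      obtain ⟨hD, he⟩ := d (by omega)
      rw [h5] at hD
      refine Or.inr (Or.inr (Or.inr (Or.inr (Or.inr (Or.inr (Or.inr (Or.inr ?_)))))))
      by_cases hi : AreIsometricFor Q (![W, S.perp W] 0) (![W, S.perp W] 1)
      · exact Or.inl ⟨(isSquare_neg_one_five h2).1.1 ((h.plus_iff_of_even h2 (m := 5) hn
          (orth_two hD hi) even_two).1 hplus), _, orth_two hD hi, he⟩
      · exact Or.inr (Or.inl ⟨(isSquare_neg_one_five h2).2.1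
          ((h.plus_iff_of_not_iso h2 (m := 5) hn hD hi).1 hplus), _, hD, hi, he⟩)
  refine Or.inr (Or.inr (Or.inr (Or.inr (Or.inr (Or.inr ?_)))))
  rcases h.main hH.1.le (by omega) hI with h1 | ⟨t, k, D, hD⟩ | ⟨k, h1⟩ | ⟨r, K, hK⟩ |
    ⟨hP, h1⟩ | h1
  · exact Or.inr (Or.inr (Or.inr (Or.inr (Or.inr (Or.inl (h.sub_max hH h7 h1))))))
  · obtain ⟨h1, h2⟩ := hD.card
    have he := h.eq2 hH h7 hD
    have : k < 6 := by nlinarith
    interval_cases k
    · omega
    · obtain rfl : t = 10 := by omega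
      have h2 := Dec.two_ne hD.dec odd_one
      exact Or.inl ⟨⟨_, hD.one rfl, rfl, (isSquare_neg_one_five h2).1.1
        ((h.plus_iff_of_even h2 (m := 5) hn hD.dec (by decide)).1 hplus)⟩, D, hD.dec, he⟩
    · obtain rfl : t = 5 := by omega
      exact Or.inr (Or.inl ⟨(hD.two rfl).2 fun i =>
        (h.plus_iff_of_odd hD.dec even_two (by decide) i).1 hplus, D, hD.dec, he⟩)
    · omega
    · omega
    · obtain rfl : t = 2 := by omega
      have h2 := Dec.two_ne hD.dec (by decide)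
      exact Or.inr (Or.inr (Or.inl ⟨(isSquare_neg_one_five h2).1.1
        ((h.plus_iff_of_even h2 (m := 5) hn hD.dec (by decide)).1 hplus), D, hD.dec, he⟩))
  · obtain rfl : k = 5 := by have := h1.card; omega
    exact absurd h1 (h.not_pair hH.1.le hI (by decide))
  · obtain rfl : r = 2 := by
      rcases (Nat.Prime.dvd_mul hK.prime (m := 2) (n := 5)).1 hK.dvd with h1 | h1
      · exact (Nat.prime_dvd_prime_iff_eq hK.prime Nat.prime_two).1 h1
      · obtain rfl := (Nat.prime_dvd_prime_iff_eq hK.prime Nat.prime_five).1 h1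
        exact absurd hn (hK.odd (by decide)).2
    by_cases hs : ∀ x ∈ K, S.st x = x
    · refine Or.inr (Or.inr (Or.inr (Or.inr (Or.inl ⟨odd_card_iff.2 fun h2 => ?_, K, hK.field,
        h.hf ▸ S.isSelfAdjointFor_iff.2 hs, h.eq3 hH h7 hK (by omega)⟩))))
      have := h.two_mul_dvd hK.field h2 hs
      omega
    · have := h.dvd_of_plus hK.field hK.cl (h.similarity hF hI (by omega) hK.field hK.nrm hK.cl hs)
        (m := 5) hn hplus
      omega
  · exfalso
    rcases h1 with ⟨n₁, n₂, e, P, S₁, S₂, h₁, h₂, T⟩ | ⟨m, hm, hc, -⟩ | ⟨k, t, e, P, T, a, b, W, -⟩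
    · have h3 := tens_card T
      have : n₁ < 4 := by nlinarith
      obtain rfl : n₁ = 2 := by interval_cases n₁ <;> omega
      obtain rfl : n₂ = 5 := by omega
      exact absurd (even_of_alt S₂ (h.σ₂ T) (h.alt_of_two hF hI hP T (by norm_num)).2.2.1)
        (by decide)
    · refine pow_ne_of le_rfl (t := m) ?_ (by omega) (by omega) (by omega) (by omega) hc.symm
      by_contra h3
      obtain rfl : m = 1 := by omega
      omega
    · exact pow_ne_of a b (by omega) (by omega) (by omega) (by omega) W.card_eq.symm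
  · exact Or.inr (Or.inr (Or.inr (Or.inr (Or.inr (Or.inr h1)))))

end Cfsg.Agent.S5847
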