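import Mathlib
import Cfsg.Statements.S5871
import Cfsg.Agent.Lib.Orth12.Asch7

set_option autoImplicit false
open Cfsg

namespace Cfsg.Agent.S5871

open Matrix Cfsg.Geo H10.Asch H28.AF H12.A Module QuadraticMap

/-- Every maximal subgroup of Ω_12^+(q) is of one of the listed geometric types or lies in the residual class. Let F be a finite field with q elements (characteristic p), Q a non-degenerate quadratic form on F^12 of plus type (Witt index 6: some totally singular 6-space), Ω the commutator subgroup of its isometry group, and H a maximal subgroup of Ω (inside GL_12(F)). Then H is the intersection with Ω of one of: the stabiliser of a non-zero totally singular subspace of dimension ≠ 5; for q odd, the stabiliser of a non-degenerate subspace of odd dimension; the stabiliser of a non-degenerate 2-space of minus type; for q ≥ 4, the stabiliser of a non-degenerate 2-space of plus type; the stabiliser of a non-degenerate 4-space;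 for q even, the stabiliser of the span of a non-singular vector; for q = p an odd prime, the stabiliser of a decomposition into 12 pairwise orthogonal, pairwise isometric non-degenerate 1-spaces; for q ≥ 7, the stabiliser of a decomposition into 6 pairwise orthogonal, pairwise isometric non-degenerate 2-spaces of plus type; for q ≠ 3, the stabiliser of a decomposition into 6 pairwise orthogonal, pairwise isometric non-degenerate 2-spaces of minus type; for q odd with q ≥ 5, the stabiliser of a decomposition into 4 pairwise orthogonal, pairwise isometric non-degenerate 3-spaces; for q ≥ 3, the stabiliser of a decomposition into 3 pairwise orthogonal, pairwise isometric non-degenerate 4-spaces; the stabiliser of a decomposition into 2 pairwise orthogonal, pairwise isometric non-degenerate 6-spaces; of a decomposition into two totally singular 6-spaces; the normaliser of a degree-2 subfield of the matrix algebra; the normaliser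 of a degree-3 subfield of the matrix algebra; the normaliser of a degree-2 subfield K, adjoint-closed but not self-adjoint, acting by similarities of Q; for q ≥ 3, the stabiliser of a tensor decomposition of Q into alternating forms on F^2 and F^6 (Q vanishing on pure tensors); a subfield group (|F| = |F₀|^r, r prime) whose F₀-structure carries a non-zero multiple of Q — or else H lies in the residual class of the orthogonal case (modulo scalars H is almost simple, with absolutely irreducible perfect socle preimage realisable over no proper subfield and fixing no non-degenerate unitary form). -/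
theorem result {F : Type*} [Field F] [Fintype F] (Q : (Fin 12 → F) → F) (hQ : Cfsg.Geo.IsNondegenerateQuadraticForm Q) (hplus : Cfsg.Geo.IsPlusTypeOn Q ⊤) (H : Subgroup (Matrix.GeneralLinearGroup (Fin 12) F)) (hH : Cfsg.Geo.IsMaximalIn (Cfsg.Geo.omegaGL Q) H) :
    (∃ W : Submodule F (Fin 12 → F), W ≠ ⊥ ∧ Cfsg.Geo.IsTotallySingularQuad Q W ∧ Module.finrank F W ≠ 5 ∧ H = Cfsg.Geo.subspaceStabilizer W ⊓ Cfsg.Geo.omegaGL Q) ∨
    (Odd (Fintype.card F) ∧ ∃ W : Submodule F (Fin 12 → F), W ≠ ⊥ ∧ W ≠ ⊤ ∧ Odd (Module.finrank F W) ∧ 2 * Module.finrank F W ≠ 12 ∧ Cfsg.Geo.IsNondegenerateOn (QuadraticMap.polar Q) W ∧ H = Cfsg.Geo.subspaceStabilizer W ⊓ Cfsg.Geo.omegaGL Q) ∨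
    (∃ W : Submodule F (Fin 12 → F), Module.finrank F W = 2 ∧ Cfsg.Geo.IsNondegenerateOn (QuadraticMap.polar Q) W ∧ ¬ Cfsg.Geo.IsPlusTypeOn Q W ∧ H = Cfsg.Geo.subspaceStabilizer W ⊓ Cfsg.Geo.omegaGL Q) ∨
    (4 ≤ Fintype.card F ∧ ∃ W : Submodule F (Fin 12 → F), Module.finrank F W = 2 ∧ Cfsg.Geo.IsNondegenerateOn (QuadraticMap.polar Q) W ∧ Cfsg.Geo.IsPlusTypeOn Q W ∧ H = Cfsg.Geo.subspaceStabilizer W ⊓ Cfsg.Geo.omegaGL Q) ∨
    (∃ W : Submodule F (Fin 12 → F), Module.finrank F W = 4 ∧ Cfsg.Geo.IsNondegenerateOn (QuadraticMap.polar Q) W ∧ H = Cfsg.Geo.subspaceStabilizer W ⊓ Cfsg.Geo.omegaGL Q) ∨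
    (¬ Odd (Fintype.card F) ∧ ∃ v : (Fin 12 → F), Q v ≠ 0 ∧ H = Cfsg.Geo.subspaceStabilizer (Submodule.span F {v}) ⊓ Cfsg.Geo.omegaGL Q) ∨
    ((∃ p : ℕ, p.Prime ∧ Odd p ∧ Fintype.card F = p) ∧ ∃ D : Fin 12 → Submodule F (Fin 12 → F), Cfsg.Geo.IsOrthogonalMDecomposition Q 1 D ∧ H = Cfsg.Geo.decompositionStabilizer D ⊓ Cfsg.Geo.omegaGL Q) ∨
    (7 ≤ Fintype.card F ∧ ∃ D : Fin 6 → Submodule F (Fin 12 → F), Cfsg.Geo.IsOrthogonalMDecomposition Q 2 D ∧ (∀ i, Cfsg.Geo.IsPlusTypeOn Q (D i)) ∧ H = Cfsg.Geo.decompositionStabilizer D ⊓ Cfsg.Geo.omegaGL Q) ∨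
    (Fintype.card F ≠ 3 ∧ ∃ D : Fin 6 → Submodule F (Fin 12 → F), Cfsg.Geo.IsOrthogonalMDecomposition Q 2 D ∧ (∀ i, ¬ Cfsg.Geo.IsPlusTypeOn Q (D i)) ∧ H = Cfsg.Geo.decompositionStabilizer D ⊓ Cfsg.Geo.omegaGL Q) ∨
    (Odd (Fintype.card F) ∧ 5 ≤ Fintype.card F ∧ ∃ D : Fin 4 → Submodule F (Fin 12 → F), Cfsg.Geo.IsOrthogonalMDecomposition Q 3 D ∧ H = Cfsg.Geo.decompositionStabilizer D ⊓ Cfsg.Geo.omegaGL Q) ∨
    (3 ≤ Fintype.card F ∧ ∃ D : Fin 3 → Submodule F (Fin 12 → F), Cfsg.Geo.IsOrthogonalMDecomposition Q 4 D ∧ H = Cfsg.Geo.decompositionStabilizer D ⊓ Cfsg.Geo.omegaGL Q) ∨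
    (∃ D : Fin 2 → Submodule F (Fin 12 → F), Cfsg.Geo.IsOrthogonalMDecomposition Q 6 D ∧ H = Cfsg.Geo.decompositionStabilizer D ⊓ Cfsg.Geo.omegaGL Q) ∨
    (∃ D : Fin 2 → Submodule F (Fin 12 → F), Cfsg.Geo.IsMDecomposition 6 D ∧ (∀ i, Cfsg.Geo.IsTotallySingularQuad Q (D i)) ∧ H = Cfsg.Geo.decompositionStabilizer D ⊓ Cfsg.Geo.omegaGL Q) ∨
    (∃ K : Subalgebra F (Matrix (Fin 12) (Fin 12) F), Cfsg.Geo.IsFieldSubalgebra 2 K ∧ H = Cfsg.Geo.subalgebraNormalizer K ⊓ Cfsg.Geo.omegaGL Q) ∨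
    (∃ K : Subalgebra F (Matrix (Fin 12) (Fin 12) F), Cfsg.Geo.IsFieldSubalgebra 3 K ∧ H = Cfsg.Geo.subalgebraNormalizer K ⊓ Cfsg.Geo.omegaGL Q) ∨
    (∃ K : Subalgebra F (Matrix (Fin 12) (Fin 12) F), Cfsg.Geo.IsFieldSubalgebra 2 K ∧ Cfsg.Geo.IsAdjointClosedFor (QuadraticMap.polar Q) K ∧ ¬ Cfsg.Geo.IsSelfAdjointFor (QuadraticMap.polar Q) K ∧ (∀ k ∈ K, ∃ c : F, ∀ v : (Fin 12 → F), Q (Matrix.mulVec k v) = c * Q v) ∧ H = Cfsg.Geo.subalgebraNormalizer K ⊓ Cfsg.Geo.omegaGL Q) ∨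
    (3 ≤ Fintype.card F ∧ ∃ (e : Fin 12 ≃ Fin 2 × Fin 6) (P : Matrix.GeneralLinearGroup (Fin 12) F) (f₁ : (Fin 2 → F) → (Fin 2 → F) → F) (f₂ : (Fin 6 → F) → (Fin 6 → F) → F), Cfsg.Geo.IsSymplecticForm f₁ ∧ Cfsg.Geo.IsSymplecticForm f₂ ∧ Cfsg.Geo.IsTensorFormStructure id (QuadraticMap.polar Q) f₁ f₂ e P ∧ (∀ (x₁ : Fin 2 → F) (x₂ : Fin 6 → F), Q (Matrix.mulVec (P : Matrix (Fin 12) (Fin 12) F) ((fun a : Fin 2 × Fin 6 => x₁ a.1 * x₂ a.2) ∘ e)) = 0) ∧ H = Cfsg.Geo.tensorProductSubgroup 2 6 e P ⊓ Cfsg.Geo.omegaGL Q) ∨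
    (∃ (F₀ : Subfield F) (r : ℕ) (P : Matrix.GeneralLinearGroup (Fin 12) F) (ζ : F), r.Prime ∧ Fintype.card F = Nat.card F₀ ^ r ∧ ζ ≠ 0 ∧ Cfsg.Geo.IsQuadFormRationalStructure (fun v : Fin 12 → F => ζ * Q v) F₀ P ∧ H = Cfsg.Geo.subfieldSubgroup F₀ P ⊓ Cfsg.Geo.omegaGL Q) ∨
    Cfsg.Geo.InOrthogonalResidualClass H := by
  obtain ⟨Q, rfl⟩ := exists_quadraticForm hQ
  obtain ⟨S, h⟩ := exists_oq (nondeg_of hQ)
  have hn : Fintype.card (Fin 12) = 12 := Fintype.card_fin 12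
  have h7 : 7 ≤ Fintype.card (Fin 12) := by omega
  have hF := fixQ_of_le hH.1.le
  by_cases hI : Irr H
  swap
  · rcases h.red_max hH h7 hI with h1 | h1 | h1 | h1 | h1 | h1 | ⟨W, a, b, o, c, -, d⟩
    · exact Or.inl (h.ts_max_plus hH h7 (m := 5) hn hplus h1)
    · exact Or.inr (Or.inl (by rwa [hn] at h1))
    · exact Or.inr (Or.inr (Or.inl h1))
    · exact Or.inr (Or.inr (Or.inr (Or.inl h1)))
    · exact Or.inr (Or.inr (Or.inr (Or.inr (Or.inl h1))))
    · exact Or.inr (Or.inr (Or.inr (Or.inr (Or.inr (Or.inl h1)))))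
    · have h5 : finrank F W = 6 := by rw [Nat.odd_iff] at o; omega
      obtain ⟨hD, he⟩ := d (by omega)
      rw [h5] at hD
      refine Or.inr (Or.inr (Or.inr (Or.inr (Or.inr (Or.inr (Or.inr (Or.inr (Or.inr (Or.inr (Or.inr
        (Or.inl ⟨_, orth_two hD ?_, he⟩)))))))))))
      refine iso_of_plus_iff c (h.nd_perp c) (m := 3) h5 (hD.decomp.finrank_eq 1)
        ⟨h.plus_perp hplus c, fun hp => ?_⟩
      have := h.plus_perp hplus (h.nd_perp c) hp
      rwa [S.perp_perp] at this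
  refine Or.inr (Or.inr (Or.inr (Or.inr (Or.inr (Or.inr ?_)))))
  rcases h.main hH.1.le (by omega) hI with h1 | ⟨t, k, D, hD⟩ | ⟨k, h1⟩ | ⟨r, K, hK⟩ |
    ⟨hP, h1⟩ | h1
  · exact Or.inr (Or.inr (Or.inr (Or.inr (Or.inr (Or.inr (Or.inr (Or.inr (Or.inr (Or.inr (Or.inr
      (Or.inl (h.sub_max hH h7 h1))))))))))))
  · obtain ⟨h1, h2⟩ := hD.card
    have he := h.eq2 hH h7 hD
    have : k < 7 := by nlinarith
    interval_cases k
    · omega
    · obtain rfl : t = 12 := by omega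
      exact Or.inl ⟨⟨_, hD.one rfl, odd_card_iff.2 (Dec.two_ne hD.dec odd_one), rfl⟩, D, hD.dec, he⟩
    · obtain rfl : t = 6 := by omega
      by_cases hp : Plus Q (D 0)
      · have hp' := fun i => hp.of_iso (hD.dec.isometric 0 i)
        exact Or.inr (Or.inl ⟨(hD.two rfl).2 hp', D, hD.dec, hp', he⟩)
      · exact Or.inr (Or.inr (Or.inl ⟨(hD.two rfl).1, D, hD.dec,
          fun i hi => hp (Plus.of_iso hi (hD.dec.isometric i 0)), he⟩))
    · obtain rfl : t = 4 := by omega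
      exact Or.inr (Or.inr (Or.inr (Or.inl ⟨odd_card_iff.2 (Dec.two_ne hD.dec (by decide)),
        hD.three rfl, D, hD.dec, he⟩)))
    · obtain rfl : t = 3 := by omega
      exact Or.inr (Or.inr (Or.inr (Or.inr (Or.inl ⟨hD.four rfl fun i =>
        (h.plus_iff_of_odd hD.dec (by decide) (by decide) i).1 hplus, D, hD.dec, he⟩))))
    · omega
    · obtain rfl : t = 2 := by omega
      exact Or.inr (Or.inr (Or.inr (Or.inr (Or.inr (Or.inl ⟨D, hD.dec, he⟩)))))
  · obtain rfl : k = 6 := by have := h1.card; omega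
    obtain ⟨D, a, b, c⟩ := h1
    exact Or.inr (Or.inr (Or.inr (Or.inr (Or.inr (Or.inr (Or.inl
      ⟨D, a, b, eq_of_maximal hH c (h.not_le_C2 h7 a)⟩))))))
  · refine Or.inr (Or.inr (Or.inr (Or.inr (Or.inr (Or.inr (Or.inr ?_))))))
    rcases (Nat.Prime.dvd_mul hK.prime (m := 2 ^ 2) (n := 3)).1 hK.dvd with h1 | h1
    · obtain rfl := (Nat.prime_dvd_prime_iff_eq hK.prime Nat.prime_two).1
        (hK.prime.dvd_of_dvd_pow h1)
      exact Or.inl ⟨K, hK.field, h.eq3 hH h7 hK (by omega)⟩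
    · obtain rfl := (Nat.prime_dvd_prime_iff_eq hK.prime Nat.prime_three).1 h1
      exact Or.inr (Or.inl ⟨K, hK.field, h.eq3 hH h7 hK (by omega)⟩)
  · rcases h1 with ⟨n₁, n₂, e, P, S₁, S₂, h₁, h₂, T⟩ | ⟨m, hm, hc, -⟩ | ⟨k, t, e, P, T, a, b, W, -⟩
    · obtain ⟨e, P, S₁, S₂, T⟩ : ∃ (e : Fin 12 ≃ Fin 2 × Fin 6) (P : GL (Fin 12) F)
          (S₁ : SF (Fin 2) F) (S₂ : SF (Fin 6) F), IsTens S H e P S₁ S₂ := by
        have h3 := tens_card T
        have : n₁ < 4 := by nlinarith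
        interval_cases n₁
        · obtain rfl : n₂ = 6 := by omega
          exact ⟨e, P, S₁, S₂, T⟩
        · obtain rfl : n₂ = 4 := by omega
          exact h.two_six_of_three_four hH.1.le hplus T
            (h.sym_of_odd hF hI T h₁ (by norm_num) (Or.inl (by decide)))
      obtain ⟨h3, a, b, c⟩ := h.alt_of_two hF hI hP T (by norm_num)
      exact Or.inr (Or.inr (Or.inr (Or.inr (Or.inr (Or.inr (Or.inr (Or.inr (Or.inr (Or.inr (Or.inl
        ⟨h3, e, P, S₁.f, S₂.f, S₁.isSymplecticForm (h.σ₁ T) a, S₂.isSymplecticForm (h.σ₂ T) b,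
        h.tensorForm T, c, eq_of_maximal hH T.le_tensor
          (h.not_le_C4 (by omega) (n₁ := 1) (n₂ := 5) (by norm_num) e P)⟩))))))))))
    · refine absurd hc.symm (pow_ne_of le_rfl ?_ (by omega) (by omega) (by omega) (by omega))
      by_contra h3
      obtain rfl : m = 1 := by omega
      omega
    · exact absurd W.card_eq.symm (pow_ne_of a b (by omega) (by omega) (by omega) (by omega))
  · exact Or.inr (Or.inr (Or.inr (Or.inr (Or.inr (Or.inr (Or.inr (Or.inr (Or.inr (Or.inr (Or.inr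
      (Or.inr h1)))))))))))

end Cfsg.Agent.S5871
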