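import Mathlib
import Cfsg.Statements.S5874
import Cfsg.Agent.Lib.Orth12.Asch7

set_option autoImplicit false
open Cfsg

namespace Cfsg.Agent.S5874

open Matrix Cfsg.Geo H10.Asch H28.AF H12.A Module QuadraticMap

/-- Every maximal subgroup of Ω_12^-(q) is of one of the listed geometric types or lies in the residual class. Let F be a finite field with q elements (characteristic p), Q a non-degenerate quadratic form on F^12 of minus type (Witt index 5: no totally singular 6-space), Ω the commutator subgroup of its isometry group, and H a maximal subgroup of Ω (inside GL_12(F)). Then H is the intersection with Ω of one of: the stabiliser of a non-zero totally singular subspace; for q odd, the stabiliser of a non-degenerate subspace of odd dimension; the stabiliser of a non-degenerate 2-space of minus type; for q ≥ 4, the stabiliser of a non-degenerate 2-space of plus type; the stabiliser of a non-degenerate 4-space; the stabiliser of a non-degenerate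 6-space; for q even, the stabiliser of the span of a non-singular vector; the stabiliser of a decomposition into 3 pairwise orthogonal, pairwise isometric non-degenerate 4-spaces of minus type; the normaliser of a degree-2 subfield of the matrix algebra; the normaliser of a degree-3 subfield of the matrix algebra; for q odd with q ≥ 5, the stabiliser of a tensor decomposition of the polar form into symmetric forms on F^3 and F^4 (minus type); a subfield group (|F| = |F₀|^r, r odd prime) whose F₀-structure carries a non-zero multiple of Q — or else H lies in the residual class of the orthogonal case (modulo scalars H is almost simple, with absolutely irreducible perfect socle preimage realisable over no proper subfield and fixing no non-degenerate unitary form). -/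
theorem result {F : Type*} [Field F] [Fintype F] (Q : (Fin 12 → F) → F) (hQ : Cfsg.Geo.IsNondegenerateQuadraticForm Q) (hminus : ¬ Cfsg.Geo.IsPlusTypeOn Q ⊤) (H : Subgroup (Matrix.GeneralLinearGroup (Fin 12) F)) (hH : Cfsg.Geo.IsMaximalIn (Cfsg.Geo.omegaGL Q) H) :
    (∃ W : Submodule F (Fin 12 → F), W ≠ ⊥ ∧ Cfsg.Geo.IsTotallySingularQuad Q W ∧ H = Cfsg.Geo.subspaceStabilizer W ⊓ Cfsg.Geo.omegaGL Q) ∨
    (Odd (Fintype.card F) ∧ ∃ W : Submodule F (Fin 12 → F), W ≠ ⊥ ∧ W ≠ ⊤ ∧ Odd (Module.finrank F W) ∧ 2 * Module.finrank F W ≠ 12 ∧ Cfsg.Geo.IsNondegenerateOn (QuadraticMap.polar Q) W ∧ H = Cfsg.Geo.subspaceStabilizer W ⊓ Cfsg.Geo.omegaGL Q) ∨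
    (∃ W : Submodule F (Fin 12 → F), Module.finrank F W = 2 ∧ Cfsg.Geo.IsNondegenerateOn (QuadraticMap.polar Q) W ∧ ¬ Cfsg.Geo.IsPlusTypeOn Q W ∧ H = Cfsg.Geo.subspaceStabilizer W ⊓ Cfsg.Geo.omegaGL Q) ∨
    (4 ≤ Fintype.card F ∧ ∃ W : Submodule F (Fin 12 → F), Module.finrank F W = 2 ∧ Cfsg.Geo.IsNondegenerateOn (QuadraticMap.polar Q) W ∧ Cfsg.Geo.IsPlusTypeOn Q W ∧ H = Cfsg.Geo.subspaceStabilizer W ⊓ Cfsg.Geo.omegaGL Q) ∨
    (∃ W : Submodule F (Fin 12 → F), Module.finrank F W = 4 ∧ Cfsg.Geo.IsNondegenerateOn (QuadraticMap.polar Q) W ∧ H = Cfsg.Geo.subspaceStabilizer W ⊓ Cfsg.Geo.omegaGL Q) ∨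
    (∃ W : Submodule F (Fin 12 → F), Module.finrank F W = 6 ∧ Cfsg.Geo.IsNondegenerateOn (QuadraticMap.polar Q) W ∧ H = Cfsg.Geo.subspaceStabilizer W ⊓ Cfsg.Geo.omegaGL Q) ∨
    (¬ Odd (Fintype.card F) ∧ ∃ v : (Fin 12 → F), Q v ≠ 0 ∧ H = Cfsg.Geo.subspaceStabilizer (Submodule.span F {v}) ⊓ Cfsg.Geo.omegaGL Q) ∨
    (∃ D : Fin 3 → Submodule F (Fin 12 → F), Cfsg.Geo.IsOrthogonalMDecomposition Q 4 D ∧ (∀ i, ¬ Cfsg.Geo.IsPlusTypeOn Q (D i)) ∧ H = Cfsg.Geo.decompositionStabilizer D ⊓ Cfsg.Geo.omegaGL Q) ∨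
    (∃ K : Subalgebra F (Matrix (Fin 12) (Fin 12) F), Cfsg.Geo.IsFieldSubalgebra 2 K ∧ H = Cfsg.Geo.subalgebraNormalizer K ⊓ Cfsg.Geo.omegaGL Q) ∨
    (∃ K : Subalgebra F (Matrix (Fin 12) (Fin 12) F), Cfsg.Geo.IsFieldSubalgebra 3 K ∧ H = Cfsg.Geo.subalgebraNormalizer K ⊓ Cfsg.Geo.omegaGL Q) ∨
    (Odd (Fintype.card F) ∧ 5 ≤ Fintype.card F ∧ ∃ (e : Fin 12 ≃ Fin 3 × Fin 4) (P : Matrix.GeneralLinearGroup (Fin 12) F) (f₁ : (Fin 3 → F) → (Fin 3 → F) → F) (f₂ : (Fin 4 → F) → (Fin 4 → F) → F), Cfsg.Geo.IsSymmetricForm f₁ ∧ Cfsg.Geo.IsSymmetricForm f₂ ∧ ¬ Cfsg.Geo.IsPlusTypeOn (fun v : Fin 4 → F => f₂ v v) ⊤ ∧ Cfsg.Geo.IsTensorFormStructure id (QuadraticMap.polar Q) f₁ f₂ e P ∧ H = Cfsg.Geo.tensorProductSubgroup 3 4 e P ⊓ Cfsg.Geo.omegaGL Q) ∨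
    (∃ (F₀ : Subfield F) (r : ℕ) (P : Matrix.GeneralLinearGroup (Fin 12) F) (ζ : F), r.Prime ∧ Odd r ∧ Fintype.card F = Nat.card F₀ ^ r ∧ ζ ≠ 0 ∧ Cfsg.Geo.IsQuadFormRationalStructure (fun v : Fin 12 → F => ζ * Q v) F₀ P ∧ H = Cfsg.Geo.subfieldSubgroup F₀ P ⊓ Cfsg.Geo.omegaGL Q) ∨
    Cfsg.Geo.InOrthogonalResidualClass H := by
  obtain ⟨Q, rfl⟩ := exists_quadraticForm hQ
  obtain ⟨S, h⟩ := exists_oq (nondeg_of hQ)
  have hn : Fintype.card (Fin 12) = 12 := Fintype.card_fin 12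
  have h7 : 7 ≤ Fintype.card (Fin 12) := by omega
  have hF := fixQ_of_le hH.1.le
  by_cases hI : Irr H
  swap
  · rcases h.red_max hH h7 hI with h1 | h1 | h1 | h1 | h1 | h1 | ⟨W, a, b, o, c, d, -⟩
    · exact Or.inl (h.ts_max hH h7 h1)
    · exact Or.inr (Or.inl (by rwa [hn] at h1))
    · exact Or.inr (Or.inr (Or.inl h1))
    · exact Or.inr (Or.inr (Or.inr (Or.inl h1)))
    · exact Or.inr (Or.inr (Or.inr (Or.inr (Or.inl h1))))
    · exact Or.inr (Or.inr (Or.inr (Or.inr (Or.inr (Or.inr (Or.inl h1))))))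
    · exact Or.inr (Or.inr (Or.inr (Or.inr (Or.inr (Or.inl
        ⟨W, by rw [Nat.odd_iff] at o; omega, c, d⟩)))))
  refine Or.inr (Or.inr (Or.inr (Or.inr (Or.inr (Or.inr (Or.inr ?_))))))
  rcases h.main hH.1.le (by omega) hI with h1 | ⟨t, k, D, hD⟩ | ⟨k, h1⟩ | ⟨r, K, hK⟩ |
    ⟨hP, h1⟩ | h1
  · exact Or.inr (Or.inr (Or.inr (Or.inr (Or.inl (h.sub_max_minus hH h7 (m := 6) hn hminus h1)))))
  · obtain ⟨h1, h2⟩ := hD.card
    have he := h.eq2 hH h7 hD
    have : k < 7 := by nlinarith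
    interval_cases k
    · omega
    · obtain rfl : t = 12 := by omega
      exact absurd ((h.plus_iff_of_even (Dec.two_ne hD.dec odd_one) (m := 6) hn hD.dec
        (by decide)).2 ⟨1, by norm_num⟩) hminus
    · obtain rfl : t = 6 := by omega
      exact absurd (plus_top_of_even hD.dec (by decide) (by decide)) hminus
    · obtain rfl : t = 4 := by omega
      exact absurd ((h.plus_iff_of_even (Dec.two_ne hD.dec (by decide)) (m := 6) hn hD.dec
        (by decide)).2 ⟨1, by norm_num⟩) hminus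
    · obtain rfl : t = 3 := by omega
      exact Or.inl ⟨D, hD.dec, fun i =>
        mt (h.plus_iff_of_odd hD.dec (by decide) (by decide) i).2 hminus, he⟩
    · omega
    · obtain rfl : t = 2 := by omega
      exact absurd (plus_top_of_even hD.dec (by decide) (by decide)) hminus
  · exact absurd h1.plus hminus
  · rcases (Nat.Prime.dvd_mul hK.prime (m := 2 ^ 2) (n := 3)).1 hK.dvd with h1 | h1
    · obtain rfl := (Nat.prime_dvd_prime_iff_eq hK.prime Nat.prime_two).1
        (hK.prime.dvd_of_dvd_pow h1)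
      exact Or.inr (Or.inl ⟨K, hK.field, h.eq3 hH h7 hK (by omega)⟩)
    · obtain rfl := (Nat.prime_dvd_prime_iff_eq hK.prime Nat.prime_three).1 h1
      exact Or.inr (Or.inr (Or.inl ⟨K, hK.field, h.eq3 hH h7 hK (by omega)⟩))
  · rcases h1 with ⟨n₁, n₂, e, P, S₁, S₂, h₁, h₂, T⟩ | ⟨m, hm, hc, -⟩ | ⟨k, t, e, P, T, a, b, W, -⟩
    · have h3 := tens_card T
      have : n₁ < 4 := by nlinarith
      interval_cases n₁
      · obtain rfl : n₂ = 6 := by omega
        exact absurd (h.plus_two hF hI T (by norm_num) (by decide)) hminus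
      obtain rfl : n₂ = 4 := by omega
      obtain ⟨h2, a, b⟩ := h.sym_of_odd hF hI T h₁ (by norm_num) (Or.inl (by decide))
      have ho := odd_card_iff.2 h2
      obtain ⟨Q₂, hQ₂⟩ := exists_oq_of_sym S₂ h2 (h.σ₂ T) b
      refine Or.inr (Or.inr (Or.inr (Or.inl ⟨ho, five_le_card ho
        (h.five_le_of_three hF hP T (by norm_num) a), e, P, S₁.f, S₂.f,
        S₁.isSymmetricForm (h.σ₁ T) a, S₂.isSymmetricForm (h.σ₂ T) b, fun hp => hminus ?_,
        h.tensorForm T, eq_of_maximal hH T.le_tensor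
          (h.not_le_C4 (by omega) (n₁ := 2) (n₂ := 3) (by norm_num) e P)⟩)))
      rw [hQ₂.plus_iff_self h2, hQ₂.plus_iff_det' h2 (m := 2) (Fintype.card_fin 4), neg_one_sq,
        one_mul] at hp
      exact (h.plus_iff_three_four T h2).2 hp
    · refine absurd hc.symm (pow_ne_of le_rfl ?_ (by omega) (by omega) (by omega) (by omega))
      by_contra h3
      obtain rfl : m = 1 := by omega
      omega
    · exact absurd W.card_eq.symm (pow_ne_of a b (by omega) (by omega) (by omega) (by omega))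
  · exact Or.inr (Or.inr (Or.inr (Or.inr (Or.inr h1))))

end Cfsg.Agent.S5874
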