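import Cfsg.Statements.S5895
import Mathlib
import Cfsg.Agent.S5914

set_option autoImplicit false
open Cfsg

namespace Cfsg.Agent.S5895

open SemidirectProduct

theorem aux {V L : Type} [CommGroup V] [Group L] [Finite V] [Finite L] (φ : L →* MulAut V)
    (hirr : ∀ W : Subgroup V, (∀ l : L, ∀ w ∈ W, φ l w ∈ W) → W = ⊥ ∨ W = ⊤)
    (H0 : Subgroup L) (hH0 : IsCoatom H0) (W : Subgroup V) (hW : ∀ l ∈ H0, ∀ w ∈ W, φ l w ∈ W)
    (hb : W ≠ ⊥) (ht : W ≠ ⊤) :
    ∃ (G : Type) (_ : Group G) (_ : Finite G) (M H K : Subgroup G), IsCoatom M ∧ M.index = Nat.card V ∧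
      H ≤ M ∧ IsCoatom (H.subgroupOf M) ∧ IsCoatom K ∧ H ≤ K ∧ ¬ IsCoatom (H.subgroupOf K) := by
  have hfin : Finite (V ⋊[φ] L) := Finite.of_equiv _ equivProd.symm
  have hM : ∀ x : V ⋊[φ] L, x ∈ (inr : L →* V ⋊[φ] L).range ↔ x.left = 1 := by
    intro x
    constructor
    · rintro ⟨l, rfl⟩; rfl
    · intro h; exact ⟨x.right, by ext <;> simp [h]⟩
  obtain ⟨⟨w, hw⟩, hw1⟩ := Subgroup.ne_bot_iff_exists_ne_one.1 hb
  have hw1' : w ≠ 1 := fun h => hw1 (Subtype.ext h)
  have hHK : H0.map inr ≤ H0.comap (rightHom : V ⋊[φ] L →* L) := by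
    rintro _ ⟨l, hl, rfl⟩; exact hl
  refine ⟨V ⋊[φ] L, inferInstance, hfin, inr.range, H0.map inr, H0.comap rightHom, ⟨fun h => ?_, fun X hX => ?_⟩,
    ?_, Subgroup.map_le_range _ _, ?_, Subgroup.isCoatom_comap_of_surjective rightHom_surjective hH0, hHK, ?_⟩
  · exact hw1' ((hM (inl w)).1 (h ▸ Subgroup.mem_top _))
  · have hl : ∀ l : L, inr l ∈ X := fun l => hX.le ⟨l, rfl⟩
    rcases hirr (X.comap inl) (fun l v hv => by
      show inl (φ l v) ∈ X
      rw [inl_aut]
      exact X.mul_mem (X.mul_mem (hl _) hv) (hl _)) with h | h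
    · exfalso
      apply hX.not_ge
      intro x hx
      have : x.left ∈ X.comap inl := by
        have h1 := X.mul_mem hx (X.inv_mem (hl x.right))
        have h2 : x * (inr x.right)⁻¹ = inl x.left := by
          rw [mul_inv_eq_iff_eq_mul, inl_left_mul_inr_right]
        rwa [h2] at h1
      rw [h] at this
      exact (hM x).2 this
    · rw [eq_top_iff]
      intro x _
      rw [← inl_left_mul_inr_right x]
      exact X.mul_mem (h ▸ Subgroup.mem_top x.left : x.left ∈ X.comap inl) (hl _)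
  · have h1 := (inr : L →* V ⋊[φ] L).range.card_mul_index
    rw [card, ← Nat.card_congr (MonoidHom.ofInjective inr_injective).toEquiv, mul_comm] at h1
    exact Nat.eq_of_mul_eq_mul_right Nat.card_pos h1
  · have h1 := (OrderIso.isCoatom_iff (MonoidHom.ofInjective (inr_injective (φ := φ))).mapSubgroup _).2 hH0
    convert h1
    ext ⟨g, g', rfl⟩
    rw [Subgroup.mem_subgroupOf]
    constructor
    · rintro ⟨g'', h, he⟩
      exact ⟨g'', h, Subtype.ext he⟩
    · rintro ⟨g'', h, he⟩
      exact ⟨g'', h, congrArg Subtype.val he⟩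
  · intro hco
    let Y : Subgroup (V ⋊[φ] L) :=
      { carrier := {x | x.left ∈ W ∧ x.right ∈ H0}
        mul_mem' := fun {x y} hx hy => ⟨W.mul_mem hx.1 (hW _ hx.2 _ hy.1), H0.mul_mem hx.2 hy.2⟩
        one_mem' := ⟨W.one_mem, H0.one_mem⟩
        inv_mem' := fun {x} hx => ⟨hW _ (H0.inv_mem hx.2) _ (W.inv_mem hx.1), H0.inv_mem hx.2⟩ }
    have h1 : (H0.map inr).subgroupOf (H0.comap (rightHom : V ⋊[φ] L →* L)) <
        Y.subgroupOf (H0.comap rightHom) := by
      refine lt_of_le_of_ne ?_ (fun h => ?_)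
      · rintro ⟨_, hx⟩ ⟨l, hl, rfl⟩
        exact ⟨W.one_mem, hl⟩
      · have h2 : (⟨inl w, H0.one_mem⟩ : H0.comap (rightHom : V ⋊[φ] L →* L)) ∈
            Y.subgroupOf (H0.comap rightHom) := ⟨hw, H0.one_mem⟩
        rw [← h] at h2
        exact hw1' ((hM _).1 (Subgroup.map_le_range _ _ h2))
    have h2 := hco.2 _ h1
    rw [Subgroup.subgroupOf_eq_top] at h2
    apply ht
    rw [eq_top_iff]
    intro v _
    exact (h2 (x := inl v) H0.one_mem).1

/-- For every prime p and every d ≥ 2 there is a finite group G with a maximal subgroup M of index p^d and a maximal subgroup H of M that is not second maximal in G: some maximal subgroup K of G contains H without H being maximal in K. (One may take G the affine group V ⋊ GL(V) of V = 𝔽_p^d, M = GL(V), H the stabiliser in M of a line W of V, and K = V ⋊ H, with H < W ⋊ H < K.) So the prime-index hypothesis in the second-maximality criterion cannot be relaxed to prime-power index. -/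
theorem result (p d : ℕ) (hp : p.Prime)
    (hd : 2 ≤ d) :
    ∃ (G : Type) (_ : Group G) (_ : Finite G) (M H K : Subgroup G), IsCoatom M ∧ M.index = p ^ d ∧ H ≤ M ∧
      IsCoatom (H.subgroupOf M) ∧ IsCoatom K ∧ H ≤ K ∧ ¬ IsCoatom (H.subgroupOf K) := by
  classical
  have : Fact p.Prime := ⟨hp⟩
  have : IsSimpleGroup (Multiplicative (ZMod p)) := isSimpleGroup_of_prime_card (p := p) (by simp)
  let V := Fin d → Multiplicative (ZMod p)
  have hV : Nat.card V = p ^ d := by simp [V]
  let P : Subgroup (MulAut V) → Prop := fun L => ∀ W : Subgroup V, (∀ l ∈ L, ∀ w ∈ W, l w ∈ W) → W = ⊥ ∨ W = ⊤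
  have htop : P ⊤ := fun W hW => Cfsg.Agent.S5914.power_charSimple W
    (Subgroup.characteristic_iff_le_comap.2 (fun α w hw => hW α (Subgroup.mem_top α) w hw))
  obtain ⟨L, -, hL⟩ := exists_minimal_le_of_wellFoundedLT P ⊤ htop
  have hLb : L ≠ ⊥ := by
    intro h
    let i0 : Fin d := ⟨0, by omega⟩
    let i1 : Fin d := ⟨1, by omega⟩
    have h01 : i0 ≠ i1 := by simp [i0, i1]
    obtain ⟨s, hs⟩ := exists_ne (1 : Multiplicative (ZMod p))
    rcases hL.prop (Pi.evalMonoidHom (fun _ : Fin d => Multiplicative (ZMod p)) i0).ker (fun l hl w hw => by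
      rw [h, Subgroup.mem_bot] at hl
      rw [hl]; exact hw) with h1 | h1
    · have h2 : (Pi.mulSingle i1 s : V) ∈ (Pi.evalMonoidHom (fun _ : Fin d => Multiplicative (ZMod p)) i0).ker :=
        Pi.mulSingle_eq_of_ne h01 s
      rw [h1, Subgroup.mem_bot] at h2
      exact hs (by simpa using congrFun h2 i1)
    · have h2 : (Pi.mulSingle i0 s : V) ∈ (Pi.evalMonoidHom (fun _ : Fin d => Multiplicative (ZMod p)) i0).ker :=
        h1 ▸ Subgroup.mem_top _
      exact hs (by simpa using h2)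
  have : Nontrivial L := (Subgroup.nontrivial_iff_ne_bot L).2 hLb
  obtain ⟨H0, hH0, -⟩ := (eq_top_or_exists_le_coatom (⊥ : Subgroup L)).resolve_left bot_ne_top
  have hn : ¬ P (H0.map L.subtype) := by
    intro h
    have h3 := hL.eq_of_le h (Subgroup.map_subtype_le H0)
    apply hH0.1
    apply Subgroup.map_injective L.subtype_injective
    rw [h3, ← MonoidHom.range_eq_map, Subgroup.range_subtype]
  simp only [P, not_forall, not_or] at hn
  obtain ⟨W, hW, hb, ht⟩ := hn
  rw [← hV]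
  exact aux L.subtype (fun W hW => hL.prop W (fun l hl => hW ⟨l, hl⟩)) H0 hH0 W
    (fun l hl => hW l ⟨l, hl, rfl⟩) hb ht

end Cfsg.Agent.S5895
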